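import Mathlib.Algebra.Category.ModuleCat.Sheaf.PullbackFree
import Groth.Prelude.Def_OmegaPn

/-!
# The pullback of the structure sheaf is the structure sheaf (with values on pulled back sections)
-/

set_option autoImplicit false
universe u
open CategoryTheory CategoryTheory.Limits AlgebraicGeometry TopologicalSpace Opposite

namespace Groth.Agent.Lib.Helper48.PullUnit

theorem final_opens_map {X Y : TopCat.{u}} (f : X ⟶ Y) : (Opens.map f).Final := by
  refine ⟨fun d => ?_⟩
  have : Nonempty (StructuredArrow d (Opens.map f)) :=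
    ⟨StructuredArrow.mk (Y := (⊤ : Opens Y)) (homOfLE (by intro x _; trivial))⟩
  refine zigzag_isConnected (fun a b => ?_)
  let t : StructuredArrow d (Opens.map f) :=
    StructuredArrow.mk (Y := (⊤ : Opens Y)) (homOfLE (by intro x _; trivial))
  have ha : a ⟶ t := StructuredArrow.homMk (homOfLE le_top) (Subsingleton.elim _ _)
  have hb : b ⟶ t := StructuredArrow.homMk (homOfLE le_top) (Subsingleton.elim _ _)
  exact (Zigzag.of_hom ha).trans (Zigzag.of_inv hb)

/-- The canonical map `h^* O_X ⟶ O_Y`. -/
noncomputable def unitHom {X Y : Scheme.{u}} (h : Y ⟶ X) :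
    (Scheme.Modules.pullback h).obj (Coh.structureModule X) ⟶ Coh.structureModule Y :=
  haveI : (SheafOfModules.pushforward h.toRingCatSheafHom).IsRightAdjoint :=
    inferInstanceAs ((Scheme.Modules.pushforward h).IsRightAdjoint)
  SheafOfModules.pullbackObjUnitToUnit h.toRingCatSheafHom

instance {X Y : Scheme.{u}} (h : Y ⟶ X) : IsIso (unitHom h) := by
  have : (Opens.map h.base).Final := final_opens_map h.base
  have : (SheafOfModules.pushforward h.toRingCatSheafHom).IsRightAdjoint :=
    inferInstanceAs ((Scheme.Modules.pushforward h).IsRightAdjoint)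
  exact SheafOfModules.instIsIsoPullbackObjUnitToUnitOfFinal _

theorem unitHom_pullSect {X Y : Scheme.{u}} (h : Y ⟶ X) (U : X.Opens) (b : Γ(X, U)) :
    (unitHom h).app (h ⁻¹ᵁ U)
        (OmegaSh.pullSect h (Coh.structureModule X) U (OmegaSh.strSect X U b)) =
      OmegaSh.strSect Y (h ⁻¹ᵁ U) (h.app U b) := by
  haveI : (SheafOfModules.pushforward h.toRingCatSheafHom).IsRightAdjoint :=
    inferInstanceAs ((Scheme.Modules.pushforward h).IsRightAdjoint)
  have h1 := SheafOfModules.pullbackPushforwardAdjunction_homEquiv_pullbackObjUnitToUnit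
    h.toRingCatSheafHom
  have h2 : ((Scheme.Modules.pullbackPushforwardAdjunction h).homEquiv _ _ (unitHom h)) =
      SheafOfModules.unitToPushforwardObjUnit h.toRingCatSheafHom := h1
  rw [Adjunction.homEquiv_unit] at h2
  have h3 := congrArg (fun m => (Scheme.Modules.Hom.app m U) (OmegaSh.strSect X U b)) h2
  exact h3

end Groth.Agent.Lib.Helper48.PullUnit
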