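import Groth.Agent.Lib.Lead.PullbackAff4
import Mathlib.CategoryTheory.Adjunction.FullyFaithful

/-!
# Sections of the pullback of a quasi-coherent module over affine opens: universal property

For `f : X ⟶ Y`, `G` a quasi-coherent `O_Y`-module, `U ⊆ X`, `V ⊆ Y` affine opens with
`U ≤ f⁻¹ V`: the canonical semilinear map `pullRes : Γ(G, V) → Γ(f^* G, U)`
(`m ↦ (η m)|_U`, `η` the unit of the pullback-pushforward adjunction) is universal among
semilinear maps into `Γ(X, U)`-modules (`existsUnique_of_semilinear`); in particular its image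
spans (`span_range_pullRes`).
-/

set_option autoImplicit false
universe u

open AlgebraicGeometry CategoryTheory Opposite TopologicalSpace

namespace Groth.Agent.Lib.Helper48.OmegaAff

/-- For an adjunction `L ⊣ G` and an object `M` at which the counit is an isomorphism, `G` is
bijective on morphisms out of `M`. -/
theorem map_bijective_of_isIso_counit {C D : Type*} [Category C] [Category D] {L : C ⥤ D}
    {G : D ⥤ C} (adj : L ⊣ G) (M T : D) [IsIso (adj.counit.app M)] :
    Function.Bijective (fun ψ : M ⟶ T => G.map ψ) := by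
  constructor
  · intro ψ₁ ψ₂ h
    have h' : G.map ψ₁ = G.map ψ₂ := h
    have : adj.counit.app M ≫ ψ₁ = adj.counit.app M ≫ ψ₂ := by
      rw [← adj.counit_naturality ψ₁, ← adj.counit_naturality ψ₂, h']
    exact (cancel_epi _).mp this
  · intro g
    refine ⟨inv (adj.counit.app M) ≫ L.map g ≫ adj.counit.app T, ?_⟩
    have h1 : G.map (inv (adj.counit.app M)) = adj.unit.app (G.obj M) := by
      have : adj.unit.app (G.obj M) ≫ G.map (adj.counit.app M) = 𝟙 _ :=
        adj.right_triangle_components M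
      rw [← cancel_mono (G.map (adj.counit.app M)), this, ← G.map_comp, IsIso.inv_hom_id,
        G.map_id]
      rfl
    change G.map (inv (adj.counit.app M) ≫ L.map g ≫ adj.counit.app T) = g
    rw [G.map_comp, G.map_comp, h1, ← Category.assoc]
    have h2 : adj.unit.app (G.obj M) ≫ G.map (L.map g) = g ≫ adj.unit.app (G.obj T) :=
      adj.unit_naturality g
    rw [h2, Category.assoc, adj.right_triangle_components, Category.comp_id]

/-- Global sections is bijective on morphisms out of a quasi-coherent module on `Spec R`. -/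
theorem Γ_map_bijective {R : CommRingCat.{u}} (M T : (Spec R).Modules) [IsIso M.fromTildeΓ] :
    Function.Bijective (fun ψ : M ⟶ T => (moduleSpecΓFunctor (R := R)).map ψ) :=
  haveI : IsIso ((tilde.adjunction (R := R)).counit.app M) := ‹IsIso M.fromTildeΓ›
  map_bijective_of_isIso_counit (tilde.adjunction (R := R)) M T


open Scheme.Modules

variable {X Y : Scheme.{u}} (f : X ⟶ Y) (G : Y.Modules) {U : X.Opens} {V : Y.Opens}
  (hU : IsAffineOpen U) (hV : IsAffineOpen V) (e : U ≤ f ⁻¹ᵁ V)

/-- Iterated pushforwards along the two ways around the square `Spec Γ(X,U) → X → Y`,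
`Spec Γ(X,U) → Spec Γ(Y,V) → Y`. -/
noncomputable def pushIso (T : (Spec Γ(X, U)).Modules) :
    (pushforward f).obj ((pushforward hU.fromSpec).obj T) ≅
      (pushforward hV.fromSpec).obj ((pushforward (Spec.map (f.appLE V U e))).obj T) :=
  (pushforwardComp hU.fromSpec f).app T ≪≫
    (pushforwardCongr (hV.SpecMap_appLE_fromSpec f hU e).symm).app T ≪≫
    ((pushforwardComp (Spec.map (f.appLE V U e)) hV.fromSpec).app T).symm

theorem preimage_preimage_eq (V' : Y.Opens) :
    Spec.map (f.appLE V U e) ⁻¹ᵁ (hV.fromSpec ⁻¹ᵁ V') = hU.fromSpec ⁻¹ᵁ (f ⁻¹ᵁ V') := by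
  rw [← Scheme.Hom.comp_preimage, ← Scheme.Hom.comp_preimage, hV.SpecMap_appLE_fromSpec f hU e]

theorem pushIso_hom_app (T : (Spec Γ(X, U)).Modules) (V' : Y.Opens) :
    (pushIso f hU hV e T).hom.app V' =
      T.presheaf.map (eqToHom (preimage_preimage_eq f hU hV e V')).op := by
  simp only [pushIso, Iso.trans_hom, Iso.app_hom, Iso.symm_hom, Iso.app_inv, Hom.comp_app,
    pushforwardComp_hom_app_app, pushforwardComp_inv_app_app, pushforwardCongr_hom_app_app]
  erw [Category.id_comp, Category.comp_id]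
  rfl

/-- The chain of adjunction bijections. -/
noncomputable def Θ (T : (Spec Γ(X, U)).Modules) :
    (((pullback f).obj G).restrict hU.fromSpec ⟶ T) ≃
      (G.restrict hV.fromSpec ⟶ (pushforward (Spec.map (f.appLE V U e))).obj T) :=
  ((restrictAdjunction hU.fromSpec).homEquiv _ _).trans <|
    ((pullbackPushforwardAdjunction f).homEquiv _ _).trans <|
    ((pushIso f hU hV e T).homToEquiv).trans <|
    ((restrictAdjunction hV.fromSpec).homEquiv _ _).symm

theorem image_preimage_le_preimage_image (O : (Spec Γ(Y, V)).Opens) :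
    hU.fromSpec ''ᵁ (Spec.map (f.appLE V U e) ⁻¹ᵁ O) ≤ f ⁻¹ᵁ (hV.fromSpec ''ᵁ O) := by
  rintro _ ⟨x, hx, rfl⟩
  change f (hU.fromSpec x) ∈ hV.fromSpec ''ᵁ O
  rw [← Scheme.Hom.comp_apply, ← hV.SpecMap_appLE_fromSpec f hU e, Scheme.Hom.comp_apply]
  exact ⟨_, hx, rfl⟩

theorem restrictAdj_homEquiv_app {X' Y' : Scheme.{u}} (j : X' ⟶ Y') [IsOpenImmersion j]
    (M : Y'.Modules) (N : X'.Modules) (ψ : M.restrict j ⟶ N) (W : Y'.Opens) (x : Γ(M, W)) :
    ((restrictAdjunction j).homEquiv M N ψ).app W x =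
      ψ.app (j ⁻¹ᵁ W) ((M.restrictAppIso j (j ⁻¹ᵁ W)).inv
        (M.presheaf.map (homOfLE (j.image_preimage_le W)).op x)) := by
  rw [Adjunction.homEquiv_unit, Hom.comp_app, ConcreteCategory.comp_apply,
    restrictAdjunction_unit_app_app]
  rfl

theorem restrictAdj_homEquiv_symm_app {X' Y' : Scheme.{u}} (j : X' ⟶ Y') [IsOpenImmersion j]
    (M : Y'.Modules) (N : X'.Modules) (ξ : M ⟶ (pushforward j).obj N) (O : X'.Opens)
    (x : Γ(M.restrict j, O)) :
    (((restrictAdjunction j).homEquiv M N).symm ξ).app O x =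
      N.presheaf.map (eqToHom (j.preimage_image_eq O).symm).op
        (ξ.app (j ''ᵁ O) ((M.restrictAppIso j O).hom x)) := by
  rw [Adjunction.homEquiv_counit, Hom.comp_app, ConcreteCategory.comp_apply,
    restrictAdjunction_counit_app_app]
  rfl

theorem pullbackAdj_homEquiv_app {X' Y' : Scheme.{u}} (g : X' ⟶ Y') (M : Y'.Modules)
    (N : X'.Modules) (ψ : (pullback g).obj M ⟶ N) (W : Y'.Opens) (x : Γ(M, W)) :
    ((pullbackPushforwardAdjunction g).homEquiv M N ψ).app W x =
      ψ.app (g ⁻¹ᵁ W) (((pullbackPushforwardAdjunction g).unit.app M).app W x) := by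
  rw [Adjunction.homEquiv_unit, Hom.comp_app, ConcreteCategory.comp_apply]
  rfl

theorem Θ_app (T : (Spec Γ(X, U)).Modules)
    (ψ : ((pullback f).obj G).restrict hU.fromSpec ⟶ T) (O : (Spec Γ(Y, V)).Opens)
    (m : Γ(G.restrict hV.fromSpec, O)) :
    (Θ f G hU hV e T ψ).app O m =
      ψ.app (Spec.map (f.appLE V U e) ⁻¹ᵁ O)
        ((((pullback f).obj G).restrictAppIso hU.fromSpec _).inv
        (((pullback f).obj G).presheaf.map
          (homOfLE (image_preimage_le_preimage_image f hU hV e O)).op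
          (((pullbackPushforwardAdjunction f).unit.app G).app (hV.fromSpec ''ᵁ O)
            ((G.restrictAppIso hV.fromSpec O).hom m)))) := by
  have nat : ∀ {O₁ O₂ : (Spec Γ(X, U)).Opens} (i : O₂ ⟶ O₁)
      (x : Γ(((pullback f).obj G).restrict hU.fromSpec, O₁)),
      T.presheaf.map i.op (ψ.app O₁ x) =
        ψ.app O₂ ((((pullback f).obj G).restrict hU.fromSpec).presheaf.map i.op x) :=
    fun i x => congr($((ψ.mapPresheaf.naturality i.op).symm) x)
  simp only [Θ, Equiv.trans_apply, Iso.homToEquiv_apply]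
  rw [restrictAdj_homEquiv_symm_app, Hom.comp_app, ConcreteCategory.comp_apply, pushIso_hom_app,
    pullbackAdj_homEquiv_app, restrictAdj_homEquiv_app]
  refine (congrArg _ (nat _ _)).trans ?_
  refine (nat ((Opens.map (Spec.map (f.appLE V U e)).base).map
    (eqToHom (hV.fromSpec.preimage_image_eq O).symm)) _).trans ?_
  refine congrArg _ ?_
  rw [restrictAppIso_inv_map_apply, restrictAppIso_inv_map_apply]
  refine congrArg _ ?_
  rw [← ConcreteCategory.comp_apply, ← ConcreteCategory.comp_apply, ← Functor.map_comp,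
    ← Functor.map_comp]
  rfl


section Universal

open Groth.Agent.Lib.Lead.PullbackAff Groth.Agent.Lib.Lead.QCohAff

/-- The `R`-action on global sections of a pushforward along `Spec φ`. -/
theorem smul_pushforward_Γ {R S : CommRingCat.{u}} (φ : R ⟶ S) (T : (Spec S).Modules) (a : R)
    (t : moduleSpecΓFunctor.obj T) :
    (a • (show moduleSpecΓFunctor.obj ((pushforward (Spec.map φ)).obj T) from t) :
      moduleSpecΓFunctor.obj ((pushforward (Spec.map φ)).obj T)) =
    (show moduleSpecΓFunctor.obj ((pushforward (Spec.map φ)).obj T) from (φ a • t)) := by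
  change ((show Γ(Spec S, ⊤) from (Spec.map φ).app ⊤ ((Scheme.ΓSpecIso R).inv a)) •
    (show Γ(T, ⊤) from t) : Γ(T, ⊤)) = ((Scheme.ΓSpecIso S).inv (φ a)) • (show Γ(T, ⊤) from t)
  congr 1
  exact congr($(Scheme.ΓSpecIso_inv_naturality φ) a).symm

/-- The canonical map `Γ(G, V) → Γ(f^* G, U)`: pull back a section and restrict to `U`. -/
noncomputable def pullRes : Γ(G, V) →+ Γ((pullback f).obj G, U) :=
  (((pullback f).obj G).presheaf.map (homOfLE e).op).hom.comp
    (((pullbackPushforwardAdjunction f).unit.app G).app V).hom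

theorem pullRes_apply (m : Γ(G, V)) :
    pullRes f G e m = ((pullback f).obj G).presheaf.map (homOfLE e).op
      (((pullbackPushforwardAdjunction f).unit.app G).app V m) := rfl

theorem pullRes_smul (a : Γ(Y, V)) (m : Γ(G, V)) :
    pullRes f G e (a • m) = f.appLE V U e a • pullRes f G e m := by
  rw [pullRes_apply, pullRes_apply]
  have h1 : ((pullbackPushforwardAdjunction f).unit.app G).app V (a • m) =
      (f.app V a) • (show Γ((pullback f).obj G, f ⁻¹ᵁ V) from
        ((pullbackPushforwardAdjunction f).unit.app G).app V m) :=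
    Scheme.Modules.Hom.app_smul _ a m
  rw [h1, res_smul]
  rfl

end Universal

section Universal2

open Groth.Agent.Lib.Lead.PullbackAff Groth.Agent.Lib.Lead.QCohAff

/-- The element-level map underlying `Θ_app` at `O = ⊤`. -/
noncomputable def u' (m : moduleSpecΓFunctor.obj (G.restrict hV.fromSpec)) :
    moduleSpecΓFunctor.obj (((pullback f).obj G).restrict hU.fromSpec) :=
  (((pullback f).obj G).restrictAppIso hU.fromSpec ⊤).inv
    (((pullback f).obj G).presheaf.map
      (homOfLE (image_preimage_le_preimage_image f hU hV e ⊤)).op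
      (((pullbackPushforwardAdjunction f).unit.app G).app (hV.fromSpec ''ᵁ ⊤)
        ((G.restrictAppIso hV.fromSpec ⊤).hom m)))

theorem Γ_Θ_apply (T : (Spec Γ(X, U)).Modules)
    (ψ : ((pullback f).obj G).restrict hU.fromSpec ⟶ T)
    (m : moduleSpecΓFunctor.obj (G.restrict hV.fromSpec)) :
    (moduleSpecΓFunctor.map (Θ f G hU hV e T ψ)).hom m =
      (moduleSpecΓFunctor.map ψ).hom (u' f G hU hV e m) :=
  Θ_app f G hU hV e T ψ ⊤ m

theorem secEquiv_u' (m : moduleSpecΓFunctor.obj (G.restrict hV.fromSpec)) :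
    secEquiv hU ((pullback f).obj G) (u' f G hU hV e m) = pullRes f G e (secEquiv hV G m) := by
  have hV' : hV.fromSpec ''ᵁ ⊤ = V := fromSpec_image_top hV
  have hU' : hU.fromSpec ''ᵁ ⊤ = U := fromSpec_image_top hU
  let m₀ : Γ(G, hV.fromSpec ''ᵁ ⊤) := m
  have hle : U ≤ f ⁻¹ᵁ (hV.fromSpec ''ᵁ ⊤) := by rw [hV']; exact e
  have nat : ((pullbackPushforwardAdjunction f).unit.app G).app V
      (G.presheaf.map (homOfLE hV'.ge).op m₀) =
      ((pullback f).obj G).presheaf.map (homOfLE (f.preimage_mono hV'.ge)).op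
        (((pullbackPushforwardAdjunction f).unit.app G).app _ m₀) :=
    congr($((Hom.mapPresheaf ((pullbackPushforwardAdjunction f).unit.app G)).naturality
      (homOfLE hV'.ge).op) m₀)
  refine Eq.trans (b := ((pullback f).obj G).presheaf.map (homOfLE hle).op
    (((pullbackPushforwardAdjunction f).unit.app G).app _ m₀)) ?_ ?_
  · exact res_res ((pullback f).obj G) _ _ _
  · rw [pullRes_apply]
    refine Eq.trans ?_ (congrArg _ nat.symm)
    exact (res_res ((pullback f).obj G) _ _ _).symm

theorem exists_hom_of_linearMap {R : Type u} [Ring R] (A B : ModuleCat.{u} R) (l : A →ₗ[R] B) :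
    ∃ h : A ⟶ B, h.hom = l := ⟨ModuleCat.ofHom l, rfl⟩

variable [G.IsQuasicoherent]

include hU hV in
/-- **Universal property of the sections of a pullback over an affine open.** -/
theorem existsUnique_of_semilinear (N : Type u) [AddCommGroup N] [Module Γ(X, U) N]
    (l : Γ(G, V) →+ N) (hl : ∀ (a : Γ(Y, V)) (m : Γ(G, V)), l (a • m) = f.appLE V U e a • l m) :
    ∃! α : Γ((pullback f).obj G, U) →ₗ[Γ(X, U)] N, ∀ m, α (pullRes f G e m) = l m := by
  set H := (pullback f).obj G with hH
  let T : (Spec Γ(X, U)).Modules := tilde (ModuleCat.of Γ(X, U) N)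
  let ιN : N ≃ₗ[Γ(X, U)] moduleSpecΓFunctor.obj T :=
    (tilde.toTildeΓNatIso.app (ModuleCat.of Γ(X, U) N)).toLinearEquiv
  let sU := secEquiv hU H
  let sV := secEquiv hV G
  have hqU : IsIso (H.restrict hU.fromSpec).fromTildeΓ := inferInstance
  have hqV : IsIso (G.restrict hV.fromSpec).fromTildeΓ := inferInstance
  have FFU := Γ_map_bijective (H.restrict hU.fromSpec) T
  have FFV := Γ_map_bijective (G.restrict hV.fromSpec)
    ((pushforward (Spec.map (f.appLE V U e))).obj T)
  have key : ∀ (ψ : H.restrict hU.fromSpec ⟶ T)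
      (m : moduleSpecΓFunctor.obj (G.restrict hV.fromSpec)),
      (moduleSpecΓFunctor.map (Θ f G hU hV e T ψ)).hom m =
        (moduleSpecΓFunctor.map ψ).hom (u' f G hU hV e m) := Γ_Θ_apply f G hU hV e T
  have hu' : ∀ m, sU (u' f G hU hV e m) = pullRes f G e (sV m) := secEquiv_u' f G hU hV e
  apply existsUnique_of_exists_of_unique
  · -- existence
    let l' : ↑(moduleSpecΓFunctor.obj (G.restrict hV.fromSpec)) →ₗ[Γ(Y, V)]
        ↑(moduleSpecΓFunctor.obj ((pushforward (Spec.map (f.appLE V U e))).obj T)) :=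
        { toFun := fun m => (show moduleSpecΓFunctor.obj
            ((pushforward (Spec.map (f.appLE V U e))).obj T) from ιN (l (sV m)))
          map_add' := by
            intro a b
            rw [map_add, map_add, map_add]
            rfl
          map_smul' := by
            intro a m
            have h1 : sV (a • m) = a • sV m := sV.map_smul a m
            have h2 : ιN (l (sV (a • m))) = (f.appLE V U e) a • ιN (l (sV m)) := by
              rw [h1, hl]; exact ιN.map_smul _ _
            exact h2.trans (smul_pushforward_Γ (f.appLE V U e) T a _).symm }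
    obtain ⟨l'', hl''⟩ := exists_hom_of_linearMap _ _ l'
    obtain ⟨ψ'', hψ''⟩ := FFV.2 l''
    have hψ3 : moduleSpecΓFunctor.map ψ'' = l'' := hψ''
    let ψ' := (Θ f G hU hV e T).symm ψ''
    have hΘ : Θ f G hU hV e T ψ' = ψ'' := Equiv.apply_symm_apply _ _
    refine ⟨ιN.symm.toLinearMap ∘ₗ (moduleSpecΓFunctor.map ψ').hom ∘ₗ sU.symm.toLinearMap, ?_⟩
    intro m
    obtain ⟨m', rfl⟩ := sV.surjective m
    simp only [LinearMap.comp_apply, LinearEquiv.coe_coe]
    rw [← hu', LinearEquiv.symm_apply_apply, ← key ψ' m', hΘ]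
    have h3 : (moduleSpecΓFunctor.map ψ'').hom m' = ιN (l (sV m')) := by
      rw [hψ3, hl'']; rfl
    rw [h3, LinearEquiv.symm_apply_apply]
  · -- uniqueness
    intro α₁ α₂ h₁ h₂
    let mk : (Γ(H, U) →ₗ[Γ(X, U)] N) → (↑(moduleSpecΓFunctor.obj (H.restrict hU.fromSpec)) →ₗ[Γ(X, U)]
        ↑(moduleSpecΓFunctor.obj T)) := fun α => ιN.toLinearMap ∘ₗ α ∘ₗ sU.toLinearMap
    obtain ⟨k₁, hk₁⟩ := exists_hom_of_linearMap _ _ (mk α₁)
    obtain ⟨k₂, hk₂⟩ := exists_hom_of_linearMap _ _ (mk α₂)
    obtain ⟨ψ₁, hψ₁'⟩ := FFU.2 k₁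
    obtain ⟨ψ₂, hψ₂'⟩ := FFU.2 k₂
    have hψ₁ : moduleSpecΓFunctor.map ψ₁ = k₁ := hψ₁'
    have hψ₂ : moduleSpecΓFunctor.map ψ₂ = k₂ := hψ₂'
    have hΘeq : Θ f G hU hV e T ψ₁ = Θ f G hU hV e T ψ₂ := by
      apply FFV.1
      apply ModuleCat.hom_ext
      apply LinearMap.ext
      intro m
      change (moduleSpecΓFunctor.map (Θ f G hU hV e T ψ₁)).hom m =
        (moduleSpecΓFunctor.map (Θ f G hU hV e T ψ₂)).hom m
      rw [key, key]
      have e1 : (moduleSpecΓFunctor.map ψ₁).hom (u' f G hU hV e m) =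
          ιN (α₁ (sU (u' f G hU hV e m))) := by rw [hψ₁, hk₁]; rfl
      have e2 : (moduleSpecΓFunctor.map ψ₂).hom (u' f G hU hV e m) =
          ιN (α₂ (sU (u' f G hU hV e m))) := by rw [hψ₂, hk₂]; rfl
      rw [e1, e2, hu', h₁, h₂]
    have hψ : ψ₁ = ψ₂ := (Θ f G hU hV e T).injective hΘeq
    have hmk : mk α₁ = mk α₂ := by rw [← hk₁, ← hk₂, ← hψ₁, ← hψ₂, hψ]
    apply LinearMap.ext
    intro x
    obtain ⟨x', rfl⟩ := sU.surjective x
    have h4 : ιN (α₁ (sU x')) = ιN (α₂ (sU x')) := congr($(hmk) x')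
    exact ιN.injective h4


include hU hV in
/-- The sections of a pullback over an affine open are spanned by pulled-back sections. -/
theorem span_range_pullRes :
    Submodule.span Γ(X, U) (Set.range (pullRes f G e)) = ⊤ := by
  set S := Submodule.span Γ(X, U) (Set.range (pullRes f G e)) with hS
  have hmem : ∀ m, pullRes f G e m ∈ S := fun m => Submodule.subset_span ⟨m, rfl⟩
  obtain ⟨α, -, huniq⟩ := existsUnique_of_semilinear f G hU hV e
    (Γ((pullback f).obj G, U) ⧸ S) 0 (fun a m => by simp)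
  have h1 : S.mkQ = α := huniq _ (fun m => by
    simp only [AddMonoidHom.zero_apply]
    exact (Submodule.Quotient.mk_eq_zero S).mpr (hmem m))
  have h2 : (0 : Γ((pullback f).obj G, U) →ₗ[Γ(X, U)] _) = α := huniq _ (fun m => by simp)
  have h3 : S.mkQ = 0 := h1.trans h2.symm
  rw [← Submodule.ker_mkQ S, h3, LinearMap.ker_zero]

end Universal2

end Groth.Agent.Lib.Helper48.OmegaAff
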