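import Groth.Agent.Lib.Helper48.OmegaAff19
import Mathlib.Topology.Sheaves.LocallySurjective
import Mathlib.CategoryTheory.Sites.EpiMono

/-!
# Epi / mono / exactness of morphisms of `O_X`-modules from sections over a basis
-/

set_option autoImplicit false
universe u

open AlgebraicGeometry CategoryTheory Opposite TopologicalSpace CategoryTheory.Limits

namespace Groth.Agent.Lib.Helper48.Conormal

open Groth.Agent.Lib.Helper48.OmegaAff

variable {X : Scheme.{u}}

/-- a morphism of modules which is locally surjective on sections is an epimorphism -/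
theorem epi_of_locally_surjective {A B : X.Modules} (ψ : A ⟶ B)
    (h : ∀ (U : X.Opens) (t : Γ(B, U)) (x : X), x ∈ U → ∃ (W : X.Opens) (hW : W ≤ U),
      x ∈ W ∧ ∃ a : Γ(A, W), (ψ.app W).hom a = (B.presheaf.map (homOfLE hW).op).hom t) :
    Epi ψ := by
  have h1 : Epi ((SheafOfModules.toSheaf _).map ψ) := by
    refine (CategoryTheory.Sheaf.isLocallySurjective_iff_epi'
      (J := Opens.grothendieckTopology X) AddCommGrpCat _).mp ?_
    refine (TopCat.Presheaf.isLocallySurjective_iff (X := X.toTopCat) _).mpr ?_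
    intro U t x hx
    obtain ⟨W, hW, hxW, a, ha⟩ := h U t x hx
    exact ⟨W, hW, ⟨a, ha⟩, hxW⟩
  exact Functor.epi_of_epi_map (SheafOfModules.toSheaf _) h1

/-- a morphism of modules which is surjective on sections over a basis is an epimorphism -/
theorem epi_of_basis {A B : X.Modules} (ψ : A ⟶ B) (𝓑 : Set X.Opens) (h𝓑 : Opens.IsBasis 𝓑)
    (h : ∀ U ∈ 𝓑, Function.Surjective (ψ.app U)) : Epi ψ := by
  apply epi_of_locally_surjective
  intro U t x hx
  obtain ⟨W, hW, hxW, hWU⟩ := Opens.isBasis_iff_nbhd.mp h𝓑 hx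
  obtain ⟨a, ha⟩ := h W hW (B.presheaf.map (homOfLE hWU).op t)
  exact ⟨W, hWU, hxW, a, ha⟩

/-- A complex of modules which is exact on sections over every member of a basis is exact. -/
theorem exact_of_basis (S : ShortComplex X.Modules) (𝓑 : Set X.Opens) (h𝓑 : Opens.IsBasis 𝓑)
    (h : ∀ U ∈ 𝓑, ∀ s : Γ(S.X₂, U), S.g.app U s = 0 → ∃ t : Γ(S.X₁, U), S.f.app U t = s) :
    S.Exact := by
  rw [ShortComplex.exact_iff_epi_kernel_lift]
  apply epi_of_locally_surjective
  intro U k x hx
  obtain ⟨W, hW, hxW, hWU⟩ := Opens.isBasis_iff_nbhd.mp h𝓑 hx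
  refine ⟨W, hWU, hxW, ?_⟩
  set k' := (kernel S.g).presheaf.map (homOfLE hWU).op k with hk'
  have hk : S.g.app W ((kernel.ι S.g).app W k') = 0 := kernel_ι_comp_app S.g W k'
  obtain ⟨t, ht⟩ := h W hW _ hk
  refine ⟨t, ?_⟩
  apply OmegaSh.ι_app_injective S.g W
  have h1 : kernel.lift S.g S.f S.zero ≫ kernel.ι S.g = S.f := kernel.lift_ι _ _ _
  have h2 := congrArg (fun φ : S.X₁ ⟶ S.X₂ => φ.app W t) h1
  simp only [Scheme.Modules.Hom.comp_app] at h2
  exact h2.trans ht

/-- a morphism of modules injective on sections over a basis is a monomorphism -/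
theorem mono_of_basis {A B : X.Modules} (ψ : A ⟶ B) (𝓑 : Set X.Opens) (h𝓑 : Opens.IsBasis 𝓑)
    (h : ∀ U ∈ 𝓑, Function.Injective (ψ.app U)) : Mono ψ := by
  have hinj : ∀ U : X.Opens, Function.Injective (ψ.app U) := by
    intro U
    rw [injective_iff_map_eq_zero]
    intro s hs
    apply eq_zero_of_locally A s
    intro x hx
    obtain ⟨W, hW, hxW, hWU⟩ := Opens.isBasis_iff_nbhd.mp h𝓑 hx
    refine ⟨W, hWU, hxW, ?_⟩
    apply h W hW
    rw [hom_app_map, hs, map_zero, map_zero]
  have h1 : Mono ((Scheme.Modules.toPresheaf X).map ψ) := by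
    apply (config := { allowSynthFailures := true }) NatTrans.mono_of_mono_app
    intro U
    exact (AddCommGrpCat.mono_iff_injective _).mpr (hinj U.unop)
  exact Functor.mono_of_mono_map (Scheme.Modules.toPresheaf X) h1

end Groth.Agent.Lib.Helper48.Conormal
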