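import Groth.Agent.Lib.Lead.QCohLocal
import Groth.Agent.Lib.Lead.QCohAff
import Groth.Agent.Lib.Lead.PullbackAff2
import Groth.Prelude.Def_Omega4

/-!
# Quasi-coherence from elementwise localisation; the ideal sheaf `ClSub.idealMod K` is quasi-coherent

* `LocOn F U`: restriction of `F` from `U` to the basic opens of `U` behaves like localisation.
* `isQuasicoherent_of_locOn`: `LocOn` on all affine opens implies quasi-coherent.
* `locOn_kernel`: kernels inherit `LocOn`.
* `isQuasicoherent_idealMod`: the frozen `ClSub.idealMod K` is quasi-coherent.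
-/

set_option autoImplicit false
universe u

open AlgebraicGeometry CategoryTheory Opposite TopologicalSpace

namespace Groth.Agent.Lib.Helper48.OmegaAff

open Scheme.Modules Groth.Agent.Lib.Lead.QCohAff

/-- Elementwise localisation property on basic opens implies that the restriction to an affine
chart is localizing. -/
theorem isLocalizing_restrict_of_kill_ext {X : Scheme.{u}} {R : CommRingCat.{u}} (j : Spec R ⟶ X)
    [IsOpenImmersion j] (F : X.Modules)
    (hkill : ∀ (a : Γ(X, j ''ᵁ ⊤)) (s : Γ(F, j ''ᵁ ⊤)),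
      F.presheaf.map (homOfLE (X.basicOpen_le a)).op s = 0 → ∃ n : ℕ, a ^ n • s = 0)
    (hext : ∀ (a : Γ(X, j ''ᵁ ⊤)) (t : Γ(F, X.basicOpen a)), ∃ (n : ℕ) (s : Γ(F, j ''ᵁ ⊤)),
      F.presheaf.map (homOfLE (X.basicOpen_le a)).op s =
        (X.presheaf.map (homOfLE (X.basicOpen_le a)).op a) ^ n • t) :
    IsLocalizing (modulesSpecToSheaf.obj (F.restrict j)) := by
  intro g
  let M := F.restrict j
  let a : Γ(X, j ''ᵁ ⊤) := (j.appIso ⊤).inv ((Scheme.ΓSpecIso R).inv g)
  let D : (Spec R).Opens := PrimeSpectrum.basicOpen g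
  have hW : j ''ᵁ D = X.basicOpen a := by
    rw [← Scheme.image_basicOpen, basicOpen_eq_of_affine]
  have hDle : j ''ᵁ D ≤ j ''ᵁ ⊤ := Scheme.Hom.image_mono j (le_top : D ≤ ⊤)
  -- the two scalar actions agree
  have h5 : ∀ (n : ℕ) (x : Γ(F, j ''ᵁ ⊤)),
      (a ^ n • x : Γ(F, j ''ᵁ ⊤)) = (g ^ n • (show Γ(M, ⊤) from x) : Γ(M, ⊤)) := by
    intro n x
    rw [← map_pow, ← map_pow]
    rfl
  have keyD : X.presheaf.map (homOfLE hDle).op a =
      (j.appIso D).inv ((Spec R).presheaf.map D.leTop.op ((Scheme.ΓSpecIso R).inv g)) := by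
    have h6 := congr($(j.appIso_inv_naturality (D.leTop).op) ((Scheme.ΓSpecIso R).inv g))
    rw [ConcreteCategory.comp_apply, ConcreteCategory.comp_apply] at h6
    rw [h6]
    rfl
  have h7 : ∀ (n : ℕ) (y : Γ(F, j ''ᵁ D)),
      ((X.presheaf.map (homOfLE hDle).op a) ^ n • y : Γ(F, j ''ᵁ D)) =
        (g ^ n • (show Γ(M, D) from y) : Γ(M, D)) := by
    intro n y
    rw [keyD, ← map_pow, ← map_pow, ← map_pow]
    rfl
  refine ⟨?_, ?_, ?_⟩
  · rintro ⟨_, n, rfl⟩
    have := (M.isUnit_algebraMap_end_of_le_basicOpen g (le_refl D)).pow n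
    rwa [← map_pow] at this
  · intro y'
    let y : Γ(F, j ''ᵁ D) := y'
    obtain ⟨n, s, hs⟩ := hext a (F.presheaf.map (homOfLE hW.ge).op y)
    refine ⟨⟨(show Γ(M, ⊤) from s), ⟨g ^ n, n, rfl⟩⟩, ?_⟩
    have h8 := congrArg (F.presheaf.map (homOfLE hW.le).op) hs
    rw [res_res, res_smul, map_pow, res_resX, res_res, res_self] at h8
    change (g ^ n • (show Γ(M, D) from y) : Γ(M, D)) = F.presheaf.map (homOfLE hDle).op s
    rw [← h7]
    exact h8.symm
  · intro x₁ x₂ hx
    let z₁ : Γ(F, j ''ᵁ ⊤) := x₁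
    let z₂ : Γ(F, j ''ᵁ ⊤) := x₂
    have hx' : F.presheaf.map (homOfLE hDle).op z₁ = F.presheaf.map (homOfLE hDle).op z₂ := hx
    have h9 : F.presheaf.map (homOfLE (X.basicOpen_le a)).op (z₁ - z₂) = 0 := by
      rw [← res_res F hDle hW.ge, map_sub, hx', sub_self, map_zero]
    obtain ⟨n, hn⟩ := hkill a (z₁ - z₂) h9
    refine ⟨⟨g ^ n, n, rfl⟩, ?_⟩
    rw [smul_sub, sub_eq_zero, h5, h5] at hn
    exact hn

/-- The elementwise localisation property of `F` over the open `U`. -/
structure LocOn {X : Scheme.{u}} (F : X.Modules) (U : X.Opens) : Prop where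
  kill : ∀ (a : Γ(X, U)) (s : Γ(F, U)),
    F.presheaf.map (homOfLE (X.basicOpen_le a)).op s = 0 → ∃ n : ℕ, a ^ n • s = 0
  ext : ∀ (a : Γ(X, U)) (t : Γ(F, X.basicOpen a)), ∃ (n : ℕ) (s : Γ(F, U)),
    F.presheaf.map (homOfLE (X.basicOpen_le a)).op s =
      (X.presheaf.map (homOfLE (X.basicOpen_le a)).op a) ^ n • t

/-- A module with the elementwise localisation property on all affine opens is
quasi-coherent. -/
theorem isQuasicoherent_of_locOn {X : Scheme.{u}} (F : X.Modules)
    (h : ∀ U : X.Opens, IsAffineOpen U → LocOn F U) : F.IsQuasicoherent := by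
  apply Groth.Agent.Lib.Lead.QCohLocal.isQuasicoherent_of_forall_affine
  intro x
  obtain ⟨_, ⟨U, hU : IsAffineOpen U, rfl⟩, hxU, -⟩ :=
    (X.isBasis_affineOpens).exists_subset_of_mem_open (Set.mem_univ x) isOpen_univ
  refine ⟨U, hU, hxU, ?_⟩
  rw [isQuasicoherent_iff_isIso_fromTildeΓ, isIso_fromTildeΓ_iff_isLocalizing]
  have hU' : hU.fromSpec ''ᵁ ⊤ = U := Groth.Agent.Lib.Lead.PullbackAff.fromSpec_image_top hU
  have hloc : LocOn F (hU.fromSpec ''ᵁ ⊤) := by rw [hU']; exact h U hU
  exact isLocalizing_restrict_of_kill_ext hU.fromSpec F hloc.kill hloc.ext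

section Kernel

variable {X : Scheme.{u}} {M N : X.Modules} (g : M ⟶ N)

open Limits

theorem hom_app_map {M N : X.Modules} (φ : M ⟶ N) {U V : X.Opens} (h : V ≤ U) (s : Γ(M, U)) :
    φ.app V (M.presheaf.map (homOfLE h).op s) = N.presheaf.map (homOfLE h).op (φ.app U s) :=
  congr($((Hom.mapPresheaf φ).naturality (homOfLE h).op) s)

theorem kernel_ι_comp_app (U : X.Opens) (k : Γ(kernel g, U)) :
    g.app U ((kernel.ι g).app U k) = 0 := by
  have h0 := congrArg (fun ψ => Scheme.Modules.Hom.app ψ U) (kernel.condition g)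
  simp only [Scheme.Modules.Hom.comp_app, Scheme.Modules.Hom.zero_app] at h0
  exact congr($h0 k)

/-- The kernel of a morphism from a module with the localisation property to one in which
sections vanishing on a basic open are killed by a power has the localisation property. -/
theorem locOn_kernel (U : X.Opens) (hM : LocOn M U)
    (hN : ∀ (a : Γ(X, U)) (s : Γ(N, U)),
      N.presheaf.map (homOfLE (X.basicOpen_le a)).op s = 0 → ∃ n : ℕ, a ^ n • s = 0) :
    LocOn (kernel g) U := by
  have hinj := fun W => OmegaSh.ι_app_injective g W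
  constructor
  · intro a s hs
    have h1 : M.presheaf.map (homOfLE (X.basicOpen_le a)).op ((kernel.ι g).app U s) = 0 := by
      rw [← hom_app_map, hs, map_zero]
    obtain ⟨n, hn⟩ := hM.kill a _ h1
    refine ⟨n, hinj U ?_⟩
    rw [Scheme.Modules.Hom.app_smul, hn, map_zero]
  · intro a t
    obtain ⟨n, s, hs⟩ := hM.ext a ((kernel.ι g).app _ t)
    have h2 : N.presheaf.map (homOfLE (X.basicOpen_le a)).op (g.app U s) = 0 := by
      rw [← hom_app_map, hs, Scheme.Modules.Hom.app_smul, kernel_ι_comp_app, smul_zero]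
    obtain ⟨k, hk⟩ := hN a _ h2
    have h3 : g.app U (a ^ k • s) = 0 := by
      rw [Scheme.Modules.Hom.app_smul, hk]
    refine ⟨k + n, OmegaSh.kerLift g U (a ^ k • s) h3, hinj _ ?_⟩
    rw [hom_app_map, OmegaSh.ι_kerLift, Scheme.Modules.Hom.app_smul, res_smul, hs, map_pow,
      pow_add, mul_smul]

end Kernel

section IdealMod

variable {P : Scheme.{u}}

theorem locOn_structureModule {W : P.Opens} (hW : IsAffineOpen W) :
    LocOn (Coh.structureModule P) W where
  kill a s hs := by
    obtain ⟨n, hn⟩ := exists_pow_mul_eq_zero_of_res_basicOpen_eq_zero_of_isAffineOpen P hW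
      (show Γ(P, W) from s) a hs
    exact ⟨n, hn⟩
  ext a t := by
    obtain ⟨n, y, hy⟩ := exists_eq_pow_mul_of_isAffineOpen P W hW a
      (show Γ(P, P.basicOpen a) from t)
    exact ⟨n, y, hy⟩

theorem kill_pushforward_structureModule {Z : Scheme.{u}} (ι : Z ⟶ P) [QuasiCompact ι]
    {W : P.Opens} (hW : IsAffineOpen W) (a : Γ(P, W))
    (s : Γ((pushforward ι).obj (Coh.structureModule Z), W))
    (hs : ((pushforward ι).obj (Coh.structureModule Z)).presheaf.map
      (homOfLE (P.basicOpen_le a)).op s = 0) : ∃ n : ℕ, a ^ n • s = 0 := by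
  have hcomp : IsCompact (ι ⁻¹ᵁ W).1 := QuasiCompact.isCompact_preimage _ W.2 hW.isCompact
  let s' : Γ(Z, ι ⁻¹ᵁ W) := s
  have hle : Z.basicOpen (ι.app W a) ≤ ι ⁻¹ᵁ P.basicOpen a := (Scheme.preimage_basicOpen ι a).ge
  have hs' : Z.presheaf.map (homOfLE (ι.preimage_mono (P.basicOpen_le a))).op s' = 0 := hs
  have H : Z.presheaf.map (homOfLE (Z.basicOpen_le (ι.app W a))).op s' = 0 := by
    rw [← res_resX (ι.preimage_mono (P.basicOpen_le a)) hle, hs', map_zero]
  obtain ⟨n, hn⟩ := exists_pow_mul_eq_zero_of_res_basicOpen_eq_zero_of_isCompact Z hcomp s'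
    (ι.app W a) H
  refine ⟨n, ?_⟩
  rw [← map_pow] at hn
  exact hn

end IdealMod

/-- The ideal sheaf of a quasi-coherent ideal, as an `O`-module, is quasi-coherent. -/
instance isQuasicoherent_idealMod {P : Scheme.{u}} (K : P.IdealSheafData) :
    (ClSub.idealMod K).IsQuasicoherent := by
  apply isQuasicoherent_of_locOn
  intro W hW
  exact locOn_kernel (ClSub.toSubscheme K) W (locOn_structureModule hW)
    (fun a s hs => kill_pushforward_structureModule K.subschemeι hW a s hs)

end Groth.Agent.Lib.Helper48.OmegaAff
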