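import Groth.Agent.Lib.Helper48.OmegaAff4
import Mathlib.AlgebraicGeometry.Morphisms.FormallyUnramified

set_option autoImplicit false
universe u

open AlgebraicGeometry CategoryTheory Opposite TopologicalSpace CategoryTheory.Limits

namespace Groth.Agent.Lib.Helper48.OmegaAff

section Zero

variable {X : Scheme.{u}}

/-- A module whose sections vanish on a basis of opens has no sections at all. -/
theorem subsingleton_sections_of_basis (M : X.Modules)
    (h : ∀ (x : X) (W : X.Opens), x ∈ W → ∃ U : X.Opens, x ∈ U ∧ U ≤ W ∧ Subsingleton Γ(M, U))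
    (W : X.Opens) : Subsingleton Γ(M, W) := by
  refine ⟨fun s t => ?_⟩
  refine TopCat.Presheaf.section_ext ⟨M.presheaf, M.isSheaf⟩ W s t (fun x hx => ?_)
  obtain ⟨U, hxU, hUW, hsub⟩ := h x W hx
  have e1 := TopCat.Presheaf.germ_res_apply M.presheaf (homOfLE hUW) x hxU s
  have e2 := TopCat.Presheaf.germ_res_apply M.presheaf (homOfLE hUW) x hxU t
  change M.presheaf.germ W x hx s = M.presheaf.germ W x hx t
  rw [← e1, ← e2]
  congr 1
  exact Subsingleton.elim _ _

theorem isZero_iff_subsingleton_sections (M : X.Modules) :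
    IsZero M ↔ ∀ W : X.Opens, Subsingleton Γ(M, W) := by
  constructor
  · intro hz W
    have h1 := (IsZero.iff_id_eq_zero M).mp hz
    refine ⟨fun s t => ?_⟩
    have h2 : ∀ s : Γ(M, W), s = 0 := fun s => by
      have : (𝟙 M : M ⟶ M).app W s = (0 : M ⟶ M).app W s := by rw [h1]
      simpa using this
    rw [h2 s, h2 t]
  · intro h
    rw [IsZero.iff_id_eq_zero]
    ext W s
    have := h W
    exact Subsingleton.elim (α := Γ(M, W)) _ _

end Zero

section Unram

variable {X Y : Scheme.{u}} (f : X ⟶ Y) [QuasiSeparated f] {U : X.Opens} {V : Y.Opens}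
  (hU : IsAffineOpen U) (hV : IsAffineOpen V) (h : U ≤ f ⁻¹ᵁ V)

include hU hV in
theorem formallyUnramified_appLE_iff :
    (f.appLE V U h).hom.FormallyUnramified ↔ Subsingleton Γ(Omega.sheaf f, U) := by
  have := isIso_toSect f hU hV h
  let e := (asIso (OmAff.toSect f V U h)).toLinearEquiv
  have h1 : (f.appLE V U h).hom.FormallyUnramified ↔
      Subsingleton (CommRingCat.KaehlerDifferential (f.appLE V U h)) := by
    let _ := (f.appLE V U h).hom.toAlgebra
    exact Algebra.formallyUnramified_iff _ _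
  rw [h1]
  exact e.toEquiv.subsingleton_congr

theorem formallyUnramified_iff_isZero : FormallyUnramified f ↔ IsZero (Omega.sheaf f) := by
  rw [isZero_iff_subsingleton_sections]
  constructor
  · intro hf
    apply subsingleton_sections_of_basis
    intro x W hxW
    obtain ⟨_, ⟨V, hV : IsAffineOpen V, rfl⟩, hyV, -⟩ :=
      (Y.isBasis_affineOpens).exists_subset_of_mem_open (Set.mem_univ (f x)) isOpen_univ
    obtain ⟨_, ⟨U, hU : IsAffineOpen U, rfl⟩, hxU, hUW⟩ :=
      (X.isBasis_affineOpens).exists_subset_of_mem_open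
        (show x ∈ ((W ⊓ f ⁻¹ᵁ V : X.Opens) : Set X) from ⟨hxW, hyV⟩) (W ⊓ f ⁻¹ᵁ V).isOpen
    refine ⟨U, hxU, fun y hy => (hUW hy).1, ?_⟩
    have hle : U ≤ f ⁻¹ᵁ V := fun y hy => (hUW hy).2
    exact (formallyUnramified_appLE_iff f hU hV hle).mp (hf.formallyUnramified_appLE hV hU hle)
  · intro hz
    refine ⟨fun {V} hV {U} hU e => ?_⟩
    exact (formallyUnramified_appLE_iff f hU hV e).mpr (hz U)

end Unram

end Groth.Agent.Lib.Helper48.OmegaAff
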