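import Groth.Agent.Lib.Helper19.FormallyEtaleAffine
import Groth.Prelude.Def_MoreMor
import Mathlib.RingTheory.RingHom.Smooth

set_option autoImplicit false
universe u

open AlgebraicGeometry CategoryTheory Opposite TopologicalSpace CategoryTheory.Limits

namespace Groth.Agent.Lib.Helper48.OmegaAff

open Groth.Agent.Lib.Helper19.FEG in
/-- A formally smooth morphism (lifting property) induces formally smooth ring maps on affine
opens. -/
theorem formallySmooth_appLE {X Y : Scheme.{u}} (f : X ⟶ Y) (hf : MoreMor.IsFormallySmoothHom f)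
    {U : X.Opens} {V : Y.Opens} (hU : IsAffineOpen U) (hV : IsAffineOpen V) (hUV : U ≤ f ⁻¹ᵁ V) :
    (f.appLE V U hUV).hom.FormallySmooth := by
  let _ := (f.appLE V U hUV).hom.toAlgebra
  change Algebra.FormallySmooth Γ(Y, V) Γ(X, U)
  refine Algebra.FormallySmooth.of_comp_surjective (fun C _ _ J hJ g => ?_)
  have hXV : Spec.map (CommRingCat.ofHom (algebraMap Γ(Y, V) Γ(X, U))) ≫ hV.fromSpec =
      hU.fromSpec ≫ f := hV.SpecMap_appLE_fromSpec f hU hUV
  let a : Spec (CommRingCat.of (C ⧸ J)) ⟶ X :=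
    Spec.map (CommRingCat.ofHom g.toRingHom) ≫ hU.fromSpec
  let b : Spec (CommRingCat.of C) ⟶ Y :=
    Spec.map (CommRingCat.ofHom (algebraMap Γ(Y, V) C)) ≫ hV.fromSpec
  have hsq : Spec.map (CommRingCat.ofHom (Ideal.Quotient.mk J)) ≫ b = a ≫ f := by
    change Spec.map (CommRingCat.ofHom (Ideal.Quotient.mk J)) ≫
      Spec.map (CommRingCat.ofHom (algebraMap Γ(Y, V) C)) ≫ hV.fromSpec =
      (Spec.map (CommRingCat.ofHom g.toRingHom) ≫ hU.fromSpec) ≫ f
    rw [Category.assoc, ← hXV, ← Category.assoc, ← Category.assoc, ← Spec.map_comp,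
      ← Spec.map_comp]
    congr 2
    ext r
    exact (g.commutes r).symm
  obtain ⟨l, hl₁, hl₂⟩ := hf C J hJ a b hsq
  have hrange : Set.range l ⊆ Set.range hU.fromSpec := by
    rintro _ ⟨x, rfl⟩
    obtain ⟨y, rfl⟩ := specMap_mk_surjective J hJ x
    rw [← Scheme.Hom.comp_apply, hl₁]
    exact ⟨_, (Scheme.Hom.comp_apply _ _ _).symm⟩
  let lam : Spec (CommRingCat.of C) ⟶ Spec Γ(X, U) :=
    IsOpenImmersion.lift hU.fromSpec l hrange
  have hlam : lam ≫ hU.fromSpec = l := IsOpenImmersion.lift_fac _ _ _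
  obtain ⟨h', hh'⟩ := Spec.map_surjective lam
  have hcomm : CommRingCat.ofHom (algebraMap Γ(Y, V) Γ(X, U)) ≫ h' =
      CommRingCat.ofHom (algebraMap Γ(Y, V) C) := by
    apply Spec.map_injective
    rw [Spec.map_comp, ← cancel_mono hV.fromSpec, Category.assoc, hXV, ← Category.assoc, hh',
      hlam, hl₂]
  have hred : h' ≫ CommRingCat.ofHom (Ideal.Quotient.mk J) =
      CommRingCat.ofHom g.toRingHom := by
    apply Spec.map_injective
    rw [Spec.map_comp, ← cancel_mono hU.fromSpec, Category.assoc, hh', hlam, hl₁]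
  let h : Γ(X, U) →ₐ[Γ(Y, V)] C := { h'.hom with
    commutes' := fun r => congrArg (fun φ => φ.hom r) hcomm }
  refine ⟨h, ?_⟩
  ext x
  exact congrArg (fun φ => φ.hom x) hred

end Groth.Agent.Lib.Helper48.OmegaAff
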