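import Groth.Agent.Lib.Helper48.ConormalMap1

/-!
# Uniqueness of the canonical map of conormal sheaves
-/

set_option autoImplicit false
universe u

open AlgebraicGeometry CategoryTheory Opposite TopologicalSpace CategoryTheory.Limits

namespace Groth.Agent.Lib.Helper48.ConormalMap

open Groth.Agent.Lib.Helper48.OmegaAff Groth.Agent.Lib.Helper48.Conormal
  Groth.Agent.Lib.Helper48.Nbhd Groth.Agent.Lib.Helper48.SL Scheme.Modules

section Unique

variable {Y X Y' X' : Scheme.{u}} {f' : Y' ⟶ X'} {f : Y ⟶ X} {v : X' ⟶ X} {u : Y' ⟶ Y}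
  {K' : X'.IdealSheafData} {K : X.IdealSheafData}
  {φ₁ φ₂ : (Scheme.Modules.pullback u).obj
      ((Scheme.Modules.pullback f).obj (ClSub.idealMod K)) ⟶
    (Scheme.Modules.pullback f').obj (ClSub.idealMod K')}

theorem IsIdMap.app_eq (hφ₁ : IsIdMap f' f v u K' K φ₁) (hφ₂ : IsIdMap f' f v u K' K φ₂)
    (hK : K.comap v ≤ K') {U : X.Opens} {U' : X'.Opens} (hU : IsAffineOpen U)
    (hU' : IsAffineOpen U') (e : U' ≤ v ⁻¹ᵁ U) (hW : IsAffineOpen (f ⁻¹ᵁ U))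
    (hW' : IsAffineOpen (f' ⁻¹ᵁ U'))
    (s : Γ((Scheme.Modules.pullback u).obj ((Scheme.Modules.pullback f).obj (ClSub.idealMod K)),
      f' ⁻¹ᵁ U')) :
    φ₁.app (f' ⁻¹ᵁ U') s = φ₂.app (f' ⁻¹ᵁ U') s := by
  have huniv := (isUniv_pullRes f (ClSub.idealMod K) hW hU (le_refl _)).comp
    (isUniv_pullRes u _ hW' hW (hφ₁.le_preimage e))
  have h := huniv.hom_ext (appL φ₁ (f' ⁻¹ᵁ U')) (appL φ₂ (f' ⁻¹ᵁ U')) (fun m => by
    change φ₁.app (f' ⁻¹ᵁ U') (pullRes u _ (hφ₁.le_preimage e)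
        (pullRes f (ClSub.idealMod K) (le_refl _) m)) =
      φ₂.app (f' ⁻¹ᵁ U') (pullRes u _ (hφ₁.le_preimage e)
        (pullRes f (ClSub.idealMod K) (le_refl _) m))
    rw [hφ₁.app_pullRes hK hU hU' e m, hφ₂.app_pullRes hK hU hU' e m])
  exact congr($h s)

end Unique

section Immersion

variable {Z X Z' X' : Scheme.{u}} {i : Z ⟶ X} {i' : Z' ⟶ X'} [IsImmersion i] [IsImmersion i']
  [QuasiCompact i] [QuasiCompact i'] {g : X ⟶ X'} {gZ : Z ⟶ Z'}
  {φ₁ φ₂ : (Scheme.Modules.pullback gZ).obj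
      ((Scheme.Modules.pullback i').obj (ClSub.idealMod i'.ker)) ⟶
    (Scheme.Modules.pullback i).obj (ClSub.idealMod i.ker)}

theorem conormalMap_unique (w : gZ ≫ i' = i ≫ g)
    (hφ₁ : IsIdMap i i' g gZ i.ker i'.ker φ₁) (hφ₂ : IsIdMap i i' g gZ i.ker i'.ker φ₂) :
    φ₁ = φ₂ := by
  refine hom_ext_of_basis φ₁ φ₂ _ (isBasis_charts_immersion i i' g gZ w) ?_
  rintro _ ⟨U', hU', ⟨U, hU, e⟩, rfl⟩ s
  exact IsIdMap.app_eq hφ₁ hφ₂ (comap_ker_le w) hU.1 hU'.1 e hU.2.1 hU'.2.1 s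

theorem existsUnique_conormalMap (w : gZ ≫ i' = i ≫ g) :
    ∃! φ : (Scheme.Modules.pullback gZ).obj
        ((Scheme.Modules.pullback i').obj (ClSub.idealMod i'.ker)) ⟶
      (Scheme.Modules.pullback i).obj (ClSub.idealMod i.ker), IsIdMap i i' g gZ i.ker i'.ker φ :=
  ⟨idMap i i' g gZ i.ker i'.ker w (comap_ker_le w),
    isIdMap_idMap i i' g gZ i.ker i'.ker w (comap_ker_le w),
    fun _ hφ => conormalMap_unique w hφ (isIdMap_idMap i i' g gZ i.ker i'.ker w (comap_ker_le w))⟩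

end Immersion

end Groth.Agent.Lib.Helper48.ConormalMap
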