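import Groth.Agent.Lib.Helper48.H1Conormal4
import Groth.Agent.Lib.Helper48.ConormalMap2

/-!
# Sections of finite coproducts of modules
-/

set_option autoImplicit false
universe u
open CategoryTheory CategoryTheory.Limits AlgebraicGeometry TopologicalSpace Opposite

namespace Groth.Agent.Lib.Helper48.SumConormal

section Sigma

variable {X : Scheme.{u}} {ι : Type} (F : ι → X.Modules)

theorem sum_app {A B : X.Modules} (s : Finset ι) (φ : ι → (A ⟶ B)) (W : X.Opens) (x : Γ(A, W)) :
    (∑ l ∈ s, φ l).app W x = ∑ l ∈ s, (φ l).app W x := by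
  classical
  induction s using Finset.induction_on with
  | empty => simp
  | insert a s ha ih =>
    rw [Finset.sum_insert ha, Finset.sum_insert ha, Scheme.Modules.Hom.add_app]
    change (φ a).app W x + (∑ l ∈ s, φ l).app W x = _
    rw [ih]

/-- Every section of a finite coproduct is a sum of sections of the summands. -/
theorem sigma_decomp [Fintype ι] (W : X.Opens) (x : Γ(∐ F, W)) :
    ∃ y : ∀ l, Γ(F l, W), x = ∑ l, (Sigma.ι F l).app W (y l) := by
  have : HasFiniteBiproducts X.Modules := Abelian.hasFiniteBiproducts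
  have : HasBiproduct F := HasBiproductsOfShape.has_biproduct F
  let e := biproduct.isoCoproduct F
  have h1 : 𝟙 (∐ F) = ∑ l, (e.inv ≫ biproduct.π F l) ≫ Sigma.ι F l := by
    have h2 : ∀ l, biproduct.ι F l ≫ e.hom = Sigma.ι F l := fun l => by
      rw [biproduct.isoCoproduct_hom, biproduct.ι_desc]
    calc 𝟙 (∐ F) = e.inv ≫ (∑ l, biproduct.π F l ≫ biproduct.ι F l) ≫ e.hom := by
          rw [biproduct.total, Category.id_comp, Iso.inv_hom_id]
      _ = _ := by
          rw [Preadditive.sum_comp, Preadditive.comp_sum]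
          refine Finset.sum_congr rfl fun l _ => ?_
          rw [Category.assoc, h2, Category.assoc]
  refine ⟨fun l => (e.inv ≫ biproduct.π F l).app W x, ?_⟩
  have h4 := congrArg (fun m => (Scheme.Modules.Hom.app m W) x) h1
  simp only [sum_app] at h4
  exact h4

theorem desc_ι_app {C : X.Modules} (φ : ∀ l, F l ⟶ C) (l : ι) (W : X.Opens) (y : Γ(F l, W)) :
    (Sigma.desc φ).app W ((Sigma.ι F l).app W y) = (φ l).app W y := by
  have h := Sigma.ι_desc φ l
  have h2 := congrArg (fun m => (Scheme.Modules.Hom.app m W) y) h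
  exact h2

end Sigma

end Groth.Agent.Lib.Helper48.SumConormal
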