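import Groth.Prelude.Def_OmegaPn
import Mathlib.AlgebraicGeometry.Morphisms.ClosedImmersion

/-!
# Pullback along an isomorphism; the zeroth infinitesimal neighbourhood
-/

set_option autoImplicit false
universe u

open CategoryTheory CategoryTheory.Limits AlgebraicGeometry

namespace Groth.Agent.Lib.Helper48.PrZero

open Scheme

variable {Z X : Scheme.{u}}

/-- Pullback of modules along an isomorphism of schemes is an equivalence. -/
noncomputable def pullbackEquivalence (h : Z ⟶ X) [IsIso h] : X.Modules ≌ Z.Modules :=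
  CategoryTheory.Equivalence.mk (Scheme.Modules.pullback h) (Scheme.Modules.pullback (inv h))
    ((Scheme.Modules.pullbackId X).symm ≪≫
      Scheme.Modules.pullbackCongr (show 𝟙 X = inv h ≫ h by simp) ≪≫
      (Scheme.Modules.pullbackComp (inv h) h).symm)
    (Scheme.Modules.pullbackComp h (inv h) ≪≫
      Scheme.Modules.pullbackCongr (show h ≫ inv h = 𝟙 Z by simp) ≪≫
      Scheme.Modules.pullbackId Z)

instance (h : Z ⟶ X) [IsIso h] : (Scheme.Modules.pullback h).IsEquivalence :=
  (pullbackEquivalence h).isEquivalence_functor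

instance isIso_unit_app (h : Z ⟶ X) [IsIso h] (M : X.Modules) :
    IsIso ((Scheme.Modules.pullbackPushforwardAdjunction h).unit.app M) :=
  inferInstance

theorem pullSect_bijective (h : Z ⟶ X) [IsIso h] (M : X.Modules) (U : X.Opens) :
    Function.Bijective (OmegaSh.pullSect h M U) := by
  haveI : IsIso (OmegaSh.pullSect h M U) :=
    inferInstanceAs (IsIso (((Scheme.Modules.pullbackPushforwardAdjunction h).unit.app M).app U))
  exact (ConcreteCategory.isIso_iff_bijective _).mp inferInstance

theorem map_bijective_of_eq (M : X.Modules) {U V : X.Opens} (e : U = V) (hle : U ≤ V) :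
    Function.Bijective (M.presheaf.map (homOfLE hle).op) := by
  subst e
  have : (homOfLE hle).op = 𝟙 _ := rfl
  rw [this, M.presheaf.map_id]
  exact Function.bijective_id

theorem isIso_inclusion_of_eq {I J : X.IdealSheafData} (h : I ≤ J) (e : I = J) :
    IsIso (Scheme.IdealSheafData.inclusion h) := by
  subst e
  rw [Scheme.IdealSheafData.inclusion_id]
  infer_instance

instance isIso_toInfNbhd_zero {Y : Scheme.{u}} (i : Y ⟶ X) [IsClosedImmersion i] :
    IsIso (PrinPart.toInfNbhd i 0) := by
  unfold PrinPart.toInfNbhd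
  haveI : IsIso (Scheme.IdealSheafData.inclusion (PrinPart.ker_pow_succ_le i 0)) :=
    isIso_inclusion_of_eq _ (by rw [zero_add, pow_one])
  infer_instance

section Diagonal

variable {S : Scheme.{u}} (f : X ⟶ S)

instance isIso_pr2_zero : IsIso (PrinPart.pr2 f 0) := by
  have h : PrinPart.pr2 f 0 = inv (PrinPart.toNbhd f 0) := by
    rw [← cancel_epi (PrinPart.toNbhd f 0), PrinPart.toNbhd_pr2, IsIso.hom_inv_id]
  rw [h]
  infer_instance

instance isIso_pr1_zero : IsIso (PrinPart.pr1 f 0) := by
  have h : PrinPart.pr1 f 0 = inv (PrinPart.toNbhd f 0) := by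
    rw [← cancel_epi (PrinPart.toNbhd f 0), PrinPart.toNbhd_pr1, IsIso.hom_inv_id]
  rw [h]
  infer_instance

theorem dP_zero_bijective (F : X.Modules) (U : X.Opens) :
    Function.Bijective (PrinPart.dP f 0 F U) := by
  have h1 := pullSect_bijective (PrinPart.pr2 f 0) F U
  have h2 := map_bijective_of_eq ((Scheme.Modules.pullback (PrinPart.pr2 f 0)).obj F)
    (PrinPart.preimage_pr1 f 0 U) (PrinPart.preimage_pr1 f 0 U).le
  exact h2.comp h1

end Diagonal

end Groth.Agent.Lib.Helper48.PrZero
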