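import Groth.Agent.Lib.Helper48.Conormal1
import Mathlib.AlgebraicGeometry.Morphisms.Immersion

/-!
# Sections of ideal modules; good affine opens for an immersion
-/

set_option autoImplicit false
universe u

open AlgebraicGeometry CategoryTheory Opposite TopologicalSpace CategoryTheory.Limits

namespace Groth.Agent.Lib.Helper48.Conormal

open Groth.Agent.Lib.Helper48.OmegaAff

section Ideal

variable {P Z : Scheme.{u}}

theorem idealSect_eq (K : P.IdealSheafData) (W : P.Opens) (x : Γ(ClSub.idealMod K, W)) :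
    OmegaSh.idealSect K W x = idealModιL K W x := rfl

theorem idealSect_injective (K : P.IdealSheafData) (W : P.Opens) :
    Function.Injective (OmegaSh.idealSect K W) := idealModιL_injective K W

theorem idealSect_smul (K : P.IdealSheafData) (W : P.Opens) (a : Γ(P, W))
    (x : Γ(ClSub.idealMod K, W)) :
    OmegaSh.idealSect K W (a • x) = a * OmegaSh.idealSect K W x := by
  rw [idealSect_eq, idealSect_eq, map_smul, smul_eq_mul]

theorem idealSect_map (K : P.IdealSheafData) {W W' : P.Opens} (h : W' ≤ W)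
    (x : Γ(ClSub.idealMod K, W)) :
    OmegaSh.idealSect K W' ((ClSub.idealMod K).presheaf.map (homOfLE h).op x) =
      P.presheaf.map (homOfLE h).op (OmegaSh.idealSect K W x) := by
  rw [OmegaSh.idealSect_apply, OmegaSh.idealSect_apply, OmegaSh.idealModι_app_map]
  rfl

theorem subschemeι_app_idealSect (K : P.IdealSheafData) (W : P.Opens)
    (x : Γ(ClSub.idealMod K, W)) : K.subschemeι.app W (OmegaSh.idealSect K W x) = 0 :=
  kernel_ι_comp_app (ClSub.toSubscheme K) W x

/-- A function killed by the inclusion of the closed subscheme is a section of the ideal. -/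
theorem exists_idealSect_eq_of_subschemeι (K : P.IdealSheafData) (W : P.Opens) (a : Γ(P, W))
    (ha : K.subschemeι.app W a = 0) : ∃ x, OmegaSh.idealSect K W x = a := by
  have h : (ClSub.toSubscheme K).app W (OmegaSh.strSect P W a) = 0 := ha
  refine ⟨OmegaSh.kerLift (ClSub.toSubscheme K) W (OmegaSh.strSect P W a) h, ?_⟩
  rw [OmegaSh.idealSect_apply]
  change OmegaSh.fnSect P W ((kernel.ι (ClSub.toSubscheme K)).app W _) = a
  rw [OmegaSh.ι_kerLift]
  rfl

theorem app_eq_of_eq {g g' : Z ⟶ P} (e : g' = g) (W : P.Opens) (a : Γ(P, W))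
    (h : g'.app W a = 0) : g.app W a = 0 := by
  subst e; exact h

/-- Sections of the ideal module of `ker g` are killed by `g` (over any open). -/
theorem app_idealSect (g : Z ⟶ P) (W : P.Opens) (x : Γ(ClSub.idealMod g.ker, W)) :
    g.app W (OmegaSh.idealSect g.ker W x) = 0 := by
  apply app_eq_of_eq g.toImage_imageι
  rw [Scheme.Hom.comp_app]
  change g.toImage.app _ (g.ker.subschemeι.app W (OmegaSh.idealSect g.ker W x)) = 0
  rw [subschemeι_app_idealSect, map_zero]

theorem app_map (g : Z ⟶ P) {W W' : P.Opens} (h : W' ≤ W) (a : Γ(P, W)) :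
    g.app W' (P.presheaf.map (homOfLE h).op a) =
      Z.presheaf.map (homOfLE (g.preimage_mono h)).op (g.app W a) :=
  congr($(g.naturality (homOfLE h).op) a)

/-- For quasi-compact `g`, a function killed by `g` is killed by the inclusion of the
scheme-theoretic image. -/
theorem subschemeι_app_eq_zero (g : Z ⟶ P) [QuasiCompact g] (W : P.Opens) (a : Γ(P, W))
    (ha : g.app W a = 0) : g.ker.subschemeι.app W a = 0 := by
  apply eq_zero_of_locally (Coh.structureModule g.ker.subscheme)
    (W := g.ker.subschemeι ⁻¹ᵁ W) (g.ker.subschemeι.app W a)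
  intro x hx
  obtain ⟨_, ⟨V, hV, rfl⟩, hxV, hVW⟩ :=
    P.isBasis_affineOpens.exists_subset_of_mem_open hx W.isOpen
  have hVW : V ≤ W := hVW
  refine ⟨g.ker.subschemeι ⁻¹ᵁ V, g.ker.subschemeι.preimage_mono hVW, hxV, ?_⟩
  have h1 : P.presheaf.map (homOfLE hVW).op a ∈ g.ker.ideal ⟨V, hV⟩ := by
    rw [Scheme.Hom.ker_apply, RingHom.mem_ker]
    change g.app V (P.presheaf.map (homOfLE hVW).op a) = 0
    rw [app_map, ha, map_zero]
  rw [← Scheme.IdealSheafData.ker_subschemeι_app, RingHom.mem_ker] at h1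
  have h2 := app_map g.ker.subschemeι hVW a
  change g.ker.subschemeι.app V (P.presheaf.map (homOfLE hVW).op a) = 0 at h1
  exact h2.symm.trans h1

/-- For quasi-compact `g`, a function killed by `g` is a section of the ideal module of
`ker g`. -/
theorem exists_idealSect_eq (g : Z ⟶ P) [QuasiCompact g] (W : P.Opens) (a : Γ(P, W))
    (ha : g.app W a = 0) : ∃ x, OmegaSh.idealSect g.ker W x = a :=
  exists_idealSect_eq_of_subschemeι g.ker W a (subschemeι_app_eq_zero g W a ha)

end Ideal

section Good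

variable {Z X : Scheme.{u}}

/-- An open `V` of `X` is good for `i : Z ⟶ X` if `V` and `i⁻¹ V` are affine and `i♯` is
surjective on sections over `V`. -/
def IsGoodFor (i : Z ⟶ X) (V : X.Opens) : Prop :=
  IsAffineOpen V ∧ IsAffineOpen (i ⁻¹ᵁ V) ∧ Function.Surjective (i.app V)

theorem exists_goodFor (i : Z ⟶ X) [IsImmersion i] (z : Z) (O : Z.Opens) (hz : z ∈ O)
    (V₀ : X.Opens) (hV₀ : i z ∈ V₀) :
    ∃ V : X.Opens, IsGoodFor i V ∧ i z ∈ V ∧ V ≤ V₀ ∧ i ⁻¹ᵁ V ≤ O := by
  obtain ⟨O', hO', hOO'⟩ := i.isEmbedding.isInducing.isOpen_iff.mp O.isOpen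
  let O'' : X.Opens := ⟨O', hO'⟩
  have hzO'' : i z ∈ O'' := by
    have : z ∈ (i ⁻¹' O' : Set Z) := by rw [hOO']; exact hz
    exact this
  set W := i.coborderRange with hW
  set c := i.liftCoborder with hc
  have hci : c ≫ W.ι = i := i.liftCoborder_ι
  have hcz : W.ι (c z) = i z := by rw [← Scheme.Hom.comp_apply, hci]
  have hmem : c z ∈ W.ι ⁻¹ᵁ (O'' ⊓ V₀) := by
    change W.ι (c z) ∈ O'' ⊓ V₀
    rw [hcz]; exact ⟨hzO'', hV₀⟩
  obtain ⟨_, ⟨V', hV', rfl⟩, hzV', hV'le⟩ :=
    W.toScheme.isBasis_affineOpens.exists_subset_of_mem_open hmem (W.ι ⁻¹ᵁ (O'' ⊓ V₀)).isOpen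
  have hpre : i ⁻¹ᵁ (W.ι ''ᵁ V') = c ⁻¹ᵁ V' := (i.liftCoborder_preimage V').symm
  have himg : W.ι ''ᵁ V' ≤ O'' ⊓ V₀ := by
    exact (W.ι.image_mono hV'le).trans (W.ι.image_preimage_le _)
  refine ⟨W.ι ''ᵁ V', ⟨hV'.image_of_isOpenImmersion W.ι, ?_, ?_⟩, ?_, himg.trans inf_le_right, ?_⟩
  · rw [hpre]; exact hV'.preimage c
  · intro y
    obtain ⟨x, hx⟩ := c.app_surjective V' hV'
      (Z.presheaf.map (eqToHom (i.liftCoborder_preimage V')).op y)
    refine ⟨x, ?_⟩
    have h1 := congr($(liftCoborder_app (f := i) V') x)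
    rw [CommRingCat.comp_apply] at h1
    rw [hx] at h1
    have hinj : Function.Injective (Z.presheaf.map (eqToHom (i.liftCoborder_preimage V')).op) :=
      ((ConcreteCategory.isIso_iff_bijective _).mp inferInstance).1
    exact (hinj h1).symm
  · rw [← hcz]
    exact ⟨c z, hzV', rfl⟩
  · intro y hy
    have h1 : i y ∈ O'' := (himg hy).1
    have : y ∈ (i ⁻¹' O' : Set Z) := h1
    rw [hOO'] at this
    exact this

end Good

end Groth.Agent.Lib.Helper48.Conormal
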