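import Groth.Agent.Lib.Helper48.OmegaAff16

/-!
# Section-level universal property of an abstract universal derivation over affine opens
-/

set_option autoImplicit false
set_option linter.style.haveILetI false
universe u

open AlgebraicGeometry CategoryTheory Opposite TopologicalSpace CategoryTheory.Limits

namespace Groth.Agent.Lib.Helper48.OmegaAff

variable {X Y : Scheme.{u}} (f : X ⟶ Y) {Ω' : X.Modules} (d : OmegaSh.Der f Ω')
  (hd : OmegaSh.IsUniversal d)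

/-- The section-level universal property, as a predicate on the open. -/
def SectUniv (V : Y.Opens) (W : X.Opens) : Prop :=
  ∀ (h : W ≤ f ⁻¹ᵁ V) (M : Type u) [AddCommGroup M] [Module Γ(X, W) M] (D : Γ(X, W) →+ M),
    (∀ x y, D (x * y) = x • D y + y • D x) → (∀ a, D (f.appLE V W h a) = 0) →
    ∃! α : Γ(Ω', W) →ₗ[Γ(X, W)] M, ∀ b, α (d.app W b) = D b

include hd in
theorem sectUniv_image_top {U : X.Opens} (hU : IsAffineOpen U) {V : Y.Opens} (hV : IsAffineOpen V) :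
    SectUniv f d V (U.ι ''ᵁ ⊤) := by
  intro h M _ _ D hmul hkill
  have : IsAffine ↑U := hU
  have hTop : IsAffineOpen (⊤ : (↑U : Scheme.{u}).Opens) := isAffineOpen_top _
  have h' : (⊤ : (↑U : Scheme.{u}).Opens) ≤ (U.ι ≫ f) ⁻¹ᵁ V := by
    intro x _
    exact h ⟨x, trivial, rfl⟩
  letI : Module Γ(↑U, ⊤) M := inferInstanceAs (Module Γ(X, U.ι ''ᵁ ⊤) M)
  let D' : Γ(↑U, ⊤) →+ M := D
  have hkill' : ∀ a, D' ((U.ι ≫ f).appLE V ⊤ h' a) = 0 := by
    intro a
    have e : (U.ι ≫ f).appLE V ⊤ h' = f.appLE V (U.ι ''ᵁ ⊤) h := by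
      rw [← Scheme.Hom.appLE_comp_appLE U.ι f V (U.ι ''ᵁ ⊤) ⊤ h (U.ι.preimage_image_eq ⊤).ge]
      have : U.ι.appLE (U.ι ''ᵁ ⊤) ⊤ (U.ι.preimage_image_eq ⊤).ge = 𝟙 _ := by
        rw [← Scheme.Hom.appIso_hom', Scheme.Opens.ι_appIso]
        rfl
      rw [this]
      exact Category.comp_id _
    rw [e]
    exact hkill a
  let DD : (ModuleCat.of Γ(↑U, ⊤) M).Derivation ((U.ι ≫ f).appLE V ⊤ h') :=
    ModuleCat.Derivation.mk (fun b => D' b) (fun x y => map_add D' x y)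
      (fun x y => by
        change D (x * y) = x • D y + y • D x
        exact hmul x y)
      (fun a => hkill' a)
  obtain ⟨α', hα', hα'uniq⟩ := existsUnique_of_derivation (U.ι ≫ f) hTop hV h'
    (ModuleCat.of Γ(↑U, ⊤) M) DD
  let E := sectionsEquiv (restrictIsoOmega f U.ι d hd) ⊤
  have hE : ∀ s : Γ(↑U, ⊤), E ((show Γ(Ω'.restrict U.ι, ⊤) from d.app (U.ι ''ᵁ ⊤) s)) =
      OmegaSh.dSect (U.ι ≫ f) ⊤ s := by
    intro s
    have h1 := toOmega_resDer f U.ι d hd ⊤ s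
    rw [resDer_app] at h1
    have h2 : (U.ι.appIso ⊤).inv s = s := by
      rw [Scheme.Opens.ι_appIso]; rfl
    rw [h2] at h1
    exact h1
  let _ : Module Γ(↑U, ⊤) Γ(Ω', U.ι ''ᵁ ⊤) :=
    inferInstanceAs (Module Γ(X, U.ι ''ᵁ ⊤) Γ(Ω', U.ι ''ᵁ ⊤))
  let e3 : Γ(Ω', U.ι ''ᵁ ⊤) ≃ₗ[Γ(↑U, ⊤)] Γ(Ω'.restrict U.ι, (⊤ : (↑U : Scheme.{u}).Opens)) :=
    { toFun := fun x => x
      invFun := fun x => x
      map_add' := fun _ _ => rfl
      map_smul' := fun r x => by
        change _ = ((U.ι.appIso ⊤).inv r • (show Γ(Ω', U.ι ''ᵁ ⊤) from x) : Γ(Ω', U.ι ''ᵁ ⊤))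
        rw [Scheme.Opens.ι_appIso]
        rfl
      left_inv := fun _ => rfl
      right_inv := fun _ => rfl }
  let Φ : Γ(Ω', U.ι ''ᵁ ⊤) ≃ₗ[Γ(↑U, ⊤)] Γ(Omega.sheaf (U.ι ≫ f), (⊤ : (↑U : Scheme.{u}).Opens)) :=
    e3.trans E
  have hΦ : ∀ s : Γ(X, U.ι ''ᵁ ⊤), Φ (d.app (U.ι ''ᵁ ⊤) s) = OmegaSh.dSect (U.ι ≫ f) ⊤ s :=
    fun s => hE s
  apply existsUnique_of_exists_of_unique
  · refine ⟨
      { toFun := fun x => α' (Φ x)
        map_add' := fun x y => by rw [map_add, map_add]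
        map_smul' := fun r x => by
          have : Φ (r • x) = (show Γ(↑U, ⊤) from r) • Φ x := Φ.map_smul r x
          rw [this, map_smul]
          rfl }, ?_⟩
    intro b
    change α' (Φ (d.app (U.ι ''ᵁ ⊤) b)) = D b
    rw [hΦ, hα']
    rfl
  · intro α₁ α₂ h₁ h₂
    have key : ∀ α : Γ(Ω', U.ι ''ᵁ ⊤) →ₗ[Γ(X, U.ι ''ᵁ ⊤)] M, (∀ b, α (d.app (U.ι ''ᵁ ⊤) b) = D b) →
        ∀ y, α (Φ.symm y) = α' y := by
      intro α hα
      let β : Γ(Omega.sheaf (U.ι ≫ f), (⊤ : (↑U : Scheme.{u}).Opens)) →ₗ[Γ(↑U, ⊤)]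
          (ModuleCat.of Γ(↑U, ⊤) M) :=
        { toFun := fun y => α (Φ.symm y)
          map_add' := fun x y => by rw [map_add, map_add]
          map_smul' := fun r x => by
            rw [map_smul]
            exact α.map_smul (show Γ(X, U.ι ''ᵁ ⊤) from r) (Φ.symm x) }
      have hβ : β = α' := hα'uniq β (fun b => by
        change α (Φ.symm (OmegaSh.dSect (U.ι ≫ f) ⊤ b)) = D b
        rw [← hΦ, LinearEquiv.symm_apply_apply]
        exact hα b)
      intro y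
      exact congr($hβ y)
    ext x
    have e1 := key α₁ h₁ (Φ x)
    have e2 := key α₂ h₂ (Φ x)
    rw [LinearEquiv.symm_apply_apply] at e1 e2
    rw [e1, e2]

include hd in
/-- **Section-level universal property of a universal derivation**: over affine opens
`U ≤ f⁻¹ V`, derivations of `Γ(X, U)` over `Γ(Y, V)` factor uniquely through `d`. -/
theorem existsUnique_of_derivation_universal {U : X.Opens} (hU : IsAffineOpen U) {V : Y.Opens}
    (hV : IsAffineOpen V) (h : U ≤ f ⁻¹ᵁ V)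
    (M : Type u) [AddCommGroup M] [Module Γ(X, U) M] (D : Γ(X, U) →+ M)
    (hmul : ∀ x y, D (x * y) = x • D y + y • D x) (hkill : ∀ a, D (f.appLE V U h a) = 0) :
    ∃! α : Γ(Ω', U) →ₗ[Γ(X, U)] M, ∀ b, α (d.app U b) = D b := by
  have h1 := sectUniv_image_top f d hd hU hV
  rw [U.ι_image_top] at h1
  exact h1 h M D hmul hkill

include hd in
/-- Over affine opens `U ≤ f⁻¹ V` the sections of a universal receptacle are spanned by
the `d b`. -/
theorem span_range_d_universal {U : X.Opens} (hU : IsAffineOpen U) {V : Y.Opens}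
    (hV : IsAffineOpen V) (h : U ≤ f ⁻¹ᵁ V) :
    Submodule.span Γ(X, U) (Set.range (d.app U)) = ⊤ := by
  set S := Submodule.span Γ(X, U) (Set.range (d.app U)) with hS
  obtain ⟨α, -, huniq⟩ := existsUnique_of_derivation_universal f d hd hU hV h
    (Γ(Ω', U) ⧸ S) 0 (fun x y => by simp) (fun a => by simp)
  have h1 : S.mkQ = α := huniq _ (fun b => by
    simp only [AddMonoidHom.zero_apply]
    exact (Submodule.Quotient.mk_eq_zero S).mpr (Submodule.subset_span ⟨b, rfl⟩))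
  have h2 : (0 : Γ(Ω', U) →ₗ[Γ(X, U)] _) = α := huniq _ (fun b => by simp)
  have h3 : S.mkQ = 0 := h1.trans h2.symm
  rw [← Submodule.ker_mkQ S, h3, LinearMap.ker_zero]

end Groth.Agent.Lib.Helper48.OmegaAff
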