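import Groth.Agent.Lib.Helper48.Conormal3
import Groth.Agent.Lib.Helper48.UnivSect

/-!
# More tools: morphisms agreeing on a basis, spans of pulled back sections, bases of good opens
-/

set_option autoImplicit false
universe u

open AlgebraicGeometry CategoryTheory Opposite TopologicalSpace CategoryTheory.Limits

namespace Groth.Agent.Lib.Helper48.Conormal

open Groth.Agent.Lib.Helper48.OmegaAff Scheme.Modules

section Basis

variable {X : Scheme.{u}}

/-- Two morphisms of modules agreeing on sections over a basis are equal. -/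
theorem hom_ext_of_basis {A B : X.Modules} (α β : A ⟶ B) (𝓑 : Set X.Opens)
    (h𝓑 : Opens.IsBasis 𝓑) (h : ∀ U ∈ 𝓑, ∀ s : Γ(A, U), α.app U s = β.app U s) : α = β := by
  apply (Scheme.Modules.toPresheaf X).map_injective
  ext U s
  change α.app U s = β.app U s
  apply eq_of_locally B
  intro x hx
  obtain ⟨W, hW, hxW, hWU⟩ := Opens.isBasis_iff_nbhd.mp h𝓑 hx
  refine ⟨W, hWU, hxW, ?_⟩
  rw [← hom_app_map, ← hom_app_map]
  exact h W hW _

end Basis

section Span

variable {X Y : Scheme.{u}} (f : X ⟶ Y) (G : Y.Modules) [G.IsQuasicoherent]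

/-- If `T` spans `Γ(G, V)` then the pullbacks of the elements of `T` span `Γ(f^* G, f⁻¹ V)`
(both opens affine). -/
theorem span_pullSect_of_span {V : Y.Opens} (hV : IsAffineOpen V) (hU : IsAffineOpen (f ⁻¹ᵁ V))
    (T : Set Γ(G, V)) (hT : Submodule.span Γ(Y, V) T = ⊤) :
    Submodule.span Γ(X, f ⁻¹ᵁ V) ((OmegaSh.pullSect f G V) '' T) = ⊤ := by
  set S := Submodule.span Γ(X, f ⁻¹ᵁ V) ((OmegaSh.pullSect f G V) '' T) with hS
  have hmem : ∀ m : Γ(G, V), OmegaSh.pullSect f G V m ∈ S := by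
    intro m
    have hm : m ∈ Submodule.span Γ(Y, V) T := by rw [hT]; trivial
    induction hm using Submodule.span_induction with
    | mem y hy => exact Submodule.subset_span ⟨y, hy, rfl⟩
    | zero => rw [map_zero]; exact S.zero_mem
    | add y z _ _ hy hz => rw [map_add]; exact S.add_mem hy hz
    | smul r y _ hy => rw [OmegaSh.pullSect_smul]; exact S.smul_mem _ hy
  rw [eq_top_iff, ← span_range_pullSect f G hV hU, Submodule.span_le]
  rintro _ ⟨m, rfl⟩
  exact hmem m

end Span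

section GoodBasis

variable {Z X : Scheme.{u}}

/-- The preimages of good opens satisfying a local predicate form a basis of the source of an
immersion. -/
theorem isBasis_goodFor (i : Z ⟶ X) [IsImmersion i] (Pred : X.Opens → Prop)
    (hP : ∀ z : Z, ∃ V₀ : X.Opens, i z ∈ V₀ ∧ ∀ V ≤ V₀, Pred V) :
    Opens.IsBasis {U : Z.Opens | ∃ V, IsGoodFor i V ∧ Pred V ∧ U = i ⁻¹ᵁ V} := by
  rw [Opens.isBasis_iff_nbhd]
  intro O z hz
  obtain ⟨V₀, hzV₀, hV₀⟩ := hP z
  obtain ⟨V, hV, hzV, hVV₀, hVO⟩ := exists_goodFor i z O hz V₀ hzV₀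
  exact ⟨i ⁻¹ᵁ V, ⟨V, hV, hV₀ V hVV₀, rfl⟩, hzV, hVO⟩

/-- Every point of the target has a neighbourhood lying over an affine open of the base. -/
theorem exists_over_affine {S : Scheme.{u}} (f : X ⟶ S) (x : X) :
    ∃ V₀ : X.Opens, x ∈ V₀ ∧ ∀ V ≤ V₀, ∃ W : S.Opens, IsAffineOpen W ∧ V ≤ f ⁻¹ᵁ W := by
  obtain ⟨_, ⟨W, hW : IsAffineOpen W, rfl⟩, hxW, -⟩ :=
    (S.isBasis_affineOpens).exists_subset_of_mem_open (Set.mem_univ (f x)) isOpen_univ
  exact ⟨f ⁻¹ᵁ W, hxW, fun V hV => ⟨W, hW, hV⟩⟩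

end GoodBasis

end Groth.Agent.Lib.Helper48.Conormal
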