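import Mathlib
import Groth.Prelude.Def_DCoh2
import Groth.Prelude.Def_FlatMod2

set_option autoImplicit false

universe u

open CategoryTheory CategoryTheory.Limits AlgebraicGeometry

namespace Groth.Agent.Lib.Helper48.AffKTB

/-- `𝟭 ≅ (e.hom)_* ⋙ (e.inv)_*` for an isomorphism of schemes `e`. -/
noncomputable def unitIso {X Y : Scheme.{u}} (e : X ≅ Y) :
    𝟭 X.Modules ≅ Scheme.Modules.pushforward e.hom ⋙ Scheme.Modules.pushforward e.inv :=
  (Scheme.Modules.pushforwardId X).symm ≪≫
    Scheme.Modules.pushforwardCongr (e.hom_inv_id).symm ≪≫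
    (Scheme.Modules.pushforwardComp e.hom e.inv).symm

/-- `(e.inv)_* ⋙ (e.hom)_* ≅ 𝟭` for an isomorphism of schemes `e`. -/
noncomputable def counitIso {X Y : Scheme.{u}} (e : X ≅ Y) :
    Scheme.Modules.pushforward e.inv ⋙ Scheme.Modules.pushforward e.hom ≅ 𝟭 Y.Modules :=
  Scheme.Modules.pushforwardComp e.inv e.hom ≪≫
    Scheme.Modules.pushforwardCongr (e.inv_hom_id) ≪≫ Scheme.Modules.pushforwardId Y

/-- Pushforward of modules along an isomorphism of schemes, as an equivalence. -/
noncomputable def pushforwardEquiv {X Y : Scheme.{u}} (e : X ≅ Y) : X.Modules ≌ Y.Modules :=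
  CategoryTheory.Equivalence.mk (Scheme.Modules.pushforward e.hom) (Scheme.Modules.pushforward e.inv)
    (unitIso e) (counitIso e)

theorem nonempty_unitIso {X Y : Scheme.{u}} (e : X ≅ Y) :
    Nonempty (𝟭 X.Modules ≅ Scheme.Modules.pushforward e.hom ⋙ Scheme.Modules.pushforward e.inv) :=
  ⟨unitIso e⟩

instance isEquivalence_pushforward_of_isIso {X Y : Scheme.{u}} (f : X ⟶ Y) [IsIso f] :
    (Scheme.Modules.pushforward f).IsEquivalence :=
  inferInstanceAs (pushforwardEquiv (asIso f)).functor.IsEquivalence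

theorem preservesFiniteColimits_pushforward_of_isIso {X Y : Scheme.{u}} (f : X ⟶ Y) [IsIso f] :
    PreservesFiniteColimits (Scheme.Modules.pushforward f) := by
  infer_instance

end Groth.Agent.Lib.Helper48.AffKTB
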