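import Mathlib
import Groth.Prelude.Def_DCoh2
import Groth.Prelude.Def_FlatMod2
import Groth.Agent.Lib.Helper2.KerSec

set_option autoImplicit false

universe u

open CategoryTheory CategoryTheory.Limits AlgebraicGeometry

namespace Groth.Agent.Lib.Helper48.AffKTB3

theorem isQCoh_pushforward_of_isIso {X Y : Scheme.{u}} (f : X ⟶ Y) [IsIso f] (M : X.Modules)
    (h : Coh.IsQCoh M) : Coh.IsQCoh ((Scheme.Modules.pushforward f).obj M) := by
  have : M.IsQuasicoherent := h
  exact Groth.Agent.Lib.Helper2.KerSec.isQuasicoherent_pushforward_of_qcqs f M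

end Groth.Agent.Lib.Helper48.AffKTB3
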