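import Groth.Agent.Lib.Helper48.Conormal4
import Groth.Prelude.Def_ClSub2

/-!
# `0 → O_X → O/I₁ ⊕ O/I₂ → O/(I₁ + I₂) → 0` for `I₁ ⊓ I₂ = ⊥`
-/

set_option autoImplicit false
universe u

open AlgebraicGeometry CategoryTheory Opposite TopologicalSpace CategoryTheory.Limits

namespace Groth.Agent.Lib.Helper48.ClSubPair

open Groth.Agent.Lib.Helper48.OmegaAff Groth.Agent.Lib.Helper48.Conormal Scheme.Modules

variable {X : Scheme.{u}}

theorem isBasis_affine : Opens.IsBasis {U : X.Opens | IsAffineOpen U} := X.isBasis_affineOpens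

theorem toSubscheme_app_surjective (I : X.IdealSheafData) {U : X.Opens} (hU : IsAffineOpen U) :
    Function.Surjective ((ClSub.toSubscheme I).app U) :=
  Scheme.Hom.app_surjective I.subschemeι _ hU

theorem toSubscheme_app_eq_zero_iff (I : X.IdealSheafData) {U : X.Opens} (hU : IsAffineOpen U)
    (a : Γ(X, U)) :
    (ClSub.toSubscheme I).app U (OmegaSh.strSect X U a) = 0 ↔ a ∈ I.ideal ⟨U, hU⟩ := by
  rw [← Scheme.IdealSheafData.ker_subschemeι_app I ⟨U, hU⟩, RingHom.mem_ker]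
  rfl

instance epi_toSubscheme (I : X.IdealSheafData) : Epi (ClSub.toSubscheme I) :=
  epi_of_basis _ _ isBasis_affine (fun _ hU => toSubscheme_app_surjective I hU)

variable (I₁ I₂ : X.IdealSheafData)
    (q₁ : ClSub.quotMod I₁ ⟶ ClSub.quotMod (I₁ ⊔ I₂)) (q₂ : ClSub.quotMod I₂ ⟶ ClSub.quotMod (I₁ ⊔ I₂))
    (hq₁ : ClSub.toSubscheme I₁ ≫ q₁ = ClSub.toSubscheme (I₁ ⊔ I₂))
    (hq₂ : ClSub.toSubscheme I₂ ≫ q₂ = ClSub.toSubscheme (I₁ ⊔ I₂))

include hq₁ in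
theorem epi_desc : Epi (biprod.desc q₁ (-q₂)) := by
  have h1 : Epi q₁ := by
    have : Epi (ClSub.toSubscheme I₁ ≫ q₁) := by rw [hq₁]; infer_instance
    exact epi_of_epi (ClSub.toSubscheme I₁) q₁
  have : Epi (biprod.inl ≫ biprod.desc q₁ (-q₂)) := by rw [biprod.inl_desc]; exact h1
  exact epi_of_epi biprod.inl _

include hq₁ hq₂ in
theorem lift_desc_eq_zero :
    biprod.lift (ClSub.toSubscheme I₁) (ClSub.toSubscheme I₂) ≫ biprod.desc q₁ (-q₂) = 0 := by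
  rw [biprod.lift_desc, Preadditive.comp_neg, hq₁, hq₂, add_neg_cancel]

section Sections

variable {A B : X.Modules}

theorem biprod_decomp (U : X.Opens) (s : Γ(A ⊞ B, U)) :
    (biprod.inl : A ⟶ A ⊞ B).app U ((biprod.fst : A ⊞ B ⟶ A).app U s) +
      (biprod.inr : B ⟶ A ⊞ B).app U ((biprod.snd : A ⊞ B ⟶ B).app U s) = s :=
  congr($(biprod.total (X := A) (Y := B)).app U s)

theorem fst_lift_app {C : X.Modules} (a : C ⟶ A) (b : C ⟶ B) (U : X.Opens) (x : Γ(C, U)) :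
    (biprod.fst : A ⊞ B ⟶ A).app U ((biprod.lift a b).app U x) = a.app U x :=
  congr($(biprod.lift_fst a b).app U x)

theorem snd_lift_app {C : X.Modules} (a : C ⟶ A) (b : C ⟶ B) (U : X.Opens) (x : Γ(C, U)) :
    (biprod.snd : A ⊞ B ⟶ B).app U ((biprod.lift a b).app U x) = b.app U x :=
  congr($(biprod.lift_snd a b).app U x)

theorem desc_inl_app {C : X.Modules} (a : A ⟶ C) (b : B ⟶ C) (U : X.Opens) (x : Γ(A, U)) :
    (biprod.desc a b).app U ((biprod.inl : A ⟶ A ⊞ B).app U x) = a.app U x :=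
  congr($(biprod.inl_desc a b).app U x)

theorem desc_inr_app {C : X.Modules} (a : A ⟶ C) (b : B ⟶ C) (U : X.Opens) (x : Γ(B, U)) :
    (biprod.desc a b).app U ((biprod.inr : B ⟶ A ⊞ B).app U x) = b.app U x :=
  congr($(biprod.inr_desc a b).app U x)

end Sections

variable (h : I₁ ⊓ I₂ = ⊥)

include h in
theorem mono_lift : Mono (biprod.lift (ClSub.toSubscheme I₁) (ClSub.toSubscheme I₂)) := by
  refine mono_of_basis _ _ isBasis_affine ?_
  intro U hU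
  rw [injective_iff_map_eq_zero]
  intro x hx
  have h1 : (ClSub.toSubscheme I₁).app U x = 0 := by
    rw [← fst_lift_app (ClSub.toSubscheme I₁) (ClSub.toSubscheme I₂) U x, hx, map_zero]
  have h2 : (ClSub.toSubscheme I₂).app U x = 0 := by
    rw [← snd_lift_app (ClSub.toSubscheme I₁) (ClSub.toSubscheme I₂) U x, hx, map_zero]
  have m1 : OmegaSh.fnSect X U x ∈ I₁.ideal ⟨U, hU⟩ :=
    (toSubscheme_app_eq_zero_iff I₁ hU _).mp h1
  have m2 : OmegaSh.fnSect X U x ∈ I₂.ideal ⟨U, hU⟩ :=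
    (toSubscheme_app_eq_zero_iff I₂ hU _).mp h2
  have m3 : OmegaSh.fnSect X U x ∈ (I₁ ⊓ I₂).ideal ⟨U, hU⟩ := ⟨m1, m2⟩
  rw [h] at m3
  exact m3

include hq₁ hq₂ in
theorem exact_pair : (ShortComplex.mk _ _ (lift_desc_eq_zero I₁ I₂ q₁ q₂ hq₁ hq₂)).Exact := by
  refine exact_of_basis _ _ isBasis_affine ?_
  intro U hU s hs
  change (biprod.desc q₁ (-q₂)).app U s = 0 at hs
  change ∃ t, (biprod.lift (ClSub.toSubscheme I₁) (ClSub.toSubscheme I₂)).app U t = s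
  obtain ⟨a₁, ha₁⟩ := toSubscheme_app_surjective I₁ hU
    ((biprod.fst : ClSub.quotMod I₁ ⊞ ClSub.quotMod I₂ ⟶ _).app U s)
  obtain ⟨a₂, ha₂⟩ := toSubscheme_app_surjective I₂ hU
    ((biprod.snd : ClSub.quotMod I₁ ⊞ ClSub.quotMod I₂ ⟶ _).app U s)
  have hT1 : ∀ a, q₁.app U ((ClSub.toSubscheme I₁).app U a) =
      (ClSub.toSubscheme (I₁ ⊔ I₂)).app U a := fun a => congr($(hq₁).app U a)
  have hT2 : ∀ a, q₂.app U ((ClSub.toSubscheme I₂).app U a) =
      (ClSub.toSubscheme (I₁ ⊔ I₂)).app U a := fun a => congr($(hq₂).app U a)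
  rw [← biprod_decomp U s, map_add, desc_inl_app, desc_inr_app, ← ha₁, ← ha₂, hT1] at hs
  have hneg : ∀ y, (-q₂).app U y = -(q₂.app U y) := fun y => rfl
  have hs' : (ClSub.toSubscheme (I₁ ⊔ I₂)).app U (a₁ - a₂) = 0 := by
    rw [map_sub, sub_eq_add_neg, ← hT2 a₂, ← hneg]
    exact hs
  have hmem : OmegaSh.fnSect X U (a₁ - a₂) ∈ (I₁ ⊔ I₂).ideal ⟨U, hU⟩ :=
    (toSubscheme_app_eq_zero_iff (I₁ ⊔ I₂) hU _).mp hs'
  obtain ⟨j₁, hj₁, j₂, hj₂, hj⟩ := Submodule.mem_sup.mp hmem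
  have z1 : (ClSub.toSubscheme I₁).app U (OmegaSh.strSect X U j₁) = 0 :=
    (toSubscheme_app_eq_zero_iff I₁ hU j₁).mpr hj₁
  have z2 : (ClSub.toSubscheme I₂).app U (OmegaSh.strSect X U j₂) = 0 :=
    (toSubscheme_app_eq_zero_iff I₂ hU j₂).mpr hj₂
  have hx : a₁ - OmegaSh.strSect X U j₁ = a₂ + OmegaSh.strSect X U j₂ := by
    have : OmegaSh.strSect X U j₁ + OmegaSh.strSect X U j₂ = a₁ - a₂ := hj
    rw [sub_eq_iff_eq_add, add_assoc, add_comm (OmegaSh.strSect X U j₂), this]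
    abel
  have e1 : (ClSub.toSubscheme I₁).app U (a₁ - OmegaSh.strSect X U j₁) =
      (biprod.fst : ClSub.quotMod I₁ ⊞ ClSub.quotMod I₂ ⟶ _).app U s := by
    rw [map_sub, z1, sub_zero, ha₁]
  have e2 : (ClSub.toSubscheme I₂).app U (a₁ - OmegaSh.strSect X U j₁) =
      (biprod.snd : ClSub.quotMod I₁ ⊞ ClSub.quotMod I₂ ⟶ _).app U s := by
    rw [hx, map_add, z2, add_zero, ha₂]
  refine ⟨a₁ - OmegaSh.strSect X U j₁, ?_⟩
  have key := biprod_decomp U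
    ((biprod.lift (ClSub.toSubscheme I₁) (ClSub.toSubscheme I₂)).app U
      (a₁ - OmegaSh.strSect X U j₁))
  rw [fst_lift_app, snd_lift_app, e1, e2, biprod_decomp U s] at key
  exact key.symm

end Groth.Agent.Lib.Helper48.ClSubPair
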