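import Groth.Prelude.Def_W4bk5brsh7111920
import Mathlib.Topology.NoetherianSpace
import Mathlib.Topology.KrullDimension
import Mathlib.Topology.Connected.Basic

/-!
Helper lemmas on the connectedness dimension of a Noetherian topological space.
-/

set_option autoImplicit false
universe u

namespace Groth.Agent.Lib.Helper48

open TopologicalSpace

variable {T : Type u} [TopologicalSpace T]

theorem dim_mono {s t : Set T} (h : s ⊆ t) : topologicalKrullDim s ≤ topologicalKrullDim t :=
  (Topology.IsEmbedding.inclusion h).isInducing.topologicalKrullDim_le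

theorem dim_univ_eq : topologicalKrullDim (Set.univ : Set T) = topologicalKrullDim T :=
  le_antisymm (topologicalKrullDim_subspace_le T Set.univ)
    ((Homeomorph.Set.univ T).symm.isInducing.topologicalKrullDim_le)

theorem connDim_le_of (Z : Set T) (hZ : IsClosed Z) (h : ¬ IsConnected Zᶜ) :
    LocCoh.connDim T ≤ topologicalKrullDim Z :=
  iInf₂_le Z ⟨hZ, h⟩

theorem connDim_le_dim : LocCoh.connDim T ≤ topologicalKrullDim T := by
  rw [← dim_univ_eq]
  apply connDim_le_of _ isClosed_univ
  rw [Set.compl_univ]
  exact fun h => Set.not_nonempty_empty h.1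

theorem not_isConnected_compl_inter {P Q : Set T} (hP : IsClosed P) (hQ : IsClosed Q)
    (hPQ : P ∪ Q = Set.univ) (h1 : (Pᶜ).Nonempty) (h2 : (Qᶜ).Nonempty) :
    ¬ IsConnected (P ∩ Q)ᶜ := by
  rintro ⟨-, hpre⟩
  have hsub : (P ∩ Q)ᶜ ⊆ Pᶜ ∪ Qᶜ := by rw [Set.compl_inter]
  have hne1 : ((P ∩ Q)ᶜ ∩ Pᶜ).Nonempty := by
    obtain ⟨x, hx⟩ := h1
    exact ⟨x, fun h => hx h.1, hx⟩
  have hne2 : ((P ∩ Q)ᶜ ∩ Qᶜ).Nonempty := by
    obtain ⟨x, hx⟩ := h2
    exact ⟨x, fun h => hx h.2, hx⟩
  obtain ⟨y, -, hyP, hyQ⟩ := hpre Pᶜ Qᶜ hP.isOpen_compl hQ.isOpen_compl hsub hne1 hne2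
  have : y ∈ P ∪ Q := hPQ ▸ Set.mem_univ y
  rcases this with h | h
  · exact hyP h
  · exact hyQ h

variable [NoetherianSpace T]

theorem isClosed_sUnion_of_subset {A : Set (Set T)} (hA : A ⊆ irreducibleComponents T) :
    IsClosed (⋃₀ A) := by
  have hfin : A.Finite := NoetherianSpace.finite_irreducibleComponents.subset hA
  rw [Set.sUnion_eq_biUnion]
  exact hfin.isClosed_biUnion fun W hW => isClosed_of_mem_irreducibleComponents W (hA hW)

/-- The connectedness dimension is at most the dimension of each irreducible component. -/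
theorem connDim_le_dim_component {C : Set T} (hC : C ∈ irreducibleComponents T) :
    LocCoh.connDim T ≤ topologicalKrullDim C := by
  classical
  by_cases h1 : (Cᶜ).Nonempty
  · let D : Set T := ⋃₀ (irreducibleComponents T \ {C})
    have hDcl : IsClosed D := isClosed_sUnion_of_subset Set.sdiff_subset
    have hCD : C ∪ D = Set.univ := by
      rw [← sUnion_irreducibleComponents (X := T)]
      change C ∪ ⋃₀ (irreducibleComponents T \ {C}) = _
      rw [← Set.sUnion_singleton C, ← Set.sUnion_union, Set.sUnion_singleton,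
        Set.union_sdiff_self, Set.union_eq_self_of_subset_left (Set.singleton_subset_iff.mpr hC)]
    have h2 : (Dᶜ).Nonempty := by
      by_contra hne
      rw [Set.not_nonempty_iff_eq_empty, Set.compl_empty_iff] at hne
      have hsub : C ⊆ ⋃₀ (irreducibleComponents T \ {C}) := by
        change C ⊆ D
        rw [hne]; exact Set.subset_univ _
      have := mem_of_subset_sUnion_irreducibleComponents C hC _
        (NoetherianSpace.finite_irreducibleComponents.subset Set.sdiff_subset) Set.sdiff_subset hsub
      exact this.2 rfl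
    refine le_trans (connDim_le_of (C ∩ D)
      ((isClosed_of_mem_irreducibleComponents C hC).inter hDcl)
      (not_isConnected_compl_inter (isClosed_of_mem_irreducibleComponents C hC) hDcl hCD h1 h2)) ?_
    exact dim_mono Set.inter_subset_left
  · rw [Set.not_nonempty_iff_eq_empty, Set.compl_empty_iff] at h1
    rw [h1, dim_univ_eq]
    exact connDim_le_dim


/-- For a reducible Noetherian space, every irreducible component contains a proper closed
candidate subset. -/
theorem exists_proper_closed_candidate {C : Set T} (hC : C ∈ irreducibleComponents T)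
    (h1 : (Cᶜ).Nonempty) :
    ∃ Z : Set T, Z ⊆ C ∧ IsClosed Z ∧ Z ≠ C ∧ LocCoh.connDim T ≤ topologicalKrullDim Z := by
  classical
  let D : Set T := ⋃₀ (irreducibleComponents T \ {C})
  have hDcl : IsClosed D := isClosed_sUnion_of_subset Set.sdiff_subset
  have hCD : C ∪ D = Set.univ := by
    rw [← sUnion_irreducibleComponents (X := T)]
    change C ∪ ⋃₀ (irreducibleComponents T \ {C}) = _
    rw [← Set.sUnion_singleton C, ← Set.sUnion_union, Set.sUnion_singleton,
      Set.union_sdiff_self, Set.union_eq_self_of_subset_left (Set.singleton_subset_iff.mpr hC)]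
  have h2 : (Dᶜ).Nonempty := by
    by_contra hne
    rw [Set.not_nonempty_iff_eq_empty, Set.compl_empty_iff] at hne
    have hsub : C ⊆ ⋃₀ (irreducibleComponents T \ {C}) := by
      change C ⊆ D
      rw [hne]; exact Set.subset_univ _
    have := mem_of_subset_sUnion_irreducibleComponents C hC _
      (NoetherianSpace.finite_irreducibleComponents.subset Set.sdiff_subset) Set.sdiff_subset hsub
    exact this.2 rfl
  refine ⟨C ∩ D, Set.inter_subset_left,
    (isClosed_of_mem_irreducibleComponents C hC).inter hDcl, ?_,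
    connDim_le_of (C ∩ D) ((isClosed_of_mem_irreducibleComponents C hC).inter hDcl)
      (not_isConnected_compl_inter (isClosed_of_mem_irreducibleComponents C hC) hDcl hCD h1 h2)⟩
  intro heq
  obtain ⟨x, hx⟩ := h2
  have hxC : x ∈ C := by
    have : x ∈ C ∪ D := hCD ▸ Set.mem_univ x
    rcases this with h | h
    · exact h
    · exact absurd h hx
  rw [← heq] at hxC
  exact hx hxC.2

/-- A proper closed subset of an irreducible closed set of finite dimension has strictly smaller
dimension. -/
theorem dim_lt_of_ssubset_irreducible {T : Type u} [TopologicalSpace T] {Z C : Set T}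
    (hZC : Z ⊆ C) (hZ : IsClosed Z) (hC : IsIrreducible C) (hne : Z ≠ C)
    (hfin : topologicalKrullDim C < ⊤) : topologicalKrullDim Z < topologicalKrullDim C := by
  classical
  have hι : Topology.IsEmbedding (Set.inclusion hZC) := Topology.IsEmbedding.inclusion hZC
  let φ : IrreducibleCloseds ↥Z → IrreducibleCloseds ↥C :=
    IrreducibleCloseds.map (Set.inclusion hZC) hι.continuous
  have hφ : StrictMono φ := IrreducibleCloseds.map_strictMono_of_isInducing hι.isInducing
  haveI : IrreducibleSpace ↥C := Subtype.irreducibleSpace hC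
  let topC : IrreducibleCloseds ↥C :=
    ⟨Set.univ, IrreducibleSpace.isIrreducible_univ ↥C, isClosed_univ⟩
  have hrange : IsClosed (Set.range (Set.inclusion hZC)) := by
    have : Set.range (Set.inclusion hZC) = (Subtype.val : ↥C → T) ⁻¹' Z := by
      ext ⟨c, hc⟩
      simp only [Set.mem_range, Set.mem_preimage]
      constructor
      · rintro ⟨⟨z, hz⟩, hzc⟩
        have : z = c := congrArg Subtype.val hzc
        exact this ▸ hz
      · intro h
        exact ⟨⟨c, h⟩, rfl⟩
    rw [this]
    exact hZ.preimage continuous_subtype_val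
  have hlt : ∀ W : IrreducibleCloseds ↥Z, φ W < topC := by
    intro W
    refine lt_of_le_of_ne (fun x _ => Set.mem_univ x) ?_
    intro heq
    obtain ⟨c, hcC, hcZ⟩ : ∃ c ∈ C, c ∉ Z := by
      by_contra hcon
      push Not at hcon
      exact hne (Set.Subset.antisymm hZC hcon)
    have hmem : (⟨c, hcC⟩ : ↥C) ∈ (φ W : Set ↥C) := by
      rw [heq]; exact Set.mem_univ _
    have hsub : (φ W : Set ↥C) ⊆ Set.range (Set.inclusion hZC) := by
      change closure (Set.inclusion hZC '' (W : Set ↥Z)) ⊆ _
      exact closure_minimal (Set.image_subset_range _ _) hrange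
    obtain ⟨⟨z, hz⟩, hzc⟩ := hsub hmem
    have : z = c := congrArg Subtype.val hzc
    exact hcZ (this ▸ hz)
  have hbound : ∀ l : LTSeries (IrreducibleCloseds ↥Z),
      ((l.length + 1 : ℕ) : WithBot ℕ∞) ≤ topologicalKrullDim C := by
    intro l
    let l' : LTSeries (IrreducibleCloseds ↥C) :=
      RelSeries.snoc (l.map φ hφ) topC (by
        change (l.map φ hφ).last < topC
        rw [LTSeries.last_map]
        exact hlt _)
    exact Order.LTSeries.length_le_krullDim l'
  have hnonneg : (0 : WithBot ℕ∞) ≤ topologicalKrullDim C := by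
    haveI : Nonempty (IrreducibleCloseds ↥C) := ⟨topC⟩
    exact Order.krullDim_nonneg
  generalize hd : topologicalKrullDim C = d at hfin hbound hnonneg
  induction d with
  | bot => exact absurd hnonneg (by simp)
  | coe d =>
    induction d with
    | top => exact absurd hfin (lt_irrefl _)
    | coe m =>
      change Order.krullDim (IrreducibleCloseds ↥Z) < ((m : ℕ) : WithBot ℕ∞)
      rw [Order.krullDim_lt_coe_iff]
      intro l
      have := hbound l
      have h2 : (l.length + 1 : ℕ) ≤ m := by exact_mod_cast this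
      omega

/-- A pair of families of irreducible components covering all components gives an upper bound. -/
theorem connDim_le_dim_inter {A B : Set (Set T)} (hA : A ⊆ irreducibleComponents T)
    (hB : B ⊆ irreducibleComponents T) (hAne : A.Nonempty) (hBne : B.Nonempty)
    (hAB : A ∪ B = irreducibleComponents T) :
    LocCoh.connDim T ≤ topologicalKrullDim ↥(⋃₀ A ∩ ⋃₀ B) := by
  have hPQ : ⋃₀ A ∪ ⋃₀ B = Set.univ := by
    rw [← Set.sUnion_union, hAB, sUnion_irreducibleComponents]
  by_cases h1 : ((⋃₀ A)ᶜ).Nonempty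
  · by_cases h2 : ((⋃₀ B)ᶜ).Nonempty
    · exact connDim_le_of _ ((isClosed_sUnion_of_subset hA).inter (isClosed_sUnion_of_subset hB))
        (not_isConnected_compl_inter (isClosed_sUnion_of_subset hA) (isClosed_sUnion_of_subset hB)
          hPQ h1 h2)
    · rw [Set.not_nonempty_iff_eq_empty, Set.compl_empty_iff] at h2
      obtain ⟨C, hCA⟩ := hAne
      refine le_trans (connDim_le_dim_component (hA hCA)) (dim_mono ?_)
      rw [h2, Set.inter_univ]
      exact Set.subset_sUnion_of_mem hCA
  · rw [Set.not_nonempty_iff_eq_empty, Set.compl_empty_iff] at h1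
    obtain ⟨C, hCB⟩ := hBne
    refine le_trans (connDim_le_dim_component (hB hCB)) (dim_mono ?_)
    rw [h1, Set.univ_inter]
    exact Set.subset_sUnion_of_mem hCB

/-- Every candidate closed set contains the intersection of the unions of two suitable
families of irreducible components. -/
theorem exists_families_of_not_isConnected [Nonempty T] (Z : Set T) (hZ : IsClosed Z)
    (h : ¬ IsConnected Zᶜ) :
    ∃ A B : Set (Set T), (A ⊆ irreducibleComponents T ∧ B ⊆ irreducibleComponents T ∧
      A.Nonempty ∧ B.Nonempty ∧ A ∪ B = irreducibleComponents T) ∧ ⋃₀ A ∩ ⋃₀ B ⊆ Z := by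
  classical
  by_cases hne : (Zᶜ).Nonempty
  · have hpre : ¬ IsPreconnected Zᶜ := fun hp => h ⟨hne, hp⟩
    unfold IsPreconnected at hpre
    push Not at hpre
    obtain ⟨u, v, hu, hv, huv, hZu, hZv, hdisj⟩ := hpre
    have hZo : IsOpen Zᶜ := hZ.isOpen_compl
    let U' : Set T := Zᶜ ∩ u
    let V' : Set T := Zᶜ ∩ v
    have hU'o : IsOpen U' := hZo.inter hu
    have hV'o : IsOpen V' := hZo.inter hv
    have hUV : U' ∩ V' = ∅ := by
      rw [← hdisj]
      ext x
      simp only [U', V', Set.mem_inter_iff]
      tauto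
    let A : Set (Set T) := {C | C ∈ irreducibleComponents T ∧ C ∩ V' = ∅}
    let B : Set (Set T) := {C | C ∈ irreducibleComponents T ∧ C ∩ U' = ∅}
    have hkey : ∀ C ∈ irreducibleComponents T, C ∩ U' = ∅ ∨ C ∩ V' = ∅ := by
      intro C hC
      by_contra hcon
      push Not at hcon
      obtain ⟨hcu, hcv⟩ := hcon
      have := hC.1.isPreirreducible U' V' hU'o hV'o hcu hcv
      rw [hUV, Set.inter_empty] at this
      exact Set.not_nonempty_empty this
    have hcomp : ∀ x : T, ∃ C ∈ irreducibleComponents T, x ∈ C := by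
      intro x
      have : x ∈ ⋃₀ irreducibleComponents T := by
        rw [sUnion_irreducibleComponents]; exact Set.mem_univ x
      obtain ⟨C, hC, hxC⟩ := this
      exact ⟨C, hC, hxC⟩
    refine ⟨A, B, ⟨fun C hC => hC.1, fun C hC => hC.1, ?_, ?_, ?_⟩, ?_⟩
    · obtain ⟨x, hx⟩ := hZu
      obtain ⟨C, hC, hxC⟩ := hcomp x
      refine ⟨C, hC, ?_⟩
      rcases hkey C hC with h1 | h1
      · exact absurd (h1 ▸ (⟨hxC, hx⟩ : x ∈ C ∩ U')) (Set.notMem_empty x)
      · exact h1
    · obtain ⟨x, hx⟩ := hZv
      obtain ⟨C, hC, hxC⟩ := hcomp x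
      refine ⟨C, hC, ?_⟩
      rcases hkey C hC with h1 | h1
      · exact h1
      · exact absurd (h1 ▸ (⟨hxC, hx⟩ : x ∈ C ∩ V')) (Set.notMem_empty x)
    · apply Set.Subset.antisymm
      · rintro C (hC | hC)
        · exact hC.1
        · exact hC.1
      · intro C hC
        rcases hkey C hC with h1 | h1
        · exact Or.inr ⟨hC, h1⟩
        · exact Or.inl ⟨hC, h1⟩
    · rintro x ⟨⟨C1, hC1, hx1⟩, ⟨C2, hC2, hx2⟩⟩
      by_contra hxZ
      have hxZ' : x ∈ Zᶜ := hxZ
      rcases huv hxZ' with hxu | hxv
      · have : x ∈ C2 ∩ U' := ⟨hx2, hxZ', hxu⟩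
        rw [hC2.2] at this
        exact Set.notMem_empty x this
      · have : x ∈ C1 ∩ V' := ⟨hx1, hxZ', hxv⟩
        rw [hC1.2] at this
        exact Set.notMem_empty x this
  · rw [Set.not_nonempty_iff_eq_empty, Set.compl_empty_iff] at hne
    have hnonempty : (irreducibleComponents T).Nonempty := by
      obtain ⟨x⟩ := (inferInstance : Nonempty T)
      exact ⟨_, irreducibleComponent_mem_irreducibleComponents x⟩
    refine ⟨irreducibleComponents T, irreducibleComponents T,
      ⟨subset_rfl, subset_rfl, hnonempty, hnonempty, Set.union_self _⟩, ?_⟩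
    rw [hne]; exact Set.subset_univ _

end Groth.Agent.Lib.Helper48
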