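import Groth.Agent.Lib.Helper48.OmegaAff11

/-!
# Formally unramified morphisms and derivations, for arbitrary morphisms

`der_eq_zero_of_formallyUnramified` / `formallyUnramified_of_der_eq_zero`: `f` is formally unramified
iff every relative derivation of `O_X` into every `O_X`-module vanishes (no quasi-separatedness).
Consequences for a universal receptacle `(Ω', d)`: `hom_ext_of_universal`,
`formallyUnramified_iff_isZero_of_universal`, `hom_ext_pullback_of_universal`,
`formallyUnramified_iff_epi` (`f^*Ω_{Y/S} ⟶ Ω_{X/S}` epi iff `f` formally unramified).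
-/

set_option autoImplicit false
universe u

open AlgebraicGeometry CategoryTheory Opposite TopologicalSpace CategoryTheory.Limits

namespace Groth.Agent.Lib.Helper48.OmegaAff

section UnramDer

variable {X Y : Scheme.{u}} (f : X ⟶ Y)

theorem subsingleton_kaehler_iff {A B : CommRingCat.{u}} (φ : A ⟶ B) :
    φ.hom.FormallyUnramified ↔ Subsingleton (CommRingCat.KaehlerDifferential φ) := by
  let _ := φ.hom.toAlgebra
  exact Algebra.formallyUnramified_iff _ _

theorem moduleDer_eq_zero {A B : CommRingCat.{u}} {φ : A ⟶ B} (hφ : φ.hom.FormallyUnramified)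
    {M : ModuleCat.{u} B} (D : M.Derivation φ) (b : B) : D.d b = 0 := by
  have := (subsingleton_kaehler_iff φ).mp hφ
  rw [← D.desc_d, Subsingleton.elim (CommRingCat.KaehlerDifferential.d b) 0, map_zero]

/-- Every relative derivation of a formally unramified morphism vanishes. -/
theorem der_eq_zero_of_formallyUnramified [FormallyUnramified f] {F : X.Modules}
    (D : OmegaSh.Der f F) (W : X.Opens) (s : Γ(X, W)) : D.app W s = 0 := by
  refine eq_of_good_res_eq f F _ _ (fun U hU hUW => ?_)
  rw [← der_app_map, map_zero]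
  obtain ⟨hUa, V, hV, h⟩ := hU
  have := moduleDer_eq_zero (f.formallyUnramified_appLE hV hUa h) (derOfDer f D V U h)
    (X.presheaf.map (homOfLE hUW).op s)
  exact this

theorem map_injective_of_eq {X : Scheme.{u}} (M : X.Modules) {O₁ O₂ : X.Opens} (h : O₁ = O₂)
    (i : O₁ ⟶ O₂) : Function.Injective (M.presheaf.map i.op) := by
  subst h
  have : i = 𝟙 _ := Subsingleton.elim _ _
  subst this
  intro a b hab
  simpa using hab

/-- If every relative derivation of `f` vanishes, `f` is formally unramified. -/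
theorem formallyUnramified_of_der_eq_zero
    (H : ∀ (F : X.Modules) (D : OmegaSh.Der f F) (W : X.Opens) (s : Γ(X, W)), D.app W s = 0) :
    FormallyUnramified f := by
  refine ⟨fun {V} hV {U} hU e => ?_⟩
  have : IsAffine ↑U := hU
  have hTop : IsAffineOpen (⊤ : (↑U : Scheme.{u}).Opens) := isAffineOpen_top _
  have h' : (⊤ : (↑U : Scheme.{u}).Opens) ≤ (U.ι ≫ f) ⁻¹ᵁ V := fun x _ => e x.2
  have hgood : IsGood (U.ι ≫ f) (⊤ : (↑U : Scheme.{u}).Opens) := ⟨hTop, V, hV, h'⟩
  -- the sections of the sheaf of differentials of `U ⟶ Y` over `⊤` vanish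
  have hsub : Subsingleton Γ(Omega.sheaf (U.ι ≫ f), (⊤ : (↑U : Scheme.{u}).Opens)) := by
    have hspan := span_range_dSect (U.ι ≫ f) hgood
    have hzero : ∀ b, OmegaSh.dSect (U.ι ≫ f) (⊤ : (↑U : Scheme.{u}).Opens) b = 0 := by
      intro b
      set W : X.Opens := U.ι ''ᵁ ⊤ with hW
      have hWeq : U.ι ⁻¹ᵁ W = ⊤ := U.ι.preimage_image_eq ⊤
      have h0 : (OmegaSh.dOmega (U.ι ≫ f)).app (U.ι ⁻¹ᵁ W)
          ((↑U : Scheme.{u}).presheaf.map (homOfLE (le_top : U.ι ⁻¹ᵁ W ≤ ⊤)).op b) = 0 :=
        H _ (pushDer f (U.ι ≫ f) U.ι (𝟙 Y) (Category.comp_id _)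
          (OmegaSh.dOmega (U.ι ≫ f))) W b
      rw [der_app_map] at h0
      refine map_injective_of_eq (Omega.sheaf (U.ι ≫ f)) hWeq
        (homOfLE (le_top : U.ι ⁻¹ᵁ W ≤ ⊤)) ?_
      rw [map_zero]
      exact h0
    refine ⟨fun a b => ?_⟩
    have key : ∀ a : Γ(Omega.sheaf (U.ι ≫ f), (⊤ : (↑U : Scheme.{u}).Opens)), a = 0 := by
      intro a
      have ha : a ∈ Submodule.span Γ(↑U, ⊤) (Set.range (OmegaSh.dSect (U.ι ≫ f) ⊤)) := by
        rw [hspan]; trivial
      induction ha using Submodule.span_induction with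
      | mem y hy => obtain ⟨b, rfl⟩ := hy; exact hzero b
      | zero => rfl
      | add y z _ _ hy hz => rw [hy, hz, add_zero]
      | smul r y _ hy => rw [hy, smul_zero]
    rw [key a, key b]
  have h2 := (formallyUnramified_appLE_iff (U.ι ≫ f) hTop hV h').mpr hsub
  have h3 : f.appLE V U e ≫ U.ι.appLE U ⊤ U.ι_preimage_self.ge = (U.ι ≫ f).appLE V ⊤ h' :=
    Scheme.Hom.appLE_comp_appLE _ _ _ _ _ _ _
  rw [← h3, CommRingCat.hom_comp] at h2
  exact (RingHom.FormallyUnramified.respectsIso.cancel_right_isIso _ _).mp h2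

end UnramDer

section Receptacle

variable {X Y : Scheme.{u}} (f : X ⟶ Y) {Ω' : X.Modules} (d : OmegaSh.Der f Ω')
  (hd : OmegaSh.IsUniversal d)

include hd in
/-- Morphisms out of a universal receptacle are determined by their values on the `d s`. -/
theorem hom_ext_of_universal {F : X.Modules} (α β : Ω' ⟶ F)
    (h : ∀ (U : X.Opens) (s : Γ(X, U)), α.app U (d.app U s) = β.app U (d.app U s)) : α = β := by
  obtain ⟨γ, -, huniq⟩ := hd F (d.postcomp α.val)
  rw [huniq α rfl, huniq β ?_]
  ext U s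
  exact (h U.unop s).symm

include hd in
theorem formallyUnramified_iff_isZero_of_universal : FormallyUnramified f ↔ IsZero Ω' := by
  constructor
  · intro hf
    rw [IsZero.iff_id_eq_zero]
    refine hom_ext_of_universal f d hd _ _ (fun U s => ?_)
    rw [der_eq_zero_of_formallyUnramified f d U s, map_zero, map_zero]
  · intro hz
    refine formallyUnramified_of_der_eq_zero f (fun F D W s => ?_)
    obtain ⟨α, hα, -⟩ := hd F D
    have h0 : α = 0 := hz.eq_of_src _ _
    have h1 := PresheafOfModules.Derivation.congr_d hα (X := op W) s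
    change α.app W (d.app W s) = D.app W s at h1
    rw [← h1, h0]
    rfl

end Receptacle

section EpiCrit

variable {X Y S : Scheme.{u}} (g : Y ⟶ S) (f : X ⟶ Y)
    {ΩY : Y.Modules} (dY : OmegaSh.Der g ΩY) (hY : OmegaSh.IsUniversal dY)
    {ΩX : X.Modules} (dX : OmegaSh.Der (f ≫ g) ΩX) (hX : OmegaSh.IsUniversal dX)
    (c : (Scheme.Modules.pullback f).obj ΩY ⟶ ΩX) (hc : OmegaSh.IsDiffCompat f dY dX c)

include hY in
/-- Morphisms out of `f^* Ω_{Y/S}` are determined by their values on the pulled-back `d s`. -/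
theorem hom_ext_pullback_of_universal {F : X.Modules}
    (α β : (Scheme.Modules.pullback f).obj ΩY ⟶ F)
    (h : ∀ (U : Y.Opens) (s : Γ(Y, U)),
      α.app (f ⁻¹ᵁ U) (OmegaSh.pullSect f ΩY U (dY.app U s)) =
        β.app (f ⁻¹ᵁ U) (OmegaSh.pullSect f ΩY U (dY.app U s))) : α = β := by
  apply ((Scheme.Modules.pullbackPushforwardAdjunction f).homEquiv ΩY F).injective
  refine hom_ext_of_universal g dY hY _ _ (fun U s => ?_)
  rw [pullbackAdj_homEquiv_app, pullbackAdj_homEquiv_app]
  exact h U s

include hY hX hc in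
theorem formallyUnramified_iff_epi : FormallyUnramified f ↔ Epi c := by
  constructor
  · intro hf
    constructor
    intro F α β hαβ
    rw [← sub_eq_zero]
    have hγ : c ≫ (α - β) = 0 := by rw [Preadditive.comp_sub, hαβ, sub_self]
    have hvan : ∀ (V : Y.Opens) (t : Γ(Y, V)),
        OmegaSh.Der.app (F := F) (dX.postcomp (α - β).val) (f ⁻¹ᵁ V) (f.app V t) = 0 := by
      intro V t
      change (α - β).app (f ⁻¹ᵁ V) (dX.app (f ⁻¹ᵁ V) (f.app V t)) = 0
      rw [← hc V t]
      exact congr($(hγ).app (f ⁻¹ᵁ V) (OmegaSh.pullSect f ΩY V (dY.app V t)))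
    refine hom_ext_of_universal (f ≫ g) dX hX _ _ (fun U s => ?_)
    have h1 := der_eq_zero_of_formallyUnramified f
      (strengthenDer f g (dX.postcomp (α - β).val) hvan) U s
    exact h1
  · intro hc'
    refine formallyUnramified_of_der_eq_zero f (fun F D W s => ?_)
    obtain ⟨α, hα, -⟩ := hX F (weakenDer f g D)
    have h0 : c ≫ α = c ≫ 0 := by
      refine hom_ext_pullback_of_universal g f dY hY _ _ (fun U t => ?_)
      change α.app (f ⁻¹ᵁ U) (c.app (f ⁻¹ᵁ U) _) = (0 : Γ(F, f ⁻¹ᵁ U))
      rw [hc U t]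
      have h1 := PresheafOfModules.Derivation.congr_d hα (X := op (f ⁻¹ᵁ U)) (f.app U t)
      refine h1.trans ?_
      exact der_app_app f D U t
    have h2 : α = 0 := (cancel_epi c).mp h0
    have h1 := PresheafOfModules.Derivation.congr_d hα (X := op W) s
    change α.app W (dX.app W s) = D.app W s at h1
    rw [← h1, h2]
    rfl

end EpiCrit

end Groth.Agent.Lib.Helper48.OmegaAff
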