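import Groth.Agent.Lib.Helper48.OmegaAff19
import Groth.Agent.Lib.Helper48.OmegaAff12

/-!
# Base change of the sheaf of differentials

For a cartesian square `X' = X ×_S S'` and universal receptacles `(Ω, d)` of `X/S` and `(Ω', d')`
of `X'/S'`, the canonical map `g'^* Ω → Ω'` is an isomorphism (`isIso_of_isPullback`).
`pullDer` is the universal derivation `O_{X'} → g'^* Ω` obtained by extension (`extDer`).
-/

set_option autoImplicit false
universe u

open AlgebraicGeometry CategoryTheory Opposite TopologicalSpace CategoryTheory.Limits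

namespace Groth.Agent.Lib.Helper48.OmegaAff

section BaseChange

variable {X S X' S' : Scheme.{u}} {f : X ⟶ S} {g : S' ⟶ S} {g' : X' ⟶ X} {f' : X' ⟶ S'}
  (hsq : IsPullback g' f' f g) {Ω : X.Modules} (d : OmegaSh.Der f Ω)
  (hd : OmegaSh.IsUniversal d)
  {Ω' : X'.Modules} (d' : OmegaSh.Der f' Ω') (hd' : OmegaSh.IsUniversal d')
  (c : (Scheme.Modules.pullback g').obj Ω ⟶ Ω') (hc : OmegaSh.IsDiffCompat g' d d' c)

include hsq hd' hc in
/-- The canonical map `g'^* Ω_{X/S} → Ω_{X'/S'}` of a cartesian square is an epimorphism. -/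
theorem epi_of_isPullback : Epi c := by
  constructor
  intro F α β hαβ
  rw [← sub_eq_zero]
  have hγ : c ≫ (α - β) = 0 := by rw [Preadditive.comp_sub, hαβ, sub_self]
  have hvan : ∀ (U : X.Opens) (b : Γ(X, U)),
      OmegaSh.Der.app (F := F) (d'.postcomp (α - β).val) (g' ⁻¹ᵁ U) (g'.app U b) = 0 := by
    intro U b
    change (α - β).app (g' ⁻¹ᵁ U) (d'.app (g' ⁻¹ᵁ U) (g'.app U b)) = 0
    rw [← hc U b]
    exact congr($(hγ).app (g' ⁻¹ᵁ U) (OmegaSh.pullSect g' Ω U (d.app U b)))
  refine hom_ext_of_universal f' d' hd' _ _ (fun W s => ?_)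
  exact der_eq_zero_of_isPullback hsq (d'.postcomp (α - β).val) hvan W s

/-- The derivation `O_X → g'_* g'^* Ω`, `b ↦ g'^*(d b)`. -/
noncomputable def unitDer :
    OmegaSh.Der f ((Scheme.Modules.pushforward g').obj ((Scheme.Modules.pullback g').obj Ω)) :=
  d.postcomp ((Scheme.Modules.pullbackPushforwardAdjunction g').unit.app Ω).val

/-- The derivation `O_{X'} → g'^* Ω` relative to `S'` extending `b ↦ g'^*(d b)`. -/
noncomputable def pullDer : OmegaSh.Der f' ((Scheme.Modules.pullback g').obj Ω) :=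
  extDer (unitDer (g' := g') d) hsq

theorem pullDer_pull (U : X.Opens) (b : Γ(X, U)) :
    (pullDer hsq d).app (g' ⁻¹ᵁ U) (g'.app U b) = OmegaSh.pullSect g' Ω U (d.app U b) :=
  extDer_pull (unitDer (g' := g') d) hsq U b

include hsq hd hd' hc in
/-- **Base change for differentials**: for a cartesian square, the canonical map
`g'^* Ω_{X/S} → Ω_{X'/S'}` is an isomorphism. -/
theorem isIso_of_isPullback : IsIso c := by
  have : Epi c := epi_of_isPullback hsq d d' hd' c hc
  obtain ⟨r, hr, -⟩ := hd' _ (pullDer hsq d)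
  have hcr : c ≫ r = 𝟙 _ := by
    refine hom_ext_pullback_of_universal f g' d hd _ _ (fun U b => ?_)
    change r.app (g' ⁻¹ᵁ U) (c.app (g' ⁻¹ᵁ U) _) = OmegaSh.pullSect g' Ω U (d.app U b)
    rw [hc U b, ← pullDer_pull hsq d U b]
    exact PresheafOfModules.Derivation.congr_d hr (X := op (g' ⁻¹ᵁ U)) (g'.app U b)
  have : IsSplitMono c := IsSplitMono.mk' { retraction := r, id := hcr }
  exact isIso_of_epi_of_isSplitMono c

end BaseChange

end Groth.Agent.Lib.Helper48.OmegaAff
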