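import Groth.Agent.Lib.Helper48.Conormal9
import Groth.Agent.Lib.Helper48.OmegaAff20

/-!
# Existence of the conormal differential `C_{Z/X} → i^* Ω'`, and `Ω_t ≅ s^* C_e`
-/

set_option autoImplicit false
universe u

open AlgebraicGeometry CategoryTheory Opposite TopologicalSpace CategoryTheory.Limits

namespace Groth.Agent.Lib.Helper48.Conormal

open Groth.Agent.Lib.Helper48.OmegaAff Scheme.Modules

section ConormalDiff

variable {Z X Y : Scheme.{u}} (i : Z ⟶ X) {f : X ⟶ Y} {Ω' : X.Modules} (d : OmegaSh.Der f Ω')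

/-- `s ↦ i^*(d s)` on sections of the ideal. -/
noncomputable def cdSect (U : X.Opens) :
    Γ(ClSub.idealMod i.ker, U) →+ Γ((Scheme.Modules.pullback i).obj Ω', i ⁻¹ᵁ U) :=
  ((OmegaSh.pullSect i Ω' U).hom).comp ((d.app U).comp (OmegaSh.idealSect i.ker U))

theorem cdSect_apply (U : X.Opens) (s : Γ(ClSub.idealMod i.ker, U)) :
    cdSect i d U s = OmegaSh.pullSect i Ω' U (d.app U (OmegaSh.idealSect i.ker U s)) := rfl

theorem cdSect_smul (U : X.Opens) (r : Γ(X, U)) (s : Γ(ClSub.idealMod i.ker, U)) :
    cdSect i d U (r • s) = i.app U r • cdSect i d U s := by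
  rw [cdSect_apply, cdSect_apply, idealSect_smul, der_app_mul, map_add, OmegaSh.pullSect_smul,
    OmegaSh.pullSect_smul, app_idealSect, zero_smul, add_zero]

theorem cdSect_map {U V : X.Opens} (h : V ≤ U) (s : Γ(ClSub.idealMod i.ker, U)) :
    cdSect i d V ((ClSub.idealMod i.ker).presheaf.map (homOfLE h).op s) =
      ((Scheme.Modules.pullback i).obj Ω').presheaf.map (homOfLE (i.preimage_mono h)).op
        (cdSect i d U s) := by
  rw [cdSect_apply, cdSect_apply, idealSect_map, der_app_map, OmegaSh.pullSect_map]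

/-- The morphism `𝓘 → i_* i^* Ω'`, `s ↦ i^*(d s)`. -/
noncomputable def cdAux :
    ClSub.idealMod i.ker ⟶
      (Scheme.Modules.pushforward i).obj ((Scheme.Modules.pullback i).obj Ω') :=
  ⟨PresheafOfModules.homMk
    { app := fun U => AddCommGrpCat.ofHom (cdSect i d U.unop)
      naturality := fun U V j => by
        ext s
        exact cdSect_map i d j.unop.le s }
    (fun U r s => cdSect_smul i d U.unop r s)⟩

theorem cdAux_app (U : X.Opens) (s : Γ(ClSub.idealMod i.ker, U)) :
    (cdAux i d).app U s = cdSect i d U s := rfl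

/-- The conormal differential `C_{Z/X} → i^* Ω'`. -/
noncomputable def conormalDiff : Omega.conormal i ⟶ (Scheme.Modules.pullback i).obj Ω' :=
  ((Scheme.Modules.pullbackPushforwardAdjunction i).homEquiv _ _).symm (cdAux i d)

theorem isConormalDiff_conormalDiff : OmegaSh.IsConormalDiff i d (conormalDiff i d) := by
  intro U s
  have h1 := pullbackAdj_homEquiv_app i (ClSub.idealMod i.ker) ((Scheme.Modules.pullback i).obj Ω')
    (conormalDiff i d) U s
  rw [conormalDiff, Equiv.apply_symm_apply] at h1
  exact h1.symm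

end ConormalDiff

end Groth.Agent.Lib.Helper48.Conormal
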