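import Groth.Agent.Lib.Helper48.Conormal8

/-!
# The retraction of `C_{Z/X} → i^* Ω_{X/S}` for an immersion with a left inverse
-/

set_option autoImplicit false
universe u

open AlgebraicGeometry CategoryTheory Opposite TopologicalSpace CategoryTheory.Limits

namespace Groth.Agent.Lib.Helper48.Conormal

open Groth.Agent.Lib.Helper48.OmegaAff Scheme.Modules

section Retr

variable {Z X S : Scheme.{u}} (f : X ⟶ S) (i : Z ⟶ X) (g : X ⟶ Z) (hgi : i ≫ g = 𝟙 Z)
  (hgS : g ≫ i ≫ f = f)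

/-- the open on which `x - (g ≫ i)♯ x` is defined -/
abbrev rOpen (U : X.Opens) : X.Opens := U ⊓ (g ≫ i) ⁻¹ᵁ U

theorem rOpen_mono {U₂ U : X.Opens} (h : U₂ ≤ U) : rOpen i g U₂ ≤ rOpen i g U :=
  inf_le_inf h ((g ≫ i).preimage_mono h)

include hgi in
theorem comp_comp_eq : i ≫ g ≫ i = i := by
  rw [← Category.assoc, hgi, Category.id_comp]

include hgi in
theorem preimage_le_rOpen (U : X.Opens) : i ⁻¹ᵁ U ≤ i ⁻¹ᵁ (rOpen i g U) := by
  intro z hz
  refine ⟨hz, ?_⟩
  change (g ≫ i) (i z) ∈ U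
  have : (g ≫ i) (i z) = i z := by
    rw [← Scheme.Hom.comp_apply, comp_comp_eq i g hgi]
  rw [this]; exact hz

/-- `x ↦ x - (g ≫ i)♯ x` on `rOpen U` -/
noncomputable def rDiff (U : X.Opens) : Γ(X, U) →+ Γ(X, rOpen i g U) :=
  (X.presheaf.map (homOfLE (inf_le_left : rOpen i g U ≤ U)).op).hom.toAddMonoidHom -
    ((g ≫ i).appLE U (rOpen i g U) inf_le_right).hom.toAddMonoidHom

theorem rDiff_apply (U : X.Opens) (x : Γ(X, U)) :
    rDiff i g U x = X.presheaf.map (homOfLE (inf_le_left : rOpen i g U ≤ U)).op x -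
      (g ≫ i).appLE U (rOpen i g U) inf_le_right x := rfl

theorem appLE_res {A B : Scheme.{u}} (h : A ⟶ B) {V V' : B.Opens} (hV : V' ≤ V) {W : A.Opens}
    (e : W ≤ h ⁻¹ᵁ V') (x : Γ(B, V)) :
    h.appLE V' W e (B.presheaf.map (homOfLE hV).op x) =
      h.appLE V W (e.trans (h.preimage_mono hV)) x :=
  congr($(Scheme.Hom.map_appLE h e (homOfLE hV).op) x)

theorem res_appLE {A B : Scheme.{u}} (h : A ⟶ B) {V : B.Opens} {W W' : A.Opens} (hW : W' ≤ W)
    (e : W ≤ h ⁻¹ᵁ V) (x : Γ(B, V)) :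
    A.presheaf.map (homOfLE hW).op (h.appLE V W e x) = h.appLE V W' (hW.trans e) x :=
  congr($(Scheme.Hom.appLE_map h e (homOfLE hW).op) x)

theorem appLE_appLE {A B C : Scheme.{u}} (h : A ⟶ B) (k : B ⟶ C) {V : C.Opens} {W : B.Opens}
    {O : A.Opens} (e₁ : W ≤ k ⁻¹ᵁ V) (e₂ : O ≤ h ⁻¹ᵁ W) (x : Γ(C, V)) :
    h.appLE W O e₂ (k.appLE V W e₁ x) = (h ≫ k).appLE V O (fun _ hx => e₁ (e₂ hx)) x :=
  congr($(Scheme.Hom.appLE_comp_appLE h k V W O e₁ e₂) x)

theorem appLE_congr_hom' {A B : Scheme.{u}} {h₁ h₂ : A ⟶ B} (e : h₁ = h₂) (V : B.Opens)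
    (W : A.Opens) (hle : W ≤ h₁ ⁻¹ᵁ V) (hle' : W ≤ h₂ ⁻¹ᵁ V) (x : Γ(B, V)) :
    h₁.appLE V W hle x = h₂.appLE V W hle' x := by
  subst e; rfl

include hgi in
theorem appLE_rDiff (U : X.Opens) {O : Z.Opens} (e : O ≤ i ⁻¹ᵁ (rOpen i g U)) (x : Γ(X, U)) :
    i.appLE (rOpen i g U) O e (rDiff i g U x) = 0 := by
  rw [rDiff_apply, map_sub, sub_eq_zero, appLE_res, appLE_appLE]
  exact (appLE_congr_hom' (comp_comp_eq i g hgi) _ _ _ _ x).symm

include hgi in
theorem app_rDiff (U : X.Opens) (x : Γ(X, U)) :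
    i.app (rOpen i g U) (rDiff i g U x) = 0 := by
  rw [Scheme.Hom.app_eq_appLE]
  exact appLE_rDiff i g hgi U le_rfl x

variable [QuasiCompact i]

include hgi in
theorem exists_rSect (U : X.Opens) (x : Γ(X, U)) :
    ∃ s : Γ(ClSub.idealMod i.ker, rOpen i g U),
      OmegaSh.idealSect i.ker (rOpen i g U) s = rDiff i g U x :=
  exists_idealSect_eq i _ _ (app_rDiff i g hgi U x)

/-- the section of the ideal with value `x - (g ≫ i)♯ x` -/
noncomputable def rSect (U : X.Opens) (x : Γ(X, U)) : Γ(ClSub.idealMod i.ker, rOpen i g U) :=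
  (exists_rSect i g hgi U x).choose

theorem idealSect_rSect (U : X.Opens) (x : Γ(X, U)) :
    OmegaSh.idealSect i.ker (rOpen i g U) (rSect i g hgi U x) = rDiff i g U x :=
  (exists_rSect i g hgi U x).choose_spec

theorem rSect_eq (U : X.Opens) (x : Γ(X, U)) (s : Γ(ClSub.idealMod i.ker, rOpen i g U))
    (hs : OmegaSh.idealSect i.ker (rOpen i g U) s = rDiff i g U x) : rSect i g hgi U x = s :=
  idealSect_injective _ _ ((idealSect_rSect i g hgi U x).trans hs.symm)

/-- the retraction derivation on sections -/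
noncomputable def rD (U : X.Opens) : Γ(X, U) →+ Γ(Omega.conormal i, i ⁻¹ᵁ U) :=
  AddMonoidHom.mk' (fun x => conormalRes i (preimage_le_rOpen i g hgi U) (rSect i g hgi U x))
    (fun x y => by
      rw [← map_add]
      congr 1
      apply rSect_eq
      rw [map_add, map_add, idealSect_rSect, idealSect_rSect])

theorem rD_eq (U : X.Opens) (x : Γ(X, U)) (s : Γ(ClSub.idealMod i.ker, rOpen i g U))
    (hs : OmegaSh.idealSect i.ker (rOpen i g U) s = rDiff i g U x) :
    rD i g hgi U x = conormalRes i (preimage_le_rOpen i g hgi U) s := by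
  change conormalRes i _ (rSect i g hgi U x) = _
  rw [rSect_eq i g hgi U x s hs]

theorem rD_mul (U : X.Opens) (x y : Γ(X, U)) :
    rD i g hgi U (x * y) = i.app U x • rD i g hgi U y + i.app U y • rD i g hgi U x := by
  set x' := X.presheaf.map (homOfLE (inf_le_left : rOpen i g U ≤ U)).op x with hx'
  set y₂ := (g ≫ i).appLE U (rOpen i g U) inf_le_right y with hy₂
  have hs : OmegaSh.idealSect i.ker (rOpen i g U)
      (x' • rSect i g hgi U y + y₂ • rSect i g hgi U x) = rDiff i g U (x * y) := by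
    rw [map_add, idealSect_smul, idealSect_smul, idealSect_rSect, idealSect_rSect, rDiff_apply,
      rDiff_apply, rDiff_apply, map_mul, map_mul]
    ring
  rw [rD_eq i g hgi U _ _ hs, map_add, conormalRes_smul, conormalRes_smul]
  have e1 : i.appLE (rOpen i g U) (i ⁻¹ᵁ U) (preimage_le_rOpen i g hgi U) x' = i.app U x := by
    rw [hx', appLE_res, Scheme.Hom.app_eq_appLE]
  have e2 : i.appLE (rOpen i g U) (i ⁻¹ᵁ U) (preimage_le_rOpen i g hgi U) y₂ = i.app U y := by
    have h0 := appLE_rDiff i g hgi U (preimage_le_rOpen i g hgi U) y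
    rw [rDiff_apply, map_sub, sub_eq_zero, appLE_res] at h0
    rw [← h0, Scheme.Hom.app_eq_appLE]
  rw [e1, e2]
  rfl

theorem rDiff_map {U₂ U : X.Opens} (h : U₂ ≤ U) (x : Γ(X, U)) :
    rDiff i g U₂ (X.presheaf.map (homOfLE h).op x) =
      X.presheaf.map (homOfLE (rOpen_mono i g h)).op (rDiff i g U x) := by
  rw [rDiff_apply, rDiff_apply, map_sub, appLE_res, res_appLE, presheaf_map_map, presheaf_map_map]

theorem rD_map {U₂ U : X.Opens} (h : U₂ ≤ U) (x : Γ(X, U)) :
    rD i g hgi U₂ (X.presheaf.map (homOfLE h).op x) =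
      (Omega.conormal i).presheaf.map (homOfLE (i.preimage_mono h)).op (rD i g hgi U x) := by
  have hs : OmegaSh.idealSect i.ker (rOpen i g U₂)
      ((ClSub.idealMod i.ker).presheaf.map (homOfLE (rOpen_mono i g h)).op (rSect i g hgi U x)) =
      rDiff i g U₂ (X.presheaf.map (homOfLE h).op x) := by
    rw [idealSect_map, idealSect_rSect, rDiff_map]
  rw [rD_eq i g hgi U₂ _ _ hs, conormalRes_map_left]
  change _ = (Omega.conormal i).presheaf.map _ (conormalRes i _ (rSect i g hgi U x))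
  rw [conormalRes_map_right]

include hgS in
theorem rDiff_app (V : S.Opens) (a : Γ(S, V)) : rDiff i g (f ⁻¹ᵁ V) (f.app V a) = 0 := by
  rw [rDiff_apply, sub_eq_zero, Scheme.Hom.app_eq_appLE, res_appLE, appLE_appLE]
  exact (appLE_congr_hom' hgS V _ _ _ a).symm

include hgS in
theorem rD_app (V : S.Opens) (a : Γ(S, V)) : rD i g hgi (f ⁻¹ᵁ V) (f.app V a) = 0 := by
  have hs : OmegaSh.idealSect i.ker (rOpen i g (f ⁻¹ᵁ V)) 0 =
      rDiff i g (f ⁻¹ᵁ V) (f.app V a) := by
    rw [map_zero, rDiff_app f i g hgS]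
  rw [rD_eq i g hgi _ _ _ hs, map_zero]

/-- The derivation `x ↦ [x - (g ≫ i)♯ x]` of `O_X` into `i_* C_{Z/X}`. -/
noncomputable def retrDer : OmegaSh.Der f ((Scheme.Modules.pushforward i).obj (Omega.conormal i)) where
  d {U} := rD i g hgi U.unop
  d_mul {U} s t := rD_mul i g hgi U.unop s t
  d_map {U U'} k s := rD_map i g hgi k.unop.le s
  d_app {V} c := rD_app f i g hgi hgS V.unop c

theorem retrDer_app (U : X.Opens) (x : Γ(X, U)) :
    (retrDer f i g hgi hgS).app U x = rD i g hgi U x := rfl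

/-- `rD` on a section of the ideal over a good open is its class. -/
theorem rD_idealSect (V : X.Opens) (s : Γ(ClSub.idealMod i.ker, V)) :
    rD i g hgi V (OmegaSh.idealSect i.ker V s) = OmegaSh.conormalSect i V s := by
  have hs : OmegaSh.idealSect i.ker (rOpen i g V)
      ((ClSub.idealMod i.ker).presheaf.map (homOfLE (inf_le_left : rOpen i g V ≤ V)).op s) =
      rDiff i g V (OmegaSh.idealSect i.ker V s) := by
    rw [idealSect_map, rDiff_apply]
    have h0 : (g ≫ i).appLE V (rOpen i g V) inf_le_right (OmegaSh.idealSect i.ker V s) = 0 := by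
      have := appLE_appLE g i (V := V) (W := i ⁻¹ᵁ V) (O := rOpen i g V) le_rfl inf_le_right
        (OmegaSh.idealSect i.ker V s)
      rw [← this, Scheme.Hom.appLE_eq_app, app_idealSect, map_zero]
    rw [h0, sub_zero]
  rw [rD_eq i g hgi V _ _ hs, conormalRes_map_left, ← conormalRes_refl]

end Retr

end Groth.Agent.Lib.Helper48.Conormal
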