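import Groth.Agent.Lib.Helper48.Conormal8
import Groth.Agent.Lib.Helper48.FormallySmoothAppLE
import Mathlib.RingTheory.Smooth.Kaehler
import Mathlib.RingTheory.Smooth.Basic

/-!
# Sections of the conormal sheaf over a good open and the cotangent module `I/I²`;
injectivity of `C_{Z/X} → i^* Ω_{X/S}` when `Z → S` is formally smooth
-/

set_option autoImplicit false
universe u

open AlgebraicGeometry CategoryTheory Opposite TopologicalSpace CategoryTheory.Limits

namespace Groth.Agent.Lib.Helper48.Conormal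

open Groth.Agent.Lib.Helper48.OmegaAff Scheme.Modules

section RingLevel

open TensorProduct KaehlerDifferential

/-- If `S` is formally smooth over `R` and `P → S` is a surjection of `R`-algebras with kernel
`I`, then `I/I² → S ⊗_P Ω_{P/R}` has a retraction. -/
theorem exists_retraction_of_formallySmooth {R P S : Type u} [CommRing R] [CommRing P]
    [CommRing S] [Algebra R P] [Algebra P S] [Algebra R S] [IsScalarTower R P S]
    [Algebra.FormallySmooth R S] (hf : Function.Surjective (algebraMap P S)) :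
    ∃ l : S ⊗[P] Ω[P⁄R] →ₗ[P] (RingHom.ker (algebraMap P S)).Cotangent,
      l ∘ₗ (kerCotangentToTensor R P S) = LinearMap.id := by
  have hsurj : Function.Surjective (IsScalarTower.toAlgHom R P S).kerSquareLift := by
    intro x
    obtain ⟨y, rfl⟩ := hf x
    exact ⟨Ideal.Quotient.mk _ y, rfl⟩
  have hnil : IsNilpotent (RingHom.ker ((IsScalarTower.toAlgHom R P S).kerSquareLift :
      (P ⧸ RingHom.ker (IsScalarTower.toAlgHom R P S).toRingHom ^ 2) →+* S)) := by
    refine ⟨2, ?_⟩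
    have := (IsScalarTower.toAlgHom R P S).ker_kerSquareLift
    rw [show RingHom.ker ((IsScalarTower.toAlgHom R P S).kerSquareLift :
      (P ⧸ RingHom.ker (IsScalarTower.toAlgHom R P S).toRingHom ^ 2) →+* S) =
      RingHom.ker (IsScalarTower.toAlgHom R P S).kerSquareLift.toRingHom from rfl, this]
    exact Ideal.cotangentIdeal_square _
  let g := Algebra.FormallySmooth.liftOfSurjective (AlgHom.id R S)
    (IsScalarTower.toAlgHom R P S).kerSquareLift hsurj hnil
  have hg : (IsScalarTower.toAlgHom R P S).kerSquareLift.comp g = AlgHom.id R S :=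
    Algebra.FormallySmooth.comp_liftOfSurjective _ _ hsurj hnil
  obtain ⟨l, hl⟩ := (retractionKerCotangentToTensorEquivSection (R := R) hf).symm ⟨g, hg⟩
  exact ⟨l, hl⟩

end RingLevel

section Cotangent

variable {Z X : Scheme.{u}} (i : Z ⟶ X) [QuasiCompact i] (V : X.Opens)

/-- the section of the ideal with a given underlying function -/
noncomputable def sectOf (x : RingHom.ker (i.app V).hom) : Γ(ClSub.idealMod i.ker, V) :=
  (exists_idealSect_eq i V x.1 (RingHom.mem_ker.mp x.2)).choose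

theorem idealSect_sectOf (x : RingHom.ker (i.app V).hom) :
    OmegaSh.idealSect i.ker V (sectOf i V x) = x.1 :=
  (exists_idealSect_eq i V x.1 (RingHom.mem_ker.mp x.2)).choose_spec

theorem idealSect_mem_ker (s : Γ(ClSub.idealMod i.ker, V)) :
    OmegaSh.idealSect i.ker V s ∈ RingHom.ker (i.app V).hom :=
  RingHom.mem_ker.mpr (app_idealSect i V s)

theorem sectOf_idealSect (s : Γ(ClSub.idealMod i.ker, V)) :
    sectOf i V ⟨OmegaSh.idealSect i.ker V s, idealSect_mem_ker i V s⟩ = s :=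
  idealSect_injective i.ker V (idealSect_sectOf i V _)

/-- `x ↦ [x]`, semilinear along `i♯`. -/
noncomputable def csLin :
    ↥(RingHom.ker (i.app V).hom) →ₛₗ[(i.app V).hom] Γ(Omega.conormal i, i ⁻¹ᵁ V) where
  toFun x := OmegaSh.conormalSect i V (sectOf i V x)
  map_add' x y := by
    rw [← map_add]
    congr 1
    apply idealSect_injective i.ker V
    rw [map_add, idealSect_sectOf, idealSect_sectOf, idealSect_sectOf]
    rfl
  map_smul' a x := by
    rw [← conormalSect_smul]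
    congr 1
    apply idealSect_injective i.ker V
    rw [idealSect_smul, idealSect_sectOf, idealSect_sectOf]
    rfl

theorem csLin_apply (x : RingHom.ker (i.app V).hom) :
    csLin i V x = OmegaSh.conormalSect i V (sectOf i V x) := rfl

theorem smul_top_le_ker_csLin :
    ((RingHom.ker (i.app V).hom) • ⊤ : Submodule Γ(X, V) ↥(RingHom.ker (i.app V).hom)) ≤
      LinearMap.ker (csLin i V) := by
  rw [Submodule.smul_le]
  intro r hr n _
  rw [LinearMap.mem_ker, map_smulₛₗ, RingHom.mem_ker.mp hr, zero_smul]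

/-- `I/I² → Γ(C_{Z/X}, i⁻¹V)`. -/
noncomputable def cotangentToConormal :
    (RingHom.ker (i.app V).hom).Cotangent →ₛₗ[(i.app V).hom] Γ(Omega.conormal i, i ⁻¹ᵁ V) :=
  Submodule.liftQ _ (csLin i V) (smul_top_le_ker_csLin i V)

theorem cotangentToConormal_toCotangent (x : RingHom.ker (i.app V).hom) :
    cotangentToConormal i V (Ideal.toCotangent _ x) = OmegaSh.conormalSect i V (sectOf i V x) :=
  rfl

theorem cotangentToConormal_idealSect (s : Γ(ClSub.idealMod i.ker, V)) :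
    cotangentToConormal i V
      (Ideal.toCotangent _ ⟨OmegaSh.idealSect i.ker V s, idealSect_mem_ker i V s⟩) =
      OmegaSh.conormalSect i V s := by
  rw [cotangentToConormal_toCotangent, sectOf_idealSect]

end Cotangent

section FormallySmooth

open TensorProduct KaehlerDifferential

variable {X Y Z : Scheme.{u}} (f : Y ⟶ Z) (j : X ⟶ Y) [QuasiCompact j]
  {ΩY : Y.Modules} (dY : OmegaSh.Der f ΩY) (hY : OmegaSh.IsUniversal dY)
  (φ : Omega.conormal j ⟶ (Scheme.Modules.pullback j).obj ΩY)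
  (hφ : OmegaSh.IsConormalDiff j dY φ)
  {V : Y.Opens} (hV : IsGoodFor j V) {W : Z.Opens} (hW : IsAffineOpen W) (hVW : V ≤ f ⁻¹ᵁ W)
  (hsm : MoreMor.IsFormallySmoothHom (j ≫ f))

include hY hφ hV hW hVW hsm in
/-- If `X → Z` is formally smooth, `C_{X/Y} → j^* Ω_{Y/Z}` is injective on sections over good
opens. -/
theorem φ_app_injective_of_formallySmooth : Function.Injective (φ.app (j ⁻¹ᵁ V)) := by
  haveI := isQuasicoherent_of_universal f dY hY
  letI aPS : Algebra Γ(Y, V) Γ(X, j ⁻¹ᵁ V) := (j.app V).hom.toAlgebra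
  letI aRP : Algebra Γ(Z, W) Γ(Y, V) := (f.appLE W V hVW).hom.toAlgebra
  letI aRS : Algebra Γ(Z, W) Γ(X, j ⁻¹ᵁ V) :=
    ((j ≫ f).appLE W (j ⁻¹ᵁ V) (le_preimage_comp f j hVW)).hom.toAlgebra
  haveI : IsScalarTower Γ(Z, W) Γ(Y, V) Γ(X, j ⁻¹ᵁ V) := IsScalarTower.of_algebraMap_eq' (by
    change ((j ≫ f).appLE W (j ⁻¹ᵁ V) (le_preimage_comp f j hVW)).hom =
      (j.app V).hom.comp (f.appLE W V hVW).hom
    rw [← Scheme.Hom.appLE_comp_appLE j f W V (j ⁻¹ᵁ V) hVW le_rfl, Scheme.Hom.appLE_eq_app]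
    rfl)
  haveI : Algebra.FormallySmooth Γ(Z, W) Γ(X, j ⁻¹ᵁ V) :=
    formallySmooth_appLE (j ≫ f) hsm hV.2.1 hW (le_preimage_comp f j hVW)
  obtain ⟨l, hl⟩ := exists_retraction_of_formallySmooth (R := Γ(Z, W)) (P := Γ(Y, V))
    (S := Γ(X, j ⁻¹ᵁ V)) hV.2.2
  let D : Γ(Y, V) →+ Γ(X, j ⁻¹ᵁ V) ⊗[Γ(Y, V)] Ω[Γ(Y, V)⁄Γ(Z, W)] :=
    { toFun := fun b => (1 : Γ(X, j ⁻¹ᵁ V)) ⊗ₜ[Γ(Y, V)] KaehlerDifferential.D Γ(Z, W) Γ(Y, V) b
      map_zero' := by rw [map_zero, tmul_zero]
      map_add' := fun a b => by rw [map_add, tmul_add] }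
  have hD : ∀ b, D b = (1 : Γ(X, j ⁻¹ᵁ V)) ⊗ₜ[Γ(Y, V)] KaehlerDifferential.D Γ(Z, W) Γ(Y, V) b :=
    fun _ => rfl
  obtain ⟨θ, hθ, -⟩ := existsUnique_of_derivation_universal f dY hY hV.1 hW hVW
    (Γ(X, j ⁻¹ᵁ V) ⊗[Γ(Y, V)] Ω[Γ(Y, V)⁄Γ(Z, W)]) D
    (fun x y => by
      rw [hD, hD, hD, Derivation.leibniz, tmul_add, tmul_smul, tmul_smul])
    (fun a => by
      rw [hD]
      have : f.appLE W V hVW a = algebraMap Γ(Z, W) Γ(Y, V) a := rfl
      rw [this, Derivation.map_algebraMap, tmul_zero])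
  obtain ⟨τ, hτ, -⟩ := existsUnique_of_semilinear_pullSect j ΩY hV.1 hV.2.1
    (Γ(X, j ⁻¹ᵁ V) ⊗[Γ(Y, V)] Ω[Γ(Y, V)⁄Γ(Z, W)]) θ.toAddMonoidHom
    (fun a m => by
      change θ (a • m) = j.app V a • θ m
      rw [θ.map_smul]
      exact (algebraMap_smul Γ(X, j ⁻¹ᵁ V) a (θ m)).symm)
  have key : ∀ y, cotangentToConormal j V (l (τ (φ.app (j ⁻¹ᵁ V) y))) = y := by
    intro y
    obtain ⟨s, rfl⟩ := conormalSect_surjective j hV y
    rw [hφ V s, hτ]
    change cotangentToConormal j V (l (θ (dY.app V (OmegaSh.idealSect j.ker V s)))) = _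
    rw [hθ, hD]
    have e : (1 : Γ(X, j ⁻¹ᵁ V)) ⊗ₜ[Γ(Y, V)] KaehlerDifferential.D Γ(Z, W) Γ(Y, V)
        (OmegaSh.idealSect j.ker V s) =
        kerCotangentToTensor Γ(Z, W) Γ(Y, V) Γ(X, j ⁻¹ᵁ V)
          (Ideal.toCotangent _ ⟨OmegaSh.idealSect j.ker V s, idealSect_mem_ker j V s⟩) := rfl
    have h2 := LinearMap.congr_fun hl
      (Ideal.toCotangent _ ⟨OmegaSh.idealSect j.ker V s, idealSect_mem_ker j V s⟩)
    rw [LinearMap.comp_apply, LinearMap.id_apply] at h2
    rw [e, h2]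
    exact cotangentToConormal_idealSect j V s
  intro y₁ y₂ h
  rw [← key y₁, ← key y₂, h]

end FormallySmooth

end Groth.Agent.Lib.Helper48.Conormal
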