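import Groth.Agent.Lib.Helper48.Conormal12
import Mathlib.AlgebraicGeometry.Morphisms.Smooth
import Mathlib.RingTheory.RingHom.Smooth

/-!
# Injectivity of `C_{Z/Y} → C_{Z/X}` for `X → Y` smooth
-/

set_option autoImplicit false
universe u

open AlgebraicGeometry CategoryTheory Opposite TopologicalSpace CategoryTheory.Limits

namespace Groth.Agent.Lib.Helper48.Conormal

open Groth.Agent.Lib.Helper48.OmegaAff Scheme.Modules

section RingLevel

/-- `A → B` formally smooth, `B → C` and `A → C` surjective with kernels `I`, `J`: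
an element of `A` whose image lies in `I²` lies in `J²`. -/
theorem mem_sq_of_formallySmooth {A B C : Type u} [CommRing A] [CommRing B] [CommRing C]
    [Algebra A B] [Algebra B C] [Algebra A C] [IsScalarTower A B C] [Algebra.FormallySmooth A B]
    (hAC : Function.Surjective (algebraMap A C)) (a : A)
    (ha : algebraMap A B a ∈ (RingHom.ker (algebraMap B C)) ^ 2) :
    a ∈ (RingHom.ker (algebraMap A C)) ^ 2 := by
  let fAC : A →ₐ[A] C := Algebra.ofId A C
  have hsurj : Function.Surjective fAC.kerSquareLift := by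
    intro x
    obtain ⟨y, rfl⟩ := hAC x
    exact ⟨Ideal.Quotient.mk _ y, rfl⟩
  have hker : RingHom.ker (fAC.kerSquareLift : (A ⧸ RingHom.ker fAC.toRingHom ^ 2) →+* C) =
      (RingHom.ker fAC.toRingHom).cotangentIdeal := fAC.ker_kerSquareLift
  have hnil : IsNilpotent (RingHom.ker (fAC.kerSquareLift :
      (A ⧸ RingHom.ker fAC.toRingHom ^ 2) →+* C)) := by
    refine ⟨2, ?_⟩
    rw [hker]
    exact Ideal.cotangentIdeal_square _
  let h := Algebra.FormallySmooth.liftOfSurjective (IsScalarTower.toAlgHom A B C)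
    fAC.kerSquareLift hsurj hnil
  have hh : ∀ x, fAC.kerSquareLift (h x) = algebraMap B C x := fun x =>
    Algebra.FormallySmooth.liftOfSurjective_apply _ _ hsurj hnil x
  have hI : RingHom.ker (algebraMap B C) ≤
      Ideal.comap h.toRingHom (RingHom.ker fAC.toRingHom).cotangentIdeal := by
    intro x hx
    rw [Ideal.mem_comap, ← hker, RingHom.mem_ker]
    exact (hh x).trans (RingHom.mem_ker.mp hx)
  have h2 : Ideal.map h.toRingHom ((RingHom.ker (algebraMap B C)) ^ 2) ≤ ⊥ := by
    rw [Ideal.map_pow]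
    refine (Ideal.pow_right_mono (Ideal.map_le_iff_le_comap.mpr hI) 2).trans ?_
    rw [Ideal.cotangentIdeal_square]
  have h3 : h (algebraMap A B a) = 0 := by
    have := h2 (Ideal.mem_map_of_mem h.toRingHom ha)
    exact (Ideal.mem_bot.mp this)
  rw [h.commutes] at h3
  exact Ideal.Quotient.eq_zero_iff_mem.mp h3

end RingLevel

section Kernel

variable {Z X : Scheme.{u}} (i : Z ⟶ X) [QuasiCompact i] {V : X.Opens}

/-- Over a good open, a section of the ideal whose class in the conormal sheaf vanishes lies in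
the square of the ideal. -/
theorem idealSect_mem_sq_of_conormalSect_eq_zero (hV : IsGoodFor i V)
    (s : Γ(ClSub.idealMod i.ker, V)) (h : OmegaSh.conormalSect i V s = 0) :
    OmegaSh.idealSect i.ker V s ∈ (RingHom.ker (i.app V).hom) ^ 2 := by
  let ψ : Γ(Z, i ⁻¹ᵁ V) →+* Γ(X, V) ⧸ RingHom.ker (i.app V).hom :=
    (RingHom.quotientKerEquivOfSurjective hV.2.2).symm.toRingHom
  have hψ : ∀ a, ψ (i.app V a) = Ideal.Quotient.mk _ a := by
    intro a
    change (RingHom.quotientKerEquivOfSurjective hV.2.2).symm ((i.app V).hom a) = _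
    rw [RingEquiv.symm_apply_eq]
    rfl
  letI : Module Γ(Z, i ⁻¹ᵁ V) (RingHom.ker (i.app V).hom).Cotangent := Module.compHom _ ψ
  let l : Γ(ClSub.idealMod i.ker, V) →+ (RingHom.ker (i.app V).hom).Cotangent :=
    { toFun := fun m => Ideal.toCotangent _ ⟨OmegaSh.idealSect i.ker V m, idealSect_mem_ker i V m⟩
      map_zero' := by
        rw [← map_zero (Ideal.toCotangent _)]
        congr 1
        exact Subtype.ext (map_zero _)
      map_add' := fun m m' => by
        rw [← map_add]
        congr 1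
        exact Subtype.ext (map_add _ _ _) }
  have hl : ∀ (a : Γ(X, V)) (m : Γ(ClSub.idealMod i.ker, V)), l (a • m) = i.app V a • l m := by
    intro a m
    change Ideal.toCotangent (RingHom.ker (i.app V).hom)
        ⟨OmegaSh.idealSect i.ker V (a • m), idealSect_mem_ker i V (a • m)⟩ =
      ψ (i.app V a) • Ideal.toCotangent (RingHom.ker (i.app V).hom)
        ⟨OmegaSh.idealSect i.ker V m, idealSect_mem_ker i V m⟩
    rw [hψ, ← Ideal.Quotient.algebraMap_eq, algebraMap_smul, ← _root_.map_smul]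
    congr 1
    exact Subtype.ext (idealSect_smul i.ker V a m)
  obtain ⟨α, hα, -⟩ := existsUnique_of_semilinear_conormal i hV _ l hl
  have h1 := hα s
  rw [h, map_zero] at h1
  exact (Ideal.toCotangent_eq_zero _ _).mp h1.symm

/-- The class in the conormal sheaf of a section of the ideal lying in the square of the ideal
vanishes. -/
theorem conormalSect_eq_zero_of_mem_sq (s : Γ(ClSub.idealMod i.ker, V))
    (h : OmegaSh.idealSect i.ker V s ∈ (RingHom.ker (i.app V).hom) ^ 2) :
    OmegaSh.conormalSect i V s = 0 := by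
  rw [← cotangentToConormal_idealSect i V s]
  have : Ideal.toCotangent _ (⟨OmegaSh.idealSect i.ker V s, idealSect_mem_ker i V s⟩ :
      RingHom.ker (i.app V).hom) = 0 := (Ideal.toCotangent_eq_zero _ _).mpr h
  rw [this, map_zero]

end Kernel

section ResSurj

variable {Z X : Scheme.{u}} (i : Z ⟶ X) [QuasiCompact i]

/-- If `U = i⁻¹V` is affine, `V` affine and `O(V) → O(U)` surjective, every section of the
conormal sheaf over `U` is the class of a section of the ideal over `V`. -/
theorem conormalRes_surjective {U : Z.Opens} {V : X.Opens} (hU : IsAffineOpen U)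
    (hV : IsAffineOpen V) (e : U ≤ i ⁻¹ᵁ V) (hsurj : Function.Surjective (i.appLE V U e)) :
    Function.Surjective (conormalRes i e) := by
  intro x
  have hx : x ∈ Submodule.span Γ(Z, U) (Set.range (conormalRes i e)) := by
    rw [span_range_conormalRes i hU hV e]; trivial
  induction hx using Submodule.span_induction with
  | mem y hy => exact hy
  | zero => exact ⟨0, map_zero _⟩
  | add y z _ _ hy hz =>
    obtain ⟨a, rfl⟩ := hy
    obtain ⟨b, rfl⟩ := hz
    exact ⟨a + b, map_add _ _ _⟩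
  | smul r y _ hy =>
    obtain ⟨a, rfl⟩ := hy
    obtain ⟨r', rfl⟩ := hsurj r
    exact ⟨r' • a, conormalRes_smul i e r' a⟩

/-- A section of the ideal lying in the square of the kernel of `O(V) → O(U)`, `U = i⁻¹V`, has
trivial class in the conormal sheaf over `U`. -/
theorem conormalRes_eq_zero_of_mem_sq {U : Z.Opens} {V : X.Opens} (hUV : U = i ⁻¹ᵁ V)
    (s : Γ(ClSub.idealMod i.ker, V))
    (h : OmegaSh.idealSect i.ker V s ∈ (RingHom.ker (i.appLE V U hUV.le).hom) ^ 2) :
    conormalRes i hUV.le s = 0 := by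
  subst hUV
  rw [conormalRes_refl]
  apply conormalSect_eq_zero_of_mem_sq
  have e : RingHom.ker (i.appLE V (i ⁻¹ᵁ V) le_rfl).hom = RingHom.ker (i.app V).hom := by
    rw [Scheme.Hom.appLE_eq_app]
  rw [← e]
  exact h

end ResSurj

section SmoothMono

variable {Z X Y : Scheme.{u}} (p : X ⟶ Y) (i : Z ⟶ X) [QuasiCompact i] [QuasiCompact (i ≫ p)]
  (ψ : (Scheme.Modules.pullback (𝟙 Z)).obj (Omega.conormal (i ≫ p)) ⟶ Omega.conormal i)
  (hψ : OmegaSh.IsConormalMap i (i ≫ p) p (𝟙 Z) ψ)
  {V : X.Opens} {W : Y.Opens} (hV : IsGoodFor i V) (hW : IsAffineOpen W) (hVW : V ≤ p ⁻¹ᵁ W)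
  (hiV : i ⁻¹ᵁ V = (i ≫ p) ⁻¹ᵁ W)
  (hsurj : Function.Surjective ((i ≫ p).appLE W (i ⁻¹ᵁ V) (fun _ hx => hVW hx)))

include hψ hV hW hVW hiV hsurj in
/-- For smooth `p`, `C_{Z/Y} → C_{Z/X}` is injective on sections over good opens. -/
theorem ψ'_app_injective_of_smooth [Smooth p] :
    Function.Injective ((ψ' p i ψ).app (i ⁻¹ᵁ V)) := by
  rw [injective_iff_map_eq_zero]
  intro x hx
  obtain ⟨s', rfl⟩ := conormalRes_surjective (i ≫ p) hV.2.1 hW (le_comp_preimage p i hVW) hsurj x
  -- the image of `s'` in the ideal of `i`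
  have h0 : i.app V (p.appLE W V hVW (OmegaSh.idealSect (i ≫ p).ker W s')) = 0 := by
    rw [app_appLE p i hVW]
    have h1 := app_idealSect (i ≫ p) W s'
    rw [Scheme.Hom.appLE]
    change (Z.presheaf.map (homOfLE (le_comp_preimage p i hVW)).op)
      ((i ≫ p).app W (OmegaSh.idealSect (i ≫ p).ker W s')) = 0
    rw [h1, map_zero]
  obtain ⟨s, hs⟩ := exists_idealSect_eq i V _ h0
  rw [ψ'_app p i ψ hψ hVW s' s hs] at hx
  have h2 := idealSect_mem_sq_of_conormalSect_eq_zero i hV s hx
  rw [hs] at h2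
  -- ring level
  letI aAB : Algebra Γ(Y, W) Γ(X, V) := (p.appLE W V hVW).hom.toAlgebra
  letI aBC : Algebra Γ(X, V) Γ(Z, i ⁻¹ᵁ V) := (i.app V).hom.toAlgebra
  letI aAC : Algebra Γ(Y, W) Γ(Z, i ⁻¹ᵁ V) :=
    ((i ≫ p).appLE W (i ⁻¹ᵁ V) (le_comp_preimage p i hVW)).hom.toAlgebra
  haveI : IsScalarTower Γ(Y, W) Γ(X, V) Γ(Z, i ⁻¹ᵁ V) := IsScalarTower.of_algebraMap_eq (by
    intro b
    exact (app_appLE p i hVW b).symm)
  haveI : Algebra.FormallySmooth Γ(Y, W) Γ(X, V) :=
    (HasRingHomProperty.appLE (P := @Smooth) p inferInstance ⟨W, hW⟩ ⟨V, hV.1⟩ hVW).formallySmooth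
  have h3 := mem_sq_of_formallySmooth (A := Γ(Y, W)) (B := Γ(X, V)) (C := Γ(Z, i ⁻¹ᵁ V)) hsurj
    (OmegaSh.idealSect (i ≫ p).ker W s') h2
  exact conormalRes_eq_zero_of_mem_sq (i ≫ p) hiV s' h3

end SmoothMono

end Groth.Agent.Lib.Helper48.Conormal
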