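import Groth.Agent.Lib.Helper48.Conormal2

/-!
# Sections of the conormal sheaf over good affine opens
-/

set_option autoImplicit false
universe u

open AlgebraicGeometry CategoryTheory Opposite TopologicalSpace CategoryTheory.Limits

namespace Groth.Agent.Lib.Helper48.Conormal

open Groth.Agent.Lib.Helper48.OmegaAff Scheme.Modules

section PullSect

variable {X Y : Scheme.{u}} (f : X ⟶ Y) (G : Y.Modules)

theorem pullRes_refl (V : Y.Opens) (m : Γ(G, V)) :
    pullRes f G (le_refl (f ⁻¹ᵁ V)) m = OmegaSh.pullSect f G V m := by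
  rw [pullRes_apply]
  rw [show (homOfLE (le_refl (f ⁻¹ᵁ V))).op = 𝟙 _ from rfl, CategoryTheory.Functor.map_id]
  rfl

theorem pullRes_eq_map {U : X.Opens} {V : Y.Opens} (e : U ≤ f ⁻¹ᵁ V) (m : Γ(G, V)) :
    pullRes f G e m =
      ((Scheme.Modules.pullback f).obj G).presheaf.map (homOfLE e).op (OmegaSh.pullSect f G V m) := rfl

variable [G.IsQuasicoherent]

/-- Sections of `f^* G` over `f⁻¹ V` (both affine) are spanned by pulled back sections. -/
theorem span_range_pullSect {V : Y.Opens} (hV : IsAffineOpen V) (hU : IsAffineOpen (f ⁻¹ᵁ V)) :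
    Submodule.span Γ(X, f ⁻¹ᵁ V) (Set.range (OmegaSh.pullSect f G V)) = ⊤ := by
  have h := span_range_pullRes f G hU hV (le_refl _)
  have e : Set.range (pullRes f G (le_refl (f ⁻¹ᵁ V))) = Set.range (OmegaSh.pullSect f G V) := by
    ext x
    simp only [Set.mem_range, pullRes_refl]
  rw [e] at h
  exact h

/-- Universal property of the sections of `f^* G` over `f⁻¹ V` (both affine). -/
theorem existsUnique_of_semilinear_pullSect {V : Y.Opens} (hV : IsAffineOpen V)
    (hU : IsAffineOpen (f ⁻¹ᵁ V)) (N : Type u) [AddCommGroup N] [Module Γ(X, f ⁻¹ᵁ V) N]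
    (l : Γ(G, V) →+ N) (hl : ∀ (a : Γ(Y, V)) (m : Γ(G, V)), l (a • m) = f.app V a • l m) :
    ∃! α : Γ((Scheme.Modules.pullback f).obj G, f ⁻¹ᵁ V) →ₗ[Γ(X, f ⁻¹ᵁ V)] N,
      ∀ m, α (OmegaSh.pullSect f G V m) = l m := by
  have h := existsUnique_of_semilinear f G hU hV (le_refl _) N l (fun a m => by
    rw [hl, Scheme.Hom.appLE_eq_app])
  simpa only [pullRes_refl] using h

end PullSect

section Conormal

variable {Z X : Scheme.{u}} (i : Z ⟶ X)

theorem conormalSect_smul (V : X.Opens) (a : Γ(X, V)) (s : Γ(ClSub.idealMod i.ker, V)) :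
    OmegaSh.conormalSect i V (a • s) = i.app V a • OmegaSh.conormalSect i V s :=
  OmegaSh.pullSect_smul i _ V a s

theorem conormalSect_map {V V' : X.Opens} (h : V' ≤ V) (s : Γ(ClSub.idealMod i.ker, V)) :
    OmegaSh.conormalSect i V' ((ClSub.idealMod i.ker).presheaf.map (homOfLE h).op s) =
      (Omega.conormal i).presheaf.map (homOfLE (i.preimage_mono h)).op
        (OmegaSh.conormalSect i V s) :=
  OmegaSh.pullSect_map i _ h s

/-- The class in `Γ(C_{Z/X}, U)` of a section of the ideal over `V`, for `U ≤ i⁻¹ V`. -/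
noncomputable def conormalRes {U : Z.Opens} {V : X.Opens} (e : U ≤ i ⁻¹ᵁ V) :
    Γ(ClSub.idealMod i.ker, V) →+ Γ(Omega.conormal i, U) :=
  pullRes i (ClSub.idealMod i.ker) e

theorem conormalRes_eq_map {U : Z.Opens} {V : X.Opens} (e : U ≤ i ⁻¹ᵁ V)
    (s : Γ(ClSub.idealMod i.ker, V)) :
    conormalRes i e s =
      (Omega.conormal i).presheaf.map (homOfLE e).op (OmegaSh.conormalSect i V s) := rfl

theorem conormalRes_smul {U : Z.Opens} {V : X.Opens} (e : U ≤ i ⁻¹ᵁ V) (a : Γ(X, V))
    (s : Γ(ClSub.idealMod i.ker, V)) :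
    conormalRes i e (a • s) = i.appLE V U e a • conormalRes i e s :=
  pullRes_smul i (ClSub.idealMod i.ker) e a s

theorem span_range_conormalRes {U : Z.Opens} {V : X.Opens} (hU : IsAffineOpen U)
    (hV : IsAffineOpen V) (e : U ≤ i ⁻¹ᵁ V) :
    Submodule.span Γ(Z, U) (Set.range (conormalRes i e)) =
      (⊤ : Submodule Γ(Z, U) Γ(Omega.conormal i, U)) :=
  span_range_pullRes i (ClSub.idealMod i.ker) hU hV e

theorem existsUnique_of_semilinear_conormalRes {U : Z.Opens} {V : X.Opens} (hU : IsAffineOpen U)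
    (hV : IsAffineOpen V) (e : U ≤ i ⁻¹ᵁ V)
    (N : Type u) [AddCommGroup N] [Module Γ(Z, U) N]
    (l : Γ(ClSub.idealMod i.ker, V) →+ N)
    (hl : ∀ (a : Γ(X, V)) (m : Γ(ClSub.idealMod i.ker, V)), l (a • m) = i.appLE V U e a • l m) :
    ∃! α : Γ(Omega.conormal i, U) →ₗ[Γ(Z, U)] N, ∀ m, α (conormalRes i e m) = l m :=
  existsUnique_of_semilinear i (ClSub.idealMod i.ker) hU hV e N l hl

theorem conormalRes_map_left {U : Z.Opens} {V V' : X.Opens} (hV : V' ≤ V) (e : U ≤ i ⁻¹ᵁ V')
    (s : Γ(ClSub.idealMod i.ker, V)) :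
    conormalRes i e ((ClSub.idealMod i.ker).presheaf.map (homOfLE hV).op s) =
      conormalRes i (e.trans (i.preimage_mono hV)) s := by
  rw [conormalRes_eq_map, conormalRes_eq_map, conormalSect_map, modules_map_map]

theorem conormalRes_map_right {U U' : Z.Opens} {V : X.Opens} (hU : U' ≤ U) (e : U ≤ i ⁻¹ᵁ V)
    (s : Γ(ClSub.idealMod i.ker, V)) :
    (Omega.conormal i).presheaf.map (homOfLE hU).op (conormalRes i e s) =
      conormalRes i (hU.trans e) s := by
  rw [conormalRes_eq_map, conormalRes_eq_map, modules_map_map]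

theorem conormalRes_refl (V : X.Opens) (s : Γ(ClSub.idealMod i.ker, V)) :
    conormalRes i (le_refl (i ⁻¹ᵁ V)) s = OmegaSh.conormalSect i V s :=
  pullRes_refl i (ClSub.idealMod i.ker) V s

/-- The class of a product of two sections of the ideal vanishes in the conormal sheaf. -/
theorem conormalSect_idealSect_smul (V : X.Opens) (t s : Γ(ClSub.idealMod i.ker, V)) :
    OmegaSh.conormalSect i V (OmegaSh.idealSect i.ker V t • s) = 0 := by
  rw [conormalSect_smul, app_idealSect, zero_smul]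

theorem span_range_conormalSect {V : X.Opens} (hV : IsGoodFor i V) :
    Submodule.span Γ(Z, i ⁻¹ᵁ V) (Set.range (OmegaSh.conormalSect i V)) = ⊤ :=
  span_range_pullSect i (ClSub.idealMod i.ker) hV.1 hV.2.1

/-- Universal property of the sections of the conormal sheaf over a good open. -/
theorem existsUnique_of_semilinear_conormal {V : X.Opens} (hV : IsGoodFor i V)
    (N : Type u) [AddCommGroup N] [Module Γ(Z, i ⁻¹ᵁ V) N]
    (l : Γ(ClSub.idealMod i.ker, V) →+ N)
    (hl : ∀ (a : Γ(X, V)) (m : Γ(ClSub.idealMod i.ker, V)), l (a • m) = i.app V a • l m) :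
    ∃! α : Γ(Omega.conormal i, i ⁻¹ᵁ V) →ₗ[Γ(Z, i ⁻¹ᵁ V)] N,
      ∀ m, α (OmegaSh.conormalSect i V m) = l m :=
  existsUnique_of_semilinear_pullSect i (ClSub.idealMod i.ker) hV.1 hV.2.1 N l hl

/-- Over a good open every section of the conormal sheaf is the class of a section of the
ideal. -/
theorem conormalSect_surjective {V : X.Opens} (hV : IsGoodFor i V) :
    Function.Surjective (OmegaSh.conormalSect i V) := by
  intro x
  have hx : x ∈ Submodule.span Γ(Z, i ⁻¹ᵁ V) (Set.range (OmegaSh.conormalSect i V)) := by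
    rw [span_range_conormalSect i hV]; trivial
  induction hx using Submodule.span_induction with
  | mem y hy => exact hy
  | zero => exact ⟨0, map_zero _⟩
  | add y z _ _ hy hz =>
    obtain ⟨a, rfl⟩ := hy
    obtain ⟨b, rfl⟩ := hz
    exact ⟨a + b, map_add _ _ _⟩
  | smul r y _ hy =>
    obtain ⟨a, rfl⟩ := hy
    obtain ⟨r', rfl⟩ := hV.2.2 r
    exact ⟨r' • a, conormalSect_smul i V r' a⟩

end Conormal

end Groth.Agent.Lib.Helper48.Conormal
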