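import Groth.Agent.Lib.Helper48.Conormal4

/-!
# The conormal sequence `C_{X/Y} → j^* Ω_{Y/Z} → Ω_{X/Z} → 0` on sections over good opens
-/

set_option autoImplicit false
universe u

open AlgebraicGeometry CategoryTheory Opposite TopologicalSpace CategoryTheory.Limits

namespace Groth.Agent.Lib.Helper48.Conormal

open Groth.Agent.Lib.Helper48.OmegaAff Scheme.Modules

section AppL

variable {X : Scheme.{u}}

/-- The component of a morphism of modules over an open, as a linear map. -/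
noncomputable def appL {M N : X.Modules} (φ : M ⟶ N) (U : X.Opens) :
    Γ(M, U) →ₗ[Γ(X, U)] Γ(N, U) where
  toFun := φ.app U
  map_add' x y := map_add _ x y
  map_smul' r x := Scheme.Modules.Hom.app_smul φ r x

theorem appL_apply {M N : X.Modules} (φ : M ⟶ N) (U : X.Opens) (x : Γ(M, U)) :
    appL φ U x = φ.app U x := rfl

end AppL

section SecondSeq

variable {X Y Z : Scheme.{u}} (f : Y ⟶ Z) (j : X ⟶ Y)
  {ΩY : Y.Modules} (dY : OmegaSh.Der f ΩY) (hY : OmegaSh.IsUniversal dY)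
  {ΩX : X.Modules} (dX : OmegaSh.Der (j ≫ f) ΩX) (hX : OmegaSh.IsUniversal dX)
  (φ : Omega.conormal j ⟶ (Scheme.Modules.pullback j).obj ΩY)
  (hφ : OmegaSh.IsConormalDiff j dY φ)
  (c : (Scheme.Modules.pullback j).obj ΩY ⟶ ΩX) (hc : OmegaSh.IsDiffCompat j dY dX c)
  {V : Y.Opens} (hV : IsGoodFor j V) {W : Z.Opens} (hW : IsAffineOpen W) (hVW : V ≤ f ⁻¹ᵁ W)

include hY hV hW hVW in
theorem span_pullSect_d :
    Submodule.span Γ(X, j ⁻¹ᵁ V)
      (Set.range (fun b : Γ(Y, V) => OmegaSh.pullSect j ΩY V (dY.app V b))) = ⊤ := by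
  haveI := isQuasicoherent_of_universal f dY hY
  have h := span_pullSect_of_span j ΩY hV.1 hV.2.1 (Set.range (dY.app V))
    (span_range_d_universal f dY hY hV.1 hW hVW)
  rw [← Set.range_comp] at h
  exact h

include hc in
theorem c_app_pullSect_d (b : Γ(Y, V)) :
    c.app (j ⁻¹ᵁ V) (OmegaSh.pullSect j ΩY V (dY.app V b)) = dX.app (j ⁻¹ᵁ V) (j.app V b) :=
  hc V b

include hVW in
theorem le_preimage_comp : j ⁻¹ᵁ V ≤ (j ≫ f) ⁻¹ᵁ W := fun _ hx => hVW hx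

include hX hc hV hW hVW in
theorem c_app_surjective : Function.Surjective (c.app (j ⁻¹ᵁ V)) := by
  have hspan := span_range_d_universal (j ≫ f) dX hX hV.2.1 hW (le_preimage_comp f j hVW)
  have hle : Submodule.span Γ(X, j ⁻¹ᵁ V) (Set.range (dX.app (j ⁻¹ᵁ V))) ≤
      LinearMap.range (appL c (j ⁻¹ᵁ V)) := by
    rw [Submodule.span_le]
    rintro _ ⟨b', rfl⟩
    obtain ⟨b, rfl⟩ := hV.2.2 b'
    exact ⟨_, c_app_pullSect_d f j dY dX c hc b⟩
  rw [hspan, top_le_iff, LinearMap.range_eq_top] at hle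
  exact hle

include hφ hc hV in
theorem φ_c_app (y : Γ(Omega.conormal j, j ⁻¹ᵁ V)) :
    c.app (j ⁻¹ᵁ V) (φ.app (j ⁻¹ᵁ V) y) = 0 := by
  obtain ⟨s, rfl⟩ := conormalSect_surjective j hV y
  rw [hφ V s, c_app_pullSect_d f j dY dX c hc, app_idealSect, map_zero]

include hY hX hφ hc hV hW hVW in
theorem exact_app [QuasiCompact j] (y : Γ((Scheme.Modules.pullback j).obj ΩY, j ⁻¹ᵁ V))
    (hy : c.app (j ⁻¹ᵁ V) y = 0) : ∃ t, φ.app (j ⁻¹ᵁ V) t = y := by
  set S : Submodule Γ(X, j ⁻¹ᵁ V) Γ((Scheme.Modules.pullback j).obj ΩY, j ⁻¹ᵁ V) :=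
    LinearMap.range (appL φ (j ⁻¹ᵁ V)) with hS
  -- the additive map `b ↦ [j^*(d b)]`
  let g : Γ(Y, V) →+ Γ((Scheme.Modules.pullback j).obj ΩY, j ⁻¹ᵁ V) ⧸ S :=
    S.mkQ.toAddMonoidHom.comp
      ((OmegaSh.pullSect j ΩY V).hom.comp (dY.app V))
  have hg_apply : ∀ b, g b = S.mkQ (OmegaSh.pullSect j ΩY V (dY.app V b)) := fun _ => rfl
  have hgker : ∀ b : Γ(Y, V), j.app V b = 0 → g b = 0 := by
    intro b hb
    obtain ⟨s, rfl⟩ := exists_idealSect_eq j V b hb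
    rw [hg_apply, ← hφ V s]
    exact (Submodule.Quotient.mk_eq_zero S).mpr ⟨_, rfl⟩
  have hsurj : Function.Surjective (j.app V).hom.toAddMonoidHom := hV.2.2
  let D : Γ(X, j ⁻¹ᵁ V) →+ Γ((Scheme.Modules.pullback j).obj ΩY, j ⁻¹ᵁ V) ⧸ S :=
    (j.app V).hom.toAddMonoidHom.liftOfRightInverse (Function.surjInv hsurj)
      (Function.rightInverse_surjInv hsurj) ⟨g, fun b hb => hgker b hb⟩
  have hD : ∀ b, D (j.app V b) = g b := fun b =>
    AddMonoidHom.liftOfRightInverse_comp_apply _ _ (Function.rightInverse_surjInv hsurj) _ b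
  have hDmul : ∀ x y, D (x * y) = x • D y + y • D x := by
    intro x y
    obtain ⟨a, rfl⟩ := hV.2.2 x
    obtain ⟨b, rfl⟩ := hV.2.2 y
    rw [← map_mul, hD, hD, hD, hg_apply, hg_apply, hg_apply, der_app_mul, map_add,
      OmegaSh.pullSect_smul, OmegaSh.pullSect_smul, map_add, _root_.map_smul, _root_.map_smul]
  have hDkill : ∀ a, D ((j ≫ f).appLE W (j ⁻¹ᵁ V) (le_preimage_comp f j hVW) a) = 0 := by
    intro a
    have e : (j ≫ f).appLE W (j ⁻¹ᵁ V) (le_preimage_comp f j hVW) a = j.app V (f.appLE W V hVW a) := by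
      rw [← Scheme.Hom.appLE_comp_appLE j f W V (j ⁻¹ᵁ V) hVW le_rfl, Scheme.Hom.appLE_eq_app]
      rfl
    rw [e, hD, hg_apply, der_app_appLE, map_zero, map_zero]
  obtain ⟨γ, hγ, -⟩ := existsUnique_of_derivation_universal (j ≫ f) dX hX hV.2.1 hW
    (le_preimage_comp f j hVW) (Γ((Scheme.Modules.pullback j).obj ΩY, j ⁻¹ᵁ V) ⧸ S) D hDmul hDkill
  have hcomp : γ ∘ₗ appL c (j ⁻¹ᵁ V) = S.mkQ := by
    apply LinearMap.ext_on (span_pullSect_d f j dY hY hV hW hVW)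
    rintro _ ⟨b, rfl⟩
    change γ (c.app (j ⁻¹ᵁ V) (OmegaSh.pullSect j ΩY V (dY.app V b))) = _
    rw [c_app_pullSect_d f j dY dX c hc, hγ, hD, hg_apply]
  have hyS : S.mkQ y = 0 := by
    rw [← hcomp]
    change γ (c.app (j ⁻¹ᵁ V) y) = 0
    rw [hy, map_zero]
  have : y ∈ S := (Submodule.Quotient.mk_eq_zero S).mp hyS
  obtain ⟨t, ht⟩ := this
  exact ⟨t, ht⟩

end SecondSeq

end Groth.Agent.Lib.Helper48.Conormal
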