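import Groth.Agent.Lib.Helper48.Conormal5

/-!
# The sequence `j^* C_{Y/X} → C_{Y'/X} → C_{Y'/Y} → 0` on sections
-/

set_option autoImplicit false
universe u

open AlgebraicGeometry CategoryTheory Opposite TopologicalSpace CategoryTheory.Limits

namespace Groth.Agent.Lib.Helper48.Conormal

open Groth.Agent.Lib.Helper48.OmegaAff Scheme.Modules

/-- Descent of an additive map along an additive relation with enough lifts. -/
theorem exists_descend {A A' Q : Type*} [AddCommGroup A] [AddCommGroup A'] [AddCommGroup Q]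
    (R : A → A' → Prop) (h0 : R 0 0) (hadd : ∀ s₁ s₂ t₁ t₂, R s₁ t₁ → R s₂ t₂ → R (s₁ + s₂) (t₁ + t₂))
    (hlift : ∀ t, ∃ s, R s t) (g₀ : A →+ Q) (hwd : ∀ s₁ s₂ t, R s₁ t → R s₂ t → g₀ s₁ = g₀ s₂) :
    ∃ ℓ : A' →+ Q, ∀ s t, R s t → ℓ t = g₀ s := by
  classical
  let c : A' → A := fun t => (hlift t).choose
  have hc : ∀ t, R (c t) t := fun t => (hlift t).choose_spec
  refine ⟨AddMonoidHom.mk' (fun t => g₀ (c t)) (fun t₁ t₂ => ?_), fun s t hst => ?_⟩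
  · rw [← map_add]
    exact hwd _ _ _ (hc _) (hadd _ _ _ _ (hc t₁) (hc t₂))
  · exact hwd _ _ _ (hc t) hst

section ConormalMap

variable {Z X Z' X' : Scheme.{u}} (i : Z ⟶ X) (i' : Z' ⟶ X') (g : X ⟶ X') (gZ : Z ⟶ Z')
  (φ : (Scheme.Modules.pullback gZ).obj (Omega.conormal i') ⟶ Omega.conormal i)
  (hφ : OmegaSh.IsConormalMap i i' g gZ φ)

include hφ in
/-- The defining property of a canonical map of conormal sheaves, over an arbitrary open. -/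
theorem isConormalMap_pullRes (U' : X'.Opens) (s' : Γ(ClSub.idealMod i'.ker, U'))
    (s : Γ(ClSub.idealMod i.ker, g ⁻¹ᵁ U'))
    (hs : OmegaSh.idealSect i.ker (g ⁻¹ᵁ U') s = g.app U' (OmegaSh.idealSect i'.ker U' s'))
    (V : Z.Opens) (h₁ : V ≤ gZ ⁻¹ᵁ (i' ⁻¹ᵁ U')) (h₂ : V ≤ i ⁻¹ᵁ (g ⁻¹ᵁ U')) :
    φ.app V (pullRes gZ (Omega.conormal i') h₁ (OmegaSh.conormalSect i' U' s')) =
      conormalRes i h₂ s := by
  have h := hφ.2 U' s' s hs V h₁ h₂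
  rw [pullRes_eq_map, hom_app_map, conormalRes_eq_map]
  exact h

end ConormalMap

section ThreeConormal

variable {Y' Y X : Scheme.{u}} (f : Y ⟶ X) (j : Y' ⟶ Y)
  (φ₁ : (Scheme.Modules.pullback j).obj (Omega.conormal f) ⟶ Omega.conormal (j ≫ f))
  (hφ₁ : OmegaSh.IsConormalMap (j ≫ f) f (𝟙 X) j φ₁)
  (φ₂ : (Scheme.Modules.pullback (𝟙 Y')).obj (Omega.conormal (j ≫ f)) ⟶ Omega.conormal j)
  (hφ₂ : OmegaSh.IsConormalMap j (j ≫ f) f (𝟙 Y') φ₂)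
  {V : X.Opens} (hV : IsGoodFor f V) {U : Y'.Opens} (hU : IsAffineOpen U)
  (e : U ≤ (j ≫ f) ⁻¹ᵁ V)

/-- The second map of the sequence, as a map out of `C_{Y'/X}`. -/
noncomputable abbrev ψ₂ : Omega.conormal (j ≫ f) ⟶ Omega.conormal j :=
  (Scheme.Modules.pullbackId Y').inv.app (Omega.conormal (j ≫ f)) ≫ φ₂

include hφ₁ in
theorem φ₁_app (s₁ : Γ(ClSub.idealMod f.ker, V)) (s : Γ(ClSub.idealMod (j ≫ f).ker, V))
    (hs : OmegaSh.idealSect (j ≫ f).ker V s = OmegaSh.idealSect f.ker V s₁) :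
    φ₁.app U (pullRes j (Omega.conormal f) (V := f ⁻¹ᵁ V) e (OmegaSh.conormalSect f V s₁)) =
      conormalRes (j ≫ f) e s :=
  isConormalMap_pullRes (j ≫ f) f (𝟙 X) j φ₁ hφ₁ V s₁ s hs U e e

include hφ₂ in
theorem ψ₂_app (s : Γ(ClSub.idealMod (j ≫ f).ker, V)) (s' : Γ(ClSub.idealMod j.ker, f ⁻¹ᵁ V))
    (hs : OmegaSh.idealSect j.ker (f ⁻¹ᵁ V) s' = f.app V (OmegaSh.idealSect (j ≫ f).ker V s)) :
    (ψ₂ f j φ₂).app U (conormalRes (j ≫ f) e s) =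
      conormalRes j (V := f ⁻¹ᵁ V) e s' := by
  have h := isConormalMap_pullRes j (j ≫ f) f (𝟙 Y') φ₂ hφ₂ V s s' hs U e e
  rw [← h, Scheme.Modules.Hom.comp_app]
  change φ₂.app U (((Scheme.Modules.pullbackId Y').inv.app _).app U
    (conormalRes (j ≫ f) e s)) = _
  rw [pullbackId_inv_app, conormalRes_eq_map]
  erw [OmegaSh.pullSect_map (𝟙 Y') (Omega.conormal (j ≫ f)) e]
  rfl

section Exactness

theorem comp_app_apply (b : Γ(X, V)) : (j ≫ f).app V b = j.app (f ⁻¹ᵁ V) (f.app V b) := by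
  rw [Scheme.Hom.comp_app]; rfl

theorem exists_push_ideal [QuasiCompact j] (s : Γ(ClSub.idealMod (j ≫ f).ker, V)) :
    ∃ s' : Γ(ClSub.idealMod j.ker, f ⁻¹ᵁ V),
      OmegaSh.idealSect j.ker (f ⁻¹ᵁ V) s' = f.app V (OmegaSh.idealSect (j ≫ f).ker V s) := by
  apply exists_idealSect_eq j
  rw [← comp_app_apply]
  exact app_idealSect (j ≫ f) V s

variable [QuasiCompact f] [QuasiCompact j]

include hV in
theorem exists_lift_ideal (s' : Γ(ClSub.idealMod j.ker, f ⁻¹ᵁ V)) :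
    ∃ s : Γ(ClSub.idealMod (j ≫ f).ker, V),
      OmegaSh.idealSect j.ker (f ⁻¹ᵁ V) s' = f.app V (OmegaSh.idealSect (j ≫ f).ker V s) := by
  obtain ⟨b, hb⟩ := hV.2.2 (OmegaSh.idealSect j.ker (f ⁻¹ᵁ V) s')
  have h0 : (j ≫ f).app V b = 0 := by
    rw [comp_app_apply, hb]
    exact app_idealSect j _ s'
  obtain ⟨s, hs⟩ := exists_idealSect_eq (j ≫ f) V b h0
  exact ⟨s, by rw [hs, hb]⟩


theorem exists_ideal_of_ideal (s₁ : Γ(ClSub.idealMod f.ker, V)) :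
    ∃ s : Γ(ClSub.idealMod (j ≫ f).ker, V),
      OmegaSh.idealSect (j ≫ f).ker V s = OmegaSh.idealSect f.ker V s₁ := by
  apply exists_idealSect_eq (j ≫ f)
  rw [comp_app_apply, app_idealSect f V s₁]
  exact map_zero _

include hφ₂ hV hU e in
theorem ψ₂_app_surjective : Function.Surjective ((ψ₂ f j φ₂).app U) := by
  have hspan := span_range_conormalRes j hU hV.2.1 e
  have hle : Submodule.span Γ(Y', U)
      (Set.range (conormalRes j (V := f ⁻¹ᵁ V) e)) ≤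
      LinearMap.range (appL (ψ₂ f j φ₂) U) := by
    rw [Submodule.span_le]
    rintro _ ⟨s', rfl⟩
    obtain ⟨s, hs⟩ := exists_lift_ideal f j hV s'
    exact ⟨_, ψ₂_app f j φ₂ hφ₂ e s s' hs⟩
  rw [hspan, top_le_iff, LinearMap.range_eq_top] at hle
  exact hle

include hφ₁ hφ₂ hV hU e in
theorem φ₁_ψ₂_app (x : Γ((Scheme.Modules.pullback j).obj (Omega.conormal f), U)) :
    (ψ₂ f j φ₂).app U (φ₁.app U x) = 0 := by
  have hspan := span_range_pullRes j (Omega.conormal f) hU hV.2.1 e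
  have h : appL (ψ₂ f j φ₂) U ∘ₗ appL φ₁ U = 0 := by
    apply LinearMap.ext_on hspan
    rintro _ ⟨n, rfl⟩
    obtain ⟨s₁, rfl⟩ := conormalSect_surjective f hV n
    obtain ⟨s, hs⟩ := exists_ideal_of_ideal f j s₁
    change (ψ₂ f j φ₂).app U (φ₁.app U _) = 0
    rw [φ₁_app f j φ₁ hφ₁ e s₁ s hs]
    have h0 : OmegaSh.idealSect j.ker (f ⁻¹ᵁ V) 0 =
        f.app V (OmegaSh.idealSect (j ≫ f).ker V s) := by
      rw [hs, app_idealSect, map_zero]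
    rw [ψ₂_app f j φ₂ hφ₂ e s 0 h0, map_zero]
  exact congr($h x)

include hφ₁ hφ₂ hV hU e in
theorem three_exact_app (y : Γ(Omega.conormal (j ≫ f), U))
    (hy : (ψ₂ f j φ₂).app U y = 0) : ∃ t, φ₁.app U t = y := by
  set S : Submodule Γ(Y', U) Γ(Omega.conormal (j ≫ f), U) := LinearMap.range (appL φ₁ U) with hS
  let g₀ : Γ(ClSub.idealMod (j ≫ f).ker, V) →+ Γ(Omega.conormal (j ≫ f), U) ⧸ S :=
    S.mkQ.toAddMonoidHom.comp (conormalRes (j ≫ f) e)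
  have hg₀ : ∀ s, g₀ s = S.mkQ (conormalRes (j ≫ f) e s) := fun _ => rfl
  let R : Γ(ClSub.idealMod (j ≫ f).ker, V) → Γ(ClSub.idealMod j.ker, f ⁻¹ᵁ V) → Prop :=
    fun s s' => OmegaSh.idealSect j.ker (f ⁻¹ᵁ V) s' = f.app V (OmegaSh.idealSect (j ≫ f).ker V s)
  have hwd0 : ∀ s, f.app V (OmegaSh.idealSect (j ≫ f).ker V s) = 0 → g₀ s = 0 := by
    intro s hs
    obtain ⟨s₃, hs₃⟩ := exists_idealSect_eq f V _ hs
    rw [hg₀, ← φ₁_app f j φ₁ hφ₁ e s₃ s hs₃.symm]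
    exact (Submodule.Quotient.mk_eq_zero S).mpr ⟨_, rfl⟩
  obtain ⟨ℓ, hℓ⟩ := exists_descend R (by simp [R])
    (fun s₁ s₂ t₁ t₂ h₁ h₂ => by simp only [R, map_add] at h₁ h₂ ⊢; rw [h₁, h₂])
    (fun t => exists_lift_ideal f j hV t) g₀
    (fun s₁ s₂ t h₁ h₂ => by
      rw [← sub_eq_zero, ← map_sub]
      apply hwd0
      simp only [R] at h₁ h₂
      rw [map_sub, map_sub, ← h₁, ← h₂, sub_self])
  have hℓsemi : ∀ (b₁ : Γ(Y, f ⁻¹ᵁ V)) (t : Γ(ClSub.idealMod j.ker, f ⁻¹ᵁ V)),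
      ℓ (b₁ • t) = j.appLE (f ⁻¹ᵁ V) U e b₁ • ℓ t := by
    intro b₁ t
    obtain ⟨b, rfl⟩ := hV.2.2 b₁
    obtain ⟨s, hs⟩ := exists_lift_ideal f j hV t
    have hR : R (b • s) (f.app V b • t) := by
      simp only [R]
      rw [idealSect_smul, idealSect_smul, map_mul, hs]
    rw [hℓ _ _ hR, hℓ _ _ hs, hg₀, hg₀, conormalRes_smul, _root_.map_smul]
    congr 1
  obtain ⟨γ, hγ, -⟩ := existsUnique_of_semilinear_conormalRes j hU hV.2.1 e
    (Γ(Omega.conormal (j ≫ f), U) ⧸ S) ℓ hℓsemi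
  have hcomp : γ ∘ₗ appL (ψ₂ f j φ₂) U = S.mkQ := by
    apply LinearMap.ext_on (span_range_conormalRes (j ≫ f) hU hV.1 e)
    rintro _ ⟨s, rfl⟩
    obtain ⟨s', hs'⟩ := exists_push_ideal f j s
    change γ ((ψ₂ f j φ₂).app U _) = _
    rw [ψ₂_app f j φ₂ hφ₂ e s s' hs', hγ, hℓ s s' hs', hg₀]
  have hyS : S.mkQ y = 0 := by
    rw [← hcomp]
    change γ ((ψ₂ f j φ₂).app U y) = 0
    rw [hy]
    exact map_zero γ
  obtain ⟨t, ht⟩ := (Submodule.Quotient.mk_eq_zero S).mp hyS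
  exact ⟨t, ht⟩

end Exactness

end ThreeConormal

end Groth.Agent.Lib.Helper48.Conormal
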