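import Groth.Agent.Lib.Helper48.Conormal6

/-!
# Basic opens of good opens; simultaneous good opens for `Z → X → Y`
-/

set_option autoImplicit false
set_option linter.style.haveILetI false
universe u

open AlgebraicGeometry CategoryTheory Opposite TopologicalSpace CategoryTheory.Limits

namespace Groth.Agent.Lib.Helper48.Conormal

open Groth.Agent.Lib.Helper48.OmegaAff Scheme.Modules

section BasicOpen

variable {Z Y : Scheme.{u}}

theorem IsGoodFor.basicOpen {g : Z ⟶ Y} {W₀ : Y.Opens} (h : IsGoodFor g W₀) (t : Γ(Y, W₀)) :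
    IsGoodFor g (Y.basicOpen t) := by
  refine ⟨h.1.basicOpen t, ?_, ?_⟩
  · rw [Scheme.preimage_basicOpen]; exact h.2.1.basicOpen _
  · intro x
    have hle : g ⁻¹ᵁ Y.basicOpen t ≤ g ⁻¹ᵁ W₀ := g.preimage_mono (Y.basicOpen_le t)
    have hloc := h.2.1.isLocalization_of_eq_basicOpen (g.app W₀ t) (homOfLE hle)
      (Scheme.preimage_basicOpen g t)
    letI := (Z.presheaf.map (homOfLE hle).op).hom.toAlgebra
    obtain ⟨⟨x₀, ⟨_, n, rfl⟩⟩, hx₀⟩ := IsLocalization.surj (Submonoid.powers (g.app W₀ t)) x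
    obtain ⟨b₀, rfl⟩ := h.2.2 x₀
    have hx₀' : x * (Z.presheaf.map (homOfLE hle).op (g.app W₀ t)) ^ n =
        Z.presheaf.map (homOfLE hle).op (g.app W₀ b₀) := by
      have := hx₀
      simp only [map_pow] at this
      exact this
    have hunit : IsUnit (Y.presheaf.map (homOfLE (Y.basicOpen_le t)).op t) :=
      RingedSpace.isUnit_res_basicOpen Y.toRingedSpace t
    obtain ⟨v, hu1⟩ := isUnit_iff_exists_inv.mp hunit
    have hu2 : Z.presheaf.map (homOfLE hle).op (g.app W₀ t) * g.app (Y.basicOpen t) v = 1 := by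
      rw [← app_map g (Y.basicOpen_le t) t, ← map_mul, hu1, map_one]
    refine ⟨Y.presheaf.map (homOfLE (Y.basicOpen_le t)).op b₀ * v ^ n, ?_⟩
    rw [map_mul, map_pow, app_map g (Y.basicOpen_le t) b₀, ← hx₀', mul_assoc, ← mul_pow, hu2,
      one_pow, mul_one]

theorem appLE_surjective_of_eq (g : Z ⟶ Y) (W : Y.Opens) (U : Z.Opens) (hU : U = g ⁻¹ᵁ W)
    (h : Function.Surjective (g.app W)) : Function.Surjective (g.appLE W U hU.le) := by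
  subst hU
  rwa [Scheme.Hom.appLE_eq_app]

theorem app_eq_zero_of_appLE (g : Z ⟶ Y) (W : Y.Opens) (U : Z.Opens) (hU : U = g ⁻¹ᵁ W)
    (b : Γ(Y, W)) (h : g.appLE W U hU.le b = 0) : g.app W b = 0 := by
  subst hU
  rwa [Scheme.Hom.appLE_eq_app] at h

end BasicOpen

section Pair

variable {Z X Y : Scheme.{u}} (p : X ⟶ Y) (i : Z ⟶ X) [IsImmersion i] [IsImmersion (i ≫ p)]

/-- Simultaneously good opens for `i : Z ⟶ X` and `i ≫ p : Z ⟶ Y`. -/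
theorem exists_goodPair (z : Z) (O : Z.Opens) (hz : z ∈ O) :
    ∃ (V : X.Opens) (W : Y.Opens) (hVW : V ≤ p ⁻¹ᵁ W), IsGoodFor i V ∧ IsAffineOpen W ∧
      z ∈ i ⁻¹ᵁ V ∧ i ⁻¹ᵁ V ≤ O ∧ i ⁻¹ᵁ V = (i ≫ p) ⁻¹ᵁ W ∧
      Function.Surjective ((i ≫ p).appLE W (i ⁻¹ᵁ V) (fun _ hx => hVW hx)) := by
  obtain ⟨W₀, hW₀, hzW₀, -, -⟩ := exists_goodFor (i ≫ p) z ⊤ trivial ⊤ trivial
  obtain ⟨V₀, hV₀, hzV₀, hV₀W₀, hV₀O⟩ := exists_goodFor i z O hz (p ⁻¹ᵁ W₀) hzW₀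
  have hle₀ : i ⁻¹ᵁ V₀ ≤ (i ≫ p) ⁻¹ᵁ W₀ := fun _ hx => hV₀W₀ hx
  obtain ⟨y, hyle, hzy⟩ := hW₀.2.1.exists_basicOpen_le (V := i ⁻¹ᵁ V₀) ⟨z, hzV₀⟩ hzW₀
  obtain ⟨t, rfl⟩ := hW₀.2.2 y
  have hW := hW₀.basicOpen t
  set W := Y.basicOpen t with hWdef
  set V := X.basicOpen (p.appLE W₀ V₀ hV₀W₀ t) with hVdef
  have hVle : V ≤ V₀ := X.basicOpen_le _
  have hVW : V ≤ p ⁻¹ᵁ W := by
    rw [hVdef, Scheme.basicOpen_appLE]
    exact inf_le_right
  have hjW : (i ≫ p) ⁻¹ᵁ W = Z.basicOpen ((i ≫ p).app W₀ t) := Scheme.preimage_basicOpen _ t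
  have hiV : i ⁻¹ᵁ V = (i ≫ p) ⁻¹ᵁ W := by
    apply le_antisymm
    · exact fun _ hx => hVW hx
    · intro x hx
      have hx' : x ∈ Z.basicOpen ((i ≫ p).app W₀ t) := by rw [← hjW]; exact hx
      have hxV₀ : i x ∈ V₀ := hyle hx'
      change i x ∈ V
      rw [hVdef, Scheme.basicOpen_appLE]
      exact ⟨hxV₀, hx⟩
  have hsurj : Function.Surjective ((i ≫ p).appLE W (i ⁻¹ᵁ V) (fun _ hx => hVW hx)) :=
    appLE_surjective_of_eq (i ≫ p) W (i ⁻¹ᵁ V) hiV hW.2.2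
  refine ⟨V, W, hVW, ⟨hV₀.1.basicOpen _, ?_, ?_⟩, hW.1, ?_, (i.preimage_mono hVle).trans hV₀O,
    hiV, hsurj⟩
  · rw [hiV]; exact hW.2.1
  · have hcomp : (i ≫ p).appLE W (i ⁻¹ᵁ V) (fun _ hx => hVW hx) =
        p.appLE W V hVW ≫ i.app V := by
      rw [← Scheme.Hom.appLE_comp_appLE i p W V (i ⁻¹ᵁ V) hVW le_rfl, Scheme.Hom.appLE_eq_app]
    rw [hcomp] at hsurj
    exact Function.Surjective.of_comp (g := (p.appLE W V hVW).hom) hsurj
  · rw [hiV, hjW]; exact hzy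

end Pair

end Groth.Agent.Lib.Helper48.Conormal
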