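import Groth.Agent.Lib.Helper48.Conormal7

/-!
# The sequence `C_{Z/Y} → C_{Z/X} → i^* Ω_{X/Y} → 0` on sections
-/

set_option autoImplicit false
set_option linter.style.haveILetI false
universe u

open AlgebraicGeometry CategoryTheory Opposite TopologicalSpace CategoryTheory.Limits

namespace Groth.Agent.Lib.Helper48.Conormal

open Groth.Agent.Lib.Helper48.OmegaAff Scheme.Modules

section Seq

variable {Z X Y : Scheme.{u}} (p : X ⟶ Y) (i : Z ⟶ X)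
  {Ω : X.Modules} (d : OmegaSh.Der p Ω) (hd : OmegaSh.IsUniversal d)
  (ψ : (Scheme.Modules.pullback (𝟙 Z)).obj (Omega.conormal (i ≫ p)) ⟶ Omega.conormal i)
  (hψ : OmegaSh.IsConormalMap i (i ≫ p) p (𝟙 Z) ψ)
  (φ : Omega.conormal i ⟶ (Scheme.Modules.pullback i).obj Ω) (hφ : OmegaSh.IsConormalDiff i d φ)
  {V : X.Opens} {W : Y.Opens} (hV : IsGoodFor i V) (hW : IsAffineOpen W) (hVW : V ≤ p ⁻¹ᵁ W)
  (hiV : i ⁻¹ᵁ V = (i ≫ p) ⁻¹ᵁ W)
  (hsurj : Function.Surjective ((i ≫ p).appLE W (i ⁻¹ᵁ V) (fun _ hx => hVW hx)))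

include hVW in
theorem le_comp_preimage : i ⁻¹ᵁ V ≤ (i ≫ p) ⁻¹ᵁ W := fun _ hx => hVW hx

include hVW in
theorem app_appLE (b : Γ(Y, W)) :
    i.app V (p.appLE W V hVW b) = (i ≫ p).appLE W (i ⁻¹ᵁ V) (le_comp_preimage p i hVW) b := by
  rw [← Scheme.Hom.appLE_comp_appLE i p W V (i ⁻¹ᵁ V) hVW le_rfl, Scheme.Hom.appLE_eq_app]
  rfl

include hsurj in
/-- every function on `V` is the sum of a function pulled back from `W` and a section of the
ideal -/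
theorem exists_decomp [QuasiCompact i] (c : Γ(X, V)) :
    ∃ (b : Γ(Y, W)) (s : Γ(ClSub.idealMod i.ker, V)),
      OmegaSh.idealSect i.ker V s = c - p.appLE W V hVW b := by
  obtain ⟨b, hb⟩ := hsurj (i.app V c)
  have h0 : i.app V (c - p.appLE W V hVW b) = 0 := by
    rw [map_sub, app_appLE p i hVW, hb, sub_self]
  obtain ⟨s, hs⟩ := exists_idealSect_eq i V _ h0
  exact ⟨b, s, hs⟩

include hd hφ hV hW hsurj in
theorem φ_app_surjective [QuasiCompact i] : Function.Surjective (φ.app (i ⁻¹ᵁ V)) := by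
  haveI := isQuasicoherent_of_universal p d hd
  have hspan := span_pullSect_of_span i Ω hV.1 hV.2.1 (Set.range (d.app V))
    (span_range_d_universal p d hd hV.1 hW hVW)
  have hle : Submodule.span Γ(Z, i ⁻¹ᵁ V) ((OmegaSh.pullSect i Ω V) '' (Set.range (d.app V))) ≤
      LinearMap.range (appL φ (i ⁻¹ᵁ V)) := by
    rw [Submodule.span_le]
    rintro _ ⟨_, ⟨c, rfl⟩, rfl⟩
    obtain ⟨b, s, hs⟩ := exists_decomp p i hVW hsurj c
    refine ⟨OmegaSh.conormalSect i V s, ?_⟩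
    change φ.app (i ⁻¹ᵁ V) (OmegaSh.conormalSect i V s) = _
    rw [hφ V s, hs, map_sub, der_app_appLE, sub_zero]
  rw [hspan, top_le_iff, LinearMap.range_eq_top] at hle
  exact hle

/-- The first map, as a map out of `C_{Z/Y}`. -/
noncomputable abbrev ψ' : Omega.conormal (i ≫ p) ⟶ Omega.conormal i := ψ₂ p i ψ

include hψ hVW in
theorem ψ'_app [QuasiCompact i] (s' : Γ(ClSub.idealMod (i ≫ p).ker, W))
    (s : Γ(ClSub.idealMod i.ker, V))
    (hs : OmegaSh.idealSect i.ker V s = p.appLE W V hVW (OmegaSh.idealSect (i ≫ p).ker W s')) :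
    (ψ' p i ψ).app (i ⁻¹ᵁ V) (conormalRes (i ≫ p) (le_comp_preimage p i hVW) s') =
      OmegaSh.conormalSect i V s := by
  obtain ⟨s₃, hs₃⟩ := exists_push_ideal p i s'
  rw [ψ₂_app p i ψ hψ (le_comp_preimage p i hVW) s' s₃ hs₃, conormalRes_eq_map]
  have e1 : s = (ClSub.idealMod i.ker).presheaf.map (homOfLE hVW).op s₃ := by
    apply idealSect_injective
    rw [idealSect_map, hs, hs₃]
    rfl
  rw [e1, conormalSect_map]

include hψ hφ hV hW hVW in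
theorem ψ'_φ_app [QuasiCompact i] (x : Γ(Omega.conormal (i ≫ p), i ⁻¹ᵁ V)) :
    φ.app (i ⁻¹ᵁ V) ((ψ' p i ψ).app (i ⁻¹ᵁ V) x) = 0 := by
  have hspan := span_range_conormalRes (i ≫ p) hV.2.1 hW (le_comp_preimage p i hVW)
  have h : appL φ (i ⁻¹ᵁ V) ∘ₗ appL (ψ' p i ψ) (i ⁻¹ᵁ V) = 0 := by
    apply LinearMap.ext_on hspan
    rintro _ ⟨s', rfl⟩
    have h0 : i.app V (p.appLE W V hVW (OmegaSh.idealSect (i ≫ p).ker W s')) = 0 := by
      have := app_idealSect (i ≫ p) W s'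
      rw [app_appLE p i hVW, Scheme.Hom.appLE]
      change Z.presheaf.map _ ((i ≫ p).app W _) = 0
      rw [this, map_zero]
    obtain ⟨s, hs⟩ := exists_idealSect_eq i V _ h0
    change φ.app (i ⁻¹ᵁ V) ((ψ' p i ψ).app (i ⁻¹ᵁ V) _) = 0
    rw [ψ'_app p i ψ hψ hVW s' s hs, hφ V s, hs, der_app_appLE, map_zero]
  exact congr($h x)

include hd hψ hφ hV hW hVW hiV hsurj in
theorem seq_exact_app [QuasiCompact i] [QuasiCompact (i ≫ p)] (y : Γ(Omega.conormal i, i ⁻¹ᵁ V))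
    (hy : φ.app (i ⁻¹ᵁ V) y = 0) : ∃ t, (ψ' p i ψ).app (i ⁻¹ᵁ V) t = y := by
  haveI := isQuasicoherent_of_universal p d hd
  set S : Submodule Γ(Z, i ⁻¹ᵁ V) Γ(Omega.conormal i, i ⁻¹ᵁ V) :=
    LinearMap.range (appL (ψ' p i ψ) (i ⁻¹ᵁ V)) with hS
  let g₀ : Γ(ClSub.idealMod i.ker, V) →+ Γ(Omega.conormal i, i ⁻¹ᵁ V) ⧸ S :=
    S.mkQ.toAddMonoidHom.comp (OmegaSh.conormalSect i V).hom
  have hg₀ : ∀ s, g₀ s = S.mkQ (OmegaSh.conormalSect i V s) := fun _ => rfl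
  let R : Γ(ClSub.idealMod i.ker, V) → Γ(X, V) → Prop :=
    fun s c => ∃ b : Γ(Y, W), OmegaSh.idealSect i.ker V s = c - p.appLE W V hVW b
  have hwd0 : ∀ (s : Γ(ClSub.idealMod i.ker, V)) (b : Γ(Y, W)),
      OmegaSh.idealSect i.ker V s = p.appLE W V hVW b → g₀ s = 0 := by
    intro s b hsb
    have h1 : (i ≫ p).appLE W (i ⁻¹ᵁ V) (le_comp_preimage p i hVW) b = 0 := by
      rw [← app_appLE p i hVW, ← hsb, app_idealSect]
    have h2 : (i ≫ p).app W b = 0 := app_eq_zero_of_appLE (i ≫ p) W (i ⁻¹ᵁ V) hiV b h1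
    obtain ⟨s', hs'⟩ := exists_idealSect_eq (i ≫ p) W b h2
    rw [hg₀, ← ψ'_app p i ψ hψ hVW s' s (by rw [hs', hsb])]
    exact (Submodule.Quotient.mk_eq_zero S).mpr ⟨_, rfl⟩
  obtain ⟨δ, hδ⟩ := exists_descend R ⟨0, by simp⟩
    (fun s₁ s₂ c₁ c₂ h₁ h₂ => by
      obtain ⟨b₁, h₁⟩ := h₁
      obtain ⟨b₂, h₂⟩ := h₂
      exact ⟨b₁ + b₂, by rw [map_add, map_add, h₁, h₂]; ring⟩)
    (fun c => by
      obtain ⟨b, s, hs⟩ := exists_decomp p i hVW hsurj c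
      exact ⟨s, b, hs⟩) g₀
    (fun s₁ s₂ c h₁ h₂ => by
      obtain ⟨b₁, h₁⟩ := h₁
      obtain ⟨b₂, h₂⟩ := h₂
      rw [← sub_eq_zero, ← map_sub]
      apply hwd0 _ (b₂ - b₁)
      rw [map_sub, map_sub, h₁, h₂]; ring)
  letI : Module Γ(X, V) (Γ(Omega.conormal i, i ⁻¹ᵁ V) ⧸ S) := Module.compHom _ (i.app V).hom
  have hsmul : ∀ (c : Γ(X, V)) (q : Γ(Omega.conormal i, i ⁻¹ᵁ V) ⧸ S),
      c • q = i.app V c • q := fun _ _ => rfl
  have hδmul : ∀ c₁ c₂, δ (c₁ * c₂) = c₁ • δ c₂ + c₂ • δ c₁ := by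
    intro c₁ c₂
    obtain ⟨b₁, s₁, hs₁⟩ := exists_decomp p i hVW hsurj c₁
    obtain ⟨b₂, s₂, hs₂⟩ := exists_decomp p i hVW hsurj c₂
    have hR : R (p.appLE W V hVW b₁ • s₂ + p.appLE W V hVW b₂ • s₁ +
        OmegaSh.idealSect i.ker V s₁ • s₂) (c₁ * c₂) := by
      refine ⟨b₁ * b₂, ?_⟩
      rw [map_add, map_add, idealSect_smul, idealSect_smul, idealSect_smul, hs₁, hs₂, map_mul]
      ring
    have e1 : i.app V (p.appLE W V hVW b₁) = i.app V c₁ := by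
      have := congrArg (i.app V) hs₁
      rw [app_idealSect, map_sub] at this
      exact (sub_eq_zero.mp this.symm).symm
    have e2 : i.app V (p.appLE W V hVW b₂) = i.app V c₂ := by
      have := congrArg (i.app V) hs₂
      rw [app_idealSect, map_sub] at this
      exact (sub_eq_zero.mp this.symm).symm
    have e3 : OmegaSh.conormalSect i V (p.appLE W V hVW b₁ • s₂ + p.appLE W V hVW b₂ • s₁ +
        OmegaSh.idealSect i.ker V s₁ • s₂) =
        i.app V c₁ • OmegaSh.conormalSect i V s₂ + i.app V c₂ • OmegaSh.conormalSect i V s₁ := by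
      rw [map_add, map_add, conormalSect_smul, conormalSect_smul, conormalSect_idealSect_smul,
        add_zero, e1, e2]
    rw [hδ _ _ hR, hδ _ _ ⟨b₁, hs₁⟩, hδ _ _ ⟨b₂, hs₂⟩, hg₀, hg₀, hg₀, e3, map_add,
      _root_.map_smul, _root_.map_smul, hsmul, hsmul]
  have hδkill : ∀ b, δ (p.appLE W V hVW b) = 0 := by
    intro b
    have hR : R 0 (p.appLE W V hVW b) := ⟨b, by simp⟩
    rw [hδ _ _ hR, map_zero]
  obtain ⟨α, hα, -⟩ := existsUnique_of_derivation_universal p d hd hV.1 hW hVW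
    (Γ(Omega.conormal i, i ⁻¹ᵁ V) ⧸ S) δ hδmul hδkill
  obtain ⟨γ, hγ, -⟩ := existsUnique_of_semilinear_pullSect i Ω hV.1 hV.2.1
    (Γ(Omega.conormal i, i ⁻¹ᵁ V) ⧸ S) α.toAddMonoidHom (fun c m => by
      change α (c • m) = _
      rw [α.map_smul, hsmul]
      rfl)
  have hcomp : γ ∘ₗ appL φ (i ⁻¹ᵁ V) = S.mkQ := by
    apply LinearMap.ext_on (span_range_conormalSect i hV)
    rintro _ ⟨s, rfl⟩
    change γ (φ.app (i ⁻¹ᵁ V) (OmegaSh.conormalSect i V s)) = _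
    rw [hφ V s, hγ]
    change α (d.app V _) = _
    rw [hα, hδ s _ ⟨0, by simp⟩, hg₀]
  have hyS : S.mkQ y = 0 := by
    rw [← hcomp]
    change γ (φ.app (i ⁻¹ᵁ V) y) = 0
    rw [hy]
    exact map_zero γ
  obtain ⟨t, ht⟩ := (Submodule.Quotient.mk_eq_zero S).mp hyS
  exact ⟨t, ht⟩

end Seq

end Groth.Agent.Lib.Helper48.Conormal
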