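import Groth.Agent.Lib.Helper48.Nbhd8
import Groth.Agent.Lib.Helper48.Conormal10

/-!
# Existence and uniqueness of the canonical map of pulled back ideal modules (`IsIdMap`)
-/

set_option autoImplicit false
universe u

open AlgebraicGeometry CategoryTheory Opposite TopologicalSpace CategoryTheory.Limits

namespace Groth.Agent.Lib.Helper48.ConormalMap

open Groth.Agent.Lib.Helper48.OmegaAff Groth.Agent.Lib.Helper48.Conormal
  Groth.Agent.Lib.Helper48.Nbhd Groth.Agent.Lib.Helper48.SL Scheme.Modules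

section Pull

variable {X X' : Scheme.{u}} (v : X' ⟶ X) (K : X.IdealSheafData) (K' : X'.IdealSheafData)
  (hK : K.comap v ≤ K')

/-- `v♯` on sections of ideals. -/
noncomputable def pullIdeal (U : X.Opens) (m : Γ(ClSub.idealMod K, U)) :
    Γ(ClSub.idealMod K', v ⁻¹ᵁ U) :=
  (exists_pull_idealSect v K K' hK U m).choose

theorem idealSect_pullIdeal (U : X.Opens) (m : Γ(ClSub.idealMod K, U)) :
    OmegaSh.idealSect K' (v ⁻¹ᵁ U) (pullIdeal v K K' hK U m) =
      v.app U (OmegaSh.idealSect K U m) :=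
  (exists_pull_idealSect v K K' hK U m).choose_spec

theorem pullIdeal_add (U : X.Opens) (m m' : Γ(ClSub.idealMod K, U)) :
    pullIdeal v K K' hK U (m + m') = pullIdeal v K K' hK U m + pullIdeal v K K' hK U m' := by
  apply idealSect_injective
  rw [map_add, idealSect_pullIdeal, idealSect_pullIdeal, idealSect_pullIdeal, map_add, map_add]

theorem pullIdeal_zero (U : X.Opens) : pullIdeal v K K' hK U 0 = 0 := by
  apply idealSect_injective
  rw [idealSect_pullIdeal, map_zero, map_zero, map_zero]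

theorem pullIdeal_smul (U : X.Opens) (r : Γ(X, U)) (m : Γ(ClSub.idealMod K, U)) :
    pullIdeal v K K' hK U (r • m) = v.app U r • pullIdeal v K K' hK U m := by
  apply idealSect_injective
  rw [idealSect_pullIdeal, idealSect_smul, idealSect_smul, idealSect_pullIdeal, map_mul]

theorem pullIdeal_map {U V : X.Opens} (h : V ≤ U) (m : Γ(ClSub.idealMod K, U)) :
    pullIdeal v K K' hK V ((ClSub.idealMod K).presheaf.map (homOfLE h).op m) =
      (ClSub.idealMod K').presheaf.map (homOfLE (v.preimage_mono h)).op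
        (pullIdeal v K K' hK U m) := by
  apply idealSect_injective
  rw [idealSect_pullIdeal, idealSect_map, idealSect_map, idealSect_pullIdeal]
  exact congr($(v.naturality (homOfLE h).op) (OmegaSh.idealSect K U m))

theorem eq_pullIdeal (U : X.Opens) (m : Γ(ClSub.idealMod K, U))
    (s' : Γ(ClSub.idealMod K', v ⁻¹ᵁ U))
    (h : OmegaSh.idealSect K' (v ⁻¹ᵁ U) s' = v.app U (OmegaSh.idealSect K U m)) :
    s' = pullIdeal v K K' hK U m := by
  apply idealSect_injective
  rw [h, idealSect_pullIdeal]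

end Pull

section Exist

variable {Y X Y' X' : Scheme.{u}} (f' : Y' ⟶ X') (f : Y ⟶ X) (v : X' ⟶ X) (u : Y' ⟶ Y)
  (K' : X'.IdealSheafData) (K : X.IdealSheafData) (w : u ≫ f = f' ≫ v) (hK : K.comap v ≤ K')

include w in
theorem le_of_sq (U : X.Opens) : u ⁻¹ᵁ (f ⁻¹ᵁ U) ≤ f' ⁻¹ᵁ (v ⁻¹ᵁ U) := by
  rw [← Scheme.Hom.comp_preimage, w, Scheme.Hom.comp_preimage]

include w in
theorem app_app_eq (U : X.Opens) (r : Γ(X, U)) :
    Y'.presheaf.map (homOfLE (le_of_sq f' f v u w U)).op (f'.app (v ⁻¹ᵁ U) (v.app U r)) =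
      u.app (f ⁻¹ᵁ U) (f.app U r) := by
  have e0 : u ⁻¹ᵁ (f ⁻¹ᵁ U) ≤ (u ≫ f) ⁻¹ᵁ U := by rw [Scheme.Hom.comp_preimage]
  have e1 : u ⁻¹ᵁ (f ⁻¹ᵁ U) ≤ (f' ≫ v) ⁻¹ᵁ U := by
    rw [Scheme.Hom.comp_preimage]; exact le_of_sq f' f v u w U
  have h1 : Y'.presheaf.map (homOfLE (le_of_sq f' f v u w U)).op (f'.app (v ⁻¹ᵁ U) (v.app U r)) =
      (f' ≫ v).appLE U (u ⁻¹ᵁ (f ⁻¹ᵁ U)) e1 r := by
    rw [Scheme.Hom.comp_appLE]
    rfl
  have h2 : u.app (f ⁻¹ᵁ U) (f.app U r) = (u ≫ f).appLE U (u ⁻¹ᵁ (f ⁻¹ᵁ U)) e0 r := by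
    rw [Scheme.Hom.comp_appLE, CommRingCat.comp_apply]
    congr 2
    exact Scheme.Hom.app_eq_appLE _
  rw [h1, h2]
  exact (congr($(appLE_congr w U (u ⁻¹ᵁ (f ⁻¹ᵁ U)) e0) r)).symm

/-- `s ↦ class of v♯ s`, read over `u⁻¹ f⁻¹ U`. -/
noncomputable def cmSect (U : X.Opens) :
    Γ(ClSub.idealMod K, U) →+
      Γ((Scheme.Modules.pullback f').obj (ClSub.idealMod K'), u ⁻¹ᵁ (f ⁻¹ᵁ U)) :=
  ((((Scheme.Modules.pullback f').obj (ClSub.idealMod K')).presheaf.map
      (homOfLE (le_of_sq f' f v u w U)).op).hom.comp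
    (OmegaSh.pullSect f' (ClSub.idealMod K') (v ⁻¹ᵁ U)).hom).comp
  (AddMonoidHom.mk' (pullIdeal v K K' hK U) (pullIdeal_add v K K' hK U))

theorem cmSect_apply (U : X.Opens) (m : Γ(ClSub.idealMod K, U)) :
    cmSect f' f v u K' K w hK U m =
      ((Scheme.Modules.pullback f').obj (ClSub.idealMod K')).presheaf.map
        (homOfLE (le_of_sq f' f v u w U)).op
        (OmegaSh.pullSect f' (ClSub.idealMod K') (v ⁻¹ᵁ U) (pullIdeal v K K' hK U m)) := rfl

theorem cmSect_smul (U : X.Opens) (r : Γ(X, U)) (m : Γ(ClSub.idealMod K, U)) :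
    cmSect f' f v u K' K w hK U (r • m) =
      u.app (f ⁻¹ᵁ U) (f.app U r) • cmSect f' f v u K' K w hK U m := by
  rw [cmSect_apply, cmSect_apply, pullIdeal_smul, OmegaSh.pullSect_smul,
    Scheme.Modules.map_smul, ← app_app_eq f' f v u w U r]

theorem cmSect_map {U V : X.Opens} (h : V ≤ U) (m : Γ(ClSub.idealMod K, U)) :
    cmSect f' f v u K' K w hK V ((ClSub.idealMod K).presheaf.map (homOfLE h).op m) =
      ((Scheme.Modules.pullback f').obj (ClSub.idealMod K')).presheaf.map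
        (homOfLE (u.preimage_mono (f.preimage_mono h))).op (cmSect f' f v u K' K w hK U m) := by
  rw [cmSect_apply, cmSect_apply, pullIdeal_map, OmegaSh.pullSect_map, OmegaSh.resM_resM,
    OmegaSh.resM_resM]
  rfl

/-- The morphism `K → f_* u_* f'^* K'`. -/
noncomputable def cmAux :
    ClSub.idealMod K ⟶ (Scheme.Modules.pushforward f).obj ((Scheme.Modules.pushforward u).obj
      ((Scheme.Modules.pullback f').obj (ClSub.idealMod K'))) :=
  ⟨PresheafOfModules.homMk
    { app := fun U => AddCommGrpCat.ofHom (cmSect f' f v u K' K w hK U.unop)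
      naturality := fun U V j => by
        ext s
        exact cmSect_map f' f v u K' K w hK j.unop.le s }
    (fun U r s => cmSect_smul f' f v u K' K w hK U.unop r s)⟩

theorem cmAux_app (U : X.Opens) (m : Γ(ClSub.idealMod K, U)) :
    (cmAux f' f v u K' K w hK).app U m = cmSect f' f v u K' K w hK U m := rfl

/-- The canonical map `u^* f^* K → f'^* K'`. -/
noncomputable def idMap : (Scheme.Modules.pullback u).obj
      ((Scheme.Modules.pullback f).obj (ClSub.idealMod K)) ⟶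
    (Scheme.Modules.pullback f').obj (ClSub.idealMod K') :=
  ((Scheme.Modules.pullbackPushforwardAdjunction u).homEquiv _ _).symm
    (((Scheme.Modules.pullbackPushforwardAdjunction f).homEquiv _ _).symm
      (cmAux f' f v u K' K w hK))

theorem idMap_app (U : X.Opens) (m : Γ(ClSub.idealMod K, U)) :
    (idMap f' f v u K' K w hK).app (u ⁻¹ᵁ (f ⁻¹ᵁ U)) (OmegaSh.pullSect u _ (f ⁻¹ᵁ U)
      (OmegaSh.pullSect f (ClSub.idealMod K) U m)) = cmSect f' f v u K' K w hK U m := by
  have h1 := pullbackAdj_homEquiv_app u _ _ (idMap f' f v u K' K w hK) (f ⁻¹ᵁ U)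
    (OmegaSh.pullSect f (ClSub.idealMod K) U m)
  rw [idMap, Equiv.apply_symm_apply] at h1
  have h2 := pullbackAdj_homEquiv_app f _ _
    (((Scheme.Modules.pullbackPushforwardAdjunction f).homEquiv _ _).symm
      (cmAux f' f v u K' K w hK)) U m
  rw [Equiv.apply_symm_apply] at h2
  rw [idMap]
  exact h1.symm.trans (h2.symm.trans (cmAux_app f' f v u K' K w hK U m))

theorem isIdMap_idMap : IsIdMap f' f v u K' K (idMap f' f v u K' K w hK) := by
  refine ⟨w, fun U s s' hs' V h₁ h₂ => ?_⟩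
  rw [idMap_app, cmSect_apply, ← eq_pullIdeal v K K' hK U s s' hs', OmegaSh.resM_resM]
  rfl

end Exist

end Groth.Agent.Lib.Helper48.ConormalMap
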