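import Mathlib

/-!
# Ring maps into trivial square zero extensions from derivations
-/

set_option autoImplicit false
universe u

namespace Groth.Agent.Lib.Helper48.DerLift

variable {A B' B : Type u} [CommRing A] [CommRing B'] [CommRing B] {N : Type u} [AddCommGroup N]
  [Module B' N] [Module B'ᵐᵒᵖ N] [IsCentralScalar B' N]

theorem der_one (f : A →+* B') (δ : A →+ N)
    (hδ : ∀ a b, δ (a * b) = f a • δ b + f b • δ a) : δ 1 = 0 := by
  have := hδ 1 1
  simp only [mul_one, map_one, one_smul] at this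
  exact left_eq_add.mp this

/-- The ring map `a ↦ (f a, δ a)` attached to an `f`-derivation `δ`. -/
def mkHom (f : A →+* B') (δ : A →+ N)
    (hδ : ∀ a b, δ (a * b) = f a • δ b + f b • δ a) : A →+* TrivSqZeroExt B' N where
  toFun a := TrivSqZeroExt.inl (f a) + TrivSqZeroExt.inr (δ a)
  map_one' := by
    rw [der_one f δ hδ]
    simp
  map_mul' a b := by
    ext
    · simp
    · simp [hδ, add_comm]
  map_zero' := by simp
  map_add' a b := by
    ext
    · simp
    · simp

@[simp] theorem fst_mkHom (f : A →+* B') (δ : A →+ N)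
    (hδ : ∀ a b, δ (a * b) = f a • δ b + f b • δ a) (a : A) : (mkHom f δ hδ a).fst = f a := by
  simp [mkHom]

@[simp] theorem snd_mkHom (f : A →+* B') (δ : A →+ N)
    (hδ : ∀ a b, δ (a * b) = f a • δ b + f b • δ a) (a : A) : (mkHom f δ hδ a).snd = δ a := by
  simp [mkHom]

/-- The projection `B' ⊕ N → B' → B`. -/
def proj (π : B' →+* B) : TrivSqZeroExt B' N →+* B :=
  π.comp (TrivSqZeroExt.fstHom B' B' N).toRingHom

@[simp] theorem proj_apply (π : B' →+* B) (x : TrivSqZeroExt B' N) : proj π x = π x.fst := rfl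

theorem proj_surjective (π : B' →+* B) (hπ : Function.Surjective π) :
    Function.Surjective (proj (N := N) π) := by
  intro b
  obtain ⟨x, rfl⟩ := hπ b
  exact ⟨TrivSqZeroExt.inl x, by simp⟩

theorem ker_proj_sq (π : B' →+* B) (hπ : RingHom.ker π ^ 2 = ⊥)
    (hN : ∀ x, π x = 0 → ∀ n : N, x • n = 0) : RingHom.ker (proj (N := N) π) ^ 2 = ⊥ := by
  rw [pow_two, eq_bot_iff, Ideal.mul_le]
  intro x hx y hy
  rw [RingHom.mem_ker, proj_apply] at hx hy
  rw [Ideal.mem_bot]
  ext
  · have : x.fst * y.fst ∈ RingHom.ker π ^ 2 := by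
      rw [pow_two]
      exact Ideal.mul_mem_mul hx hy
    rw [hπ, Ideal.mem_bot] at this
    simpa using this
  · simp [hN _ hx, hN _ hy]

/-- The derivation extracted from a ring map into a trivial square zero extension. -/
theorem snd_map_mul (ρ : B' →+* TrivSqZeroExt B' N) (x y : B') :
    (ρ (x * y)).snd = (ρ x).fst • (ρ y).snd + (ρ y).fst • (ρ x).snd := by
  rw [map_mul, TrivSqZeroExt.snd_mul, op_smul_eq_smul]

end Groth.Agent.Lib.Helper48.DerLift
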