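import Groth.Agent.Lib.Helper48.DerLift1
import Groth.Agent.S9732
import Groth.Prelude

/-!
# Derivations out of a universal first order thickening
-/

set_option autoImplicit false
universe u

open AlgebraicGeometry CategoryTheory Opposite TopologicalSpace CategoryTheory.Limits

namespace Groth.Agent.Lib.Helper48.DerLift

variable {Z Z' X : Scheme.{u}} (h : Z ⟶ X) (i : Z ⟶ Z') (h' : Z' ⟶ X)
  (hu : OmegaSh.IsUnivThickening h i h')
  {W' : Z'.Opens} (hW' : IsAffineOpen W') {V : X.Opens} (hV : IsAffineOpen V)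
  (e : W' ≤ h' ⁻¹ᵁ V)
  {N : Type u} [AddCommGroup N] [Module Γ(Z', W') N] [Module Γ(Z', W')ᵐᵒᵖ N]
  [IsCentralScalar Γ(Z', W') N]
  (hN : ∀ x : Γ(Z', W'), i.app W' x = 0 → ∀ n : N, x • n = 0)

include hu hW' in
theorem ker_app_sq : RingHom.ker (i.app W').hom ^ 2 = ⊥ := by
  have : IsClosedImmersion i := hu.1.1.1
  have := congr(($(hu.1.2)).ideal ⟨W', hW'⟩)
  rw [Scheme.IdealSheafData.ideal_mul, Pi.mul_apply, Scheme.Hom.ker_apply,
    Scheme.IdealSheafData.ideal_bot, Pi.bot_apply] at this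
  rw [pow_two]
  exact this

include hu hW' hV hN in
/-- Key: compatible ring maps `Γ(Z', W') → Γ(Z', W') ⊕ N`. -/
theorem exists_ringHom (ψ : Γ(X, V) →+* TrivSqZeroExt Γ(Z', W') N)
    (hψ : ∀ a, (ψ a).fst = h'.appLE V W' e a) :
    ∃ ρ : Γ(Z', W') →+* TrivSqZeroExt Γ(Z', W') N,
      (∀ x, i.app W' (ρ x).fst = i.app W' x) ∧ ∀ a, ρ (h'.appLE V W' e a) = ψ a := by
  obtain ⟨hfot, hih, huniv⟩ := hu
  have : IsClosedImmersion i := hfot.1.1
  have hU : IsAffineOpen (i ⁻¹ᵁ W') := hW'.preimage i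
  have hπsurj : Function.Surjective (i.app W').hom := i.app_surjective W' hW'
  have hπker : RingHom.ker (i.app W').hom ^ 2 = ⊥ := ker_app_sq h i h' ⟨hfot, hih, huniv⟩ hW'
  let C : CommRingCat.{u} := CommRingCat.of (TrivSqZeroExt Γ(Z', W') N)
  let κ : C ⟶ Γ(Z, i ⁻¹ᵁ W') := CommRingCat.ofHom (proj (i.app W').hom)
  have hj : MoreMor.IsFirstOrderThickening (Spec.map κ) :=
    Groth.Agent.S9732.fot_spec κ (proj_surjective _ hπsurj) (ker_proj_sq _ hπker hN)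
  let ψ' : Γ(X, V) ⟶ C := CommRingCat.ofHom ψ
  have hle : i ⁻¹ᵁ W' ≤ h ⁻¹ᵁ V := by
    rw [← hih]
    exact fun x hx => e hx
  have hψκ : ψ' ≫ κ = h.appLE V (i ⁻¹ᵁ W') hle := by
    subst hih
    ext a
    change (i.app W').hom ((ψ a).fst) = _
    rw [hψ]
    have key : h'.appLE V W' e ≫ i.app W' = (i ≫ h').appLE V (i ⁻¹ᵁ W') hle := by
      rw [Scheme.Hom.app_eq_appLE, Scheme.Hom.appLE_comp_appLE]
    exact congr($key a)
  have w : Spec.map κ ≫ (Spec.map ψ' ≫ hV.fromSpec) = hU.fromSpec ≫ h := by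
    rw [← Category.assoc, ← Spec.map_comp, hψκ, IsAffineOpen.SpecMap_appLE_fromSpec]
  obtain ⟨r, ⟨hr₁, hr₂⟩, -⟩ := huniv _ _ (Spec.map κ) (Spec.map ψ' ≫ hV.fromSpec) hU.fromSpec hj w
  have hrange : Set.range r ⊆ Set.range hW'.fromSpec := by
    rw [hW'.range_fromSpec]
    rintro _ ⟨y, rfl⟩
    obtain ⟨x, rfl⟩ := hj.1.2.surj y
    have h1 : r ((Spec.map κ) x) = i (hU.fromSpec x) := by
      have := congrArg (fun g : Spec _ ⟶ Z' => g x) hr₁
      simpa using this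
    rw [h1]
    have h2 : hU.fromSpec x ∈ (i ⁻¹ᵁ W' : Set Z) := by
      rw [← hU.range_fromSpec]
      exact ⟨x, rfl⟩
    exact h2
  have hl : IsOpenImmersion.lift hW'.fromSpec r hrange ≫ hW'.fromSpec = r :=
    IsOpenImmersion.lift_fac _ _ _
  obtain ⟨ρ, hρ⟩ : ∃ ρ : Γ(Z', W') ⟶ C, Spec.map ρ = IsOpenImmersion.lift hW'.fromSpec r hrange :=
    ⟨_, Spec.map_preimage _⟩
  rw [← hρ] at hl
  have e1 : ρ ≫ κ = i.app W' := by
    apply Spec.map_injective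
    rw [← cancel_mono hW'.fromSpec, Spec.map_comp, Category.assoc, hl, hr₁,
      ← IsAffineOpen.SpecMap_appLE_fromSpec i hW' hU (le_refl _), Scheme.Hom.appLE_eq_app]
  have e2 : h'.appLE V W' e ≫ ρ = ψ' := by
    apply Spec.map_injective
    rw [← cancel_mono hV.fromSpec, Spec.map_comp, Category.assoc,
      IsAffineOpen.SpecMap_appLE_fromSpec h' hV hW' e, ← Category.assoc, hl, hr₂]
  refine ⟨ρ.hom, fun x => ?_, fun a => ?_⟩
  · exact congr($e1 x)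
  · exact congr($e2 a)

include hu hW' hV hN in
theorem ringHom_unique (ρ₁ ρ₂ : Γ(Z', W') →+* TrivSqZeroExt Γ(Z', W') N)
    (h₁ : ∀ x, i.app W' (ρ₁ x).fst = i.app W' x) (h₂ : ∀ x, i.app W' (ρ₂ x).fst = i.app W' x)
    (h₁₂ : ∀ a, ρ₁ (h'.appLE V W' e a) = ρ₂ (h'.appLE V W' e a)) : ρ₁ = ρ₂ := by
  obtain ⟨hfot, hih, huniv⟩ := hu
  have : IsClosedImmersion i := hfot.1.1
  have hU : IsAffineOpen (i ⁻¹ᵁ W') := hW'.preimage i
  have hπsurj : Function.Surjective (i.app W').hom := i.app_surjective W' hW'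
  have hπker : RingHom.ker (i.app W').hom ^ 2 = ⊥ := ker_app_sq h i h' ⟨hfot, hih, huniv⟩ hW'
  let C : CommRingCat.{u} := CommRingCat.of (TrivSqZeroExt Γ(Z', W') N)
  let κ : C ⟶ Γ(Z, i ⁻¹ᵁ W') := CommRingCat.ofHom (proj (i.app W').hom)
  have hj : MoreMor.IsFirstOrderThickening (Spec.map κ) :=
    Groth.Agent.S9732.fot_spec κ (proj_surjective _ hπsurj) (ker_proj_sq _ hπker hN)
  let ρ₁' : Γ(Z', W') ⟶ C := CommRingCat.ofHom ρ₁
  let ρ₂' : Γ(Z', W') ⟶ C := CommRingCat.ofHom ρ₂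
  have hκ₁ : ρ₁' ≫ κ = i.app W' := by
    ext x
    exact h₁ x
  have hκ₂ : ρ₂' ≫ κ = i.app W' := by
    ext x
    exact h₂ x
  have h12 : h'.appLE V W' e ≫ ρ₁' = h'.appLE V W' e ≫ ρ₂' :=
    CommRingCat.hom_ext (RingHom.ext fun a => h₁₂ a)
  have hc : ∀ ρ' : Γ(Z', W') ⟶ C, ρ' ≫ κ = i.app W' →
      Spec.map κ ≫ (Spec.map ρ' ≫ hW'.fromSpec) = hU.fromSpec ≫ i := by
    intro ρ' hρ'
    rw [← Category.assoc, ← Spec.map_comp, hρ',
      ← IsAffineOpen.SpecMap_appLE_fromSpec i hW' hU (le_refl _), Scheme.Hom.appLE_eq_app]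
  have hd : ∀ ρ' : Γ(Z', W') ⟶ C, (Spec.map ρ' ≫ hW'.fromSpec) ≫ h' =
      Spec.map (h'.appLE V W' e ≫ ρ') ≫ hV.fromSpec := by
    intro ρ'
    rw [Category.assoc, ← IsAffineOpen.SpecMap_appLE_fromSpec h' hV hW' e, Spec.map_comp,
      Category.assoc]
  have w : Spec.map κ ≫ (Spec.map (h'.appLE V W' e ≫ ρ₁') ≫ hV.fromSpec) = hU.fromSpec ≫ h := by
    rw [← hd, ← Category.assoc, hc ρ₁' hκ₁, Category.assoc, hih]
  obtain ⟨r, -, hr⟩ := huniv _ _ (Spec.map κ) (Spec.map (h'.appLE V W' e ≫ ρ₁') ≫ hV.fromSpec)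
    hU.fromSpec hj w
  have e1 := hr _ ⟨hc ρ₁' hκ₁, hd ρ₁'⟩
  have e2 := hr _ ⟨hc ρ₂' hκ₂, by rw [hd ρ₂', h12]⟩
  have e3 : Spec.map ρ₁' = Spec.map ρ₂' := by
    rw [← cancel_mono hW'.fromSpec, e1, e2]
  have e4 : ρ₁' = ρ₂' := Spec.map_injective e3
  exact congr(($e4).hom)

include hu hW' hV hN in
/-- **Existence**: every derivation of `Γ(X, V)` into a `Γ(Z, i⁻¹W')`-module extends to
`Γ(Z', W')`. -/
theorem exists_der (δ : Γ(X, V) →+ N)
    (hδ : ∀ a b, δ (a * b) = h'.appLE V W' e a • δ b + h'.appLE V W' e b • δ a) :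
    ∃ D : Γ(Z', W') →+ N, (∀ x y, D (x * y) = x • D y + y • D x) ∧
      ∀ a, D (h'.appLE V W' e a) = δ a := by
  obtain ⟨ρ, hρ₁, hρ₂⟩ := exists_ringHom h i h' hu hW' hV e hN
    (mkHom (h'.appLE V W' e).hom δ hδ) (fun a => fst_mkHom _ _ _ a)
  have hsm : ∀ (x : Γ(Z', W')) (n : N), (ρ x).fst • n = x • n := by
    intro x n
    have h0 : i.app W' ((ρ x).fst - x) = 0 := by
      rw [map_sub, hρ₁, sub_self]
    have := hN _ h0 n
    rw [sub_smul, sub_eq_zero] at this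
    exact this
  refine ⟨(TrivSqZeroExt.sndHom Γ(Z', W') N).toAddMonoidHom.comp ρ.toAddMonoidHom, ?_, ?_⟩
  · intro x y
    change (ρ (x * y)).snd = x • (ρ y).snd + y • (ρ x).snd
    rw [snd_map_mul, hsm, hsm]
  · intro a
    change (ρ (h'.appLE V W' e a)).snd = δ a
    rw [hρ₂]
    exact snd_mkHom _ _ _ a

include hu hW' hV hN in
/-- **Uniqueness**: a derivation of `Γ(Z', W')` into a `Γ(Z, i⁻¹W')`-module killing the image of
`Γ(X, V)` vanishes. -/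
theorem der_eq_zero (E : Γ(Z', W') →+ N)
    (hE : ∀ x y, E (x * y) = x • E y + y • E x)
    (hE0 : ∀ a, E (h'.appLE V W' e a) = 0) : E = 0 := by
  have hE' : ∀ x y, E (x * y) = (RingHom.id Γ(Z', W')) x • E y + (RingHom.id Γ(Z', W')) y • E x :=
    hE
  have hZ' : ∀ x y : Γ(Z', W'), (0 : Γ(Z', W') →+ N) (x * y) =
      (RingHom.id Γ(Z', W')) x • (0 : Γ(Z', W') →+ N) y +
        (RingHom.id Γ(Z', W')) y • (0 : Γ(Z', W') →+ N) x := by
    intro x y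
    simp
  have := ringHom_unique h i h' hu hW' hV e hN (mkHom (RingHom.id _) E hE')
    (mkHom (RingHom.id _) 0 hZ') (fun x => by rw [fst_mkHom]; rfl) (fun x => by rw [fst_mkHom]; rfl)
    (fun a => by
      ext
      · rw [fst_mkHom, fst_mkHom]
      · rw [snd_mkHom, snd_mkHom, hE0]; rfl)
  ext x
  have h1 := congrArg (fun ρ : Γ(Z', W') →+* TrivSqZeroExt Γ(Z', W') N => (ρ x).snd) this
  simpa using h1

end Groth.Agent.Lib.Helper48.DerLift
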