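import Groth.Agent.Lib.Helper48.Nbhd3
import Mathlib.AlgebraicGeometry.Morphisms.Affine

/-!
# The canonical map of conormal sheaves in a cartesian square of quasi-compact immersions
(EGA IV 16.2.2 for `n = 1`, immersions instead of closed immersions)

`ker_inr_of_isPushout'` and `ker_app_of_isPullback` are adapted from helper43's
`Lib/Helper43/RegImmFlatBC` (copied to keep imports light and to drop the closed immersion
hypothesis in favour of explicit affineness/surjectivity hypotheses).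
-/

set_option autoImplicit false
universe u

open CategoryTheory CategoryTheory.Limits AlgebraicGeometry

namespace Groth.Agent.Lib.Helper48.Nbhd

open Scheme Groth.Agent.Lib.Helper48.SL Groth.Agent.Lib.Helper48.OmegaAff
  Groth.Agent.Lib.Helper48.Conormal

/-- In a pushout square of commutative rings with a surjective leg `f`, the kernel of the
opposite leg `inr` is the extension of the kernel of `f`. -/
lemma ker_inr_of_isPushout' {A B C P : CommRingCat.{u}} {f : A ⟶ B} {g : A ⟶ C} {inl : B ⟶ P}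
    {inr : C ⟶ P} (h : IsPushout f g inl inr) (hf : Function.Surjective f.hom) :
    RingHom.ker inr.hom = Ideal.map g.hom (RingHom.ker f.hom) := by
  apply le_antisymm
  · set J : Ideal C := Ideal.map g.hom (RingHom.ker f.hom) with hJ
    have hle : RingHom.ker f.hom ≤ RingHom.ker ((Ideal.Quotient.mk J).comp g.hom) := by
      intro a ha
      rw [RingHom.mem_ker, RingHom.comp_apply, Ideal.Quotient.eq_zero_iff_mem]
      exact Ideal.mem_map_of_mem _ ha
    let β : B →+* C ⧸ J := RingHom.liftOfSurjective f.hom hf ⟨_, hle⟩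
    have hβ : ∀ a, β (f.hom a) = Ideal.Quotient.mk J (g.hom a) := fun a =>
      RingHom.liftOfRightInverse_comp_apply _ _ _ _ a
    have hw : f ≫ CommRingCat.ofHom β = g ≫ CommRingCat.ofHom (Ideal.Quotient.mk J) := by
      ext a
      exact hβ a
    have hd := h.inr_desc (CommRingCat.ofHom β) (CommRingCat.ofHom (Ideal.Quotient.mk J)) hw
    intro x hx
    rw [RingHom.mem_ker] at hx
    have h1 : (inr ≫ h.desc (CommRingCat.ofHom β) (CommRingCat.ofHom (Ideal.Quotient.mk J)) hw).hom x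
        = Ideal.Quotient.mk J x := by rw [hd]; rfl
    rw [CommRingCat.hom_comp, RingHom.comp_apply, hx, map_zero] at h1
    exact Ideal.Quotient.eq_zero_iff_mem.1 h1.symm
  · rw [Ideal.map_le_iff_le_comap]
    intro a ha
    rw [RingHom.mem_ker] at ha
    rw [Ideal.mem_comap, RingHom.mem_ker]
    have : (g ≫ inr).hom a = (f ≫ inl).hom a := by rw [h.w]
    rw [CommRingCat.hom_comp, CommRingCat.hom_comp, RingHom.comp_apply, RingHom.comp_apply, ha,
      map_zero] at this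
    exact this

/-- Base change of a surjective chart: the ideal is the extension of the ideal. -/
theorem ker_app_of_isPullback {X Y X' Y' : Scheme.{u}} (i : Y ⟶ X) (g : X' ⟶ X)
    (i' : Y' ⟶ X') (g' : Y' ⟶ Y) (hsq : IsPullback g' i' i g)
    (U : X.Opens) (hU : IsAffineOpen U) (hW : IsAffineOpen (i ⁻¹ᵁ U))
    (hsurj : Function.Surjective (i.app U).hom)
    (U' : X'.Opens) (hU' : IsAffineOpen U') (e : U' ≤ g ⁻¹ᵁ U) :
    RingHom.ker (i'.app U').hom = Ideal.map (g.appLE U U' e).hom (RingHom.ker (i.app U).hom) := by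
  have hle : i' ⁻¹ᵁ U' ≤ g' ⁻¹ᵁ (i ⁻¹ᵁ U) := by
    rw [← Scheme.Hom.comp_preimage, hsq.w, Scheme.Hom.comp_preimage]
    exact i'.preimage_mono e
  have hUY : i' ⁻¹ᵁ U' = g' ⁻¹ᵁ (i ⁻¹ᵁ U) ⊓ i' ⁻¹ᵁ U' := (inf_eq_right.mpr hle).symm
  have hpb := Scheme.Hom.isPullback_resLE hsq (US := U) (UT := U') (UX := i ⁻¹ᵁ U) e le_rfl hUY
  haveI : IsAffine U.toScheme := hU
  haveI : IsAffine U'.toScheme := hU'
  haveI : IsAffine (i ⁻¹ᵁ U).toScheme := hW
  have hpo := isPushout_appTop_of_isPullback hpb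
  have hpo' : IsPushout (i.appLE U (i ⁻¹ᵁ U) le_rfl) (g.appLE U U' e)
      (g'.appLE (i ⁻¹ᵁ U) (i' ⁻¹ᵁ U') hle) (i'.appLE U' (i' ⁻¹ᵁ U') le_rfl) := by
    refine IsPushout.of_iso hpo U.topIso (i ⁻¹ᵁ U).topIso U'.topIso (i' ⁻¹ᵁ U').topIso ?_ ?_ ?_ ?_
    all_goals
      rw [Scheme.Hom.appTop, Scheme.Hom.resLE_app_top]
      simp only [Category.assoc, Iso.inv_hom_id, Category.comp_id]
  rw [Scheme.Hom.appLE_eq_app, Scheme.Hom.appLE_eq_app] at hpo'
  exact ker_inr_of_isPushout' hpo' hsurj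

section Compat

variable {Y X Y' X' : Scheme.{u}} {f' : Y' ⟶ X'} {f : Y ⟶ X} {v : X' ⟶ X} {u : Y' ⟶ Y}
  {K' : X'.IdealSheafData} {K : X.IdealSheafData}
  {φ : (Scheme.Modules.pullback u).obj
      ((Scheme.Modules.pullback f).obj (ClSub.idealMod K)) ⟶
    (Scheme.Modules.pullback f').obj (ClSub.idealMod K')}

theorem IsIdMap.app_surjective' (hφ : IsIdMap f' f v u K' K φ) (hK : K.comap v ≤ K')
    {U : X.Opens} {U' : X'.Opens} (hU : IsAffineOpen U) (hU' : IsAffineOpen U')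
    (e : U' ≤ v ⁻¹ᵁ U) (hW' : IsAffineOpen (f' ⁻¹ᵁ U'))
    (hid : K'.ideal ⟨U', hU'⟩ = (K.ideal ⟨U, hU⟩).map (v.appLE U U' e).hom) :
    Function.Surjective (φ.app (f' ⁻¹ᵁ U')) := by
  have hspan : Submodule.span Γ(X', U') (Set.range (rho v K K' hU hU' e hK)) = ⊤ :=
    span_range_of_map (v.appLE U U' e).hom
      (K.ideal ⟨U, hU⟩) (K'.ideal ⟨U', hU'⟩) hid
      (sectEquiv K hU) (sectEquiv K' hU') _ (fun m => by
        rw [sectEquiv_apply, idealSect_rho, sectEquiv_apply])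
  exact main_surjective (f'.appLE U' (f' ⁻¹ᵁ U') (le_refl _)).hom
    ((pullRes u _ (hφ.le_preimage e)).comp (pullRes f (ClSub.idealMod K) (le_refl _)))
    (rho v K K' hU hU' e hK) (pullRes f' (ClSub.idealMod K') (le_refl _))
    (isUniv_pullRes f' _ hW' hU' (le_refl _)) hspan
    (appL φ (f' ⁻¹ᵁ U')) (fun m => hφ.app_pullRes hK hU hU' e m)

theorem IsIdMap.app_bijective' [Flat v] (hφ : IsIdMap f' f v u K' K φ) (hK : K.comap v ≤ K')
    {U : X.Opens} {U' : X'.Opens} (hU : IsAffineOpen U) (hU' : IsAffineOpen U')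
    (e : U' ≤ v ⁻¹ᵁ U) (hW : IsAffineOpen (f ⁻¹ᵁ U)) (hW' : IsAffineOpen (f' ⁻¹ᵁ U'))
    (hid : K'.ideal ⟨U', hU'⟩ = (K.ideal ⟨U, hU⟩).map (v.appLE U U' e).hom) :
    Function.Bijective (φ.app (f' ⁻¹ᵁ U')) := by
  have huniv : IsUniv (v.appLE U U' e).hom (rho v K K' hU hU' e hK) :=
    isUniv_of_flat _ (HasRingHomProperty.appLE (P := @Flat) v inferInstance ⟨U, hU⟩ ⟨U', hU'⟩ e)
      (K.ideal ⟨U, hU⟩) (K'.ideal ⟨U', hU'⟩) hid
      (sectEquiv K hU) (sectEquiv K' hU') _ (fun m => by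
        rw [sectEquiv_apply, idealSect_rho, sectEquiv_apply])
  refine main_bijective (v.appLE U U' e).hom (f'.appLE U' (f' ⁻¹ᵁ U') (le_refl _)).hom
    ((pullRes u _ (hφ.le_preimage e)).comp (pullRes f (ClSub.idealMod K) (le_refl _)))
    (rho v K K' hU hU' e hK) (pullRes f' (ClSub.idealMod K') (le_refl _))
    ((u.appLE (f ⁻¹ᵁ U) (f' ⁻¹ᵁ U') (hφ.le_preimage e)).hom.comp
      (f.appLE U (f ⁻¹ᵁ U) (le_refl _)).hom) ?_
    ((isUniv_pullRes f _ hW hU (le_refl _)).comp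
      (isUniv_pullRes u _ hW' hW (hφ.le_preimage e)))
    huniv
    (isUniv_pullRes f' _ hW' hU' (le_refl _))
    (appL φ (f' ⁻¹ᵁ U')) (fun m => hφ.app_pullRes hK hU hU' e m)
  rw [← CommRingCat.hom_comp, ← CommRingCat.hom_comp, Scheme.Hom.appLE_comp_appLE,
    Scheme.Hom.appLE_comp_appLE, appLE_congr hφ.1]

end Compat

section Immersion

variable {Z X Z' X' : Scheme.{u}} {i : Z ⟶ X} {i' : Z' ⟶ X'} [IsImmersion i] [IsImmersion i']
  [QuasiCompact i] [QuasiCompact i'] {g : X ⟶ X'} {gZ : Z ⟶ Z'}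
  {φ : (Scheme.Modules.pullback gZ).obj
      ((Scheme.Modules.pullback i').obj (ClSub.idealMod i'.ker)) ⟶
    (Scheme.Modules.pullback i).obj (ClSub.idealMod i.ker)}

theorem comap_ker_le (w : gZ ≫ i' = i ≫ g) : i'.ker.comap g ≤ i.ker := by
  rw [← IdealSheafData.le_map_iff_comap_le, IdealSheafData.map_ker, ← w]
  exact Scheme.Hom.le_ker_comp gZ i'

theorem isBasis_charts_immersion (i : Z ⟶ X) (i' : Z' ⟶ X') [IsImmersion i] [IsImmersion i']
    (g : X ⟶ X') (gZ : Z ⟶ Z') (w : gZ ≫ i' = i ≫ g) :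
    TopologicalSpace.Opens.IsBasis {W : Z.Opens | ∃ U' : X.Opens, IsGoodFor i U' ∧
      (∃ U : X'.Opens, IsGoodFor i' U ∧ U' ≤ g ⁻¹ᵁ U) ∧ W = i ⁻¹ᵁ U'} := by
  refine isBasis_goodFor i (fun U' => ∃ U : X'.Opens, IsGoodFor i' U ∧ U' ≤ g ⁻¹ᵁ U)
    (fun z => ?_)
  obtain ⟨U, hU, hzU, -, -⟩ := exists_goodFor i' (gZ z) ⊤ trivial ⊤ trivial
  refine ⟨g ⁻¹ᵁ U, ?_, fun V hV => ⟨U, hU, hV⟩⟩
  change g (i z) ∈ U
  rw [← Scheme.Hom.comp_apply, ← w, Scheme.Hom.comp_apply]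
  exact hzU

theorem ideal_eq_map_of_good (hsq : IsPullback i gZ g i') {U' : X.Opens} (hU' : IsGoodFor i U')
    {U : X'.Opens} (hU : IsGoodFor i' U) (e : U' ≤ g ⁻¹ᵁ U) :
    i.ker.ideal ⟨U', hU'.1⟩ = (i'.ker.ideal ⟨U, hU.1⟩).map (g.appLE U U' e).hom := by
  rw [Scheme.Hom.ker_apply, Scheme.Hom.ker_apply]
  exact ker_app_of_isPullback i' g i gZ hsq.flip U hU.1 hU.2.1 hU.2.2 U' hU'.1 e

theorem conormalMap_epi (hsq : IsPullback i gZ g i')
    (hφ : IsIdMap i i' g gZ i.ker i'.ker φ) : Epi φ := by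
  refine epi_of_basis φ _ (isBasis_charts_immersion i i' g gZ hsq.w.symm) ?_
  rintro _ ⟨U', hU', ⟨U, hU, e⟩, rfl⟩
  exact hφ.app_surjective' (comap_ker_le hsq.w.symm) hU.1 hU'.1 e hU'.2.1
    (ideal_eq_map_of_good hsq hU' hU e)

theorem conormalMap_isIso [Flat g] (hsq : IsPullback i gZ g i')
    (hφ : IsIdMap i i' g gZ i.ker i'.ker φ) : IsIso φ := by
  have h1 : Epi φ := conormalMap_epi hsq hφ
  have h2 : Mono φ := by
    refine mono_of_basis φ _ (isBasis_charts_immersion i i' g gZ hsq.w.symm) ?_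
    rintro _ ⟨U', hU', ⟨U, hU, e⟩, rfl⟩
    exact (hφ.app_bijective' (comap_ker_le hsq.w.symm) hU.1 hU'.1 e hU.2.1 hU'.2.1
      (ideal_eq_map_of_good hsq hU' hU e)).1
  exact isIso_of_mono_of_epi φ

end Immersion

end Groth.Agent.Lib.Helper48.Nbhd
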