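import Groth.Agent.Lib.Helper48.RegSection1
import Groth.Agent.Lib.Helper21.QCohSections

/-!
# Regular sections: `i^*E → C_{Y/X}` is injective on sections over charts
-/

set_option autoImplicit false
universe u

open AlgebraicGeometry CategoryTheory Opposite TopologicalSpace CategoryTheory.Limits

namespace Groth.Agent.Lib.Helper48.RegSection

open Groth.Agent.Lib.Helper48.OmegaAff Scheme.Modules Groth.Agent.Lib.Helper48.Conormal

section Chart

variable {X Y : Scheme.{u}} (i : Y ⟶ X) [IsClosedImmersion i] {E : X.Modules} [E.IsQuasicoherent]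
  (t : E ⟶ ClSub.idealMod i.ker)
  {U : X.Opens} (hU : IsAffineOpen U) {n : ℕ} (b : Module.Basis (Fin n) Γ(X, U) Γ(E, U))

include hU in
theorem isGoodFor_of_isClosedImmersion : IsGoodFor i U :=
  ⟨hU, hU.preimage i, i.app_surjective U hU⟩

/-- the images of the basis in the ideal -/
noncomputable def gen (k : Fin n) : Γ(X, U) := OmegaSh.idealSect i.ker U (t.app U (b k))

omit [E.IsQuasicoherent] in
theorem gen_mem_ker (k : Fin n) : gen i t b k ∈ RingHom.ker (i.app U).hom :=
  idealSect_mem_ker i U _

include hU in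
theorem ker_eq_span_gen [Epi t] :
    RingHom.ker (i.app U).hom = Ideal.span (Set.range (gen i t b)) := by
  apply le_antisymm
  · intro a ha
    obtain ⟨σ, hσ⟩ := exists_idealSect_eq i U a (RingHom.mem_ker.mp ha)
    obtain ⟨e, he⟩ := Groth.Agent.Lib.Helper21.QCohSections.app_surjective_of_epi t hU σ
    have h1 : σ = ∑ k, (b.repr e k) • t.app U (b k) := by
      rw [← he]
      conv_lhs => rw [← b.sum_repr e]
      rw [map_sum]
      refine Finset.sum_congr rfl fun k _ => ?_
      exact Scheme.Modules.Hom.app_smul t _ _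
    rw [← hσ, h1, map_sum]
    refine Ideal.sum_mem _ fun k _ => ?_
    rw [idealSect_smul]
    exact Ideal.mul_mem_left _ _ (Ideal.subset_span ⟨k, rfl⟩)
  · rw [Ideal.span_le]
    rintro _ ⟨k, rfl⟩
    exact gen_mem_ker i t b k

omit [IsClosedImmersion i] [E.IsQuasicoherent] in
theorem pullSect_basis_sum (c : Fin n → Γ(X, U)) :
    OmegaSh.pullSect i E U (∑ k, c k • b k) = ∑ k, i.app U (c k) • OmegaSh.pullSect i E U (b k) := by
  rw [map_sum]
  refine Finset.sum_congr rfl fun k _ => ?_
  exact OmegaSh.pullSect_smul i E U _ _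

include hU in
theorem linearCombination_pullSect_surjective :
    Function.Surjective (Fintype.linearCombination Γ(Y, i ⁻¹ᵁ U)
      (fun k => (OmegaSh.pullSect i E U (b k) : Γ((Scheme.Modules.pullback i).obj E, i ⁻¹ᵁ U)))) := by
  rw [← LinearMap.range_eq_top, eq_top_iff,
    ← span_range_pullSect i E hU (hU.preimage i), Submodule.span_le]
  rintro _ ⟨e, rfl⟩
  refine ⟨fun k => i.app U (b.repr e k), ?_⟩
  rw [Fintype.linearCombination_apply]
  conv_rhs => rw [← b.sum_repr e]
  exact (pullSect_basis_sum i b _).symm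

include hU in
/-- **Injectivity on the chart.** -/
theorem map_app_injective [Epi t] (hg : CAlgX.IsH1Regular (gen i t b)) :
    Function.Injective (((Scheme.Modules.pullback i).map t).app (i ⁻¹ᵁ U)) := by
  have hV := isGoodFor_of_isClosedImmersion i hU
  have hker := ker_eq_span_gen i t hU b
  rw [injective_iff_map_eq_zero]
  intro x hx
  obtain ⟨β, rfl⟩ := linearCombination_pullSect_surjective i hU b x
  rw [Fintype.linearCombination_apply] at hx ⊢
  have h1 : ((Scheme.Modules.pullback i).map t).app (i ⁻¹ᵁ U)
      (∑ k, β k • (OmegaSh.pullSect i E U (b k) :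
        Γ((Scheme.Modules.pullback i).obj E, i ⁻¹ᵁ U))) =
      Fintype.linearCombination Γ(Y, i ⁻¹ᵁ U) (genClass i (gen i t b) hker) β := by
    rw [Fintype.linearCombination_apply, map_sum]
    refine Finset.sum_congr rfl fun k _ => ?_
    rw [Scheme.Modules.Hom.app_smul, map_pullSect]
    congr 1
    unfold genClass
    congr 1
    exact (sectOf_idealSect i U (t.app U (b k))).symm
  rw [h1] at hx
  have h2 := (linearCombination_genClass_bijective i hV (gen i t b) hg hker).1
  have h3 : β = 0 := h2 (hx.trans (map_zero _).symm)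
  rw [h3]
  simp

end Chart

end Groth.Agent.Lib.Helper48.RegSection
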