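import Groth.Agent.Lib.Helper48.Conormal6
import Groth.Agent.Lib.Helper48.Nbhd8
import Groth.Agent.Lib.Helper48.ConormalMap2
import Groth.Agent.Lib.Helper48.RegSection2

/-!
# A local section of `k : Z' ⟶ Z''` gives a local retraction of `C_{Z/Z''} ⟶ C_{Z/Z'}`
-/

set_option autoImplicit false
universe u

open AlgebraicGeometry CategoryTheory Opposite TopologicalSpace CategoryTheory.Limits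

namespace Groth.Agent.Lib.Helper48.FSmoothSplit

open Groth.Agent.Lib.Helper48.OmegaAff Groth.Agent.Lib.Helper48.Conormal
  Groth.Agent.Lib.Helper48.Nbhd Groth.Agent.Lib.Helper48.ConormalMap Scheme.Modules

section General

variable {X Y : Scheme.{u}} (f : X ⟶ Y) {M N : Y.Modules} (t : M ⟶ N)

theorem map_pullRes {U : X.Opens} {V : Y.Opens} (e : U ≤ f ⁻¹ᵁ V) (m : Γ(M, V)) :
    ((Scheme.Modules.pullback f).map t).app U (pullRes f M e m) = pullRes f N e (t.app V m) := by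
  rw [pullRes_eq_map, hom_app_map, Groth.Agent.Lib.Helper48.RegSection.map_pullSect,
    pullRes_eq_map]

theorem pullRes_res {U : X.Opens} {V V' : Y.Opens} (h : V' ≤ V) (e : U ≤ f ⁻¹ᵁ V')
    (m : Γ(M, V)) :
    pullRes f M e (M.presheaf.map (homOfLE h).op m) =
      pullRes f M (e.trans (f.preimage_mono h)) m := by
  rw [pullRes_eq_map, pullRes_eq_map, OmegaSh.pullSect_map, modules_map_map]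

end General

section Retraction

variable {Z Z' Z'' : Scheme.{u}} (i' : Z ⟶ Z') [IsClosedImmersion i'] (k : Z' ⟶ Z'')
  [IsClosedImmersion (i' ≫ k)]
  (ψ : (Scheme.Modules.pullback (𝟙 Z)).obj (Omega.conormal (i' ≫ k)) ⟶ Omega.conormal i')
  (hψ : OmegaSh.IsConormalMap i' (i' ≫ k) k (𝟙 Z) ψ)
  (W'' : Z''.Opens) (r' : (W'' : Scheme.{u}) ⟶ Z')
  (hr₁ : ((i' ≫ k) ∣_ W'') ≫ r' = ((i' ≫ k) ⁻¹ᵁ W'').ι ≫ i') (hr₂ : r' ≫ k = W''.ι)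

/-- `C_{Z/Z'}|_U ⟶ C_{U/W''}` induced by the section `r'`. -/
noncomputable def ρ : (Scheme.Modules.pullback ((i' ≫ k) ⁻¹ᵁ W'').ι).obj (Omega.conormal i') ⟶
    Omega.conormal ((i' ≫ k) ∣_ W'') :=
  idMap ((i' ≫ k) ∣_ W'') i' r' ((i' ≫ k) ⁻¹ᵁ W'').ι ((i' ≫ k) ∣_ W'').ker i'.ker hr₁.symm
    (comap_ker_le hr₁.symm)

theorem hρ : OmegaSh.IsConormalMap ((i' ≫ k) ∣_ W'') i' r' ((i' ≫ k) ⁻¹ᵁ W'').ι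
    (ρ i' k W'' r' hr₁) :=
  isIdMap_idMap ((i' ≫ k) ∣_ W'') i' r' ((i' ≫ k) ⁻¹ᵁ W'').ι ((i' ≫ k) ∣_ W'').ker i'.ker
    hr₁.symm (comap_ker_le hr₁.symm)

/-- `C_{Z/Z''}|_U ⟶ C_{U/W''}`, the restriction isomorphism. -/
noncomputable def β : (Scheme.Modules.pullback ((i' ≫ k) ⁻¹ᵁ W'').ι).obj
    (Omega.conormal (i' ≫ k)) ⟶ Omega.conormal ((i' ≫ k) ∣_ W'') :=
  idMap ((i' ≫ k) ∣_ W'') (i' ≫ k) W''.ι ((i' ≫ k) ⁻¹ᵁ W'').ι ((i' ≫ k) ∣_ W'').ker (i' ≫ k).ker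
    (morphismRestrict_ι (i' ≫ k) W'').symm (comap_ker_le (morphismRestrict_ι (i' ≫ k) W'').symm)

theorem hβ : OmegaSh.IsConormalMap ((i' ≫ k) ∣_ W'') (i' ≫ k) W''.ι ((i' ≫ k) ⁻¹ᵁ W'').ι
    (β i' k W'') :=
  isIdMap_idMap ((i' ≫ k) ∣_ W'') (i' ≫ k) W''.ι ((i' ≫ k) ⁻¹ᵁ W'').ι ((i' ≫ k) ∣_ W'').ker
    (i' ≫ k).ker (morphismRestrict_ι (i' ≫ k) W'').symm
    (comap_ker_le (morphismRestrict_ι (i' ≫ k) W'').symm)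

instance : IsIso (β i' k W'') :=
  conormalMap_isIso (isPullback_morphismRestrict (i' ≫ k) W'') (hβ i' k W'')

include hr₂ in
theorem res_eq (O'' : Z''.Opens) (a : Γ(Z'', O'')) :
    (W'' : Scheme.{u}).presheaf.map
        (homOfLE (inf_le_left : r' ⁻¹ᵁ (k ⁻¹ᵁ O'') ⊓ W''.ι ⁻¹ᵁ O'' ≤ r' ⁻¹ᵁ (k ⁻¹ᵁ O''))).op
        (r'.app (k ⁻¹ᵁ O'') (k.app O'' a)) =
      (W'' : Scheme.{u}).presheaf.map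
        (homOfLE (inf_le_right : r' ⁻¹ᵁ (k ⁻¹ᵁ O'') ⊓ W''.ι ⁻¹ᵁ O'' ≤ W''.ι ⁻¹ᵁ O'')).op
        (W''.ι.app O'' a) := by
  have h1 : (W'' : Scheme.{u}).presheaf.map
        (homOfLE (inf_le_left : r' ⁻¹ᵁ (k ⁻¹ᵁ O'') ⊓ W''.ι ⁻¹ᵁ O'' ≤ r' ⁻¹ᵁ (k ⁻¹ᵁ O''))).op
        (r'.app (k ⁻¹ᵁ O'') (k.app O'' a)) =
      (r' ≫ k).appLE O'' (r' ⁻¹ᵁ (k ⁻¹ᵁ O'') ⊓ W''.ι ⁻¹ᵁ O'')
        (by rw [Scheme.Hom.comp_preimage]; exact inf_le_left) a := by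
    rw [Scheme.Hom.comp_appLE]
    rfl
  have h2 : (W'' : Scheme.{u}).presheaf.map
        (homOfLE (inf_le_right : r' ⁻¹ᵁ (k ⁻¹ᵁ O'') ⊓ W''.ι ⁻¹ᵁ O'' ≤ W''.ι ⁻¹ᵁ O'')).op
        (W''.ι.app O'' a) =
      W''.ι.appLE O'' (r' ⁻¹ᵁ (k ⁻¹ᵁ O'') ⊓ W''.ι ⁻¹ᵁ O'') inf_le_right a := rfl
  rw [h1, h2]
  exact appLE_congr_hom' hr₂ _ _ _ _ a

include hψ hr₂ in
theorem key : (Scheme.Modules.pullback ((i' ≫ k) ⁻¹ᵁ W'').ι).map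
      (Groth.Agent.Lib.Helper48.Conormal.ψ₂ k i' ψ) ≫ ρ i' k W'' r' hr₁ = β i' k W'' := by
  classical
  let 𝓑 : Set (((i' ≫ k) ⁻¹ᵁ W'' : Z.Opens) : Scheme.{u}).Opens :=
    {Ũ | IsAffineOpen Ũ ∧ ∃ O'' : Z''.Opens, IsAffineOpen O'' ∧
      Ũ ≤ ((i' ≫ k) ⁻¹ᵁ W'').ι ⁻¹ᵁ ((i' ≫ k) ⁻¹ᵁ O'')}
  have hB : Opens.IsBasis 𝓑 := by
    rw [Opens.isBasis_iff_nbhd]
    intro O z hz
    obtain ⟨_, ⟨O'', hO'' : IsAffineOpen O'', rfl⟩, hzO'', -⟩ :=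
      (Z''.isBasis_affineOpens).exists_subset_of_mem_open
        (show (i' ≫ k) (((i' ≫ k) ⁻¹ᵁ W'').ι z) ∈ (⊤ : Z''.Opens) from trivial)
        (⊤ : Z''.Opens).isOpen
    have hmem : z ∈ ((i' ≫ k) ⁻¹ᵁ W'').ι ⁻¹ᵁ ((i' ≫ k) ⁻¹ᵁ O'') ⊓ O := ⟨hzO'', hz⟩
    obtain ⟨_, ⟨Ũ, hŨ : IsAffineOpen Ũ, rfl⟩, hzŨ, hŨle⟩ :=
      ((((i' ≫ k) ⁻¹ᵁ W'' : Z.Opens) : Scheme.{u}).isBasis_affineOpens).exists_subset_of_mem_open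
        hmem (((i' ≫ k) ⁻¹ᵁ W'').ι ⁻¹ᵁ ((i' ≫ k) ⁻¹ᵁ O'') ⊓ O).isOpen
    have hŨle' : Ũ ≤ ((i' ≫ k) ⁻¹ᵁ W'').ι ⁻¹ᵁ ((i' ≫ k) ⁻¹ᵁ O'') ⊓ O := hŨle
    exact ⟨Ũ, ⟨hŨ, O'', hO'', hŨle'.trans inf_le_left⟩, hzŨ, hŨle'.trans inf_le_right⟩
  refine hom_ext_of_basis _ _ _ hB ?_
  rintro Ũ ⟨hŨ, O'', hO'', e₁⟩ x
  have hOg : IsGoodFor (i' ≫ k) O'' :=
    Groth.Agent.Lib.Helper48.RegSection.isGoodFor_of_isClosedImmersion (i' ≫ k) hO''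
  have hspan := span_range_pullRes ((i' ≫ k) ⁻¹ᵁ W'').ι (Omega.conormal (i' ≫ k)) hŨ hOg.2.1 e₁
  have hlin : appL ((Scheme.Modules.pullback ((i' ≫ k) ⁻¹ᵁ W'').ι).map
      (Groth.Agent.Lib.Helper48.Conormal.ψ₂ k i' ψ) ≫ ρ i' k W'' r' hr₁) Ũ =
      appL (β i' k W'') Ũ := by
    apply LinearMap.ext_on hspan
    rintro _ ⟨y, rfl⟩
    obtain ⟨s'', rfl⟩ := conormalSect_surjective (i' ≫ k) hOg y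
    change (ρ i' k W'' r' hr₁).app Ũ (((Scheme.Modules.pullback ((i' ≫ k) ⁻¹ᵁ W'').ι).map
      (Groth.Agent.Lib.Helper48.Conormal.ψ₂ k i' ψ)).app Ũ _) = (β i' k W'').app Ũ _
    rw [map_pullRes]
    -- ψ' on the class of s''
    set s' := pullIdeal k (i' ≫ k).ker i'.ker (comap_ker_le hψ.1) O'' s'' with hs'
    have hs'eq : OmegaSh.idealSect i'.ker (k ⁻¹ᵁ O'') s' =
        k.app O'' (OmegaSh.idealSect (i' ≫ k).ker O'' s'') := idealSect_pullIdeal _ _ _ _ _ _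
    have hψ' := ψ₂_app k i' ψ hψ (le_refl ((i' ≫ k) ⁻¹ᵁ O'')) s'' s' hs'eq
    rw [conormalRes_refl] at hψ'
    rw [hψ', conormalRes_eq_map, pullRes_res]
    -- ρ on the class of s'
    set s₃ := pullIdeal r' i'.ker ((i' ≫ k) ∣_ W'').ker (comap_ker_le hr₁.symm) (k ⁻¹ᵁ O'') s'
      with hs₃
    have hs₃eq : OmegaSh.idealSect ((i' ≫ k) ∣_ W'').ker (r' ⁻¹ᵁ (k ⁻¹ᵁ O'')) s₃ =
        r'.app (k ⁻¹ᵁ O'') (OmegaSh.idealSect i'.ker (k ⁻¹ᵁ O'') s') :=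
      idealSect_pullIdeal _ _ _ _ _ _
    have h₂ : Ũ ≤ ((i' ≫ k) ∣_ W'') ⁻¹ᵁ (r' ⁻¹ᵁ (k ⁻¹ᵁ O'')) :=
      (show Ũ ≤ ((i' ≫ k) ⁻¹ᵁ W'').ι ⁻¹ᵁ (i' ⁻¹ᵁ (k ⁻¹ᵁ O'')) from e₁).trans
        (le_of_sq ((i' ≫ k) ∣_ W'') i' r' ((i' ≫ k) ⁻¹ᵁ W'').ι hr₁.symm (k ⁻¹ᵁ O''))
    rw [isConormalMap_pullRes ((i' ≫ k) ∣_ W'') i' r' ((i' ≫ k) ⁻¹ᵁ W'').ι (ρ i' k W'' r' hr₁)
      (hρ i' k W'' r' hr₁) (k ⁻¹ᵁ O'') s' s₃ hs₃eq Ũ _ h₂]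
    -- β on the class of s''
    set s₄ := pullIdeal W''.ι (i' ≫ k).ker ((i' ≫ k) ∣_ W'').ker
      (comap_ker_le (morphismRestrict_ι (i' ≫ k) W'').symm) O'' s'' with hs₄
    have hs₄eq : OmegaSh.idealSect ((i' ≫ k) ∣_ W'').ker (W''.ι ⁻¹ᵁ O'') s₄ =
        W''.ι.app O'' (OmegaSh.idealSect (i' ≫ k).ker O'' s'') :=
      idealSect_pullIdeal _ _ _ _ _ _
    have h₃ : Ũ ≤ ((i' ≫ k) ∣_ W'') ⁻¹ᵁ (W''.ι ⁻¹ᵁ O'') :=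
      e₁.trans (le_of_sq ((i' ≫ k) ∣_ W'') (i' ≫ k) W''.ι ((i' ≫ k) ⁻¹ᵁ W'').ι
        (morphismRestrict_ι (i' ≫ k) W'').symm O'')
    rw [isConormalMap_pullRes ((i' ≫ k) ∣_ W'') (i' ≫ k) W''.ι ((i' ≫ k) ⁻¹ᵁ W'').ι (β i' k W'')
      (hβ i' k W'') O'' s'' s₄ hs₄eq Ũ e₁ h₃]
    -- compare
    have h₂₃ : Ũ ≤ ((i' ≫ k) ∣_ W'') ⁻¹ᵁ (r' ⁻¹ᵁ (k ⁻¹ᵁ O'') ⊓ W''.ι ⁻¹ᵁ O'') :=
      fun z hz => ⟨h₂ hz, h₃ hz⟩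
    rw [← conormalRes_map_left ((i' ≫ k) ∣_ W'') inf_le_left h₂₃ s₃,
      ← conormalRes_map_left ((i' ≫ k) ∣_ W'') inf_le_right h₂₃ s₄]
    congr 1
    apply idealSect_injective
    rw [idealSect_map, idealSect_map, hs₃eq, hs₄eq, hs'eq]
    exact res_eq k W'' r' hr₂ O'' _
  exact congr($hlin x)

end Retraction

end Groth.Agent.Lib.Helper48.FSmoothSplit
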