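import Groth.Agent.Lib.Helper48.DerLift2
import Groth.Agent.Lib.Helper48.UnivSect
import Groth.Agent.Lib.Helper48.FSmoothSplit3

/-!
# The differentials of a universal first order thickening: sections over a chart
-/

set_option autoImplicit false
set_option linter.style.haveILetI false
universe u

open AlgebraicGeometry CategoryTheory Opposite TopologicalSpace CategoryTheory.Limits

namespace Groth.Agent.Lib.Helper48.DerLift

open Groth.Agent.Lib.Helper48.OmegaAff Groth.Agent.Lib.Helper48.Conormal Scheme.Modules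

section Main

variable {Z X S Z' : Scheme.{u}} (h : Z ⟶ X) (q : X ⟶ S) (i : Z ⟶ Z') (h' : Z' ⟶ X)
  (hu : OmegaSh.IsUnivThickening h i h')
  {ΩX : X.Modules} (dX : OmegaSh.Der q ΩX) (hdX : OmegaSh.IsUniversal dX)
  {ΩZ' : Z'.Modules} (dZ' : OmegaSh.Der (h' ≫ q) ΩZ') (hdZ' : OmegaSh.IsUniversal dZ')
  (c : (Scheme.Modules.pullback h').obj ΩX ⟶ ΩZ') (hc : OmegaSh.IsDiffCompat h' dX dZ' c)
  {W' : Z'.Opens} (hW' : IsAffineOpen W') {V : X.Opens} (hV : IsAffineOpen V)
  {R : S.Opens} (hR : IsAffineOpen R) (e : W' ≤ h' ⁻¹ᵁ V) (eR : V ≤ q ⁻¹ᵁ R)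

/-- the basic section `d a` pulled back twice -/
noncomputable def δ₀ : Γ(X, V) →+
    Γ((Scheme.Modules.pullback i).obj ((Scheme.Modules.pullback h').obj ΩX), i ⁻¹ᵁ W') :=
  ((OmegaSh.pullSect i ((Scheme.Modules.pullback h').obj ΩX) W').hom.comp
    (pullRes h' ΩX e)).comp (dX.app V)

theorem δ₀_apply (a : Γ(X, V)) :
    δ₀ q i h' dX e a = OmegaSh.pullSect i ((Scheme.Modules.pullback h').obj ΩX) W'
      (pullRes h' ΩX e (dX.app V a)) := rfl

include hc in
theorem c_pullRes_d (a : Γ(X, V)) :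
    c.app W' (pullRes h' ΩX e (dX.app V a)) = dZ'.app W' (h'.appLE V W' e a) := by
  rw [pullRes_eq_map, hom_app_map, hc V a, ← der_app_map]
  rfl

include hu hdX hdZ' hc hW' hV hR e eR in
theorem app_bijective :
    Function.Bijective (((Scheme.Modules.pullback i).map c).app (i ⁻¹ᵁ W')) := by
  have hcl : IsClosedImmersion i := hu.1.1.1
  have hU : IsAffineOpen (i ⁻¹ᵁ W') := hW'.preimage i
  haveI : ΩX.IsQuasicoherent := isQuasicoherent_of_universal q dX hdX
  haveI : ΩZ'.IsQuasicoherent := isQuasicoherent_of_universal (h' ≫ q) dZ' hdZ'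
  set fL := appL ((Scheme.Modules.pullback i).map c) (i ⁻¹ᵁ W') with hfL
  letI modM : Module Γ(Z', W') Γ((Scheme.Modules.pullback i).obj ((Scheme.Modules.pullback h').obj ΩX), i ⁻¹ᵁ W') :=
    Module.compHom _ (i.app W').hom
  letI modMop : Module Γ(Z', W')ᵐᵒᵖ Γ((Scheme.Modules.pullback i).obj ((Scheme.Modules.pullback h').obj ΩX), i ⁻¹ᵁ W') :=
    Module.compHom _ ((RingHom.id Γ(Z', W')).fromOpposite mul_comm)
  haveI : IsCentralScalar Γ(Z', W') Γ((Scheme.Modules.pullback i).obj ((Scheme.Modules.pullback h').obj ΩX), i ⁻¹ᵁ W') :=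
    ⟨fun _ _ => rfl⟩
  letI modN : Module Γ(Z', W') Γ((Scheme.Modules.pullback i).obj ΩZ', i ⁻¹ᵁ W') :=
    Module.compHom _ (i.app W').hom
  letI modNop : Module Γ(Z', W')ᵐᵒᵖ Γ((Scheme.Modules.pullback i).obj ΩZ', i ⁻¹ᵁ W') :=
    Module.compHom _ ((RingHom.id Γ(Z', W')).fromOpposite mul_comm)
  haveI : IsCentralScalar Γ(Z', W') Γ((Scheme.Modules.pullback i).obj ΩZ', i ⁻¹ᵁ W') :=
    ⟨fun _ _ => rfl⟩
  have hsmM : ∀ (x : Γ(Z', W')) (m : Γ((Scheme.Modules.pullback i).obj ((Scheme.Modules.pullback h').obj ΩX), i ⁻¹ᵁ W')),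
      x • m = i.app W' x • m := fun _ _ => rfl
  have hsmN : ∀ (x : Γ(Z', W')) (m : Γ((Scheme.Modules.pullback i).obj ΩZ', i ⁻¹ᵁ W')),
      x • m = i.app W' x • m := fun _ _ => rfl
  have hNM : ∀ x : Γ(Z', W'), i.app W' x = 0 →
      ∀ n : Γ((Scheme.Modules.pullback i).obj ((Scheme.Modules.pullback h').obj ΩX), i ⁻¹ᵁ W'), x • n = 0 := by
    intro x hx n
    rw [hsmM, hx, zero_smul]
  have hNN : ∀ x : Γ(Z', W'), i.app W' x = 0 →
      ∀ n : Γ((Scheme.Modules.pullback i).obj ΩZ', i ⁻¹ᵁ W'), x • n = 0 := by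
    intro x hx n
    rw [hsmN, hx, zero_smul]
  have hδ : ∀ a b, δ₀ q i h' dX e (a * b) =
      h'.appLE V W' e a • δ₀ q i h' dX e b + h'.appLE V W' e b • δ₀ q i h' dX e a := by
    intro a b
    rw [δ₀_apply, δ₀_apply, δ₀_apply, der_app_mul, map_add, pullRes_smul, pullRes_smul, map_add,
      OmegaSh.pullSect_smul, OmegaSh.pullSect_smul, hsmM, hsmM]
  obtain ⟨D, hDmul, hDφ⟩ := exists_der h i h' hu hW' hV e hNM (δ₀ q i h' dX e) hδ
  have hleR : W' ≤ (h' ≫ q) ⁻¹ᵁ R := fun x hx => eR (e hx)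
  have hcomp : ∀ s, (h' ≫ q).appLE R W' hleR s = h'.appLE V W' e (q.appLE R V eR s) := by
    intro s
    have := Scheme.Hom.appLE_comp_appLE h' q R V W' eR e
    exact congr($this s).symm
  have hDkill : ∀ s, D ((h' ≫ q).appLE R W' hleR s) = 0 := by
    intro s
    rw [hcomp, hDφ, δ₀_apply, der_app_appLE, map_zero, map_zero]
  obtain ⟨α, hα, -⟩ := existsUnique_of_derivation_universal (h' ≫ q) dZ' hdZ' hW' hR hleR _ D
    hDmul hDkill
  obtain ⟨β, hβ, -⟩ := existsUnique_of_semilinear_pullSect i ΩZ' hW' hU _ α.toAddMonoidHom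
    (fun a m => by
      change α (a • m) = _
      rw [α.map_smul, hsmM]
      rfl)
  have hfδ : ∀ a, fL (δ₀ q i h' dX e a) =
      OmegaSh.pullSect i ΩZ' W' (dZ'.app W' (h'.appLE V W' e a)) := by
    intro a
    rw [δ₀_apply, appL_apply, Groth.Agent.Lib.Helper48.RegSection.map_pullSect,
      c_pullRes_d q h' dX dZ' c hc e]
  -- left inverse
  have hL1 : ∀ ω : Γ(ΩX, V), β (fL (OmegaSh.pullSect i ((Scheme.Modules.pullback h').obj ΩX) W' (pullRes h' ΩX e ω))) =
      OmegaSh.pullSect i ((Scheme.Modules.pullback h').obj ΩX) W' (pullRes h' ΩX e ω) := by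
    intro ω
    have hω : ω ∈ Submodule.span Γ(X, V) (Set.range (dX.app V)) := by
      rw [span_range_d_universal q dX hdX hV hR eR]
      trivial
    induction hω using Submodule.span_induction with
    | mem x hx =>
      obtain ⟨a, rfl⟩ := hx
      rw [← δ₀_apply, hfδ, hβ]
      change α (dZ'.app W' _) = _
      rw [hα, hDφ]
    | zero => simp
    | add x y _ _ hx hy => simp only [map_add, hx, hy]
    | smul a x _ hx =>
      rw [pullRes_smul, OmegaSh.pullSect_smul, fL.map_smul, β.map_smul, hx]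
  have hL2 : ∀ n : Γ((Scheme.Modules.pullback h').obj ΩX, W'), β (fL (OmegaSh.pullSect i ((Scheme.Modules.pullback h').obj ΩX) W' n)) = OmegaSh.pullSect i ((Scheme.Modules.pullback h').obj ΩX) W' n := by
    intro n
    have hn : n ∈ Submodule.span Γ(Z', W') (Set.range (pullRes h' ΩX e)) := by
      rw [span_range_pullRes h' ΩX hW' hV e]
      trivial
    induction hn using Submodule.span_induction with
    | mem x hx =>
      obtain ⟨ω, rfl⟩ := hx
      exact hL1 ω
    | zero => simp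
    | add x y _ _ hx hy => simp only [map_add, hx, hy]
    | smul a x _ hx =>
      rw [OmegaSh.pullSect_smul, fL.map_smul, β.map_smul, hx]
  have hL3 : ∀ m, β (fL m) = m := by
    intro m
    have hm : m ∈ Submodule.span Γ(Z, i ⁻¹ᵁ W') (Set.range (OmegaSh.pullSect i ((Scheme.Modules.pullback h').obj ΩX) W')) := by
      rw [span_range_pullSect i ((Scheme.Modules.pullback h').obj ΩX) hW' hU]
      trivial
    induction hm using Submodule.span_induction with
    | mem x hx =>
      obtain ⟨n, rfl⟩ := hx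
      exact hL2 n
    | zero => simp
    | add x y _ _ hx hy => simp only [map_add, hx, hy]
    | smul a x _ hx => rw [fL.map_smul, β.map_smul, hx]
  -- right inverse
  let E : Γ(Z', W') →+ Γ((Scheme.Modules.pullback i).obj ΩZ', i ⁻¹ᵁ W') :=
    fL.toAddMonoidHom.comp D - (OmegaSh.pullSect i ΩZ' W').hom.comp (dZ'.app W')
  have hEapp : ∀ b, E b = fL (D b) - OmegaSh.pullSect i ΩZ' W' (dZ'.app W' b) := fun _ => rfl
  have hEmul : ∀ x y, E (x * y) = x • E y + y • E x := by
    intro x y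
    rw [hEapp, hEapp, hEapp, hDmul, der_app_mul, map_add, map_add, hsmM, hsmM, fL.map_smul,
      fL.map_smul, OmegaSh.pullSect_smul, OmegaSh.pullSect_smul, hsmN, hsmN, smul_sub, smul_sub]
    abel
  have hE0 : ∀ a, E (h'.appLE V W' e a) = 0 := by
    intro a
    rw [hEapp, hDφ, hfδ, sub_self]
  have hEz : E = 0 := der_eq_zero h i h' hu hW' hV e hNN E hEmul hE0
  have hfD : ∀ b, fL (D b) = OmegaSh.pullSect i ΩZ' W' (dZ'.app W' b) := by
    intro b
    have := congrArg (fun F : Γ(Z', W') →+ _ => F b) hEz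
    simp only [hEapp, AddMonoidHom.zero_apply] at this
    exact sub_eq_zero.mp this
  have hR1 : ∀ ω' : Γ(ΩZ', W'), fL (β (OmegaSh.pullSect i ΩZ' W' ω')) =
      OmegaSh.pullSect i ΩZ' W' ω' := by
    intro ω'
    have hω : ω' ∈ Submodule.span Γ(Z', W') (Set.range (dZ'.app W')) := by
      rw [span_range_d_universal (h' ≫ q) dZ' hdZ' hW' hR hleR]
      trivial
    induction hω using Submodule.span_induction with
    | mem x hx =>
      obtain ⟨b, rfl⟩ := hx
      rw [hβ]
      change fL (α (dZ'.app W' b)) = _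
      rw [hα, hfD]
    | zero => simp
    | add x y _ _ hx hy => simp only [map_add, hx, hy]
    | smul a x _ hx =>
      rw [OmegaSh.pullSect_smul, β.map_smul, fL.map_smul, hx]
  have hR2 : ∀ n', fL (β n') = n' := by
    intro n'
    have hn : n' ∈ Submodule.span Γ(Z, i ⁻¹ᵁ W') (Set.range (OmegaSh.pullSect i ΩZ' W')) := by
      rw [span_range_pullSect i ΩZ' hW' hU]
      trivial
    induction hn using Submodule.span_induction with
    | mem x hx =>
      obtain ⟨n, rfl⟩ := hx
      exact hR1 n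
    | zero => simp
    | add x y _ _ hx hy => simp only [map_add, hx, hy]
    | smul a x _ hx => rw [β.map_smul, fL.map_smul, hx]
  refine ⟨fun x y hxy => ?_, fun n => ⟨β n, hR2 n⟩⟩
  have := congrArg β hxy
  change β (fL x) = β (fL y) at this
  rwa [hL3, hL3] at this

end Main

end Groth.Agent.Lib.Helper48.DerLift
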