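import Groth.Agent.Lib.Helper48.OmegaAff7
import Mathlib.Topology.Sheaves.SheafCondition.Sites

set_option autoImplicit false
universe u

open AlgebraicGeometry CategoryTheory Opposite TopologicalSpace CategoryTheory.Limits

namespace Groth.Agent.Lib.Helper48.OmegaAff

section Basis

variable {X Y : Scheme.{u}} (f : X ⟶ Y)

/-- An affine open of `X` mapping into an affine open of `Y`. -/
def IsGood (U : X.Opens) : Prop :=
  IsAffineOpen U ∧ ∃ V : Y.Opens, IsAffineOpen V ∧ U ≤ f ⁻¹ᵁ V

theorem exists_good (x : X) (W : X.Opens) (hx : x ∈ W) :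
    ∃ U : X.Opens, IsGood f U ∧ x ∈ U ∧ U ≤ W := by
  obtain ⟨_, ⟨V, hV : IsAffineOpen V, rfl⟩, hyV, -⟩ :=
    (Y.isBasis_affineOpens).exists_subset_of_mem_open (Set.mem_univ (f x)) isOpen_univ
  obtain ⟨_, ⟨U, hU : IsAffineOpen U, rfl⟩, hxU, hUW⟩ :=
    (X.isBasis_affineOpens).exists_subset_of_mem_open
      (show x ∈ ((W ⊓ f ⁻¹ᵁ V : X.Opens) : Set X) from ⟨hx, hyV⟩) (W ⊓ f ⁻¹ᵁ V).isOpen
  exact ⟨U, ⟨hU, V, hV, fun y hy => (hUW hy).2⟩, hxU, fun y hy => (hUW hy).1⟩

theorem isBasis_good :
    Opens.IsBasis (Set.range (Subtype.val : {U : X.Opens // IsGood f U} → X.Opens)) := by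
  rw [Opens.isBasis_iff_nbhd]
  intro W x hx
  obtain ⟨U, hU, hxU, hUW⟩ := exists_good f x W hx
  exact ⟨U, ⟨⟨U, hU⟩, rfl⟩, hxU, hUW⟩

/-- Two sections of a module agreeing on all good opens are equal. -/
theorem eq_of_good_res_eq (F : X.Modules) {W : X.Opens} (s t : Γ(F, W))
    (h : ∀ (U : X.Opens) (_ : IsGood f U) (hUW : U ≤ W),
      F.presheaf.map (homOfLE hUW).op s = F.presheaf.map (homOfLE hUW).op t) : s = t := by
  refine TopCat.Presheaf.section_ext ⟨F.presheaf, F.isSheaf⟩ W s t (fun x hx => ?_)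
  obtain ⟨U, hU, hxU, hUW⟩ := exists_good f x W hx
  have e1 := TopCat.Presheaf.germ_res_apply F.presheaf (homOfLE hUW) x hxU s
  have e2 := TopCat.Presheaf.germ_res_apply F.presheaf (homOfLE hUW) x hxU t
  change F.presheaf.germ W x hx s = F.presheaf.germ W x hx t
  rw [← e1, ← e2]
  exact congrArg _ (h U hU hUW)

end Basis

section Universal

variable {X Y : Scheme.{u}} (f : X ⟶ Y) {F : X.Modules} (D : OmegaSh.Der f F)

theorem der_app_mul (U : X.Opens) (a b : Γ(X, U)) :
    D.app U (a * b) = a • D.app U b + b • D.app U a :=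
  D.d_mul (X := op U) a b

theorem der_app_map {U U' : X.Opens} (i : U' ≤ U) (a : Γ(X, U)) :
    D.app U' (X.presheaf.map (homOfLE i).op a) = F.presheaf.map (homOfLE i).op (D.app U a) :=
  D.d_map (X := op U) (Y := op U') (homOfLE i).op a

theorem der_app_app (V : Y.Opens) (c : Γ(Y, V)) : D.app (f ⁻¹ᵁ V) (f.app V c) = 0 :=
  D.d_app (X := op V) c

theorem der_app_appLE (V : Y.Opens) (U : X.Opens) (h : U ≤ f ⁻¹ᵁ V) (c : Γ(Y, V)) :
    D.app U (f.appLE V U h c) = 0 := by
  rw [Scheme.Hom.appLE]
  change D.app U (X.presheaf.map (homOfLE h).op (f.app V c)) = 0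
  rw [der_app_map, der_app_app, map_zero]

/-- The derivation of section rings induced by a derivation of the structure sheaf. -/
noncomputable def derOfDer (V : Y.Opens) (U : X.Opens) (h : U ≤ f ⁻¹ᵁ V) :
    (OmAff.sectMod F U).Derivation (f.appLE V U h) :=
  ModuleCat.Derivation.mk (fun b => D.app U b) (fun a b => map_add _ a b)
    (der_app_mul f D U) (der_app_appLE f D V U h)

theorem derOfDer_d (V : Y.Opens) (U : X.Opens) (h : U ≤ f ⁻¹ᵁ V) (b : Γ(X, U)) :
    (derOfDer f D V U h).d b = D.app U b := rfl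

end Universal


section Glue

variable {X Y : Scheme.{u}} (f : X ⟶ Y) [QuasiSeparated f] {F : X.Modules} (D : OmegaSh.Der f F)

theorem dSect_map' {U U' : X.Opens} (i : U' ≤ U) (b : Γ(X, U)) :
    OmegaSh.dSect f U' (X.presheaf.map (homOfLE i).op b) =
      (Omega.sheaf f).presheaf.map (homOfLE i).op (OmegaSh.dSect f U b) :=
  OmegaSh.dSect_map f i b

/-- Over a good open, the sections of the sheaf of differentials are spanned by the `d b`. -/
theorem span_range_dSect {U : X.Opens} (hU : IsGood f U) :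
    Submodule.span Γ(X, U) (Set.range (OmegaSh.dSect f U)) = ⊤ := by
  obtain ⟨hUa, V, hV, h⟩ := hU
  set S := Submodule.span Γ(X, U) (Set.range (OmegaSh.dSect f U)) with hS
  let M : ModuleCat.{u} Γ(X, U) := ModuleCat.of Γ(X, U) (Γ(Omega.sheaf f, U) ⧸ S)
  let D0 : M.Derivation (f.appLE V U h) :=
    ModuleCat.Derivation.mk (fun _ => 0) (by simp) (by simp) (by simp)
  obtain ⟨α, -, huniq⟩ := existsUnique_of_derivation f hUa hV h M D0
  have h1 : S.mkQ = α := huniq _ (fun b => by
    change S.mkQ (OmegaSh.dSect f U b) = 0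
    exact (Submodule.Quotient.mk_eq_zero S).mpr (Submodule.subset_span ⟨b, rfl⟩))
  have h2 : (0 : Γ(Omega.sheaf f, U) →ₗ[Γ(X, U)] M) = α := huniq _ (fun b => rfl)
  have h3 : S.mkQ = 0 := h1.trans h2.symm
  rw [← Submodule.ker_mkQ S, h3, LinearMap.ker_zero]

theorem locMap_aux (U : X.Opens) (hU : IsGood f U) :
    ∃! α : Γ(Omega.sheaf f, U) →ₗ[Γ(X, U)] Γ(F, U), ∀ b, α (OmegaSh.dSect f U b) = D.app U b :=
  existsUnique_of_derivation f hU.1 hU.2.choose_spec.1 hU.2.choose_spec.2 (OmAff.sectMod F U)
    (derOfDer f D _ U hU.2.choose_spec.2)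

/-- The local factorisation of a derivation through `d` over a good open. -/
noncomputable def locMap (U : X.Opens) (hU : IsGood f U) :
    Γ(Omega.sheaf f, U) →ₗ[Γ(X, U)] Γ(F, U) :=
  (locMap_aux f D U hU).exists.choose

theorem locMap_dSect (U : X.Opens) (hU : IsGood f U) (b : Γ(X, U)) :
    locMap f D U hU (OmegaSh.dSect f U b) = D.app U b :=
  (locMap_aux f D U hU).exists.choose_spec b

theorem locMap_unique (U : X.Opens) (hU : IsGood f U)
    (α : Γ(Omega.sheaf f, U) →ₗ[Γ(X, U)] Γ(F, U))
    (hα : ∀ b, α (OmegaSh.dSect f U b) = D.app U b) : α = locMap f D U hU :=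
  (locMap_aux f D U hU).unique hα (locMap_dSect f D U hU)

theorem locMap_res {U U' : X.Opens} (hU : IsGood f U) (hU' : IsGood f U') (i : U' ≤ U)
    (s : Γ(Omega.sheaf f, U)) :
    locMap f D U' hU' ((Omega.sheaf f).presheaf.map (homOfLE i).op s) =
      F.presheaf.map (homOfLE i).op (locMap f D U hU s) := by
  have hs : s ∈ Submodule.span Γ(X, U) (Set.range (OmegaSh.dSect f U)) := by
    rw [span_range_dSect f hU]; trivial
  induction hs using Submodule.span_induction with
  | mem y hy =>
    obtain ⟨b, rfl⟩ := hy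
    rw [← dSect_map', locMap_dSect, locMap_dSect, der_app_map]
  | zero => rw [map_zero, map_zero, map_zero, map_zero]
  | add y z _ _ hy hz => rw [map_add, map_add, map_add, map_add, hy, hz]
  | smul r y _ hy =>
    rw [Scheme.Modules.map_smul, _root_.map_smul, hy, _root_.map_smul, Scheme.Modules.map_smul]

/-- The family of local maps, as a natural transformation on the basis of good opens. -/
noncomputable def basisNat :
    (inducedFunctor (Subtype.val : {U : X.Opens // IsGood f U} → X.Opens)).op ⋙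
        (Omega.sheaf f).presheaf ⟶
      (inducedFunctor (Subtype.val : {U : X.Opens // IsGood f U} → X.Opens)).op ⋙ F.presheaf where
  app i := AddCommGrpCat.ofHom
    (locMap f D (show {U : X.Opens // IsGood f U} from i.unop).1
      (show {U : X.Opens // IsGood f U} from i.unop).2).toAddMonoidHom
  naturality i j g := by
    ext s
    exact locMap_res f D (show {U : X.Opens // IsGood f U} from i.unop).2
      (show {U : X.Opens // IsGood f U} from j.unop).2 g.unop.hom.le s

/-- The glued map of abelian presheaves. -/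
noncomputable def glueNat : (Omega.sheaf f).presheaf ⟶ F.presheaf :=
  TopCat.Sheaf.restrictHomEquivHom (Omega.sheaf f).presheaf ⟨F.presheaf, F.isSheaf⟩
    (isBasis_good f) (basisNat f D)

theorem glueNat_app_good (U : X.Opens) (hU : IsGood f U) (s : Γ(Omega.sheaf f, U)) :
    (glueNat f D).app (op U) s = locMap f D U hU s := by
  have h := TopCat.Sheaf.extend_hom_app (Omega.sheaf f).presheaf ⟨F.presheaf, F.isSheaf⟩
    (isBasis_good f) (basisNat f D) ⟨U, hU⟩
  exact congr($h s)

theorem glueNat_res {W U : X.Opens} (i : U ≤ W) (s : Γ(Omega.sheaf f, W)) :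
    F.presheaf.map (homOfLE i).op ((glueNat f D).app (op W) s) =
      (glueNat f D).app (op U) ((Omega.sheaf f).presheaf.map (homOfLE i).op s) :=
  (congr($((glueNat f D).naturality (homOfLE i).op) s)).symm

end Glue


section Glue2

variable {X Y : Scheme.{u}} (f : X ⟶ Y) [QuasiSeparated f] {F : X.Modules} (D : OmegaSh.Der f F)

theorem glueNat_smul (W : X.Opens) (r : Γ(X, W)) (s : Γ(Omega.sheaf f, W)) :
    (glueNat f D).app (op W) (r • s) = r • (glueNat f D).app (op W) s := by
  apply eq_of_good_res_eq f F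
  intro U hU hUW
  rw [glueNat_res, Scheme.Modules.map_smul, Scheme.Modules.map_smul, glueNat_res,
    glueNat_app_good f D U hU, glueNat_app_good f D U hU, _root_.map_smul]

/-- The factorisation of a derivation through `d_{X/Y}`. -/
noncomputable def factor : Omega.sheaf f ⟶ F :=
  ⟨PresheafOfModules.homMk (glueNat f D) (fun U r m => glueNat_smul f D U.unop r m)⟩

theorem factor_app (W : X.Opens) (s : Γ(Omega.sheaf f, W)) :
    (factor f D).app W s = (glueNat f D).app (op W) s := rfl

theorem factor_app_dSect (W : X.Opens) (b : Γ(X, W)) :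
    (factor f D).app W (OmegaSh.dSect f W b) = D.app W b := by
  rw [factor_app]
  apply eq_of_good_res_eq f F
  intro U hU hUW
  rw [glueNat_res, ← dSect_map', glueNat_app_good f D U hU, locMap_dSect, der_app_map]

theorem factor_unique (α : Omega.sheaf f ⟶ F)
    (hα : ∀ (W : X.Opens) (b : Γ(X, W)), α.app W (OmegaSh.dSect f W b) = D.app W b) :
    α = factor f D := by
  ext W s
  change α.app W s = (factor f D).app W s
  apply eq_of_good_res_eq f F
  intro U hU hUW
  rw [← hom_app_map, ← hom_app_map]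
  set s' := (Omega.sheaf f).presheaf.map (homOfLE hUW).op s with hs'
  let αU : Γ(Omega.sheaf f, U) →ₗ[Γ(X, U)] Γ(F, U) :=
    { toFun := fun t => α.app U t
      map_add' := fun a b => map_add _ a b
      map_smul' := fun r t => Scheme.Modules.Hom.app_smul α r t }
  have h1 : αU = locMap f D U hU := locMap_unique f D U hU αU (fun b => hα U b)
  have h2 : α.app U s' = locMap f D U hU s' := congr($h1 s')
  rw [h2, factor_app, glueNat_app_good f D U hU]

/-- **The frozen derivation `d_{X/Y}` of a quasi-separated morphism is universal.** -/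
theorem isUniversal_dOmega : OmegaSh.IsUniversal (OmegaSh.dOmega f) := by
  intro F D
  refine ⟨factor f D, ?_, ?_⟩
  · ext W b
    exact factor_app_dSect f D W.unop b
  · intro α hα
    apply factor_unique
    intro W b
    have := PresheafOfModules.Derivation.congr_d hα (X := op W) b
    exact this

end Glue2

end Groth.Agent.Lib.Helper48.OmegaAff
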