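import Groth.Agent.Lib.Helper48.PnGen

/-!
# Consequences of the generation of `P^n(F)` by `d^n`: extensionality and an epi criterion
-/

set_option autoImplicit false
universe u

open CategoryTheory CategoryTheory.Limits AlgebraicGeometry TopologicalSpace

namespace Groth.Agent.Lib.Helper48.PnGen

open Scheme Groth.Agent.Lib.Helper48.OmegaAff Groth.Agent.Lib.Helper48.Conormal

variable {X S : Scheme.{u}} (f : X ⟶ S) (n : ℕ) (F : X.Modules)

/-- Two `O_X`-linear maps out of `P^n(F)` which agree on the image of `d^n` agree. -/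
theorem hom_ext_dP {G : X.Modules} (a b : PrinPart.PMod f n F ⟶ G)
    (h : ∀ (U : X.Opens) (t : Γ(F, U)),
      a.app U (PrinPart.dP f n F U t) = b.app U (PrinPart.dP f n F U t)) : a = b := by
  apply Scheme.Modules.hom_ext
  intro U
  ext e
  have h0 : a.app U e - b.app U e = 0 := by
    apply eq_zero_of_locally G
    intro x hx
    obtain ⟨U', hU', hxU', hmem⟩ := exists_mem_spanD f n F e x hx
    refine ⟨U', hU', hxU', ?_⟩
    rw [map_sub, ← hom_app_map, ← hom_app_map, sub_eq_zero]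
    generalize (PrinPart.PMod f n F).presheaf.map (homOfLE hU').op e = e' at hmem
    induction hmem using Submodule.span_induction with
    | mem y hy =>
      obtain ⟨t, rfl⟩ := hy
      exact h U' t
    | zero => rw [map_zero, map_zero]
    | add y y' _ _ hy hy' => rw [map_add, map_add, hy, hy']
    | smul c y _ hy => rw [Scheme.Modules.Hom.app_smul, Scheme.Modules.Hom.app_smul, hy]
  exact sub_eq_zero.mp h0

/-- A map into `P^n(F)` whose image contains (locally) the image of `d^n` is an epimorphism. -/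
theorem epi_of_dP_mem {A : X.Modules} (φ : A ⟶ PrinPart.PMod f n F)
    (h : ∀ (U : X.Opens) (t : Γ(F, U)) (x : X), x ∈ U → ∃ (W : X.Opens) (hW : W ≤ U),
      x ∈ W ∧ ∃ a : Γ(A, W), φ.app W a = PrinPart.dP f n F W (F.presheaf.map (homOfLE hW).op t)) :
    Epi φ := by
  apply epi_of_locally_surjective
  intro U e x hx
  obtain ⟨U', hU', hxU', hmem⟩ := exists_mem_spanD f n F e x hx
  -- induction on the span, shrinking the neighbourhood
  have key : ∀ s ∈ spanD f n F U', ∃ (W : X.Opens) (hW : W ≤ U'), x ∈ W ∧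
      ∃ a : Γ(A, W), φ.app W a = (PrinPart.PMod f n F).presheaf.map (homOfLE hW).op s := by
    intro s hs
    induction hs using Submodule.span_induction with
    | mem y hy =>
      obtain ⟨t, rfl⟩ := hy
      obtain ⟨W, hW, hxW, a, ha⟩ := h U' t x hxU'
      exact ⟨W, hW, hxW, a, by rw [ha, PrinPart.dP_map]⟩
    | zero => exact ⟨U', le_rfl, hxU', 0, by rw [map_zero, map_zero]⟩
    | add y y' _ _ hy hy' =>
      obtain ⟨W₁, hW₁, hx₁, a₁, ha₁⟩ := hy
      obtain ⟨W₂, hW₂, hx₂, a₂, ha₂⟩ := hy'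
      refine ⟨W₁ ⊓ W₂, inf_le_left.trans hW₁, ⟨hx₁, hx₂⟩,
        A.presheaf.map (homOfLE (inf_le_left : W₁ ⊓ W₂ ≤ W₁)).op a₁ +
          A.presheaf.map (homOfLE (inf_le_right : W₁ ⊓ W₂ ≤ W₂)).op a₂, ?_⟩
      rw [map_add, map_add, hom_app_map, hom_app_map, ha₁, ha₂, OmegaSh.resM_resM,
        OmegaSh.resM_resM]
      rfl
    | smul c y _ hy =>
      obtain ⟨W₁, hW₁, hx₁, a₁, ha₁⟩ := hy
      refine ⟨W₁, hW₁, hx₁, X.presheaf.map (homOfLE hW₁).op c • a₁, ?_⟩
      rw [Scheme.Modules.Hom.app_smul, ha₁, Scheme.Modules.map_smul]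
  obtain ⟨W, hW, hxW, a, ha⟩ := key _ hmem
  refine ⟨W, hW.trans hU', hxW, a, ?_⟩
  rw [OmegaSh.resM_resM] at ha
  exact ha

end Groth.Agent.Lib.Helper48.PnGen
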