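import Groth.Agent.Lib.Helper48.PnNil2
import Groth.Agent.Lib.Helper48.PnGen2
import Groth.Agent.Lib.Helper48.OmegaAff8

/-!
# Differential operators of order `≤ 1` on `O_X`: `D = v + d` (EGA IV 16.8.6)
-/

set_option autoImplicit false
universe u

open CategoryTheory CategoryTheory.Limits AlgebraicGeometry TopologicalSpace Opposite

namespace Groth.Agent.Lib.Helper48.DiffOp

open Scheme Groth.Agent.Lib.Helper48.OmegaAff Groth.Agent.Lib.Helper48.PnGen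
  Groth.Agent.Lib.Helper48.PnNil Groth.Agent.Lib.Helper48.Nbhd

theorem appLE_eq_of_comp_eq {Z X S : Scheme.{u}} (p q : Z ⟶ X) (f : X ⟶ S)
    (h : p ≫ f = q ≫ f) {V : S.Opens} {U : X.Opens} {W : Z.Opens} (hU : U ≤ f ⁻¹ᵁ V)
    (e₁ : W ≤ p ⁻¹ᵁ U) (e₂ : W ≤ q ⁻¹ᵁ U) (s : Γ(S, V)) :
    p.appLE U W e₁ (f.appLE V U hU s) = q.appLE U W e₂ (f.appLE V U hU s) := by
  rw [← CommRingCat.comp_apply, ← CommRingCat.comp_apply, Scheme.Hom.appLE_comp_appLE,
    Scheme.Hom.appLE_comp_appLE]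
  exact congr($(appLE_congr h V W _) s)

variable {X S : Scheme.{u}} (f : X ⟶ S) (n : ℕ)

/-- `d^n a` for a function `a`, as `p₂♯ a` acting on `d^n 1`. -/
theorem dn_eq_zAct (U : X.Opens) (a : Γ(X, U)) :
    PrinPart.dn f n U a = zAct f n (Coh.structureModule X) U
      ((PrinPart.pr2 f n).appLE U (PrinPart.pr1 f n ⁻¹ᵁ U) (PrinPart.preimage_pr1 f n U).le a)
      (PrinPart.dn f n U 1) := by
  change PrinPart.dP f n _ U (OmegaSh.strSect X U a) = zAct f n _ U _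
    (PrinPart.dP f n _ U (OmegaSh.strSect X U 1))
  rw [zAct_pr2_dP, ← OmegaSh.strSect_mul, mul_one]

theorem smul_eq_zAct (F : X.Modules) (U : X.Opens) (a : Γ(X, U)) (s : Γ(PrinPart.PMod f n F, U)) :
    a • s = zAct f n F U ((PrinPart.pr1 f n).appLE U (PrinPart.pr1 f n ⁻¹ᵁ U) le_rfl a) s := by
  rw [Scheme.Hom.appLE_eq_app, zAct_app]

/-- The key identity in `P^1`: `d¹(ab) - a d¹b - b d¹a + ab d¹1 = 0`. -/
theorem dn_one_mul (U : X.Opens) (a b : Γ(X, U)) :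
    PrinPart.dn f 1 U (a * b) - a • PrinPart.dn f 1 U b - b • PrinPart.dn f 1 U a +
      (a * b) • PrinPart.dn f 1 U 1 = 0 := by
  set e := PrinPart.dn f 1 U 1 with he
  set O := Coh.structureModule X
  set p2 := (PrinPart.pr2 f 1).appLE U (PrinPart.pr1 f 1 ⁻¹ᵁ U) (PrinPart.preimage_pr1 f 1 U).le
    with hp2
  set p1 := (PrinPart.pr1 f 1).appLE U (PrinPart.pr1 f 1 ⁻¹ᵁ U) le_rfl with hp1
  have h0 := augDiff_mul_augDiff f (U := U) (W := PrinPart.pr1 f 1 ⁻¹ᵁ U) le_rfl a b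
  unfold augDiff at h0
  rw [← hp2, ← hp1] at h0
  have h1 : zAct f 1 O U ((p2 a - p1 a) * (p2 b - p1 b)) e = 0 := by
    rw [h0, zAct_zero]
  have h2 : (p2 a - p1 a) * (p2 b - p1 b) =
      p2 (a * b) + -(p1 a * p2 b) + -(p1 b * p2 a) + p1 (a * b) := by
    rw [map_mul, map_mul]; ring
  rw [h2, zAct_add, zAct_add, zAct_add, zAct_neg, zAct_neg, zAct_mul, zAct_mul] at h1
  rw [dn_eq_zAct f 1 U (a * b), dn_eq_zAct f 1 U b, dn_eq_zAct f 1 U a,
    smul_eq_zAct f 1 O U a, smul_eq_zAct f 1 O U b, smul_eq_zAct f 1 O U (a * b)]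
  rw [← hp2, ← hp1, ← he]
  rw [← h1]
  abel

/-- `d^n` is linear over functions pulled back from `S`. -/
theorem dn_appLE_mul {V : S.Opens} (U : X.Opens) (hU : U ≤ f ⁻¹ᵁ V) (s : Γ(S, V)) (b : Γ(X, U)) :
    PrinPart.dn f n U (f.appLE V U hU s * b) = f.appLE V U hU s • PrinPart.dn f n U b := by
  rw [dn_eq_zAct f n U (f.appLE V U hU s * b), map_mul, zAct_mul, ← dn_eq_zAct,
    smul_eq_zAct]
  congr 1
  exact appLE_eq_of_comp_eq (PrinPart.pr2 f n) (PrinPart.pr1 f n) f (PrinPart.pr1_comp f n).symm hU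
    _ _ s

end Groth.Agent.Lib.Helper48.DiffOp
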