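import Groth.Agent.Lib.Helper48.DiffOp1

/-!
# Differential operators of order `≤ 1` on `O_X`: `D = v + d`, II (EGA IV 16.8.6)
-/

set_option autoImplicit false
universe u

open CategoryTheory CategoryTheory.Limits AlgebraicGeometry TopologicalSpace Opposite

namespace Groth.Agent.Lib.Helper48.DiffOp

open Scheme Groth.Agent.Lib.Helper48.OmegaAff Groth.Agent.Lib.Helper48.PnGen
  Groth.Agent.Lib.Helper48.PnNil Groth.Agent.Lib.Helper48.Nbhd

variable {X S : Scheme.{u}} (f : X ⟶ S) {G : X.Modules}
  (D : (Coh.structureModule X).presheaf ⟶ G.presheaf)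

/-- The value of `D` on a function. -/
noncomputable def dval (U : X.Opens) : Γ(X, U) →+ Γ(G, U) :=
  (D.app (op U)).hom.comp (OmegaSh.strSect X U)

theorem dval_apply (U : X.Opens) (a : Γ(X, U)) :
    dval D U a = D.app (op U) (OmegaSh.strSect X U a) := rfl

theorem dval_map {U U' : X.Opens} (h : U' ≤ U) (a : Γ(X, U)) :
    dval D U' (X.presheaf.map (homOfLE h).op a) = G.presheaf.map (homOfLE h).op (dval D U a) := by
  rw [dval_apply, dval_apply, OmegaSh.strSect_map]
  exact congr($(D.naturality (homOfLE h).op) (OmegaSh.strSect X U a))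

section

variable (u : PrinPart.PMod f 1 (Coh.structureModule X) ⟶ G)
  (hu : ∀ (U : X.Opens) (t : Γ(Coh.structureModule X, U)),
    D.app (op U) t = u.app U (PrinPart.dP f 1 (Coh.structureModule X) U t))

include hu

theorem dval_eq (U : X.Opens) (a : Γ(X, U)) : dval D U a = u.app U (PrinPart.dn f 1 U a) :=
  hu U _

theorem dval_mul (U : X.Opens) (a b : Γ(X, U)) :
    dval D U (a * b) = a • dval D U b + b • dval D U a - (a * b) • dval D U 1 := by
  have h := congrArg (u.app U) (dn_one_mul f U a b)
  rw [map_zero, map_add, map_sub, map_sub, Scheme.Modules.Hom.app_smul,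
    Scheme.Modules.Hom.app_smul, Scheme.Modules.Hom.app_smul, ← dval_eq f D u hu,
    ← dval_eq f D u hu, ← dval_eq f D u hu, ← dval_eq f D u hu] at h
  rw [← sub_eq_zero, ← h]
  abel

theorem dval_appLE_mul {V : S.Opens} (U : X.Opens) (hU : U ≤ f ⁻¹ᵁ V) (s : Γ(S, V))
    (b : Γ(X, U)) : dval D U (f.appLE V U hU s * b) = f.appLE V U hU s • dval D U b := by
  rw [dval_eq f D u hu, dval_eq f D u hu, dn_appLE_mul, Scheme.Modules.Hom.app_smul]

/-- `a ↦ D a - a D 1` on sections over `U`. -/
noncomputable def dpart (U : X.Opens) : Γ(X, U) →+ Γ(G, U) :=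
  dval D U - (AddMonoidHom.flip (AddMonoidHom.smul (M := Γ(G, U)))
    (dval D U 1) : Γ(X, U) →+ Γ(G, U))

omit hu in
theorem dpart_apply (U : X.Opens) (a : Γ(X, U)) :
    dpart D U a = dval D U a - a • dval D U 1 := rfl

theorem dpart_mul (U : X.Opens) (a b : Γ(X, U)) :
    dpart D U (a * b) = a • dpart D U b + b • dpart D U a := by
  rw [dpart_apply, dpart_apply, dpart_apply, dval_mul f D u hu, smul_sub, smul_sub, smul_smul,
    smul_smul, mul_comm b a]
  abel

omit hu in
theorem dpart_map {U U' : X.Opens} (h : U' ≤ U) (a : Γ(X, U)) :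
    dpart D U' (X.presheaf.map (homOfLE h).op a) =
      G.presheaf.map (homOfLE h).op (dpart D U a) := by
  have h1 : (1 : Γ(X, U')) = X.presheaf.map (homOfLE h).op (1 : Γ(X, U)) := (map_one _).symm
  rw [dpart_apply, dpart_apply, map_sub, Scheme.Modules.map_smul, ← dval_map, ← dval_map, h1]

theorem dpart_app (V : S.Opens) (c : Γ(S, V)) : dpart D (f ⁻¹ᵁ V) (f.app V c) = 0 := by
  rw [dpart_apply]
  have h := dval_appLE_mul f D u hu (f ⁻¹ᵁ V) le_rfl c 1
  rw [Scheme.Hom.appLE_eq_app, mul_one] at h
  rw [h, sub_self]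

/-- The derivation part `a ↦ D a - a D 1`. -/
noncomputable def derPart : OmegaSh.Der f G where
  d {U} := dpart D U.unop
  d_mul {U} a b := dpart_mul f D u hu U.unop a b
  d_map {U U'} k a := dpart_map D (leOfHom k.unop) a
  d_app {V} c := dpart_app f D u hu V.unop c

theorem derPart_app (U : X.Opens) (a : Γ(X, U)) :
    (derPart f D u hu).app U a = dval D U a - a • dval D U 1 := rfl

end

/-- The global section `D 1` of `G`. -/
noncomputable def sectOne : G.sections :=
  PresheafOfModules.sectionsMk (M := G.val) (fun U => dval D U.unop 1) (by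
    intro U U' k
    have hk : k = (homOfLE (leOfHom k.unop)).op := rfl
    have := dval_map D (leOfHom k.unop) (1 : Γ(X, U.unop))
    rw [map_one] at this
    rw [hk]
    exact this.symm)

/-- The linear part `a ↦ a D 1`. -/
noncomputable def linPart : Coh.structureModule X ⟶ G :=
  (SheafOfModules.unitHomEquiv G).symm (sectOne D)

theorem linPart_app_one (U : X.Opens) :
    (linPart D).app U (OmegaSh.strSect X U 1) = dval D U 1 := by
  have h := SheafOfModules.unitHomEquiv_apply_coe G (linPart D) (op U)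
  rw [linPart, Equiv.apply_symm_apply] at h
  exact h.symm

theorem linPart_app (U : X.Opens) (a : Γ(X, U)) :
    (linPart D).app U (OmegaSh.strSect X U a) = a • dval D U 1 := by
  have : OmegaSh.strSect X U a = a • OmegaSh.strSect X U 1 := by
    rw [← OmegaSh.strSect_mul, mul_one]
  rw [this, Scheme.Modules.Hom.app_smul, linPart_app_one]

theorem hom_ext_structure {v v' : Coh.structureModule X ⟶ G}
    (h : ∀ U : X.Opens, v.app U (OmegaSh.strSect X U 1) = v'.app U (OmegaSh.strSect X U 1)) :
    v = v' := by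
  apply Scheme.Modules.hom_ext
  intro U
  ext t
  have : t = (OmegaSh.fnSect X U t) • OmegaSh.strSect X U 1 := by
    rw [← OmegaSh.strSect_mul, mul_one]
    rfl
  rw [this, Scheme.Modules.Hom.app_smul, Scheme.Modules.Hom.app_smul, h U]

end Groth.Agent.Lib.Helper48.DiffOp
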