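import Groth.Agent.Lib.Helper48.UnivThick2

/-!
# Formal smoothness: lifting along square-zero closed immersions into affine schemes
-/

set_option autoImplicit false
universe u

open AlgebraicGeometry CategoryTheory Opposite TopologicalSpace CategoryTheory.Limits

namespace Groth.Agent.Lib.Helper48.FSmoothSplit

section Lift

variable {T T' X Y : Scheme.{u}} [IsAffine T'] (jT : T ⟶ T') [IsClosedImmersion jT]
  (p : X ⟶ Y) (hp : MoreMor.IsFormallySmoothHom p)

include hp in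
theorem exists_lift (hsq : RingHom.ker jT.appTop.hom ^ 2 = ⊥) (a : T ⟶ X) (b : T' ⟶ Y)
    (w : jT ≫ b = a ≫ p) : ∃ l : T' ⟶ X, jT ≫ l = a ∧ l ≫ p = b := by
  obtain ⟨hT, hsurj⟩ := IsClosedImmersion.isAffine_surjective_of_isAffine jT
  haveI : IsAffine T := hT
  let I : Ideal Γ(T', ⊤) := RingHom.ker jT.appTop.hom
  let e : (Γ(T', ⊤) ⧸ I) ≃+* Γ(T, ⊤) := RingHom.quotientKerEquivOfSurjective hsurj
  let E : CommRingCat.of (Γ(T', ⊤) ⧸ I) ≅ Γ(T, ⊤) := e.toCommRingCatIso
  have hE : CommRingCat.ofHom (Ideal.Quotient.mk I) ≫ E.hom = jT.appTop := by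
    ext x
    rfl
  -- the comparison square
  have hsquare : Spec.map E.hom ≫ Spec.map (CommRingCat.ofHom (Ideal.Quotient.mk I)) =
      Spec.map jT.appTop := by
    rw [← Spec.map_comp, hE]
  let a' : Spec (CommRingCat.of (Γ(T', ⊤) ⧸ I)) ⟶ X := Spec.map E.inv ≫ T.isoSpec.inv ≫ a
  let b' : Spec (CommRingCat.of Γ(T', ⊤)) ⟶ Y := T'.isoSpec.inv ≫ b
  have hnat : Spec.map jT.appTop ≫ T'.isoSpec.inv = T.isoSpec.inv ≫ jT :=
    Scheme.isoSpec_inv_naturality jT
  have w' : Spec.map (CommRingCat.ofHom (Ideal.Quotient.mk I)) ≫ b' = a' ≫ p := by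
    have h1 : Spec.map (CommRingCat.ofHom (Ideal.Quotient.mk I)) =
        Spec.map E.inv ≫ Spec.map jT.appTop := by
      rw [← hsquare, ← Category.assoc, ← Spec.map_comp, Iso.hom_inv_id, Spec.map_id,
        Category.id_comp]
    simp only [a', b', Category.assoc]
    rw [h1, Category.assoc, reassoc_of% hnat, w]
  obtain ⟨l', hl₁, hl₂⟩ := hp Γ(T', ⊤) I hsq a' b' w'
  refine ⟨T'.isoSpec.hom ≫ l', ?_, ?_⟩
  · have h2 : jT ≫ T'.isoSpec.hom = T.isoSpec.hom ≫ Spec.map jT.appTop :=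
      (Scheme.isoSpec_hom_naturality jT).symm
    rw [reassoc_of% h2, ← hsquare, Category.assoc, hl₁]
    simp only [a']
    rw [← Category.assoc (Spec.map E.hom), ← Spec.map_comp, Iso.inv_hom_id, Spec.map_id,
      Category.id_comp, Iso.hom_inv_id_assoc]
  · rw [Category.assoc, hl₂]
    simp only [b']
    rw [Iso.hom_inv_id_assoc]

end Lift

end Groth.Agent.Lib.Helper48.FSmoothSplit
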