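import Groth.Agent.Lib.Helper48.FSmoothSplit1

/-!
# Local sections of `Z' ⟶ Z''` (universal thickenings over `X` and over `Y`, `X ⟶ Y` formally
smooth)
-/

set_option autoImplicit false
universe u

open AlgebraicGeometry CategoryTheory Opposite TopologicalSpace CategoryTheory.Limits

namespace Groth.Agent.Lib.Helper48.FSmoothSplit

section Restrict

variable {Z Z'' : Scheme.{u}} (i'' : Z ⟶ Z'') (h : MoreMor.IsFirstOrderThickening i'')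
  (W'' : Z''.Opens)

include h in
theorem isFirstOrderThickening_restrict : MoreMor.IsFirstOrderThickening (i'' ∣_ W'') := by
  haveI : IsClosedImmersion i'' := h.1.1
  haveI : Surjective i'' := h.1.2
  refine ⟨⟨inferInstance, IsZariskiLocalAtTarget.restrict ‹Surjective i''› W''⟩, ?_⟩
  ext V : 2
  rw [Scheme.IdealSheafData.ideal_mul, Pi.mul_apply, Scheme.ker_morphismRestrict_ideal,
    Scheme.IdealSheafData.ideal_bot, Pi.bot_apply]
  have := congr(($(h.2)).ideal ⟨W''.ι ''ᵁ V, V.2.image_of_isOpenImmersion _⟩)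
  rw [Scheme.IdealSheafData.ideal_mul, Pi.mul_apply, Scheme.IdealSheafData.ideal_bot,
    Pi.bot_apply] at this
  exact this

theorem ker_appTop_sq {T T' : Scheme.{u}} [IsAffine T'] (jT : T ⟶ T') [IsClosedImmersion jT]
    (hsq : jT.ker * jT.ker = ⊥) : RingHom.ker jT.appTop.hom ^ 2 = ⊥ := by
  have := congr(($hsq).ideal ⟨⊤, isAffineOpen_top T'⟩)
  rw [Scheme.IdealSheafData.ideal_mul, Pi.mul_apply, Scheme.Hom.ker_apply,
    Scheme.IdealSheafData.ideal_bot, Pi.bot_apply] at this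
  rw [pow_two]
  exact this

end Restrict

section Section

variable {Z X Y Z' Z'' : Scheme.{u}} (i : Z ⟶ X) (p : X ⟶ Y)
  (hp : MoreMor.IsFormallySmoothHom p)
  (i' : Z ⟶ Z') (a : Z' ⟶ X) (hZ' : OmegaSh.IsUnivThickening i i' a)
  (i'' : Z ⟶ Z'') (b : Z'' ⟶ Y) (hZ'' : OmegaSh.IsUnivThickening (i ≫ p) i'' b)
  (k : Z' ⟶ Z'') (hk₁ : i' ≫ k = i'') (hk₂ : k ≫ b = a ≫ p)

include hp hZ' hZ'' hk₁ hk₂ in
theorem exists_section (W'' : Z''.Opens) (hW : IsAffineOpen W'') :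
    ∃ r' : (W'' : Scheme.{u}) ⟶ Z', (i'' ∣_ W'') ≫ r' = (i'' ⁻¹ᵁ W'').ι ≫ i' ∧ r' ≫ k = W''.ι := by
  haveI : IsClosedImmersion i'' := hZ''.1.1.1
  have hth := isFirstOrderThickening_restrict i'' hZ''.1 W''
  haveI : IsAffine (W'' : Scheme.{u}) := hW
  have hres : (i'' ∣_ W'') ≫ W''.ι = (i'' ⁻¹ᵁ W'').ι ≫ i'' := morphismRestrict_ι i'' W''
  obtain ⟨g, hg₁, hg₂⟩ := exists_lift (i'' ∣_ W'') p hp (ker_appTop_sq _ hth.2)
    ((i'' ⁻¹ᵁ W'').ι ≫ i) (W''.ι ≫ b)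
    (by rw [reassoc_of% hres, hZ''.2.1, Category.assoc])
  obtain ⟨r', ⟨hr₁, hr₂⟩, -⟩ := hZ'.2.2 _ _ (i'' ∣_ W'') g (i'' ⁻¹ᵁ W'').ι hth hg₁
  refine ⟨r', hr₁, ?_⟩
  obtain ⟨_, -, huniq⟩ := hZ''.2.2 _ _ (i'' ∣_ W'') (W''.ι ≫ b) (i'' ⁻¹ᵁ W'').ι hth
    (by rw [reassoc_of% hres, hZ''.2.1])
  have h1 := huniq (r' ≫ k) ⟨by rw [reassoc_of% hr₁, hk₁],
    by rw [Category.assoc, hk₂, reassoc_of% hr₂, hg₂]⟩
  have h2 := huniq W''.ι ⟨hres, rfl⟩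
  rw [h1, h2]

end Section

end Groth.Agent.Lib.Helper48.FSmoothSplit
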