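import Groth.Agent.Lib.Helper48.FSmoothSplit3

/-!
# Local retraction of `C_{Z/Z''} ⟶ C_{Z/Z'}` on restrictions
-/

set_option autoImplicit false
universe u

open AlgebraicGeometry CategoryTheory Opposite TopologicalSpace CategoryTheory.Limits

namespace Groth.Agent.Lib.Helper48.FSmoothSplit

open Groth.Agent.Lib.Helper48.OmegaAff Groth.Agent.Lib.Helper48.Conormal
  Groth.Agent.Lib.Helper48.Nbhd Groth.Agent.Lib.Helper48.ConormalMap Scheme.Modules

section Retraction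

variable {Z Z' Z'' : Scheme.{u}} (i' : Z ⟶ Z') [IsClosedImmersion i'] (k : Z' ⟶ Z'')
  [IsClosedImmersion (i' ≫ k)]
  (ψ : (Scheme.Modules.pullback (𝟙 Z)).obj (Omega.conormal (i' ≫ k)) ⟶ Omega.conormal i')
  (hψ : OmegaSh.IsConormalMap i' (i' ≫ k) k (𝟙 Z) ψ)
  (W'' : Z''.Opens) (r' : (W'' : Scheme.{u}) ⟶ Z')
  (hr₁ : ((i' ≫ k) ∣_ W'') ≫ r' = ((i' ≫ k) ⁻¹ᵁ W'').ι ≫ i') (hr₂ : r' ≫ k = W''.ι)

include hψ hr₁ hr₂ in
theorem exists_retraction :
    ∃ r : (Scheme.Modules.restrictFunctor ((i' ≫ k) ⁻¹ᵁ W'').ι).obj (Omega.conormal i') ⟶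
        (Scheme.Modules.restrictFunctor ((i' ≫ k) ⁻¹ᵁ W'').ι).obj
          ((Scheme.Modules.pullback (𝟙 Z)).obj (Omega.conormal (i' ≫ k))),
      (Scheme.Modules.restrictFunctor ((i' ≫ k) ⁻¹ᵁ W'').ι).map ψ ≫ r = 𝟙 _ := by
  set ι := ((i' ≫ k) ⁻¹ᵁ W'').ι with hι
  let iso := Scheme.Modules.restrictFunctorIsoPullback ι
  have hψeq : ψ = (Scheme.Modules.pullbackId Z).hom.app (Omega.conormal (i' ≫ k)) ≫
      Groth.Agent.Lib.Helper48.Conormal.ψ₂ k i' ψ := by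
    unfold Groth.Agent.Lib.Helper48.Conormal.ψ₂
    rw [← Category.assoc, Iso.hom_inv_id_app, Category.id_comp]
  have hkey := key i' k ψ hψ W'' r' hr₁ hr₂
  refine ⟨iso.hom.app (Omega.conormal i') ≫ ρ i' k W'' r' hr₁ ≫ inv (β i' k W'') ≫
    (Scheme.Modules.pullback ι).map
      ((Scheme.Modules.pullbackId Z).inv.app (Omega.conormal (i' ≫ k))) ≫ iso.inv.app _, ?_⟩
  have hnat := iso.hom.naturality ψ
  rw [← Category.assoc, hnat, Category.assoc]
  conv_lhs => rw [hψeq, Functor.map_comp]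
  simp only [Category.assoc]
  rw [reassoc_of% hkey, IsIso.hom_inv_id_assoc, ← Functor.map_comp_assoc, Iso.hom_inv_id_app,
    CategoryTheory.Functor.map_id, Category.id_comp, Iso.hom_inv_id_app]

end Retraction

end Groth.Agent.Lib.Helper48.FSmoothSplit
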