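import Groth.Agent.Lib.Helper48.FSmoothSplit4

/-!
# A morphism of modules with local retractions is a monomorphism
-/

set_option autoImplicit false
universe u

open AlgebraicGeometry CategoryTheory Opposite TopologicalSpace CategoryTheory.Limits

namespace Groth.Agent.Lib.Helper48.FSmoothSplit

open Groth.Agent.Lib.Helper48.OmegaAff Groth.Agent.Lib.Helper48.Conormal Scheme.Modules

theorem mono_of_local_retraction {Z : Scheme.{u}} {A B : Z.Modules} (ψ : A ⟶ B)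
    (h : ∀ z : Z, ∃ (U : Z.Opens) (r : (Scheme.Modules.restrictFunctor U.ι).obj B ⟶
        (Scheme.Modules.restrictFunctor U.ι).obj A),
      z ∈ U ∧ (Scheme.Modules.restrictFunctor U.ι).map ψ ≫ r = 𝟙 _) : Mono ψ := by
  let 𝓑 : Set Z.Opens := {V | ∃ (U : Z.Opens) (r : (Scheme.Modules.restrictFunctor U.ι).obj B ⟶
        (Scheme.Modules.restrictFunctor U.ι).obj A) (V' : (U : Scheme.{u}).Opens),
      V = U.ι ''ᵁ V' ∧ (Scheme.Modules.restrictFunctor U.ι).map ψ ≫ r = 𝟙 _}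
  have h𝓑 : Opens.IsBasis 𝓑 := by
    rw [Opens.isBasis_iff_nbhd]
    intro W z hz
    obtain ⟨U, r, hzU, hr⟩ := h z
    refine ⟨U.ι ''ᵁ (U.ι ⁻¹ᵁ W), ⟨U, r, U.ι ⁻¹ᵁ W, rfl, hr⟩, ?_, ?_⟩
    · rw [Scheme.Hom.image_preimage_eq_opensRange_inf, Scheme.Opens.opensRange_ι]
      exact ⟨hzU, hz⟩
    · rw [Scheme.Hom.image_preimage_eq_opensRange_inf]
      exact inf_le_right
  apply mono_of_basis ψ 𝓑 h𝓑
  rintro V ⟨U, r, V', rfl, hr⟩
  intro s t hst
  have h1 : ∀ x : Γ(A, U.ι ''ᵁ V'),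
      (r.app V') (((Scheme.Modules.restrictFunctor U.ι).map ψ).app V' x) = x := by
    intro x
    have := congrArg (fun φ : (Scheme.Modules.restrictFunctor U.ι).obj A ⟶ _ => φ.app V' x) hr
    exact this
  have h2 : ∀ x : Γ(A, U.ι ''ᵁ V'),
      ((Scheme.Modules.restrictFunctor U.ι).map ψ).app V' x = ψ.app (U.ι ''ᵁ V') x := fun _ => rfl
  rw [← h1 s, ← h1 t, h2, h2, hst]

end Groth.Agent.Lib.Helper48.FSmoothSplit
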