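import Mathlib.AlgebraicGeometry.Modules.Tilde
import Mathlib.Algebra.Category.ModuleCat.Sheaf.PullbackFree
import Mathlib.CategoryTheory.Filtered.Final
import Groth.Prelude.Def_Coh

/-!
# Modules over the spectrum of a field are free; their pullbacks are free
-/

set_option autoImplicit false
universe u

open AlgebraicGeometry CategoryTheory Opposite TopologicalSpace CategoryTheory.Limits

namespace Groth.Agent.Lib.Helper48.FieldFree

theorem final_opensMap {X Y : Scheme.{u}} (f : X ⟶ Y) : (Opens.map f.base).Final := by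
  refine Functor.final_of_exists_of_isFiltered _ (fun V => ⟨⊤, ⟨homOfLE le_top⟩⟩)
    (fun {V W} s s' => ⟨W, 𝟙 _, Subsingleton.elim _ _⟩)

section Field

variable (K : Type u) [Field K]

theorem basicOpen_eq_top_of_ne_zero (f : K) (hf : f ≠ 0) :
    PrimeSpectrum.basicOpen f = ⊤ := by
  ext x
  simp only [PrimeSpectrum.mem_basicOpen, Opens.coe_top, Set.mem_univ, iff_true, SetLike.mem_coe]
  intro h
  exact x.isPrime.ne_top (Ideal.eq_top_of_isUnit_mem _ h (IsUnit.mk0 f hf))

theorem isLocalizedModule_of_eq_bot {R : CommRingCat.{u}}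
    (N : TopCat.Sheaf (ModuleCat R) (Spec R)) (S : Submonoid R) (h0 : (0 : R) ∈ S)
    (U : Opens (Spec R)) (hU : U = ⊥) : IsLocalizedModule S (N.obj.map U.leTop.op).hom := by
  subst hU
  have hsub : Subsingleton (N.obj.obj (op (⊥ : Opens (Spec R)))) :=
    ModuleCat.subsingleton_of_isZero (TopCat.Sheaf.isTerminalOfEmpty N).isZero
  refine ⟨fun x => ?_, fun y => ⟨(0, 1), Subsingleton.elim _ _⟩,
    fun {x₁ x₂} _ => ⟨⟨0, h0⟩, ?_⟩⟩
  · haveI : Subsingleton (Module.End R (N.obj.obj (op (⊥ : Opens (Spec R))))) :=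
      ⟨fun a b => LinearMap.ext fun z => Subsingleton.elim _ _⟩
    exact isUnit_of_subsingleton _
  · change (0 : R) • x₁ = (0 : R) • x₂
    rw [zero_smul, zero_smul]

theorem isLocalizedModule_of_eq_top {R : CommRingCat.{u}}
    (N : TopCat.Sheaf (ModuleCat R) (Spec R)) (S : Submonoid R) (hS : ∀ s ∈ S, IsUnit s)
    (U : Opens (Spec R)) (hU : U = ⊤) : IsLocalizedModule S (N.obj.map U.leTop.op).hom := by
  subst hU
  have hiso : IsIso (N.obj.map (⊤ : Opens (Spec R)).leTop.op) := by
    have : (⊤ : Opens (Spec R)).leTop = 𝟙 _ := Subsingleton.elim _ _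
    rw [this, op_id, N.obj.map_id]
    infer_instance
  have hbij := ConcreteCategory.bijective_of_isIso (N.obj.map (⊤ : Opens (Spec R)).leTop.op)
  refine ⟨fun x => ?_, fun y => ?_, fun {x₁ x₂} h => ⟨1, ?_⟩⟩
  · exact (hS x.1 x.2).map (algebraMap R _)
  · obtain ⟨x, rfl⟩ := hbij.2 y
    exact ⟨(x, 1), one_smul _ _⟩
  · rw [one_smul, one_smul]
    exact hbij.1 h

theorem isIso_fromTildeΓ_of_field (M : (Spec (CommRingCat.of K)).Modules) :
    IsIso (Scheme.Modules.fromTildeΓ (R := CommRingCat.of K) M) := by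
  rw [isIso_fromTildeΓ_iff_isLocalizing (R := CommRingCat.of K)]
  intro f
  by_cases hf : f = 0
  · subst hf
    exact isLocalizedModule_of_eq_bot (R := CommRingCat.of K) _ (Submonoid.powers (0 : K))
      (Submonoid.mem_powers (0 : K)) _ PrimeSpectrum.basicOpen_zero
  · refine isLocalizedModule_of_eq_top (R := CommRingCat.of K) _ (Submonoid.powers (f : K)) ?_ _
      (basicOpen_eq_top_of_ne_zero K f hf)
    rintro s ⟨n, rfl⟩
    exact IsUnit.mk0 _ (pow_ne_zero n hf)

end Field

end Groth.Agent.Lib.Helper48.FieldFree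

namespace Groth.Agent.Lib.Helper48.FieldFree

section Free

variable (K : Type u) [Field K]

/-- Every module over the spectrum of a field is free. -/
theorem exists_iso_free_of_field (M : (Spec (CommRingCat.of K)).Modules) :
    ∃ I : Type u, Nonempty (M ≅ SheafOfModules.free.{u} I) := by
  haveI := isIso_fromTildeΓ_of_field K M
  let N : ModuleCat.{u} K := (modulesSpecToSheaf.obj M).presheaf.obj (.op ⊤)
  let b := Module.Free.chooseBasis K N
  let e : N ≅ ModuleCat.of K (Module.Free.ChooseBasisIndex K N →₀ K) :=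
    LinearEquiv.toModuleIso b.repr
  refine ⟨Module.Free.ChooseBasisIndex K N, ⟨?_⟩⟩
  exact (asIso (Scheme.Modules.fromTildeΓ (R := CommRingCat.of K) M)).symm ≪≫
    (tilde.functor (CommRingCat.of K)).mapIso e ≪≫
    tildeFinsupp (R := CommRingCat.of K) (Module.Free.ChooseBasisIndex K N)

end Free

section Pullback

variable {X S : Scheme.{u}} (f : X ⟶ S)

/-- The pullback of a free module is free. -/
noncomputable def pullbackFreeIso (I : Type u) :
    (Scheme.Modules.pullback f).obj (SheafOfModules.free.{u} I) ≅ SheafOfModules.free.{u} I :=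
  haveI := final_opensMap f
  SheafOfModules.pullbackObjFreeIso f.toRingCatSheafHom I

variable (K : Type u) [Field K]

theorem exists_pullback_iso_free (j : S ≅ Spec (CommRingCat.of K)) (C : S.Modules) :
    ∃ I : Type u, Nonempty ((Scheme.Modules.pullback f).obj C ≅
      ∐ fun _ : I => Coh.structureModule X) := by
  obtain ⟨I, ⟨α⟩⟩ := exists_iso_free_of_field K ((Scheme.Modules.pullback j.inv).obj C)
  refine ⟨I, ⟨?_⟩⟩
  have β : C ≅ (Scheme.Modules.pullback j.hom).obj (SheafOfModules.free.{u} I) :=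
    (Scheme.Modules.pullbackId S).symm.app C ≪≫
    (Scheme.Modules.pullbackCongr j.hom_inv_id.symm).app _ ≪≫
    (Scheme.Modules.pullbackComp j.hom j.inv).symm.app _ ≪≫
    (Scheme.Modules.pullback j.hom).mapIso α
  exact (Scheme.Modules.pullback f).mapIso β ≪≫
    (Scheme.Modules.pullbackComp f j.hom).app _ ≪≫ pullbackFreeIso (f ≫ j.hom) I

end Pullback

end Groth.Agent.Lib.Helper48.FieldFree
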