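import Groth.Agent.Lib.Helper48.Conormal11
import Mathlib.CategoryTheory.Monoidal.Cartesian.Grp
import Mathlib.CategoryTheory.Monoidal.Cartesian.Over
import Mathlib.CategoryTheory.Limits.Constructions.Over.Connected

/-!
# `Ω_{G/S} ≅ f^* C_e` for a group scheme
-/

set_option autoImplicit false
universe u

open CategoryTheory Limits MonoidalCategory CartesianMonoidalCategory MonObj GrpObj AlgebraicGeometry

namespace Groth.Agent.Lib.Helper48.GrpOmega

/-- `(g, h) ↦ (g h, g)` is an isomorphism: the square `μ, fst` over the terminal object is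
cartesian. -/
theorem isPullback_mul_fst {C : Type*} [Category C] [CartesianMonoidalCategory C] (G : C)
    [GrpObj G] : IsPullback μ[G] (fst G G) (toUnit G) (toUnit G) := by
  refine ⟨⟨toUnit_unique _ _⟩,
    ⟨PullbackCone.IsLimit.mk _ (fun s => lift s.snd (s.snd⁻¹ * s.fst)) ?_ ?_ ?_⟩⟩
  · intro s
    rw [← Hom.mul_def, mul_inv_cancel_left]
  · intro s
    exact lift_fst _ _
  · intro s m h1 h2
    have hm : m ≫ μ[G] = (m ≫ fst G G) * (m ≫ snd G G) := by
      rw [Hom.mul_def, lift_comp_fst_snd]
    apply CartesianMonoidalCategory.hom_ext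
    · rw [lift_fst]; exact h2
    · rw [lift_snd, ← h1, hm, h2, inv_mul_cancel_left]

theorem isPullback_snd_fst {C : Type*} [Category C] [CartesianMonoidalCategory C] (G : C) :
    IsPullback (snd G G) (fst G G) (toUnit G) (toUnit G) := by
  refine ⟨⟨toUnit_unique _ _⟩,
    ⟨PullbackCone.IsLimit.mk _ (fun s => lift s.snd s.fst) ?_ ?_ ?_⟩⟩
  · intro s
    exact lift_snd _ _
  · intro s
    exact lift_fst _ _
  · intro s m h1 h2
    apply CartesianMonoidalCategory.hom_ext
    · rw [lift_fst]; exact h2
    · rw [lift_snd]; exact h1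

theorem nonempty_omega_iso (S : Scheme.{u}) (G : Over S) [GrpObj G] [QuasiSeparated G.hom] :
    Nonempty (Omega.sheaf G.hom ≅
      (Scheme.Modules.pullback G.hom).obj (Omega.conormal η[G].left)) := by
  have ha : IsPullback μ[G].left (fst G G).left G.hom G.hom :=
    (isPullback_mul_fst G).map (Over.forget S)
  have hb : IsPullback (snd G G).left (fst G G).left G.hom G.hom :=
    (isPullback_snd_fst G).map (Over.forget S)
  have he : η[G].left ≫ G.hom = 𝟙 S := Over.w η[G]
  refine Groth.Agent.Lib.Helper48.Conormal.nonempty_omega_iso_pullback_conormal G.hom η[G].left he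
    G.hom (fst G G).left μ[G].left (snd G G).left G.hom G.hom ha hb
    (lift (𝟙 G) (toUnit G ≫ η[G])).left ?_ ?_
  · rw [← Over.comp_left, lift_comp_one_right]
    rfl
  · rw [← Over.comp_left, lift_snd]
    rfl

end Groth.Agent.Lib.Helper48.GrpOmega
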