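import Groth.Prelude.Def_Grpd

/-!
# For a groupoid scheme, `(α, β) ↦ (α ∘ β, α)` identifies `R ×_{s,U,t} R` with `R ×_{t,U,t} R`
-/

set_option autoImplicit false
universe u

open AlgebraicGeometry CategoryTheory CategoryTheory.Limits

namespace Groth.Agent.Lib.Helper48.GrpdPullback

open Grpd

variable {S : Scheme.{u}} (G : GroupoidScheme S)

theorem lift_congr {T : Scheme.{u}} {a a' b b' : T ⟶ G.R} (h : a ≫ G.s = b ≫ G.t)
    (h' : a' ≫ G.s = b' ≫ G.t) (ha : a = a') (hb : b = b') :
    pullback.lift a b h = pullback.lift a' b' h' := by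
  subst ha hb; rfl

theorem c_t : G.c ≫ G.t = pullback.fst G.s G.t ≫ G.t := by
  have h := G.comp_t (pullback.fst G.s G.t) (pullback.snd G.s G.t) pullback.condition
  have h1 : pullback.lift (pullback.fst G.s G.t) (pullback.snd G.s G.t) pullback.condition = 𝟙 _ := by
    apply pullback.hom_ext <;> simp
  rw [h1, Category.id_comp] at h
  exact h

theorem c_s : G.c ≫ G.s = pullback.snd G.s G.t ≫ G.s := by
  have h := G.comp_s (pullback.fst G.s G.t) (pullback.snd G.s G.t) pullback.condition
  have h1 : pullback.lift (pullback.fst G.s G.t) (pullback.snd G.s G.t) pullback.condition = 𝟙 _ := by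
    apply pullback.hom_ext <;> simp
  rw [h1, Category.id_comp] at h
  exact h

/-- `(α, β) ↦ (α ∘ β, α)` is an isomorphism `R ×_{s,U,t} R ≅ R ×_{t,U,t} R`, i.e. the square
`c, fst, t, t` is cartesian. -/
theorem isPullback_c_fst : IsPullback G.c (pullback.fst G.s G.t) G.t G.t := by
  refine ⟨⟨c_t G⟩, ⟨PullbackCone.IsLimit.mk _ (fun k => ?_) (fun k => ?_) (fun k => ?_)
    (fun k m hm₁ hm₂ => ?_)⟩⟩
  · have h1 : (k.snd ≫ G.i) ≫ G.s = k.fst ≫ G.t := by
      rw [Category.assoc, G.i_s, k.condition]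
    refine pullback.lift k.snd (pullback.lift (k.snd ≫ G.i) k.fst h1 ≫ G.c) ?_
    rw [G.comp_t, Category.assoc, G.i_t]
  · have h1 : (k.snd ≫ G.i) ≫ G.s = k.fst ≫ G.t := by
      rw [Category.assoc, G.i_s, k.condition]
    have h2 : k.snd ≫ G.s = (k.snd ≫ G.i) ≫ G.t := by rw [Category.assoc, G.i_t]
    change pullback.lift k.snd (pullback.lift (k.snd ≫ G.i) k.fst h1 ≫ G.c) _ ≫ G.c = k.fst
    rw [← G.assoc k.snd (k.snd ≫ G.i) k.fst h2 h1]
    have h3 : (k.fst ≫ G.t ≫ G.e) ≫ G.s = k.fst ≫ G.t := by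
      rw [Category.assoc, Category.assoc, G.e_s, Category.comp_id]
    rw [lift_congr G _ h3 ((G.comp_i k.snd).trans (by rw [← Category.assoc, ← k.condition, Category.assoc])) rfl]
    exact G.e_comp k.fst
  · exact pullback.lift_fst _ _ _
  · have h1 : (k.snd ≫ G.i) ≫ G.s = k.fst ≫ G.t := by
      rw [Category.assoc, G.i_s, k.condition]
    apply pullback.hom_ext
    · rw [pullback.lift_fst]; exact hm₂
    · rw [pullback.lift_snd]
      have hm : m = pullback.lift (m ≫ pullback.fst _ _) (m ≫ pullback.snd _ _)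
          (by rw [Category.assoc, Category.assoc, pullback.condition]) := by
        apply pullback.hom_ext
        · rw [pullback.lift_fst]
        · rw [pullback.lift_snd]
      have hcond : (m ≫ pullback.fst G.s G.t) ≫ G.s = (m ≫ pullback.snd G.s G.t) ≫ G.t := by
        rw [Category.assoc, Category.assoc, pullback.condition]
      have h4 : ((m ≫ pullback.fst G.s G.t) ≫ G.i) ≫ G.s = (m ≫ pullback.fst G.s G.t) ≫ G.t := by
        rw [Category.assoc, G.i_s]
      have h5 : pullback.lift (k.snd ≫ G.i) k.fst h1 =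
          pullback.lift ((m ≫ pullback.fst G.s G.t) ≫ G.i)
            (pullback.lift (m ≫ pullback.fst _ _) (m ≫ pullback.snd _ _) hcond ≫ G.c)
            (h4.trans (G.comp_t _ _ hcond).symm) := by
        refine lift_congr G _ _ (by rw [hm₂]) ?_
        rw [← hm₁]
        congr 1
      rw [h5, ← G.assoc _ _ _ h4 hcond]
      have h6 : ((m ≫ pullback.snd G.s G.t) ≫ G.t ≫ G.e) ≫ G.s = (m ≫ pullback.snd G.s G.t) ≫ G.t := by
        simp only [Category.assoc, G.e_s, Category.comp_id]
      rw [lift_congr G _ h6 ((G.i_comp _).trans (by rw [← Category.assoc, hcond, Category.assoc])) rfl]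
      exact (G.e_comp _).symm

end Groth.Agent.Lib.Helper48.GrpdPullback
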