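import Mathlib
import Groth.Prelude.Def_CAlgX
import Groth.Agent.Lib.Helper39.H1Reg

/-!
# `H_1`-regular sequences and conormal modules: `J ∩ I² = I J`

Let `π : A → B` be a surjection with kernel `J`, `ρ : B → C` a ring map whose kernel is generated
by an `H_1`-regular sequence, `I = ker (ρ ∘ π)`.  Then `J ⊓ I ^ 2 ≤ I * J`, i.e.
`J / I J → I / I ^ 2` is injective.  Also `I'/I'^2` is free on the sequence.
-/

set_option autoImplicit false
universe u

namespace Groth.Agent.Lib.Helper48.H1Conormal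

open Groth.Agent.Lib.Helper39.H1Reg

variable {A B C : Type u} [CommRing A] [CommRing B] [CommRing C]

/-- alternating sums vanish -/
theorem sum_alt_eq_zero {c : ℕ} (e : Fin c → Fin c → A) (f : Fin c → A) :
    ∑ k, ∑ l, (e k l - e l k) * (f k * f l) = 0 := by
  simp only [sub_mul, Finset.sum_sub_distrib]
  rw [sub_eq_zero]
  rw [Finset.sum_comm]
  refine Finset.sum_congr rfl fun k _ => Finset.sum_congr rfl fun l _ => ?_
  ring

theorem exists_alt_of_isH1Regular (π : A →+* B) (hπ : Function.Surjective π) {c : ℕ}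
    (f : Fin c → A) (hg : CAlgX.IsH1Regular (fun k => π (f k))) (a : Fin c → A)
    (ha : π (∑ k, a k * f k) = 0) :
    ∃ e : Fin c → Fin c → A, ∀ k, π (a k) = π (∑ q, (e k q - e q k) * f q) := by
  have h1 : (fun k => π (a k)) ∈ kos (fun k => π (f k)) := by
    apply hg
    simpa [map_sum, map_mul] using ha
  obtain ⟨c', hc'⟩ := (mem_kos_iff _ _).mp h1
  choose e he using fun k q => hπ (c' k q)
  refine ⟨e, fun k => ?_⟩
  rw [hc' k]
  simp only [map_sum, map_mul, map_sub, he]

theorem mem_mul_of_quadratic (π : A →+* B) (hπ : Function.Surjective π) {c : ℕ}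
    (f : Fin c → A) (hg : CAlgX.IsH1Regular (fun k => π (f k))) (I : Ideal A)
    (hfI : ∀ k, f k ∈ I) (a : Fin c → Fin c → A)
    (hz : π (∑ k, ∑ l, a k l * (f k * f l)) = 0) :
    ∑ k, ∑ l, a k l * (f k * f l) ∈ I * RingHom.ker π := by
  classical
  -- first application
  have h1 : π (∑ k, (∑ l, a k l * f l) * f k) = 0 := by
    rw [← hz]
    congr 1
    refine Finset.sum_congr rfl fun k _ => ?_
    rw [Finset.sum_mul]
    refine Finset.sum_congr rfl fun l _ => ?_
    ring
  obtain ⟨e, he⟩ := exists_alt_of_isH1Regular π hπ f hg _ h1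
  -- second application, for each k
  have h2 : ∀ k, π (∑ l, (a k l - (e k l - e l k)) * f l) = 0 := by
    intro k
    have := he k
    rw [← sub_eq_zero, ← map_sub] at this
    rw [← this]
    congr 1
    rw [← Finset.sum_sub_distrib]
    refine Finset.sum_congr rfl fun l _ => ?_
    ring
  choose d hd using fun k => exists_alt_of_isH1Regular π hπ f hg _ (h2 k)
  set j : Fin c → Fin c → A := fun k l =>
    a k l - (e k l - e l k) - ∑ m, (d k l m - d k m l) * f m with hj
  have hjker : ∀ k l, j k l ∈ RingHom.ker π := by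
    intro k l
    rw [RingHom.mem_ker, hj]
    simp only
    rw [map_sub, hd k l, sub_self]
  have hsum : ∑ k, ∑ l, a k l * (f k * f l) = ∑ k, ∑ l, j k l * (f k * f l) := by
    rw [← sub_eq_zero, ← Finset.sum_sub_distrib]
    have h3 : ∀ k, ∑ l, a k l * (f k * f l) - ∑ l, j k l * (f k * f l) =
        ∑ l, (e k l - e l k) * (f k * f l) +
          f k * ∑ l, ∑ m, (d k l m - d k m l) * (f l * f m) := by
      intro k
      rw [← Finset.sum_sub_distrib, Finset.mul_sum, ← Finset.sum_add_distrib]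
      refine Finset.sum_congr rfl fun l _ => ?_
      rw [hj]
      simp only
      rw [Finset.mul_sum]
      have : (∑ m, (d k l m - d k m l) * f m) * (f k * f l) =
          ∑ m, f k * ((d k l m - d k m l) * (f l * f m)) := by
        rw [Finset.sum_mul]
        refine Finset.sum_congr rfl fun m _ => ?_
        ring
      rw [← this]
      ring
    rw [Finset.sum_congr rfl fun k _ => h3 k, Finset.sum_add_distrib, sum_alt_eq_zero, zero_add]
    refine Finset.sum_eq_zero fun k _ => ?_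
    rw [sum_alt_eq_zero, mul_zero]
  rw [hsum]
  refine Ideal.sum_mem _ fun k _ => Ideal.sum_mem _ fun l _ => ?_
  have hc : j k l * (f k * f l) = (f k * f l) * j k l := mul_comm _ _
  rw [hc]
  exact Ideal.mul_mem_mul (Ideal.mul_mem_left _ _ (hfI l)) (hjker k l)

theorem exists_quadratic_of_mem_mul {c : ℕ} (f : Fin c → A) (z : A)
    (hz : z ∈ Ideal.span (Set.range f) * Ideal.span (Set.range f)) :
    ∃ a : Fin c → Fin c → A, z = ∑ k, ∑ l, a k l * (f k * f l) := by
  classical
  rw [Ideal.span_mul_span'] at hz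
  induction hz using Submodule.span_induction with
  | mem x hx =>
    obtain ⟨_, ⟨k, rfl⟩, _, ⟨l, rfl⟩, rfl⟩ := hx
    refine ⟨fun p q => if p = k ∧ q = l then 1 else 0, ?_⟩
    simp [ite_and, Finset.sum_ite_eq']
  | zero => exact ⟨0, by simp⟩
  | add x y _ _ hx hy =>
    obtain ⟨a, rfl⟩ := hx
    obtain ⟨a', rfl⟩ := hy
    refine ⟨a + a', ?_⟩
    simp only [Pi.add_apply, add_mul, Finset.sum_add_distrib]
  | smul r x _ hx =>
    obtain ⟨a, rfl⟩ := hx
    refine ⟨r • a, ?_⟩
    simp only [Pi.smul_apply, smul_eq_mul, Finset.mul_sum, mul_assoc]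

/-- `I ≤ J ⊔ F`. -/
theorem ker_comp_le_sup (π : A →+* B) (ρ : B →+* C) {c : ℕ}
    (g : Fin c → B) (hker : RingHom.ker ρ = Ideal.span (Set.range g))
    (f : Fin c → A) (hf : ∀ k, π (f k) = g k) (hπ : Function.Surjective π) :
    RingHom.ker (ρ.comp π) ≤ RingHom.ker π ⊔ Ideal.span (Set.range f) := by
  intro x hx
  have h1 : π x ∈ Ideal.span (Set.range g) := by
    rw [← hker, RingHom.mem_ker]
    exact hx
  obtain ⟨b, hb⟩ := (Ideal.mem_span_range_iff_exists_fun).mp h1
  choose b' hb' using fun k => hπ (b k)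
  have h2 : x - ∑ k, b' k * f k ∈ RingHom.ker π := by
    rw [RingHom.mem_ker, map_sub, map_sum, sub_eq_zero, ← hb]
    refine Finset.sum_congr rfl fun k _ => ?_
    rw [map_mul, hb', hf]
  have h3 : ∑ k, b' k * f k ∈ Ideal.span (Set.range f) :=
    Ideal.sum_mem _ fun k _ => Ideal.mul_mem_left _ _ (Ideal.subset_span ⟨k, rfl⟩)
  have : x = (x - ∑ k, b' k * f k) + ∑ k, b' k * f k := by ring
  rw [this]
  exact Submodule.add_mem_sup h2 h3

theorem sq_le_of_le_sup (I J F : Ideal A) (hJI : J ≤ I) (hFI : F ≤ I) (hIle : I ≤ J ⊔ F) :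
    I ^ 2 ≤ I * J ⊔ F * F := by
  rw [pow_two]
  calc I * I ≤ (J ⊔ F) * (J ⊔ F) := Ideal.mul_mono hIle hIle
    _ = J * J ⊔ J * F ⊔ (F * J ⊔ F * F) := by rw [Ideal.sup_mul, Ideal.mul_sup, Ideal.mul_sup]
    _ ≤ I * J ⊔ F * F := by
      refine sup_le (sup_le ?_ ?_) (sup_le ?_ le_sup_right)
      · exact le_sup_of_le_left (Ideal.mul_mono_left hJI)
      · rw [mul_comm]; exact le_sup_of_le_left (Ideal.mul_mono_left hFI)
      · exact le_sup_of_le_left (Ideal.mul_mono_left hFI)

/-- **Key lemma**: `J ⊓ I² ≤ I * J` when `I / J` is generated by an `H_1`-regular sequence. -/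
theorem inf_sq_le_mul (π : A →+* B) (hπ : Function.Surjective π) (ρ : B →+* C) {c : ℕ}
    (g : Fin c → B) (hg : CAlgX.IsH1Regular g)
    (hker : RingHom.ker ρ = Ideal.span (Set.range g)) :
    RingHom.ker π ⊓ (RingHom.ker (ρ.comp π)) ^ 2 ≤ RingHom.ker (ρ.comp π) * RingHom.ker π := by
  classical
  choose f hf using fun k => hπ (g k)
  have hg' : CAlgX.IsH1Regular (fun k => π (f k)) := by
    have : (fun k => π (f k)) = g := funext hf
    rw [this]; exact hg
  have hJI : RingHom.ker π ≤ RingHom.ker (ρ.comp π) := by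
    intro x hx
    rw [RingHom.mem_ker] at hx
    rw [RingHom.mem_ker, RingHom.comp_apply, hx, map_zero]
  have hfI : ∀ k, f k ∈ RingHom.ker (ρ.comp π) := by
    intro k
    rw [RingHom.mem_ker, RingHom.comp_apply, hf, ← RingHom.mem_ker, hker]
    exact Ideal.subset_span ⟨k, rfl⟩
  have hFI : Ideal.span (Set.range f) ≤ RingHom.ker (ρ.comp π) := by
    rw [Ideal.span_le]
    rintro _ ⟨k, rfl⟩
    exact hfI k
  have hI2 := sq_le_of_le_sup _ _ _ hJI hFI (ker_comp_le_sup π ρ g hker f hf hπ)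
  rintro x ⟨hxJ, hxI2⟩
  obtain ⟨y, hy, z, hz, hx⟩ := Submodule.mem_sup.mp (hI2 hxI2)
  obtain ⟨a, ha⟩ := exists_quadratic_of_mem_mul f z hz
  have hle : RingHom.ker (ρ.comp π) * RingHom.ker π ≤ RingHom.ker π := Ideal.mul_le_right
  have hyJ : y ∈ RingHom.ker π := hle hy
  have hzJ : π z = 0 := by
    have h1 : π x = 0 := (RingHom.mem_ker).mp hxJ
    rw [← hx, map_add, (RingHom.mem_ker).mp hyJ, zero_add] at h1
    exact h1
  rw [← hx]
  refine Ideal.add_mem _ hy ?_
  rw [ha] at hzJ ⊢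
  exact mem_mul_of_quadratic π hπ f hg' _ hfI a hzJ

/-- degree-one quasi-regularity: `∑ a_i g_i ∈ G²` forces `a_i ∈ G`. -/
theorem coeff_mem_of_isH1Regular {c : ℕ} (g : Fin c → B) (hg : CAlgX.IsH1Regular g)
    (a : Fin c → B)
    (h : ∑ k, a k * g k ∈ Ideal.span (Set.range g) * Ideal.span (Set.range g)) (k : Fin c) :
    a k ∈ Ideal.span (Set.range g) := by
  classical
  obtain ⟨m, hm⟩ := exists_quadratic_of_mem_mul g _ h
  have h1 : ∑ k, (a k - ∑ l, m k l * g l) * g k = 0 := by
    simp only [sub_mul, Finset.sum_sub_distrib]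
    rw [hm, sub_eq_zero]
    refine Finset.sum_congr rfl fun k _ => ?_
    rw [Finset.sum_mul]
    refine Finset.sum_congr rfl fun l _ => ?_
    ring
  have h2 : (fun k => a k - ∑ l, m k l * g l) ∈ kos g := hg _ h1
  obtain ⟨c', hc'⟩ := (mem_kos_iff _ _).mp h2
  have h3 : a k = ∑ j, (c' k j - c' j k) * g j + ∑ l, m k l * g l := by
    rw [← hc' k]; ring
  rw [h3]
  refine Ideal.add_mem _ (Ideal.sum_mem _ fun j _ => ?_) (Ideal.sum_mem _ fun l _ => ?_)
  · exact Ideal.mul_mem_left _ _ (Ideal.subset_span ⟨j, rfl⟩)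
  · exact Ideal.mul_mem_left _ _ (Ideal.subset_span ⟨l, rfl⟩)

end Groth.Agent.Lib.Helper48.H1Conormal
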