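import Groth.Agent.Lib.Helper48.H1Conormal1
import Groth.Agent.Lib.Helper48.Conormal13

/-!
# Left exactness of the conormal sequence for an `H_1`-regular inner immersion (sections)
-/

set_option autoImplicit false
universe u

open AlgebraicGeometry CategoryTheory Opposite TopologicalSpace CategoryTheory.Limits

namespace Groth.Agent.Lib.Helper48.Conormal

open Groth.Agent.Lib.Helper48.OmegaAff Scheme.Modules

section MemSq

variable {Z X : Scheme.{u}} (i : Z ⟶ X) [QuasiCompact i]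

theorem idealSect_mem_sq_of_conormalRes_eq_zero {U : Z.Opens} {V : X.Opens} (hV : IsGoodFor i V)
    (hUV : U = i ⁻¹ᵁ V) (s : Γ(ClSub.idealMod i.ker, V)) (h : conormalRes i hUV.le s = 0) :
    OmegaSh.idealSect i.ker V s ∈ (RingHom.ker (i.app V).hom) ^ 2 := by
  subst hUV
  rw [conormalRes_refl] at h
  exact idealSect_mem_sq_of_conormalSect_eq_zero i hV s h

end MemSq

section H1Mono

variable {Y' Y X : Scheme.{u}} (f : Y ⟶ X) (j : Y' ⟶ Y)
  (φ₁ : (Scheme.Modules.pullback j).obj (Omega.conormal f) ⟶ Omega.conormal (j ≫ f))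
  (hφ₁ : OmegaSh.IsConormalMap (j ≫ f) f (𝟙 X) j φ₁)
  {V : X.Opens} (hV : IsGoodFor f V) (hV' : IsGoodFor j (f ⁻¹ᵁ V))
  {U : Y'.Opens} (e : U ≤ (j ≫ f) ⁻¹ᵁ V)

include hV hV' in
theorem isGoodFor_comp : IsGoodFor (j ≫ f) V := by
  refine ⟨hV.1, hV'.2.1, ?_⟩
  intro y
  obtain ⟨b, hb⟩ := hV'.2.2 y
  obtain ⟨a, ha⟩ := hV.2.2 b
  refine ⟨a, ?_⟩
  rw [comp_app_apply, ha, hb]

include e in
theorem le_pre : U ≤ j ⁻¹ᵁ (f ⁻¹ᵁ V) := e

/-- the map `s₁ ↦ j^*[s₁]` -/
noncomputable def pullConormal :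
    Γ(ClSub.idealMod f.ker, V) →+ Γ((Scheme.Modules.pullback j).obj (Omega.conormal f), U) :=
  (pullRes j (Omega.conormal f) (V := f ⁻¹ᵁ V) (le_pre f j e)).comp (OmegaSh.conormalSect f V).hom

theorem pullConormal_apply (s₁ : Γ(ClSub.idealMod f.ker, V)) :
    pullConormal f j e s₁ =
      pullRes j (Omega.conormal f) (V := f ⁻¹ᵁ V) (le_pre f j e)
        (OmegaSh.conormalSect f V s₁) := rfl

theorem appLE_app_eq (a : Γ(X, V)) :
    j.appLE (f ⁻¹ᵁ V) U (le_pre f j e) (f.app V a) = (j ≫ f).appLE V U e a := by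
  rw [Scheme.Hom.comp_appLE]
  rfl

theorem pullConormal_smul (a : Γ(X, V)) (s₁ : Γ(ClSub.idealMod f.ker, V)) :
    pullConormal f j e (a • s₁) = (j ≫ f).appLE V U e a • pullConormal f j e s₁ := by
  rw [pullConormal_apply, pullConormal_apply, conormalSect_smul, pullRes_smul, appLE_app_eq]

theorem appLE_eq_zero_of_mem_ker (a : Γ(X, V)) (ha : (j ≫ f).app V a = 0) :
    (j ≫ f).appLE V U e a = 0 := by
  rw [Scheme.Hom.appLE, CommRingCat.comp_apply, ha, map_zero]

variable [QuasiCompact f]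

omit [QuasiCompact f] in
include hV hV' in
theorem pullConormal_surjective (hU : IsAffineOpen U)
    (hsurj : Function.Surjective ((j ≫ f).appLE V U e)) :
    Function.Surjective (pullConormal f j e) := by
  intro x
  have hx : x ∈ Submodule.span Γ(Y', U)
      (Set.range (pullRes j (Omega.conormal f) (V := f ⁻¹ᵁ V) (le_pre f j e))) := by
    rw [span_range_pullRes j (Omega.conormal f) hU hV'.1 (le_pre f j e)]; trivial
  induction hx using Submodule.span_induction with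
  | mem y hy =>
    obtain ⟨n, rfl⟩ := hy
    obtain ⟨s₁, rfl⟩ := conormalSect_surjective f hV n
    exact ⟨s₁, rfl⟩
  | zero => exact ⟨0, map_zero _⟩
  | add y z _ _ hy hz =>
    obtain ⟨a, rfl⟩ := hy
    obtain ⟨b, rfl⟩ := hz
    exact ⟨a + b, map_add _ _ _⟩
  | smul r y _ hy =>
    obtain ⟨s₁, rfl⟩ := hy
    obtain ⟨a, rfl⟩ := hsurj r
    exact ⟨a • s₁, pullConormal_smul f j e a s₁⟩

theorem pullConormal_eq_zero_of_mem_mul (a : Γ(X, V))
    (ha : a ∈ RingHom.ker ((j.app (f ⁻¹ᵁ V)).hom.comp (f.app V).hom) * RingHom.ker (f.app V).hom) :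
    a ∈ RingHom.ker (f.app V).hom ∧ ∀ s₁ : Γ(ClSub.idealMod f.ker, V),
      OmegaSh.idealSect f.ker V s₁ = a → pullConormal f j e s₁ = 0 := by
  refine Submodule.mul_induction_on ha ?_ ?_
  · intro t ht u hu
    refine ⟨Ideal.mul_mem_left _ _ hu, fun s₁ hs₁ => ?_⟩
    have h1 : s₁ = t • sectOf f V ⟨u, hu⟩ := by
      apply idealSect_injective f.ker V
      rw [hs₁, idealSect_smul, idealSect_sectOf]
    rw [h1, pullConormal_smul]
    have h2 : (j ≫ f).app V t = 0 := by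
      rw [comp_app_apply]
      exact (RingHom.mem_ker).mp ht
    rw [appLE_eq_zero_of_mem_ker f j e t h2, zero_smul]
  · intro x y hx hy
    refine ⟨Ideal.add_mem _ hx.1 hy.1, fun s₁ hs₁ => ?_⟩
    have h1 : s₁ = sectOf f V ⟨x, hx.1⟩ + sectOf f V ⟨y, hy.1⟩ := by
      apply idealSect_injective f.ker V
      rw [hs₁, map_add, idealSect_sectOf, idealSect_sectOf]
    rw [h1, map_add, hx.2 _ (idealSect_sectOf f V _), hy.2 _ (idealSect_sectOf f V _), add_zero]

variable [QuasiCompact j] [QuasiCompact (j ≫ f)]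

include hφ₁ hV hV' in
/-- If the ideal of `Y'` in `Y` is generated over `f⁻¹V` by an `H_1`-regular sequence, then
`j^* C_{Y/X} → C_{Y'/X}` is injective on sections over `(j ≫ f)⁻¹ V`. -/
theorem φ₁_app_injective_of_isH1Regular (hUV : U = (j ≫ f) ⁻¹ᵁ V) {c : ℕ}
    (g : Fin c → Γ(Y, f ⁻¹ᵁ V)) (hg : CAlgX.IsH1Regular g)
    (hker : RingHom.ker (j.app (f ⁻¹ᵁ V)).hom = Ideal.span (Set.range g)) :
    Function.Injective (φ₁.app U) := by
  have hVc := isGoodFor_comp f j hV hV'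
  have hUaff : IsAffineOpen U := by rw [hUV]; exact hVc.2.1
  have hsurj : Function.Surjective ((j ≫ f).appLE V U hUV.le) := by
    subst hUV
    rw [Scheme.Hom.appLE_eq_app]
    exact hVc.2.2
  rw [injective_iff_map_eq_zero]
  intro x hx
  obtain ⟨s₁, rfl⟩ := pullConormal_surjective f j hV hV' hUV.le hUaff hsurj x
  obtain ⟨s, hs⟩ := exists_ideal_of_ideal f j s₁
  have h1 : φ₁.app U (pullConormal f j hUV.le s₁) =
      conormalRes (j ≫ f) hUV.le s := φ₁_app f j φ₁ hφ₁ hUV.le s₁ s hs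
  rw [h1] at hx
  have h2 := idealSect_mem_sq_of_conormalRes_eq_zero (j ≫ f) hVc hUV s hx
  rw [hs] at h2
  have hkc : RingHom.ker ((j ≫ f).app V).hom =
      RingHom.ker ((j.app (f ⁻¹ᵁ V)).hom.comp (f.app V).hom) := by
    ext a
    rw [RingHom.mem_ker, RingHom.mem_ker, RingHom.comp_apply]
    exact ⟨fun h => (comp_app_apply f j a).symm.trans h, fun h => (comp_app_apply f j a).trans h⟩
  rw [hkc] at h2
  have h3 := H1Conormal.inf_sq_le_mul (f.app V).hom hV.2.2 (j.app (f ⁻¹ᵁ V)).hom g hg hker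
    ⟨idealSect_mem_ker f V s₁, h2⟩
  exact (pullConormal_eq_zero_of_mem_mul f j hUV.le _ h3).2 s₁ rfl

end H1Mono

end Groth.Agent.Lib.Helper48.Conormal
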