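import Groth.Agent.Lib.Helper48.H1Conormal2
import Groth.Agent.Lib.Helper48.Conormal7
import Groth.Agent.Lib.Helper43.RegImmComp
import Groth.Prelude.Def_RegImm

/-!
# The conormal sequence of `Y' → Y → X` is short exact when `Y' → Y` is `H_1`-regular
-/

set_option autoImplicit false
universe u

open AlgebraicGeometry CategoryTheory Opposite TopologicalSpace CategoryTheory.Limits

namespace Groth.Agent.Lib.Helper48.Conormal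

open Groth.Agent.Lib.Helper48.OmegaAff Scheme.Modules

section Charts

variable {Y' Y X : Scheme.{u}} (f : Y ⟶ X) (j : Y' ⟶ Y)

/-- small `H_1`-charts adapted to both immersions -/
theorem exists_h1_chart [IsImmersion f] [IsImmersion j]
    (hj : ∀ z, RegImm.IsRegularImmersionAt .h1 j z) (y : Y') (O : Y'.Opens) (hy : y ∈ O) :
    ∃ V : X.Opens, IsGoodFor f V ∧ IsGoodFor j (f ⁻¹ᵁ V) ∧ y ∈ (j ≫ f) ⁻¹ᵁ V ∧
      (j ≫ f) ⁻¹ᵁ V ≤ O ∧ ∃ rs : List Γ(Y, f ⁻¹ᵁ V), CAlgX.IsH1Regular rs.get ∧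
        RingHom.ker (j.app (f ⁻¹ᵁ V)).hom = Ideal.span (Set.range rs.get) := by
  obtain ⟨U₀, hyU₀, hci, rs, hrs, hker⟩ := hj y
  obtain ⟨O', hO', hOO'⟩ := j.isEmbedding.isInducing.isOpen_iff.mp O.isOpen
  let O'' : Y.Opens := ⟨O', hO'⟩
  have hyO'' : j y ∈ O'' := by
    have : y ∈ (j ⁻¹' O' : Set Y') := by rw [hOO']; exact hy
    exact this
  obtain ⟨V, hV, hyV, -, hle⟩ := exists_goodFor f (j y) (U₀.1 ⊓ O'') ⟨hyU₀, hyO''⟩ ⊤ trivial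
  haveI := hci
  obtain ⟨hci₁, rs₁, -, hrs₁, hker₁⟩ :=
    Groth.Agent.Lib.Helper43.RegImmComp.chart_restrict .h1 j U₀.1 U₀.2 rs hrs hker
      (f ⁻¹ᵁ V) hV.2.1 (hle.trans inf_le_left) y hyV
  haveI := hci₁
  refine ⟨V, hV, ⟨hV.2.1,
    Groth.Agent.Lib.Helper43.KoszulAtPerf.isAffineOpen_preimage_of_restrict j _ hV.2.1,
    Groth.Agent.Lib.Helper43.KoszulAtPerf.app_surjective_of_restrict j _ hV.2.1⟩, hyV, ?_,
    rs₁, hrs₁, ?_⟩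
  · intro z hz
    have h1 : j z ∈ O'' := (hle hz).2
    have h2 : z ∈ (j ⁻¹' O' : Set Y') := h1
    rw [hOO'] at h2
    exact h2
  · rw [hker₁, Set.range_list_get]

end Charts

section SES

variable {Y' Y X : Scheme.{u}} (f : Y ⟶ X) [IsImmersion f] [QuasiCompact f]
  (j : Y' ⟶ Y) [IsImmersion j] [QuasiCompact j]
  (φ₁ : (Scheme.Modules.pullback j).obj (Omega.conormal f) ⟶ Omega.conormal (j ≫ f))
  (hφ₁ : OmegaSh.IsConormalMap (j ≫ f) f (𝟙 X) j φ₁)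
  (φ₂ : (Scheme.Modules.pullback (𝟙 Y')).obj (Omega.conormal (j ≫ f)) ⟶ Omega.conormal j)
  (hφ₂ : OmegaSh.IsConormalMap j (j ≫ f) f (𝟙 Y') φ₂)

include hφ₁ hφ₂ in
/-- right exactness (as in S5974) -/
theorem rightExact : ∃ w : φ₁ ≫ ψ₂ f j φ₂ = 0,
    (ShortComplex.mk φ₁ (ψ₂ f j φ₂) w).Exact ∧ Epi (ψ₂ f j φ₂) := by
  classical
  let 𝓑 : Set Y'.Opens := {U | IsAffineOpen U ∧ ∃ V : X.Opens,
    IsGoodFor f V ∧ U ≤ (j ≫ f) ⁻¹ᵁ V}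
  have hB : TopologicalSpace.Opens.IsBasis 𝓑 := by
    rw [TopologicalSpace.Opens.isBasis_iff_nbhd]
    intro O y hy
    obtain ⟨V, hV, hyV, -, -⟩ := exists_goodFor f (j y) ⊤ trivial ⊤ trivial
    have hmem : y ∈ (j ≫ f) ⁻¹ᵁ V ⊓ O := ⟨hyV, hy⟩
    obtain ⟨_, ⟨U, hU : IsAffineOpen U, rfl⟩, hyU, hUle⟩ :=
      (Y'.isBasis_affineOpens).exists_subset_of_mem_open hmem ((j ≫ f) ⁻¹ᵁ V ⊓ O).isOpen
    have hUle' : U ≤ (j ≫ f) ⁻¹ᵁ V ⊓ O := hUle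
    exact ⟨U, ⟨hU, V, hV, hUle'.trans inf_le_left⟩, hyU, hUle'.trans inf_le_right⟩
  have hepi : Epi (ψ₂ f j φ₂) := by
    refine epi_of_basis _ _ hB ?_
    rintro U ⟨hU, V, hV, e⟩
    exact ψ₂_app_surjective f j φ₂ hφ₂ hV hU e
  have w : φ₁ ≫ ψ₂ f j φ₂ = 0 := by
    refine hom_ext_of_basis _ _ _ hB ?_
    rintro U ⟨hU, V, hV, e⟩ s
    rw [Scheme.Modules.Hom.comp_app, Scheme.Modules.Hom.zero_app]
    exact φ₁_ψ₂_app f j φ₁ hφ₁ φ₂ hφ₂ hV hU e s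
  refine ⟨w, ?_, hepi⟩
  refine exact_of_basis _ _ hB ?_
  rintro U ⟨hU, V, hV, e⟩ y hy
  exact three_exact_app f j φ₁ hφ₁ φ₂ hφ₂ hV hU e y hy

include hφ₁ in
theorem mono_of_h1 (hj : ∀ z, RegImm.IsRegularImmersionAt .h1 j z) : Mono φ₁ := by
  classical
  let 𝓑 : Set Y'.Opens := {U | ∃ V : X.Opens, IsGoodFor f V ∧ IsGoodFor j (f ⁻¹ᵁ V) ∧
    U = (j ≫ f) ⁻¹ᵁ V ∧ ∃ rs : List Γ(Y, f ⁻¹ᵁ V), CAlgX.IsH1Regular rs.get ∧
        RingHom.ker (j.app (f ⁻¹ᵁ V)).hom = Ideal.span (Set.range rs.get)}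
  have hB : TopologicalSpace.Opens.IsBasis 𝓑 := by
    rw [TopologicalSpace.Opens.isBasis_iff_nbhd]
    intro O y hy
    obtain ⟨V, hV, hV', hyV, hle, rs, hrs, hker⟩ := exists_h1_chart f j hj y O hy
    exact ⟨_, ⟨V, hV, hV', rfl, rs, hrs, hker⟩, hyV, hle⟩
  refine mono_of_basis _ _ hB ?_
  rintro U ⟨V, hV, hV', hUV, rs, hrs, hker⟩
  exact φ₁_app_injective_of_isH1Regular f j φ₁ hφ₁ hV hV' hUV rs.get hrs hker

include hφ₁ hφ₂ in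
/-- **The conormal sequence is short exact if the inner immersion is `H_1`-regular.** -/
theorem shortExact_of_h1 (hj : ∀ z, RegImm.IsRegularImmersionAt .h1 j z) :
    ∃ w : φ₁ ≫ ψ₂ f j φ₂ = 0, (ShortComplex.mk φ₁ (ψ₂ f j φ₂) w).ShortExact := by
  obtain ⟨w, hex, hepi⟩ := rightExact f j φ₁ hφ₁ φ₂ hφ₂
  haveI := mono_of_h1 f j φ₁ hφ₁ hj
  haveI := hepi
  exact ⟨w, ShortComplex.ShortExact.mk' hex (by assumption) (by assumption)⟩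

end SES

end Groth.Agent.Lib.Helper48.Conormal
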