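import Groth.Agent.Lib.Helper48.H1Conormal3
import Groth.Agent.Lib.Helper2.FreeModAff

/-!
# The conormal sheaf of an `H_1`-regular immersion is finite locally free
-/

set_option autoImplicit false
universe u

open AlgebraicGeometry CategoryTheory Opposite TopologicalSpace CategoryTheory.Limits

namespace Groth.Agent.Lib.Helper48.Conormal

open Groth.Agent.Lib.Helper48.OmegaAff Scheme.Modules

section Free

variable {Z X : Scheme.{u}} (i : Z ⟶ X) [QuasiCompact i] {V : X.Opens} (hV : IsGoodFor i V)
  {n : ℕ} (g : Fin n → Γ(X, V)) (hg : CAlgX.IsH1Regular g)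
  (hker : RingHom.ker (i.app V).hom = Ideal.span (Set.range g))

omit [QuasiCompact i] in
include hker in
theorem g_mem_ker (k : Fin n) : g k ∈ RingHom.ker (i.app V).hom := by
  rw [hker]; exact Ideal.subset_span ⟨k, rfl⟩

/-- the classes of the generators -/
noncomputable def genClass (k : Fin n) : Γ(Omega.conormal i, i ⁻¹ᵁ V) :=
  OmegaSh.conormalSect i V (sectOf i V ⟨g k, g_mem_ker i g hker k⟩)

theorem conormalSect_sum_smul (a : Fin n → Γ(X, V)) :
    OmegaSh.conormalSect i V (∑ k, a k • sectOf i V ⟨g k, g_mem_ker i g hker k⟩) =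
      ∑ k, i.app V (a k) • genClass i g hker k := by
  rw [map_sum]
  refine Finset.sum_congr rfl fun k _ => ?_
  rw [conormalSect_smul]
  rfl

theorem idealSect_sum_smul (a : Fin n → Γ(X, V)) :
    OmegaSh.idealSect i.ker V (∑ k, a k • sectOf i V ⟨g k, g_mem_ker i g hker k⟩) =
      ∑ k, a k * g k := by
  rw [map_sum]
  refine Finset.sum_congr rfl fun k _ => ?_
  rw [idealSect_smul, idealSect_sectOf]

include hV hg in
theorem linearCombination_genClass_bijective :
    Function.Bijective (Fintype.linearCombination Γ(Z, i ⁻¹ᵁ V) (genClass i g hker)) := by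
  constructor
  · rw [injective_iff_map_eq_zero]
    intro b hb
    choose a ha using fun k => hV.2.2 (b k)
    rw [Fintype.linearCombination_apply] at hb
    have h1 : ∑ k, b k • genClass i g hker k =
        OmegaSh.conormalSect i V (∑ k, a k • sectOf i V ⟨g k, g_mem_ker i g hker k⟩) := by
      rw [conormalSect_sum_smul i g hker a]
      refine Finset.sum_congr rfl fun k _ => ?_
      rw [ha]
    rw [h1] at hb
    have h2 := idealSect_mem_sq_of_conormalSect_eq_zero i hV _ hb
    rw [idealSect_sum_smul i g hker a, hker, pow_two] at h2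
    funext k
    have h3 := H1Conormal.coeff_mem_of_isH1Regular g hg a h2 k
    rw [← hker, RingHom.mem_ker] at h3
    rw [Pi.zero_apply, ← ha k]
    exact h3
  · rw [← LinearMap.range_eq_top, eq_top_iff, ← span_range_conormalSect i hV, Submodule.span_le]
    rintro _ ⟨s, rfl⟩
    have h1 : OmegaSh.idealSect i.ker V s ∈ Ideal.span (Set.range g) := by
      rw [← hker]; exact idealSect_mem_ker i V s
    obtain ⟨a, ha⟩ := (Ideal.mem_span_range_iff_exists_fun).mp h1
    have h2 : s = ∑ k, a k • sectOf i V ⟨g k, g_mem_ker i g hker k⟩ := by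
      apply idealSect_injective i.ker V
      rw [idealSect_sum_smul i g hker a, ha]
    refine ⟨fun k => i.app V (a k), ?_⟩
    rw [Fintype.linearCombination_apply, h2, conormalSect_sum_smul i g hker a]

end Free

/-- **The conormal sheaf of an `H_1`-regular (quasi-compact) immersion is finite locally free.** -/
theorem isFinLocFree_conormal_of_h1 {Z X : Scheme.{u}} (i : Z ⟶ X) [QuasiCompact i]
    (hi : ∀ z, RegImm.IsRegularImmersionAt .h1 i z) : FlatMod.IsFinLocFree (Omega.conormal i) := by
  intro z
  obtain ⟨U₀, hzU₀, hci, rs, hrs, hker⟩ := hi z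
  haveI := hci
  have hV : IsGoodFor i U₀.1 := ⟨U₀.2,
    Groth.Agent.Lib.Helper43.KoszulAtPerf.isAffineOpen_preimage_of_restrict i _ U₀.2,
    Groth.Agent.Lib.Helper43.KoszulAtPerf.app_surjective_of_restrict i _ U₀.2⟩
  have hker' : RingHom.ker (i.app U₀.1).hom = Ideal.span (Set.range rs.get) := by
    rw [hker, Set.range_list_get]
  refine ⟨i ⁻¹ᵁ U₀.1, rs.length, hzU₀, ?_⟩
  rw [Groth.Agent.Lib.Helper2.FreeModAff.nonempty_iso_freeMod_iff (Omega.conormal i) hV.2.1]
  exact ⟨(LinearEquiv.ofBijective _
    (linearCombination_genClass_bijective i hV rs.get hrs hker')).symm⟩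

end Groth.Agent.Lib.Helper48.Conormal
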