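import Groth.Prelude.Def_W4c2invhilbsl2HJ
import Mathlib.Tactic

/-!
Arithmetic of Hirzebruch–Jung continued fractions for the prelude `Def_W4c2invhilbsl2HJ`:
convergents `hjP`, `hjQ`, the value `hjVal`, and the numbers `nN`.
-/

set_option autoImplicit false

namespace Groth.Agent.Lib.Helper48.HJ

open W4c2invhilbsl2

theorem hjP_zero (c : List ℤ) : hjP c 0 = 0 := by simp [hjP]
theorem hjP_one (c : List ℤ) : hjP c 1 = 1 := by simp [hjP]
theorem hjP_succ_succ (c : List ℤ) (i : ℕ) :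
    hjP c (i + 2) = c.getD i 0 * hjP c (i + 1) - hjP c i := by simp [hjP]
theorem hjQ_zero (c : List ℤ) : hjQ c 0 = -1 := by simp [hjQ]
theorem hjQ_one (c : List ℤ) : hjQ c 1 = 0 := by simp [hjQ]
theorem hjQ_succ_succ (c : List ℤ) (i : ℕ) :
    hjQ c (i + 2) = c.getD i 0 * hjQ c (i + 1) - hjQ c i := by simp [hjQ]

/-- Shifting the list: convergents of `a :: l` in terms of those of `l`. -/
theorem hj_cons (a : ℤ) (l : List ℤ) (i : ℕ) :
    hjP (a :: l) (i + 1) = a * hjP l i - hjQ l i ∧ hjQ (a :: l) (i + 1) = hjP l i := by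
  induction i using Nat.twoStepInduction with
  | zero => simp [hjP_zero, hjP_one, hjQ_zero, hjQ_one]
  | one =>
    refine ⟨?_, ?_⟩
    · rw [hjP_succ_succ, hjP_one, hjP_zero, hjP_one, hjQ_one]; simp
    · rw [hjQ_succ_succ, hjQ_one, hjQ_zero, hjP_one]; simp
  | more n ih1 ih2 =>
    obtain ⟨hP1, hQ1⟩ := ih1
    obtain ⟨hP2, hQ2⟩ := ih2
    refine ⟨?_, ?_⟩
    · rw [hjP_succ_succ (a :: l) (n + 1), hP2, hP1, hjP_succ_succ l n, hjQ_succ_succ l n]
      simp only [List.getD_cons_succ]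
      ring
    · rw [hjQ_succ_succ (a :: l) (n + 1), hQ2, hQ1, hjP_succ_succ l n]
      simp only [List.getD_cons_succ]

/-- The determinant identity. -/
theorem hj_det (c : List ℤ) (i : ℕ) :
    hjP c i * hjQ c (i + 1) - hjP c (i + 1) * hjQ c i = 1 := by
  induction i with
  | zero => simp [hjP_zero, hjP_one, hjQ_zero, hjQ_one]
  | succ n ih =>
    rw [hjP_succ_succ, hjQ_succ_succ]
    linear_combination ih

/-- Monotonicity of the convergents when all digits are at least two. -/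
theorem hj_mono (c : List ℤ) (hc : ∀ x ∈ c, (2 : ℤ) ≤ x) (i : ℕ) (hi : i ≤ c.length) :
    0 ≤ hjP c i ∧ hjP c i < hjP c (i + 1) ∧ 0 ≤ hjQ c (i + 1) ∧ hjQ c i < hjQ c (i + 1) := by
  induction i with
  | zero => simp [hjP_zero, hjP_one, hjQ_zero, hjQ_one]
  | succ n ih =>
    obtain ⟨h1, h2, h3, h4⟩ := ih (by omega)
    have hn : n < c.length := by omega
    have hd : (2 : ℤ) ≤ c.getD n 0 := by
      rw [List.getD_eq_getElem c 0 hn]
      exact hc _ (List.getElem_mem hn)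
    rw [hjP_succ_succ, hjQ_succ_succ]
    refine ⟨by linarith, ?_, ?_, ?_⟩
    · nlinarith
    · nlinarith
    · nlinarith

theorem hjP_pos (c : List ℤ) (hc : ∀ x ∈ c, (2 : ℤ) ≤ x) (i : ℕ) (hi : i ≤ c.length) :
    0 < hjP c (i + 1) := by
  obtain ⟨h1, h2, -, -⟩ := hj_mono c hc i hi
  linarith

/-- The value of the continued fraction as a quotient of convergents. -/
theorem hjVal_eq (c : List ℤ) (hc : ∀ x ∈ c, (2 : ℤ) ≤ x) :
    HJFrac.hjVal c = (hjP c (c.length + 1) : ℚ) / (hjQ c (c.length + 1) : ℚ) := by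
  induction c with
  | nil => simp [HJFrac.hjVal, hjQ_one]
  | cons a l ih =>
    have hl : ∀ x ∈ l, (2 : ℤ) ≤ x := fun x hx => hc x (List.mem_cons_of_mem _ hx)
    obtain ⟨hP, hQ⟩ := hj_cons a l (l.length + 1)
    have hpos : (0 : ℚ) < (hjP l (l.length + 1) : ℚ) := by
      exact_mod_cast hjP_pos l hl l.length le_rfl
    rw [HJFrac.hjVal, ih hl, List.length_cons, hP, hQ, inv_div]
    push_cast
    field_simp

section Params

variable (p q m : ℕ)

/-- Basic arithmetic facts about `g`, `b`, `t`. -/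
theorem params (hp : 0 < p) (hpq : p < q) (hcop : Nat.Coprime p q) (hm : 0 < m)
    (hnt : ¬ (q - p ∣ m)) :
    0 < gcdK p q m ∧ bB p q m * gcdK p q m = q - p ∧
      tT p q m * gcdK p q m = q - p - m * p % (q - p) ∧ 0 < tT p q m ∧ tT p q m < bB p q m ∧
      Nat.Coprime (bB p q m) (tT p q m) ∧ 0 < m * p % (q - p) := by
  have hd : 0 < q - p := by omega
  have hg : 0 < gcdK p q m := Nat.gcd_pos_of_pos_left _ hm
  have hgd : gcdK p q m ∣ q - p := Nat.gcd_dvd_right _ _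
  have hgm : gcdK p q m ∣ m := Nat.gcd_dvd_left _ _
  have hcopd : Nat.Coprime (q - p) p := by
    have h1 : Nat.Coprime q p := hcop.symm
    rw [Nat.Coprime, ← Nat.gcd_sub_self_left (Nat.le_of_lt hpq)] at h1
    exact h1
  have hβpos : 0 < m * p % (q - p) := by
    rw [Nat.pos_iff_ne_zero]
    intro h0
    have h1 : q - p ∣ m * p := Nat.dvd_of_mod_eq_zero h0
    exact hnt (hcopd.dvd_of_dvd_mul_right h1)
  have hβlt : m * p % (q - p) < q - p := Nat.mod_lt _ hd
  have hgβ : gcdK p q m ∣ m * p % (q - p) := by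
    rw [Nat.dvd_mod_iff hgd]
    exact Dvd.dvd.mul_right hgm p
  have hgsub : gcdK p q m ∣ q - p - m * p % (q - p) := Nat.dvd_sub hgd hgβ
  have hb : bB p q m * gcdK p q m = q - p := Nat.div_mul_cancel hgd
  have ht : tT p q m * gcdK p q m = q - p - m * p % (q - p) := Nat.div_mul_cancel hgsub
  have htpos : 0 < tT p q m := by
    rcases Nat.eq_zero_or_pos (tT p q m) with h | h
    · rw [h] at ht; omega
    · exact h
  have htb : tT p q m < bB p q m := by
    have : tT p q m * gcdK p q m < bB p q m * gcdK p q m := by rw [ht, hb]; omega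
    exact Nat.lt_of_mul_lt_mul_right this
  refine ⟨hg, hb, ht, htpos, htb, ?_, hβpos⟩
  -- coprimality
  have h1 : Nat.gcd (q - p) (q - p - m * p % (q - p)) = gcdK p q m := by
    have e1 : Nat.gcd (q - p) (q - p - m * p % (q - p)) = Nat.gcd (q - p) (m * p % (q - p)) :=
      Nat.gcd_self_sub_right (Nat.le_of_lt hβlt)
    have e2 : Nat.gcd (q - p) (m * p % (q - p)) = Nat.gcd (q - p) (m * p) := by
      rw [Nat.gcd_comm, ← Nat.gcd_rec]
    have e3 : Nat.gcd (q - p) (m * p) = Nat.gcd (q - p) m :=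
      Nat.Coprime.gcd_mul_right_cancel_right m hcopd.symm
    rw [e1, e2, e3, Nat.gcd_comm]
    rfl
  have h2 : Nat.gcd (bB p q m * gcdK p q m) (tT p q m * gcdK p q m) = gcdK p q m := by
    rw [hb, ht]; exact h1
  rw [Nat.gcd_mul_right] at h2
  have : Nat.gcd (bB p q m) (tT p q m) * gcdK p q m = 1 * gcdK p q m := by rw [one_mul]; exact h2
  exact Nat.eq_of_mul_eq_mul_right hg this

end Params

section Main

variable {p q m : ℕ}

/-- The last convergent recovers `b` and `t`. -/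
theorem hj_last (hp : 0 < p) (hpq : p < q) (hcop : Nat.Coprime p q) (hm : 0 < m)
    (hnt : ¬ (q - p ∣ m)) (c : List ℤ) (hc : IsHJDigits p q m c) :
    0 < c.length ∧ hjP c (c.length + 1) = bB p q m ∧ hjQ c (c.length + 1) = tT p q m := by
  obtain ⟨hg, hb, ht, htpos, htb, hbt, hβ⟩ := params p q m hp hpq hcop hm hnt
  have hbpos : 0 < bB p q m := by omega
  have hval : (hjP c (c.length + 1) : ℚ) / (hjQ c (c.length + 1) : ℚ) =
      (bB p q m : ℚ) / (tT p q m : ℚ) := by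
    rw [← hjVal_eq c hc.1]; exact hc.2
  have hlen : 0 < c.length := by
    rcases Nat.eq_zero_or_pos c.length with h0 | h0
    · rw [h0, hjQ_one] at hval
      simp only [Int.cast_zero, div_zero] at hval
      have h1 : (bB p q m : ℚ) ≠ 0 := by exact_mod_cast hbpos.ne'
      have h2 : (tT p q m : ℚ) ≠ 0 := by exact_mod_cast htpos.ne'
      exact absurd hval.symm (div_ne_zero h1 h2)
    · exact h0
  have hQpos : 0 < hjQ c (c.length + 1) := by
    obtain ⟨-, -, h3, -⟩ := hj_mono c hc.1 (c.length - 1) (by omega)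
    obtain ⟨-, -, -, h4⟩ := hj_mono c hc.1 c.length le_rfl
    have : c.length - 1 + 1 = c.length := by omega
    rw [this] at h3
    linarith
  have hPpos : 0 < hjP c (c.length + 1) := hjP_pos c hc.1 c.length le_rfl
  have hcross : hjP c (c.length + 1) * (tT p q m : ℤ) = (bB p q m : ℤ) * hjQ c (c.length + 1) := by
    have hQ0 : (hjQ c (c.length + 1) : ℚ) ≠ 0 := by exact_mod_cast hQpos.ne'
    have ht0 : (tT p q m : ℚ) ≠ 0 := by exact_mod_cast htpos.ne'
    rw [div_eq_div_iff hQ0 ht0] at hval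
    exact_mod_cast hval
  have hcopPQ : IsCoprime (hjP c (c.length + 1)) (hjQ c (c.length + 1)) :=
    ⟨-hjQ c c.length, hjP c c.length, by linarith [hj_det c c.length]⟩
  have hcopbt : IsCoprime (bB p q m : ℤ) (tT p q m : ℤ) := Nat.isCoprime_iff_coprime.mpr hbt
  have h1 : hjP c (c.length + 1) ∣ (bB p q m : ℤ) :=
    hcopPQ.dvd_of_dvd_mul_right ⟨tT p q m, hcross.symm⟩
  have h2 : (bB p q m : ℤ) ∣ hjP c (c.length + 1) :=
    hcopbt.dvd_of_dvd_mul_right ⟨hjQ c (c.length + 1), hcross⟩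
  have hPb : hjP c (c.length + 1) = bB p q m :=
    Int.dvd_antisymm hPpos.le (by positivity) h1 h2
  refine ⟨hlen, hPb, ?_⟩
  rw [hPb] at hcross
  have hb0 : (bB p q m : ℤ) ≠ 0 := by exact_mod_cast hbpos.ne'
  exact (mul_left_cancel₀ hb0 hcross).symm

/-- The numbers `nᵢ` in terms of the convergents. -/
theorem nN_eq (hp : 0 < p) (hpq : p < q) (hcop : Nat.Coprime p q) (hm : 0 < m)
    (hnt : ¬ (q - p ∣ m)) (c : List ℤ) (i : ℕ) :
    nN p q m c i = (gcdK p q m : ℤ) *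
      ((tT p q m : ℤ) * hjP c i - (bB p q m : ℤ) * hjQ c i) := by
  obtain ⟨hg, hb, ht, htpos, htb, hbt, hβ⟩ := params p q m hp hpq hcop hm hnt
  have hd : 0 < q - p := by omega
  have hβlt : m * p % (q - p) < q - p := Nat.mod_lt _ hd
  have h1 : (bB p q m : ℤ) * (gcdK p q m : ℤ) = (q : ℤ) - p := by
    rw [← Nat.cast_mul, hb, Nat.cast_sub hpq.le]
  have h2 : (tT p q m : ℤ) * (gcdK p q m : ℤ) = (q : ℤ) - p - ((m * p % (q - p) : ℕ) : ℤ) := by
    rw [← Nat.cast_mul, ht, Nat.cast_sub hβlt.le, Nat.cast_sub hpq.le]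
  have h3 : (m : ℤ) * p = ((q : ℤ) - p) * (alpha p q m : ℤ) + ((m * p % (q - p) : ℕ) : ℤ) := by
    have := Nat.div_add_mod (m * p) (q - p)
    have h4 : ((q - p : ℕ) : ℤ) * ((m * p / (q - p) : ℕ) : ℤ) + ((m * p % (q - p) : ℕ) : ℤ) =
        ((m * p : ℕ) : ℤ) := by exact_mod_cast this
    rw [Nat.cast_sub hpq.le, Nat.cast_mul] at h4
    exact h4.symm
  unfold nN eE lL
  push_cast
  linear_combination (-(hjP c i)) * h3 - (hjP c i) * h2 + (hjQ c i) * h1

/-- `tᵢ = t Pᵢ - b Qᵢ`, so that `nᵢ = g tᵢ`. -/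
def tI (p q m : ℕ) (c : List ℤ) (i : ℕ) : ℤ :=
  (tT p q m : ℤ) * hjP c i - (bB p q m : ℤ) * hjQ c i

theorem tI_zero (c : List ℤ) : tI p q m c 0 = bB p q m := by
  simp [tI, hjP_zero, hjQ_zero]

theorem tI_one (c : List ℤ) : tI p q m c 1 = tT p q m := by
  simp [tI, hjP_one, hjQ_one]

theorem tI_succ_succ (c : List ℤ) (i : ℕ) :
    tI p q m c (i + 2) = c.getD i 0 * tI p q m c (i + 1) - tI p q m c i := by
  unfold tI
  rw [hjP_succ_succ, hjQ_succ_succ]
  ring

theorem nN_eq_tI (hp : 0 < p) (hpq : p < q) (hcop : Nat.Coprime p q) (hm : 0 < m)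
    (hnt : ¬ (q - p ∣ m)) (c : List ℤ) (i : ℕ) :
    nN p q m c i = (gcdK p q m : ℤ) * tI p q m c i :=
  nN_eq hp hpq hcop hm hnt c i

theorem tI_last (hp : 0 < p) (hpq : p < q) (hcop : Nat.Coprime p q) (hm : 0 < m)
    (hnt : ¬ (q - p ∣ m)) (c : List ℤ) (hc : IsHJDigits p q m c) :
    tI p q m c (c.length + 1) = 0 ∧ tI p q m c c.length = 1 := by
  obtain ⟨-, hP, hQ⟩ := hj_last hp hpq hcop hm hnt c hc
  refine ⟨?_, ?_⟩
  · unfold tI; rw [hP, hQ]; ring
  · unfold tI; rw [← hP, ← hQ]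
    linear_combination hj_det c c.length

/-- The `tᵢ` are non-negative and strictly decreasing for `0 ≤ i ≤ r + 1`. -/
theorem tI_anti (hp : 0 < p) (hpq : p < q) (hcop : Nat.Coprime p q) (hm : 0 < m)
    (hnt : ¬ (q - p ∣ m)) (c : List ℤ) (hc : IsHJDigits p q m c) :
    ∀ k j : ℕ, j + k = c.length →
      0 ≤ tI p q m c (j + 1) ∧ tI p q m c (j + 1) < tI p q m c j := by
  obtain ⟨h0, h1⟩ := tI_last hp hpq hcop hm hnt c hc
  intro k
  induction k with
  | zero =>
    intro j hj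
    have : j = c.length := by omega
    subst this
    rw [h0, h1]; simp
  | succ k ih =>
    intro j hj
    obtain ⟨ih1, ih2⟩ := ih (j + 1) (by omega)
    have hn : j < c.length := by omega
    have hd : (2 : ℤ) ≤ c.getD j 0 := by
      rw [List.getD_eq_getElem c 0 hn]
      exact hc.1 _ (List.getElem_mem hn)
    have hrec := tI_succ_succ (p := p) (q := q) (m := m) c j
    have hpos : 0 ≤ tI p q m c (j + 1) := by linarith
    refine ⟨hpos, ?_⟩
    have : 2 * tI p q m c (j + 1) ≤ c.getD j 0 * tI p q m c (j + 1) :=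
      mul_le_mul_of_nonneg_right hd hpos
    linarith

theorem tI_anti' (hp : 0 < p) (hpq : p < q) (hcop : Nat.Coprime p q) (hm : 0 < m)
    (hnt : ¬ (q - p ∣ m)) (c : List ℤ) (hc : IsHJDigits p q m c) (j : ℕ) (hj : j ≤ c.length) :
    0 ≤ tI p q m c (j + 1) ∧ tI p q m c (j + 1) < tI p q m c j :=
  tI_anti hp hpq hcop hm hnt c hc (c.length - j) j (by omega)

/-- `tᵢ < b` for `1 ≤ i ≤ r + 1`. -/
theorem tI_lt_b (hp : 0 < p) (hpq : p < q) (hcop : Nat.Coprime p q) (hm : 0 < m)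
    (hnt : ¬ (q - p ∣ m)) (c : List ℤ) (hc : IsHJDigits p q m c) (i : ℕ) (hi : i ≤ c.length) :
    tI p q m c (i + 1) < bB p q m := by
  induction i with
  | zero =>
    have := (tI_anti' hp hpq hcop hm hnt c hc 0 (by omega)).2
    rwa [tI_zero] at this
  | succ n ih =>
    have := (tI_anti' hp hpq hcop hm hnt c hc (n + 1) hi).2
    have := ih (by omega)
    linarith

/-- Key lower bound: a lattice point `(x, ρ)` with `ρ = t x - b y ≥ 0` and `0 < x < P_{j+1}`
has `ρ ≥ t_j`. -/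
theorem lattice_lower (hp : 0 < p) (hpq : p < q) (hcop : Nat.Coprime p q) (hm : 0 < m)
    (hnt : ¬ (q - p ∣ m)) (c : List ℤ) (hc : IsHJDigits p q m c) (j : ℕ) (hj1 : 1 ≤ j)
    (hj : j ≤ c.length) (x y : ℤ) (hx0 : 0 < x) (hx : x < hjP c (j + 1))
    (hρ : 0 ≤ (tT p q m : ℤ) * x - (bB p q m : ℤ) * y) :
    tI p q m c j ≤ (tT p q m : ℤ) * x - (bB p q m : ℤ) * y := by
  obtain ⟨hT0, hT1⟩ := tI_anti' hp hpq hcop hm hnt c hc j hj
  obtain ⟨-, hPlt, -, -⟩ := hj_mono c hc.1 j hj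
  have hPpos : 0 < hjP c j := by
    obtain ⟨k, rfl⟩ : ∃ k, j = k + 1 := ⟨j - 1, by omega⟩
    exact hjP_pos c hc.1 k (by omega)
  have hdet := hj_det c j
  set P := hjP c j with hP
  set P' := hjP c (j + 1) with hP'
  set Q := hjQ c j with hQ
  set Q' := hjQ c (j + 1) with hQ'
  set u : ℤ := x * Q' - y * P' with hu
  set v : ℤ := -x * Q + y * P with hv
  have hxuv : x = u * P + v * P' := by
    rw [hu, hv]; linear_combination (-x) * hdet
  have hρuv : (tT p q m : ℤ) * x - (bB p q m : ℤ) * y =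
      u * tI p q m c j + v * tI p q m c (j + 1) := by
    unfold tI
    rw [hu, hv, ← hP, ← hP', ← hQ, ← hQ']
    linear_combination ((bB p q m : ℤ) * y - (tT p q m : ℤ) * x) * hdet
  rw [hρuv] at hρ ⊢
  set T := tI p q m c j with hT
  set T' := tI p q m c (j + 1) with hT'
  rw [hxuv] at hx0 hx
  by_contra hcon
  push_neg at hcon
  rcases le_or_gt v 0 with hv0 | hv0
  · rcases le_or_gt u 0 with hu0 | hu0
    · -- x ≤ 0
      have h1 : u * P ≤ 0 := mul_nonpos_of_nonpos_of_nonneg hu0 hPpos.le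
      have h2 : v * P' ≤ 0 := mul_nonpos_of_nonpos_of_nonneg hv0 (by linarith)
      linarith
    · -- u ≥ 1, v ≤ 0
      -- u P > (-v) P' ≥ (-v) P so u > -v
      have h1 : (-v) * P ≤ (-v) * P' := mul_le_mul_of_nonneg_left hPlt.le (by linarith)
      have h2 : (-v) * P < u * P := by linarith
      have h3 : -v < u := lt_of_mul_lt_mul_right h2 hPpos.le
      have h4 : (-v) * T' ≤ (-v) * T := mul_le_mul_of_nonneg_left hT1.le (by linarith)
      have h5 : (-v + 1) * T ≤ u * T := mul_le_mul_of_nonneg_right (by linarith) (by linarith)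
      linarith
  · rcases le_or_gt 0 u with hu0 | hu0
    · -- x ≥ P'
      have h1 : 0 ≤ u * P := mul_nonneg hu0 hPpos.le
      have h2 : 1 * P' ≤ v * P' := mul_le_mul_of_nonneg_right (by linarith) (by linarith)
      linarith
    · -- u ≤ -1, v ≥ 1
      rcases eq_or_lt_of_le hT0 with hz | hz
      · rw [← hz] at hρ
        have : 0 < (-u) * T := mul_pos (by linarith) (by linarith)
        linarith
      · have h1 : (-u) * T' < (-u) * T := mul_lt_mul_of_pos_left hT1 (by linarith)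
        have h2 : (-u) * T' < v * T' := by linarith
        have h3 : -u < v := lt_of_mul_lt_mul_right h2 hz.le
        have h4 : (-u) * P ≤ (-u) * P' := mul_le_mul_of_nonneg_left hPlt.le (by linarith)
        have h5 : (-u + 1) * P' ≤ v * P' :=
          mul_le_mul_of_nonneg_right (by linarith) (by linarith)
        linarith

theorem emod_eq_of_eq (a d k r : ℤ) (h : a = d * k + r) (h0 : 0 ≤ r) (h1 : r < d) :
    Int.emod a d = r := by
  change a % d = r
  rw [h, add_comm, Int.add_mul_emod_self_left]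
  exact Int.emod_eq_of_lt h0 h1

theorem nN_div (hp : 0 < p) (hpq : p < q) (hcop : Nat.Coprime p q) (hm : 0 < m)
    (hnt : ¬ (q - p ∣ m)) (c : List ℤ) (i : ℕ) :
    nN p q m c i / (gcdK p q m : ℤ) = tI p q m c i := by
  obtain ⟨hg, -⟩ := params p q m hp hpq hcop hm hnt
  have hgZ : (gcdK p q m : ℤ) ≠ 0 := by exact_mod_cast hg.ne'
  rw [nN_eq_tI hp hpq hcop hm hnt c i]
  exact Int.mul_ediv_cancel_left _ hgZ

/-- (a): `t Pᵢ mod b = tᵢ` for `1 ≤ i ≤ r + 1`. -/
theorem tP_emod (hp : 0 < p) (hpq : p < q) (hcop : Nat.Coprime p q) (hm : 0 < m)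
    (hnt : ¬ (q - p ∣ m)) (c : List ℤ) (hc : IsHJDigits p q m c) (i : ℕ) (hi1 : 1 ≤ i)
    (hir : i ≤ c.length + 1) :
    Int.emod ((tT p q m : ℤ) * hjP c i) (bB p q m : ℤ) = tI p q m c i := by
  obtain ⟨k, rfl⟩ : ∃ k, i = k + 1 := ⟨i - 1, by omega⟩
  have h0 := (tI_anti' hp hpq hcop hm hnt c hc k (by omega)).1
  have h1 := tI_lt_b hp hpq hcop hm hnt c hc k (by omega)
  refine emod_eq_of_eq _ _ (hjQ c (k + 1)) _ ?_ h0 h1
  unfold tI; ring

/-- (b): bounds for `t x mod b` when `0 < x < Pᵢ`, `1 < i ≤ r + 1`. -/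
theorem rho_bounds (hp : 0 < p) (hpq : p < q) (hcop : Nat.Coprime p q) (hm : 0 < m)
    (hnt : ¬ (q - p ∣ m)) (c : List ℤ) (hc : IsHJDigits p q m c) (i : ℕ) (hi1 : 1 < i)
    (hir : i ≤ c.length + 1) (x : ℤ) (hx0 : 0 < x) (hx : x < hjP c i) :
    tI p q m c (i - 1) ≤ Int.emod ((tT p q m : ℤ) * x) (bB p q m : ℤ) ∧
      Int.emod ((tT p q m : ℤ) * x) (bB p q m : ℤ) ≤
        (bB p q m : ℤ) + tI p q m c i - tI p q m c (i - 1) := by
  obtain ⟨hg, hb, ht, htpos, htb, hbt, hβ⟩ := params p q m hp hpq hcop hm hnt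
  have hbZ : (0 : ℤ) < (bB p q m : ℤ) := by exact_mod_cast (by omega : 0 < bB p q m)
  obtain ⟨j, rfl⟩ : ∃ j, i = j + 1 := ⟨i - 1, by omega⟩
  have e1 : j + 1 - 1 = j := by omega
  rw [e1]
  set ρ := Int.emod ((tT p q m : ℤ) * x) (bB p q m : ℤ) with hρdef
  set y := ((tT p q m : ℤ) * x) / (bB p q m : ℤ) with hy
  have hdecomp : (tT p q m : ℤ) * x - (bB p q m : ℤ) * y = ρ := by
    have := Int.emod_add_mul_ediv ((tT p q m : ℤ) * x) (bB p q m : ℤ)
    change ρ + (bB p q m : ℤ) * y = _ at this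
    linarith
  have hρ0 : 0 ≤ ρ := Int.emod_nonneg _ hbZ.ne'
  have hρb : ρ < (bB p q m : ℤ) := Int.emod_lt_of_pos _ hbZ
  have hTj := (tI_anti' hp hpq hcop hm hnt c hc j (by omega)).1
  refine ⟨?_, ?_⟩
  · have := lattice_lower hp hpq hcop hm hnt c hc j (by omega) (by omega) x y hx0 hx
      (by rw [hdecomp]; exact hρ0)
    rwa [hdecomp] at this
  · have key : (tT p q m : ℤ) * (hjP c (j + 1) - x) -
        (bB p q m : ℤ) * (hjQ c (j + 1) - y - 1) = tI p q m c (j + 1) - ρ + (bB p q m : ℤ) := by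
      unfold tI
      linear_combination (-1 : ℤ) * hdecomp
    have := lattice_lower hp hpq hcop hm hnt c hc j (by omega) (by omega)
      (hjP c (j + 1) - x) (hjQ c (j + 1) - y - 1) (by linarith) (by linarith)
      (by rw [key]; linarith)
    rw [key] at this
    linarith

/-- S15733: no carry when adding `nᵢ` to `p m x mod (q - p)`. -/
theorem no_carry (hp : 0 < p) (hpq : p < q) (hcop : Nat.Coprime p q) (hm : 0 < m)
    (hnt : ¬ (q - p ∣ m)) (c : List ℤ) (hc : IsHJDigits p q m c) (i : ℕ) (hi1 : 1 < i)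
    (hir : i ≤ c.length + 1) (x : ℤ) (hx0 : 0 < x) (hx : x < hjP c i) :
    Int.emod ((p : ℤ) * m * x + nN p q m c i) ((q : ℤ) - p) =
      nN p q m c i + Int.emod ((p : ℤ) * m * x) ((q : ℤ) - p) := by
  obtain ⟨hg, hb, ht, htpos, htb, hbt, hβ⟩ := params p q m hp hpq hcop hm hnt
  have hd : 0 < q - p := by omega
  have hβlt : m * p % (q - p) < q - p := Nat.mod_lt _ hd
  have hgZ : (0 : ℤ) < (gcdK p q m : ℤ) := by exact_mod_cast hg
  have hbZ : (0 : ℤ) < (bB p q m : ℤ) := by exact_mod_cast (by omega : 0 < bB p q m)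
  have h1 : (bB p q m : ℤ) * (gcdK p q m : ℤ) = (q : ℤ) - p := by
    rw [← Nat.cast_mul, hb, Nat.cast_sub hpq.le]
  have h2 : (tT p q m : ℤ) * (gcdK p q m : ℤ) = (q : ℤ) - p - ((m * p % (q - p) : ℕ) : ℤ) := by
    rw [← Nat.cast_mul, ht, Nat.cast_sub hβlt.le, Nat.cast_sub hpq.le]
  have h3 : (m : ℤ) * p = ((q : ℤ) - p) * (alpha p q m : ℤ) + ((m * p % (q - p) : ℕ) : ℤ) := by
    have := Nat.div_add_mod (m * p) (q - p)
    have h4 : ((q - p : ℕ) : ℤ) * ((m * p / (q - p) : ℕ) : ℤ) + ((m * p % (q - p) : ℕ) : ℤ) =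
        ((m * p : ℕ) : ℤ) := by exact_mod_cast this
    rw [Nat.cast_sub hpq.le, Nat.cast_mul] at h4
    exact h4.symm
  obtain ⟨hlow, -⟩ := rho_bounds hp hpq hcop hm hnt c hc i hi1 hir x hx0 hx
  obtain ⟨j, rfl⟩ : ∃ j, i = j + 1 := ⟨i - 1, by omega⟩
  have e1 : j + 1 - 1 = j := by omega
  rw [e1] at hlow
  obtain ⟨hT0, hT1⟩ := tI_anti' hp hpq hcop hm hnt c hc j (by omega)
  set ρ := Int.emod ((tT p q m : ℤ) * x) (bB p q m : ℤ) with hρdef
  set y := ((tT p q m : ℤ) * x) / (bB p q m : ℤ) with hy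
  have hdecomp : (tT p q m : ℤ) * x - (bB p q m : ℤ) * y = ρ := by
    have := Int.emod_add_mul_ediv ((tT p q m : ℤ) * x) (bB p q m : ℤ)
    change ρ + (bB p q m : ℤ) * y = _ at this
    linarith
  have hρb : ρ < (bB p q m : ℤ) := Int.emod_lt_of_pos _ hbZ
  have hρpos : 0 < ρ := by linarith
  have hgρ : (gcdK p q m : ℤ) * ρ < (q : ℤ) - p := by
    rw [← h1, mul_comm]
    exact mul_lt_mul_of_pos_right hρb hgZ
  have hgρ0 : 0 < (gcdK p q m : ℤ) * ρ := mul_pos hgZ hρpos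
  have hn := nN_eq_tI hp hpq hcop hm hnt c (j + 1)
  have hpmx : (p : ℤ) * m * x = ((q : ℤ) - p) * ((alpha p q m : ℤ) * x + x - y - 1) +
      ((q : ℤ) - p - (gcdK p q m : ℤ) * ρ) := by
    rw [← hdecomp]
    linear_combination x * h3 + x * h2 - y * h1
  have hmod1 : Int.emod ((p : ℤ) * m * x) ((q : ℤ) - p) = (q : ℤ) - p - (gcdK p q m : ℤ) * ρ :=
    emod_eq_of_eq _ _ _ _ hpmx (by linarith) (by linarith)
  rw [hmod1]
  have hgT0 : 0 ≤ (gcdK p q m : ℤ) * tI p q m c (j + 1) := mul_nonneg hgZ.le hT0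
  have hgT1 : (gcdK p q m : ℤ) * tI p q m c (j + 1) < (gcdK p q m : ℤ) * ρ :=
    mul_lt_mul_of_pos_left (by linarith) hgZ
  refine emod_eq_of_eq _ _ ((alpha p q m : ℤ) * x + x - y - 1) _ ?_ ?_ ?_
  · rw [hpmx]; ring
  · rw [hn]; linarith
  · rw [hn]; linarith

end Main

end Groth.Agent.Lib.Helper48.HJ
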