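import Groth.Agent.Lib.Helper48.HJ
import Mathlib.LinearAlgebra.Dimension.FreeAndStrongRankCondition

/-!
Monomial analysis for the graded ring `k[X₀,X₁,X₂]` with weights `wt3 p q m`
(prelude `Def_W4c2invhilbsl2HJ`): which monomials of a given weight are divisible by
`X₀^(nᵢ)` or `X₁^(eᵢ) X₂^(lᵢ)`.
-/

set_option autoImplicit false

namespace Groth.Agent.Lib.Helper48.HJ

open W4c2invhilbsl2 MvPolynomial

section Arith

variable {p q m : ℕ}

theorem eE_eq (c : List ℤ) (i : ℕ) :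
    eE p q m c i = lL p q m c i + (m : ℤ) * hjP c i := by
  unfold eE lL; push_cast; ring

theorem lL_mul (c : List ℤ) (i : ℕ) :
    ((q : ℤ) - p) * lL p q m c i = nN p q m c i + (p : ℤ) * m * hjP c i := by
  unfold nN; rw [eE_eq]; ring

/-- Basic sign and size facts for the index `j + 1` with `j ≤ r`. -/
theorem basic_facts (hp : 0 < p) (hpq : p < q) (hcop : Nat.Coprime p q) (hm : 0 < m)
    (hnt : ¬ (q - p ∣ m)) (c : List ℤ) (hc : IsHJDigits p q m c) (j : ℕ) (hj : j ≤ c.length) :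
    0 ≤ nN p q m c (j + 1) ∧ nN p q m c (j + 1) < nN p q m c j ∧
      nN p q m c j ≤ (q : ℤ) - p ∧ 0 ≤ lL p q m c (j + 1) ∧ 0 < eE p q m c (j + 1) ∧
      0 < hjP c (j + 1) := by
  obtain ⟨hg, hb, ht, htpos, htb, hbt, hβ⟩ := params p q m hp hpq hcop hm hnt
  have hgZ : (0 : ℤ) < (gcdK p q m : ℤ) := by exact_mod_cast hg
  have h1 : (bB p q m : ℤ) * (gcdK p q m : ℤ) = (q : ℤ) - p := by
    rw [← Nat.cast_mul, hb, Nat.cast_sub hpq.le]
  obtain ⟨hT0, hT1⟩ := tI_anti' hp hpq hcop hm hnt c hc j hj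
  have hP : 0 < hjP c (j + 1) := hjP_pos c hc.1 j hj
  have hn0 : 0 ≤ nN p q m c (j + 1) := by
    rw [nN_eq_tI hp hpq hcop hm hnt c (j + 1)]; exact mul_nonneg hgZ.le hT0
  have hdpos : (0 : ℤ) < (q : ℤ) - p := by
    have : (p : ℤ) < q := by exact_mod_cast hpq
    linarith
  have hl0 : 0 ≤ lL p q m c (j + 1) := by
    have h := lL_mul (p := p) (q := q) (m := m) c (j + 1)
    have hpm : (0 : ℤ) ≤ (p : ℤ) * m * hjP c (j + 1) := by positivity
    have : 0 ≤ ((q : ℤ) - p) * lL p q m c (j + 1) := by rw [h]; linarith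
    exact nonneg_of_mul_nonneg_right this hdpos
  refine ⟨hn0, ?_, ?_, hl0, ?_, hP⟩
  · rw [nN_eq_tI hp hpq hcop hm hnt c (j + 1), nN_eq_tI hp hpq hcop hm hnt c j]
    exact mul_lt_mul_of_pos_left hT1 hgZ
  · rw [nN_eq_tI hp hpq hcop hm hnt c j, ← h1, mul_comm]
    refine mul_le_mul_of_nonneg_right ?_ hgZ.le
    rcases Nat.eq_zero_or_pos j with h0 | h0
    · subst h0; rw [tI_zero]
    · obtain ⟨k, rfl⟩ : ∃ k, j = k + 1 := ⟨j - 1, by omega⟩
      exact (tI_lt_b hp hpq hcop hm hnt c hc k (by omega)).le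
  · rw [eE_eq]
    have : (0 : ℤ) < (m : ℤ) * hjP c (j + 1) := mul_pos (by exact_mod_cast hm) hP
    linarith

/-- Core divisibility lemma: a monomial `X₁^d₁ X₂^d₂` whose weight is `(D, 0)` with
`0 < D < n_j` is divisible by `X₁^(e_{j+1}) X₂^(l_{j+1})`. -/
theorem core_A (hp : 0 < p) (hpq : p < q) (hcop : Nat.Coprime p q) (hm : 0 < m)
    (hnt : ¬ (q - p ∣ m)) (c : List ℤ) (hc : IsHJDigits p q m c) (j : ℕ) (hj : j ≤ c.length)
    (d1 d2 : ℕ) (x : ℤ) (hx : (d1 : ℤ) - d2 = m * x)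
    (hD0 : 0 < -(p : ℤ) * d1 + q * d2) (hDlt : -(p : ℤ) * d1 + q * d2 < nN p q m c j) :
    eE p q m c (j + 1) ≤ d1 ∧ lL p q m c (j + 1) ≤ d2 := by
  obtain ⟨hg, hb, ht, htpos, htb, hbt, hβ⟩ := params p q m hp hpq hcop hm hnt
  obtain ⟨hn0, hn1, hn2, hl0, he0, hP⟩ := basic_facts hp hpq hcop hm hnt c hc j hj
  have hd : 0 < q - p := by omega
  have hβlt : m * p % (q - p) < q - p := Nat.mod_lt _ hd
  have hgZ : (0 : ℤ) < (gcdK p q m : ℤ) := by exact_mod_cast hg
  have hpZ : (0 : ℤ) < (p : ℤ) := by exact_mod_cast hp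
  have hmZ : (0 : ℤ) < (m : ℤ) := by exact_mod_cast hm
  have hpqZ : (p : ℤ) < q := by exact_mod_cast hpq
  have h1 : (bB p q m : ℤ) * (gcdK p q m : ℤ) = (q : ℤ) - p := by
    rw [← Nat.cast_mul, hb, Nat.cast_sub hpq.le]
  have h2 : (tT p q m : ℤ) * (gcdK p q m : ℤ) = (q : ℤ) - p - ((m * p % (q - p) : ℕ) : ℤ) := by
    rw [← Nat.cast_mul, ht, Nat.cast_sub hβlt.le, Nat.cast_sub hpq.le]
  have h3 : (m : ℤ) * p = ((q : ℤ) - p) * (alpha p q m : ℤ) + ((m * p % (q - p) : ℕ) : ℤ) := by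
    have := Nat.div_add_mod (m * p) (q - p)
    have h4 : ((q - p : ℕ) : ℤ) * ((m * p / (q - p) : ℕ) : ℤ) + ((m * p % (q - p) : ℕ) : ℤ) =
        ((m * p : ℕ) : ℤ) := by exact_mod_cast this
    rw [Nat.cast_sub hpq.le, Nat.cast_mul] at h4
    exact h4.symm
  set D : ℤ := -(p : ℤ) * d1 + q * d2 with hDdef
  have hd1 : (d1 : ℤ) = d2 + m * x := by linarith
  -- the lattice form of D
  have hDlat : D = (gcdK p q m : ℤ) *
      ((tT p q m : ℤ) * x - (bB p q m : ℤ) * ((alpha p q m : ℤ) * x + x - d2)) := by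
    rw [hDdef, hd1]
    linear_combination (-x) * h3 - x * h2 + ((alpha p q m : ℤ) * x + x - d2) * h1
  have hρpos : 0 < (tT p q m : ℤ) * x - (bB p q m : ℤ) * ((alpha p q m : ℤ) * x + x - d2) := by
    rw [hDlat] at hD0
    exact pos_of_mul_pos_right hD0 hgZ.le
  have hρlt : (tT p q m : ℤ) * x - (bB p q m : ℤ) * ((alpha p q m : ℤ) * x + x - d2) <
      tI p q m c j := by
    rw [hDlat, nN_eq_tI hp hpq hcop hm hnt c j] at hDlt
    exact lt_of_mul_lt_mul_left hDlt hgZ.le
  -- x ≥ P_{j+1}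
  have hxP : hjP c (j + 1) ≤ x := by
    by_contra hcon
    push_neg at hcon
    rcases le_or_gt x 0 with hx0 | hx0
    · -- x ≤ 0
      have hd2 : (d2 : ℤ) = d1 - m * x := by linarith
      have hDalt : D = ((q : ℤ) - p) * d1 + (q : ℤ) * m * (-x) := by
        rw [hDdef, hd2]; ring
      have hqm : (0 : ℤ) ≤ (q : ℤ) * m * (-x) := by
        have : (0 : ℤ) ≤ (q : ℤ) * m := by positivity
        exact mul_nonneg this (by linarith)
      have hd1z : (d1 : ℤ) < 1 := by
        have : ((q : ℤ) - p) * d1 < ((q : ℤ) - p) * 1 := by linarith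
        exact lt_of_mul_lt_mul_left this (by linarith)
      have hd10 : (d1 : ℤ) = 0 := by
        have : (0 : ℤ) ≤ d1 := by positivity
        linarith
      rw [hd10, mul_zero, zero_add] at hDalt
      rcases eq_or_lt_of_le hx0 with hx00 | hxneg
      · rw [hx00] at hDalt; simp at hDalt; linarith
      · have : (q : ℤ) * m * 1 ≤ (q : ℤ) * m * (-x) :=
          mul_le_mul_of_nonneg_left (by linarith) (by positivity)
        have : (q : ℤ) * 1 ≤ (q : ℤ) * m := mul_le_mul_of_nonneg_left (by linarith) (by positivity)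
        linarith
    · -- 0 < x < P_{j+1}
      rcases Nat.eq_zero_or_pos j with hj0 | hj0
      · subst hj0
        rw [hjP_one] at hcon
        linarith
      · have := lattice_lower hp hpq hcop hm hnt c hc j hj0 hj x
          ((alpha p q m : ℤ) * x + x - d2) hx0 hcon hρpos.le
        linarith
  -- conclusion
  have hl : lL p q m c (j + 1) ≤ d2 := by
    have hL := lL_mul (p := p) (q := q) (m := m) c (j + 1)
    have hD2 : ((q : ℤ) - p) * d2 = D + (p : ℤ) * m * x := by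
      rw [hDdef, hd1]; ring
    have hpm : (p : ℤ) * m * hjP c (j + 1) ≤ (p : ℤ) * m * x :=
      mul_le_mul_of_nonneg_left hxP (by positivity)
    have : ((q : ℤ) - p) * (lL p q m c (j + 1) - 1) < ((q : ℤ) - p) * d2 := by
      rw [mul_sub, hL, hD2]; linarith
    have := lt_of_mul_lt_mul_left this (by linarith)
    linarith
  refine ⟨?_, hl⟩
  rw [eE_eq, hd1]
  have : (m : ℤ) * hjP c (j + 1) ≤ (m : ℤ) * x := mul_le_mul_of_nonneg_left hxP hmZ.le
  linarith

/-- A monomial of weight `(n_{j+1}, 0)` is divisible by `X₀^(n_{j+1})` or by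
`X₁^(e_{j+1}) X₂^(l_{j+1})`. -/
theorem core_A0 (hp : 0 < p) (hpq : p < q) (hcop : Nat.Coprime p q) (hm : 0 < m)
    (hnt : ¬ (q - p ∣ m)) (c : List ℤ) (hc : IsHJDigits p q m c) (j : ℕ) (hj : j ≤ c.length)
    (d0 d1 d2 : ℕ) (x : ℤ) (hx : (d1 : ℤ) - d2 = m * x)
    (hw : (d0 : ℤ) - p * d1 + q * d2 = nN p q m c (j + 1)) :
    nN p q m c (j + 1) ≤ d0 ∨ (eE p q m c (j + 1) ≤ d1 ∧ lL p q m c (j + 1) ≤ d2) := by
  obtain ⟨hn0, hn1, hn2, hl0, he0, hP⟩ := basic_facts hp hpq hcop hm hnt c hc j hj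
  by_cases h : nN p q m c (j + 1) ≤ d0
  · exact Or.inl h
  · push_neg at h
    refine Or.inr (core_A hp hpq hcop hm hnt c hc j hj d1 d2 x hx ?_ ?_)
    · linarith
    · have : (0 : ℤ) ≤ d0 := by positivity
      linarith

/-- A monomial `X₀^d₀ X₁^d₁` of the weight of `X₂^y`, `y > 0`, is divisible by `X₀^(n_j)` or by
the invariant `X₀^(pm) X₁^m`. -/
theorem core_B (hp : 0 < p) (hpq : p < q) (hcop : Nat.Coprime p q) (hm : 0 < m)
    (hnt : ¬ (q - p ∣ m)) (c : List ℤ) (hc : IsHJDigits p q m c) (j : ℕ) (hj : j ≤ c.length)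
    (d0 d1 y : ℕ) (hy : 0 < y) (h0 : (d0 : ℤ) = p * d1 + q * y) :
    nN p q m c j ≤ d0 ∨ (p * m ≤ d0 ∧ m ≤ d1) := by
  obtain ⟨hn0, hn1, hn2, hl0, he0, hP⟩ := basic_facts hp hpq hcop hm hnt c hc j hj
  have h0' : d0 = p * d1 + q * y := by exact_mod_cast h0
  by_cases h : m ≤ d1
  · refine Or.inr ⟨?_, h⟩
    rw [h0']
    exact le_trans (Nat.mul_le_mul_left p h) (Nat.le_add_right _ _)
  · refine Or.inl ?_
    have : (q : ℤ) * 1 ≤ (q : ℤ) * y :=
      mul_le_mul_of_nonneg_left (by exact_mod_cast hy) (by positivity)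
    have : (0 : ℤ) ≤ (p : ℤ) * d1 := by positivity
    have : (0 : ℤ) ≤ (p : ℤ) := by positivity
    linarith

end Arith

section Mono

/-- General decomposition: if every exponent in the support of a homogeneous `f` of weight `ν`
dominates one of the exponents `u j` (all of weight `ν`), then `f` is a combination of the
monomials `X^(u j)` with weight-zero coefficients. -/
theorem decomp_of_cover {σ ι : Type*} [DecidableEq ι] {k : Type*} [CommSemiring k] {M : Type*}
    [AddCommGroup M] (w : σ → M) (ν : M) (f : MvPolynomial σ k)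
    (hf : f ∈ weightedHomogeneousSubmodule k w ν) (J : Finset ι) (u : ι → σ →₀ ℕ)
    (hu : ∀ j ∈ J, Finsupp.weight w (u j) = ν) (sel : (σ →₀ ℕ) → ι)
    (hsel : ∀ d ∈ f.support, sel d ∈ J ∧ u (sel d) ≤ d) :
    ∃ a : ι → MvPolynomial σ k, (∀ j, a j ∈ weightedHomogeneousSubmodule k w 0) ∧
      f = ∑ j ∈ J, a j * monomial (u j) 1 := by
  classical
  refine ⟨fun j => ∑ d ∈ f.support.filter (fun d => sel d = j),
    monomial (d - u j) (coeff d f), ?_, ?_⟩
  · intro j
    refine Submodule.sum_mem _ fun d hd => ?_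
    rw [Finset.mem_filter] at hd
    obtain ⟨hd, rfl⟩ := hd
    rw [mem_weightedHomogeneousSubmodule]
    obtain ⟨hJ, hle⟩ := hsel d hd
    have hwd : Finsupp.weight w d = ν := hf (mem_support_iff.mp hd)
    refine isWeightedHomogeneous_monomial w _ _ ?_
    have : Finsupp.weight w (d - u (sel d)) + Finsupp.weight w (u (sel d)) =
        Finsupp.weight w d := by
      rw [← map_add, tsub_add_cancel_of_le hle]
    rw [hu _ hJ, hwd] at this
    exact add_right_cancel (b := ν) (by rw [this, zero_add])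
  · conv_lhs => rw [← support_sum_monomial_coeff f]
    rw [← Finset.sum_fiberwise_of_maps_to (g := sel) (t := J) (fun d hd => (hsel d hd).1)]
    refine Finset.sum_congr rfl fun j hj => ?_
    rw [Finset.sum_mul]
    refine Finset.sum_congr rfl fun d hd => ?_
    rw [Finset.mem_filter] at hd
    obtain ⟨hd, rfl⟩ := hd
    rw [monomial_mul, mul_one, tsub_add_cancel_of_le (hsel d hd).2]

variable {p q m : ℕ}

theorem wt3_weight (d : Fin 3 →₀ ℕ) :
    Finsupp.weight (wt3 p q m) d =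
      ((d 0 : ℤ) - p * d 1 + q * d 2, (d 2 : ZMod m) - (d 1 : ZMod m)) := by
  rw [Finsupp.weight_eq_sum, Fin.sum_univ_three]
  simp only [wt3, Matrix.cons_val_zero, Matrix.cons_val_one, Matrix.cons_val_two,
    Matrix.head_cons, Matrix.tail_cons]
  ext
  · simp; ring
  · simp; ring

theorem wt5_weight (d : Fin 5 →₀ ℕ) :
    Finsupp.weight (wt5 p q m) d =
      ((d 0 : ℤ) - p * (d 1 + d 2) + q * (d 3 + d 4),
        ((d 3 : ZMod m) + d 4) - ((d 1 : ZMod m) + d 2)) := by
  rw [Finsupp.weight_eq_sum, Fin.sum_univ_five]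
  simp only [wt5, Matrix.cons_val_zero, Matrix.cons_val_one, Matrix.cons_val_two,
    Matrix.head_cons, Matrix.tail_cons, Matrix.cons_val_three, Matrix.cons_val_four]
  ext
  · simp; ring
  · simp; ring

/-- From a congruence in `ZMod m` to an integer equation. -/
theorem exists_of_zmod_eq {a b : ℕ} (h : (b : ZMod m) - (a : ZMod m) = 0) :
    ∃ x : ℤ, (a : ℤ) - b = m * x := by
  have h1 : (((a : ℤ) - b : ℤ) : ZMod m) = 0 := by
    push_cast
    rw [sub_eq_zero] at h ⊢
    exact h.symm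
  exact (ZMod.intCast_zmod_eq_zero_iff_dvd _ _).mp h1

/-- Exponent vectors in three variables. -/
noncomputable def vec3 (a b c : ℕ) : Fin 3 →₀ ℕ :=
  Finsupp.single 0 a + Finsupp.single 1 b + Finsupp.single 2 c

@[simp] theorem vec3_zero (a b c : ℕ) : vec3 a b c 0 = a := by simp [vec3]
@[simp] theorem vec3_one (a b c : ℕ) : vec3 a b c 1 = b := by simp [vec3]
@[simp] theorem vec3_two (a b c : ℕ) : vec3 a b c 2 = c := by simp [vec3]

theorem vec3_le_iff (a b c : ℕ) (d : Fin 3 →₀ ℕ) :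
    vec3 a b c ≤ d ↔ a ≤ d 0 ∧ b ≤ d 1 ∧ c ≤ d 2 := by
  rw [Finsupp.le_def]
  constructor
  · intro h
    exact ⟨by simpa using h 0, by simpa using h 1, by simpa using h 2⟩
  · rintro ⟨h0, h1, h2⟩ j
    fin_cases j
    · simpa using h0
    · simpa using h1
    · simpa using h2

theorem ext3 {d d' : Fin 3 →₀ ℕ} (h0 : d 0 = d' 0) (h1 : d 1 = d' 1) (h2 : d 2 = d' 2) : d = d' := by
  ext j
  fin_cases j
  · exact h0
  · exact h1
  · exact h2

theorem monomial_vec3 (k : Type*) [CommSemiring k] (a b c : ℕ) :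
    monomial (vec3 a b c) (1 : k) = X 0 ^ a * X 1 ^ b * X 2 ^ c := by
  simp only [vec3, X_pow_eq_monomial, monomial_mul, mul_one]

end Mono

section Mono2
variable {p q m : ℕ}

theorem weight_vecN (hp : 0 < p) (hpq : p < q) (hcop : Nat.Coprime p q) (hm : 0 < m)
    (hnt : ¬ (q - p ∣ m)) (c : List ℤ) (hc : IsHJDigits p q m c) (j : ℕ) (hj : j ≤ c.length) :
    Finsupp.weight (wt3 p q m) (vec3 (nN p q m c (j + 1)).toNat 0 0) =
      (nN p q m c (j + 1), (0 : ZMod m)) := by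
  obtain ⟨hn0, hn1, hn2, hl0, he0, hP⟩ := basic_facts hp hpq hcop hm hnt c hc j hj
  rw [wt3_weight]
  simp [Int.toNat_of_nonneg hn0]

theorem weight_vecEL (hp : 0 < p) (hpq : p < q) (hcop : Nat.Coprime p q) (hm : 0 < m)
    (hnt : ¬ (q - p ∣ m)) (c : List ℤ) (hc : IsHJDigits p q m c) (j : ℕ) (hj : j ≤ c.length) :
    Finsupp.weight (wt3 p q m)
      (vec3 0 (eE p q m c (j + 1)).toNat (lL p q m c (j + 1)).toNat) =
      (nN p q m c (j + 1), (0 : ZMod m)) := by
  obtain ⟨hn0, hn1, hn2, hl0, he0, hP⟩ := basic_facts hp hpq hcop hm hnt c hc j hj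
  rw [wt3_weight]
  have hE : ((eE p q m c (j + 1)).toNat : ℤ) = eE p q m c (j + 1) := Int.toNat_of_nonneg he0.le
  have hL : ((lL p q m c (j + 1)).toNat : ℤ) = lL p q m c (j + 1) := Int.toNat_of_nonneg hl0
  ext
  · simp only [vec3_zero, vec3_one, vec3_two]
    rw [hE, hL]
    unfold nN; push_cast; ring
  · simp only [vec3_one, vec3_two]
    have h1 : (((eE p q m c (j + 1)).toNat : ℤ) : ZMod m) =
        (((lL p q m c (j + 1)).toNat : ℤ) : ZMod m) := by
      rw [hE, hL, eE_eq]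
      push_cast
      rw [ZMod.natCast_self, zero_mul, add_zero]
    have h2 : ((eE p q m c (j + 1)).toNat : ZMod m) = ((lL p q m c (j + 1)).toNat : ZMod m) := by
      exact_mod_cast h1
    rw [h2, sub_self]

/-- Every monomial of weight `(n_{j+1}, 0)` dominates `X₀^n` or `X₁^e X₂^l`. -/
theorem cover3 (hp : 0 < p) (hpq : p < q) (hcop : Nat.Coprime p q) (hm : 0 < m)
    (hnt : ¬ (q - p ∣ m)) (c : List ℤ) (hc : IsHJDigits p q m c) (j : ℕ) (hj : j ≤ c.length)
    (d : Fin 3 →₀ ℕ)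
    (hd : Finsupp.weight (wt3 p q m) d = (nN p q m c (j + 1), (0 : ZMod m))) :
    vec3 (nN p q m c (j + 1)).toNat 0 0 ≤ d ∨
      vec3 0 (eE p q m c (j + 1)).toNat (lL p q m c (j + 1)).toNat ≤ d := by
  rw [wt3_weight, Prod.mk.injEq] at hd
  obtain ⟨hd1, hd2⟩ := hd
  obtain ⟨x, hx⟩ := exists_of_zmod_eq hd2
  rcases core_A0 hp hpq hcop hm hnt c hc j hj (d 0) (d 1) (d 2) x hx hd1 with h | ⟨h1, h2⟩
  · left
    rw [vec3_le_iff]
    exact ⟨Int.toNat_le.mpr h, Nat.zero_le _, Nat.zero_le _⟩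
  · right
    rw [vec3_le_iff]
    exact ⟨Nat.zero_le _, Int.toNat_le.mpr h1, Int.toNat_le.mpr h2⟩

end Mono2

section Mono5
variable {p q m : ℕ}

/-- Exponent vectors in five variables. -/
noncomputable def vec5 (a b c d e : ℕ) : Fin 5 →₀ ℕ :=
  Finsupp.single 0 a + Finsupp.single 1 b + Finsupp.single 2 c + Finsupp.single 3 d +
    Finsupp.single 4 e

@[simp] theorem vec5_zero (a b c d e : ℕ) : vec5 a b c d e 0 = a := by simp [vec5]
@[simp] theorem vec5_one (a b c d e : ℕ) : vec5 a b c d e 1 = b := by simp [vec5]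
@[simp] theorem vec5_two (a b c d e : ℕ) : vec5 a b c d e 2 = c := by simp [vec5]
@[simp] theorem vec5_three (a b c d e : ℕ) : vec5 a b c d e 3 = d := by simp [vec5]
@[simp] theorem vec5_four (a b c d e : ℕ) : vec5 a b c d e 4 = e := by simp [vec5]

theorem vec5_le_iff (a b c d e : ℕ) (v : Fin 5 →₀ ℕ) :
    vec5 a b c d e ≤ v ↔ a ≤ v 0 ∧ b ≤ v 1 ∧ c ≤ v 2 ∧ d ≤ v 3 ∧ e ≤ v 4 := by
  rw [Finsupp.le_def]
  constructor
  · intro h
    exact ⟨by simpa using h 0, by simpa using h 1, by simpa using h 2, by simpa using h 3,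
      by simpa using h 4⟩
  · rintro ⟨h0, h1, h2, h3, h4⟩ j
    fin_cases j
    · simpa using h0
    · simpa using h1
    · simpa using h2
    · simpa using h3
    · simpa using h4

theorem monomial_vec5 (k : Type*) [CommSemiring k] (a b c d e : ℕ) :
    monomial (vec5 a b c d e) (1 : k) = X 0 ^ a * X 1 ^ b * X 2 ^ c * X 3 ^ d * X 4 ^ e := by
  simp only [vec5, X_pow_eq_monomial, monomial_mul, mul_one]

theorem weight_vec5N (hp : 0 < p) (hpq : p < q) (hcop : Nat.Coprime p q) (hm : 0 < m)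
    (hnt : ¬ (q - p ∣ m)) (c : List ℤ) (hc : IsHJDigits p q m c) (j : ℕ) (hj : j ≤ c.length) :
    Finsupp.weight (wt5 p q m) (vec5 (nN p q m c (j + 1)).toNat 0 0 0 0) =
      (nN p q m c (j + 1), (0 : ZMod m)) := by
  obtain ⟨hn0, hn1, hn2, hl0, he0, hP⟩ := basic_facts hp hpq hcop hm hnt c hc j hj
  rw [wt5_weight]
  simp [Int.toNat_of_nonneg hn0]

theorem weight_vec5EL (hp : 0 < p) (hpq : p < q) (hcop : Nat.Coprime p q) (hm : 0 < m)
    (hnt : ¬ (q - p ∣ m)) (c : List ℤ) (hc : IsHJDigits p q m c) (j : ℕ) (hj : j ≤ c.length)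
    (b1 b2 b3 b4 : ℕ) (h12 : b1 + b2 = (eE p q m c (j + 1)).toNat)
    (h34 : b3 + b4 = (lL p q m c (j + 1)).toNat) :
    Finsupp.weight (wt5 p q m) (vec5 0 b1 b2 b3 b4) = (nN p q m c (j + 1), (0 : ZMod m)) := by
  have h := weight_vecEL hp hpq hcop hm hnt c hc j hj
  rw [wt3_weight, Prod.mk.injEq] at h
  simp only [vec3_zero, vec3_one, vec3_two] at h
  obtain ⟨hA, hB⟩ := h
  rw [wt5_weight]
  simp only [vec5_zero, vec5_one, vec5_two, vec5_three, vec5_four]
  have e1 : ((b1 : ℤ) + b2) = ((eE p q m c (j + 1)).toNat : ℤ) := by exact_mod_cast h12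
  have e2 : ((b3 : ℤ) + b4) = ((lL p q m c (j + 1)).toNat : ℤ) := by exact_mod_cast h34
  have e3 : ((b1 : ZMod m) + b2) = ((eE p q m c (j + 1)).toNat : ZMod m) := by
    exact_mod_cast congrArg (Nat.cast : ℕ → ZMod m) h12
  have e4 : ((b3 : ZMod m) + b4) = ((lL p q m c (j + 1)).toNat : ZMod m) := by
    exact_mod_cast congrArg (Nat.cast : ℕ → ZMod m) h34
  rw [e1, e2, e3, e4, Prod.mk.injEq]
  exact ⟨hA, hB⟩

/-- Every monomial in five variables of weight `(n_{j+1}, 0)` has `X₀`-exponent at least `n` or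
total `(X₁,X₂)`-degree at least `e` and total `(X₃,X₄)`-degree at least `l`. -/
theorem cover5 (hp : 0 < p) (hpq : p < q) (hcop : Nat.Coprime p q) (hm : 0 < m)
    (hnt : ¬ (q - p ∣ m)) (c : List ℤ) (hc : IsHJDigits p q m c) (j : ℕ) (hj : j ≤ c.length)
    (d : Fin 5 →₀ ℕ)
    (hd : Finsupp.weight (wt5 p q m) d = (nN p q m c (j + 1), (0 : ZMod m))) :
    (nN p q m c (j + 1)).toNat ≤ d 0 ∨
      ((eE p q m c (j + 1)).toNat ≤ d 1 + d 2 ∧ (lL p q m c (j + 1)).toNat ≤ d 3 + d 4) := by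
  rw [wt5_weight, Prod.mk.injEq] at hd
  obtain ⟨hd1, hd2⟩ := hd
  have hd2' : (((d 3 + d 4 : ℕ) : ZMod m)) - ((d 1 + d 2 : ℕ) : ZMod m) = 0 := by
    push_cast; exact hd2
  obtain ⟨x, hx⟩ := exists_of_zmod_eq hd2'
  have hd1' : (d 0 : ℤ) - p * ((d 1 + d 2 : ℕ) : ℤ) + q * ((d 3 + d 4 : ℕ) : ℤ) =
      nN p q m c (j + 1) := by
    push_cast; exact hd1
  rcases core_A0 hp hpq hcop hm hnt c hc j hj (d 0) (d 1 + d 2) (d 3 + d 4) x hx hd1' with
    h | ⟨h1, h2⟩
  · exact Or.inl (Int.toNat_le.mpr h)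
  · exact Or.inr ⟨Int.toNat_le.mpr h1, Int.toNat_le.mpr h2⟩

end Mono5

section Rank
variable {p q m : ℕ}

theorem le3_iff (d' d : Fin 3 →₀ ℕ) :
    d' ≤ d ↔ d' 0 ≤ d 0 ∧ d' 1 ≤ d 1 ∧ d' 2 ≤ d 2 := by
  rw [Finsupp.le_def]
  constructor
  · intro h
    exact ⟨h 0, h 1, h 2⟩
  · rintro ⟨h0, h1, h2⟩ j
    fin_cases j
    · exact h0
    · exact h1
    · exact h2

/-- Exponents outside the monomial ideal `(X₀^(n_j), X₁^(e_{j+1}) X₂^(l_{j+1})) + K`. -/
def NormalExp (p q m : ℕ) (c : List ℤ) (j : ℕ) (d : Fin 3 →₀ ℕ) : Prop :=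
  (d 0 : ℤ) < nN p q m c j ∧ ¬ (eE p q m c (j + 1) ≤ d 1 ∧ lL p q m c (j + 1) ≤ d 2) ∧
    ∀ u : Fin 3 →₀ ℕ, u ≠ 0 → Finsupp.weight (wt3 p q m) u = 0 → ¬ u ≤ d

theorem normal_eq_of_le {c : List ℤ} {j : ℕ} {d d' : Fin 3 →₀ ℕ} (hd : NormalExp p q m c j d)
    (hw : Finsupp.weight (wt3 p q m) d = Finsupp.weight (wt3 p q m) d') (hle : d' ≤ d) :
    d = d' := by
  by_contra hne
  have hu : d - d' ≠ 0 := by
    intro h0
    rw [tsub_eq_zero_iff_le] at h0
    exact hne (le_antisymm h0 hle)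
  have hwu : Finsupp.weight (wt3 p q m) (d - d') = 0 := by
    have : Finsupp.weight (wt3 p q m) (d - d') + Finsupp.weight (wt3 p q m) d' =
        Finsupp.weight (wt3 p q m) d := by
      rw [← map_add, tsub_add_cancel_of_le hle]
    rw [hw] at this
    exact add_right_cancel (b := Finsupp.weight (wt3 p q m) d') (by rw [this, zero_add])
  exact hd.2.2 _ hu hwu tsub_le_self

theorem normal_unique_aux (hp : 0 < p) (hpq : p < q) (hcop : Nat.Coprime p q) (hm : 0 < m)
    (hnt : ¬ (q - p ∣ m)) (c : List ℤ) (hc : IsHJDigits p q m c) (j : ℕ) (hj : j ≤ c.length)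
    (d d' : Fin 3 →₀ ℕ) (hd : NormalExp p q m c j d) (hd' : NormalExp p q m c j d')
    (hw : Finsupp.weight (wt3 p q m) d = Finsupp.weight (wt3 p q m) d') (h2 : d' 2 < d 2) :
    False := by
  have hw0 := hw
  rw [wt3_weight, wt3_weight, Prod.mk.injEq] at hw
  obtain ⟨hw1, hw2⟩ := hw
  rcases le_or_gt (d' 1) (d 1) with h1 | h1
  · rcases le_or_gt (d' 0) (d 0) with h0 | h0
    · have := normal_eq_of_le hd hw0 ((le3_iff _ _).mpr ⟨h0, h1, h2.le⟩)
      rw [this] at h2
      exact lt_irrefl _ h2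
    · have hz : (((d 2 - d' 2 : ℕ) : ZMod m)) - ((d 1 - d' 1 : ℕ) : ZMod m) = 0 := by
        rw [Nat.cast_sub h2.le, Nat.cast_sub h1]
        linear_combination hw2
      obtain ⟨x, hx⟩ := exists_of_zmod_eq hz
      have hD : -(p : ℤ) * ((d 1 - d' 1 : ℕ) : ℤ) + q * ((d 2 - d' 2 : ℕ) : ℤ) =
          (d' 0 : ℤ) - d 0 := by
        rw [Nat.cast_sub h2.le, Nat.cast_sub h1]
        linear_combination hw1
      have hlt : (d 0 : ℤ) < d' 0 := by exact_mod_cast h0
      obtain ⟨hE, hL⟩ := core_A hp hpq hcop hm hnt c hc j hj (d 1 - d' 1) (d 2 - d' 2) x hx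
        (by rw [hD]; linarith)
        (by
          rw [hD]
          have : (0 : ℤ) ≤ d 0 := by positivity
          linarith [hd'.1])
      refine hd.2.1 ⟨le_trans hE ?_, le_trans hL ?_⟩
      · exact_mod_cast Nat.sub_le _ _
      · exact_mod_cast Nat.sub_le _ _
  · -- d 1 < d' 1
    have hlt1 : (d 1 : ℤ) < d' 1 := by exact_mod_cast h1
    have hlt2 : (d' 2 : ℤ) < d 2 := by exact_mod_cast h2
    have hpZ : (0 : ℤ) < p := by exact_mod_cast hp
    have hqZ : (0 : ℤ) < q := by exact_mod_cast (lt_trans hp hpq)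
    have hdiff : (d' 0 : ℤ) - d 0 = p * ((d' 1 : ℤ) - d 1) + q * ((d 2 : ℤ) - d' 2) := by
      linear_combination (-1 : ℤ) * hw1
    have h0 : d 0 < d' 0 := by
      have : (0 : ℤ) < p * ((d' 1 : ℤ) - d 1) + q * ((d 2 : ℤ) - d' 2) := by
        have := mul_pos hpZ (sub_pos.mpr hlt1)
        have := mul_pos hqZ (sub_pos.mpr hlt2)
        linarith
      have : (d 0 : ℤ) < d' 0 := by linarith
      exact_mod_cast this
    have hB : ((d' 0 - d 0 : ℕ) : ℤ) = p * ((d' 1 - d 1 : ℕ) : ℤ) + q * ((d 2 - d' 2 : ℕ) : ℤ) := by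
      rw [Nat.cast_sub h0.le, Nat.cast_sub h1.le, Nat.cast_sub h2.le]
      exact hdiff
    rcases core_B hp hpq hcop hm hnt c hc j hj (d' 0 - d 0) (d' 1 - d 1) (d 2 - d' 2)
      (Nat.sub_pos_of_lt h2) hB with h | ⟨ha, hb⟩
    · have : ((d' 0 - d 0 : ℕ) : ℤ) ≤ d' 0 := by exact_mod_cast Nat.sub_le _ _
      linarith [hd'.1]
    · refine hd'.2.2 (vec3 (p * m) m 0) ?_ ?_ ?_
      · intro h
        have := congrArg (fun v : Fin 3 →₀ ℕ => v 1) h
        simp at this
        omega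
      · rw [wt3_weight]
        simp
      · rw [vec3_le_iff]
        exact ⟨le_trans ha (Nat.sub_le _ _), le_trans hb (Nat.sub_le _ _), Nat.zero_le _⟩

theorem normal_unique (hp : 0 < p) (hpq : p < q) (hcop : Nat.Coprime p q) (hm : 0 < m)
    (hnt : ¬ (q - p ∣ m)) (c : List ℤ) (hc : IsHJDigits p q m c) (j : ℕ) (hj : j ≤ c.length)
    (d d' : Fin 3 →₀ ℕ) (hd : NormalExp p q m c j d) (hd' : NormalExp p q m c j d')
    (hw : Finsupp.weight (wt3 p q m) d = Finsupp.weight (wt3 p q m) d') : d = d' := by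
  rcases lt_trichotomy (d 2) (d' 2) with h2 | h2 | h2
  · exact (normal_unique_aux hp hpq hcop hm hnt c hc j hj d' d hd' hd hw.symm h2).elim
  · have hw0 := hw
    rw [wt3_weight, wt3_weight, Prod.mk.injEq, h2] at hw
    obtain ⟨hw1, -⟩ := hw
    have hpZ : (0 : ℤ) < p := by exact_mod_cast hp
    have hdiff : (d 0 : ℤ) - d' 0 = p * ((d 1 : ℤ) - d' 1) := by linear_combination hw1
    rcases le_total (d 1) (d' 1) with h1 | h1
    · have h0 : d 0 ≤ d' 0 := by
        have h1' : (d 1 : ℤ) ≤ d' 1 := by exact_mod_cast h1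
        have : (p : ℤ) * ((d 1 : ℤ) - d' 1) ≤ 0 :=
          mul_nonpos_of_nonneg_of_nonpos hpZ.le (by linarith)
        have : (d 0 : ℤ) ≤ d' 0 := by linarith
        exact_mod_cast this
      exact (normal_eq_of_le hd' hw0.symm ((le3_iff _ _).mpr ⟨h0, h1, h2.le⟩)).symm
    · have h0 : d' 0 ≤ d 0 := by
        have h1' : (d' 1 : ℤ) ≤ d 1 := by exact_mod_cast h1
        have : 0 ≤ (p : ℤ) * ((d 1 : ℤ) - d' 1) := mul_nonneg hpZ.le (by linarith)
        have : (d' 0 : ℤ) ≤ d 0 := by linarith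
        exact_mod_cast this
      exact normal_eq_of_le hd hw0 ((le3_iff _ _).mpr ⟨h0, h1, h2.ge⟩)
  · exact (normal_unique_aux hp hpq hcop hm hnt c hc j hj d d' hd hd' hw h2).elim

end Rank

section IdealFacts
variable {p q m : ℕ} (k : Type*) [CommRing k]

theorem mono_mem_idealK {d u : Fin 3 →₀ ℕ} (hu : u ≠ 0)
    (hw : Finsupp.weight (wt3 p q m) u = 0) (hle : u ≤ d) :
    monomial d (1 : k) ∈ idealK k p q m := by
  have : monomial d (1 : k) = monomial (d - u) 1 * monomial u 1 := by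
    rw [monomial_mul, mul_one, tsub_add_cancel_of_le hle]
  rw [this]
  exact Ideal.mul_mem_left _ _ (Ideal.subset_span ⟨u, hu, hw, rfl⟩)

theorem mono_mem_idealL_of_N (c : List ℤ) (j : ℕ) (s : k) {d : Fin 3 →₀ ℕ}
    (h : (nN p q m c j).toNat ≤ d 0) :
    monomial d (1 : k) ∈ idealL k p q m c (j + 1) s := by
  have hle : Finsupp.single 0 (nN p q m c j).toNat ≤ d := Finsupp.single_le_iff.mpr h
  have : monomial d (1 : k) =
      monomial (d - Finsupp.single 0 (nN p q m c j).toNat) 1 * X 0 ^ (nN p q m c j).toNat := by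
    rw [X_pow_eq_monomial, monomial_mul, mul_one, tsub_add_cancel_of_le hle]
  rw [this]
  refine Ideal.mul_mem_left _ _ (Ideal.mem_sup_left (Ideal.subset_span ?_))
  simp only [Nat.add_sub_cancel]
  exact Set.mem_insert _ _

theorem mono_sub_mem_idealL (c : List ℤ) (j : ℕ) (s : k) {d : Fin 3 →₀ ℕ}
    (hE : (eE p q m c (j + 1)).toNat ≤ d 1) (hL : (lL p q m c (j + 1)).toNat ≤ d 2) :
    monomial d (1 : k) - C s * monomial (d - vec3 0 (eE p q m c (j + 1)).toNat
      (lL p q m c (j + 1)).toNat + vec3 (nN p q m c (j + 1)).toNat 0 0) 1 ∈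
      idealL k p q m c (j + 1) s := by
  set E := (eE p q m c (j + 1)).toNat
  set L := (lL p q m c (j + 1)).toNat
  set N := (nN p q m c (j + 1)).toNat
  have hle : vec3 0 E L ≤ d := (vec3_le_iff _ _ _ _).mpr ⟨Nat.zero_le _, hE, hL⟩
  have h1 : monomial d (1 : k) = monomial (d - vec3 0 E L) 1 * (X 1 ^ E * X 2 ^ L) := by
    have := monomial_vec3 k 0 E L
    rw [pow_zero, one_mul] at this
    rw [← this, monomial_mul, mul_one, tsub_add_cancel_of_le hle]
  have h2 : monomial (d - vec3 0 E L + vec3 N 0 0) (1 : k) =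
      monomial (d - vec3 0 E L) 1 * X 0 ^ N := by
    have := monomial_vec3 k N 0 0
    rw [pow_zero, pow_zero, mul_one, mul_one] at this
    rw [← this, monomial_mul, mul_one]
  have h3 : monomial d (1 : k) - C s * monomial (d - vec3 0 E L + vec3 N 0 0) 1 =
      -(monomial (d - vec3 0 E L) 1) * (C s * X 0 ^ N - X 1 ^ E * X 2 ^ L) := by
    rw [h1, h2]; ring
  rw [h3]
  refine Ideal.mul_mem_left _ _ (Ideal.mem_sup_left (Ideal.subset_span ?_))
  exact Set.mem_insert_of_mem _ rfl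

end IdealFacts

section RankThm
variable {p q m : ℕ} (k : Type*) [Field k]

theorem rank_piece_le_one (hp : 0 < p) (hpq : p < q) (hcop : Nat.Coprime p q) (hm : 0 < m)
    (hnt : ¬ (q - p ∣ m)) (c : List ℤ) (hc : IsHJDigits p q m c) (j : ℕ) (hj : j ≤ c.length)
    (s : k) (ν : ℤ × ZMod m) :
    Module.rank k (piece k (wt3 p q m) (idealL k p q m c (j + 1) s) ν) ≤ 1 := by
  classical
  obtain ⟨hn0, hn1, hn2, hl0, he0, hP⟩ := basic_facts hp hpq hcop hm hnt c hc j hj
  set I := idealL k p q m c (j + 1) s with hI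
  set E := (eE p q m c (j + 1)).toNat with hE
  set L := (lL p q m c (j + 1)).toNat with hL
  set N := (nN p q m c (j + 1)).toNat with hN
  have hEpos : 0 < E := Int.lt_toNat.mpr (by exact_mod_cast he0)
  rw [rank_submodule_le_one_iff']
  -- the generator
  let v₀ : MvPolynomial (Fin 3) k ⧸ I :=
    if h : ∃ d, NormalExp p q m c j d ∧ Finsupp.weight (wt3 p q m) d = ν then
      Ideal.Quotient.mkₐ k I (monomial h.choose 1) else 0
  refine ⟨v₀, ?_⟩
  -- monomials of weight ν map into the span of v₀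
  have key : ∀ n : ℕ, ∀ d : Fin 3 →₀ ℕ, d 1 = n → Finsupp.weight (wt3 p q m) d = ν →
      Ideal.Quotient.mkₐ k I (monomial d 1) ∈ Submodule.span k {v₀} := by
    intro n
    induction n using Nat.strong_induction_on with
    | _ n ih =>
      intro d hdn hdw
      by_cases hnorm : NormalExp p q m c j d
      · have hex : ∃ d, NormalExp p q m c j d ∧ Finsupp.weight (wt3 p q m) d = ν := ⟨d, hnorm, hdw⟩
        have hv : v₀ = Ideal.Quotient.mkₐ k I (monomial hex.choose 1) := by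
          simp only [v₀, dif_pos hex]
        have hd : d = hex.choose :=
          normal_unique hp hpq hcop hm hnt c hc j hj d hex.choose hnorm hex.choose_spec.1
            (by rw [hdw, hex.choose_spec.2])
        rw [hv, ← hd]
        exact Submodule.mem_span_singleton_self _
      · unfold NormalExp at hnorm
        rw [not_and_or, not_and_or] at hnorm
        rcases hnorm with h | h | h
        · -- X₀-exponent large
          push_neg at h
          have : monomial d (1 : k) ∈ I :=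
            mono_mem_idealL_of_N k c j s (Int.toNat_le.mpr h)
          have : Ideal.Quotient.mkₐ k I (monomial d 1) = 0 :=
            Ideal.Quotient.eq_zero_iff_mem.mpr this
          rw [this]; exact Submodule.zero_mem _
        · -- divisible by X₁^E X₂^L: reduce
          rw [not_not] at h
          obtain ⟨h1, h2⟩ := h
          have h1' : E ≤ d 1 := Int.toNat_le.mpr h1
          have h2' : L ≤ d 2 := Int.toNat_le.mpr h2
          set d'' := d - vec3 0 E L + vec3 N 0 0 with hd''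
          have hmem := mono_sub_mem_idealL k c j s h1' h2'
          have hle : vec3 0 E L ≤ d := (vec3_le_iff _ _ _ _).mpr ⟨Nat.zero_le _, h1', h2'⟩
          have hw'' : Finsupp.weight (wt3 p q m) d'' = ν := by
            rw [hd'', map_add, weight_vecN hp hpq hcop hm hnt c hc j hj,
              ← weight_vecEL hp hpq hcop hm hnt c hc j hj, ← map_add,
              tsub_add_cancel_of_le hle, hdw]
          have hd1 : d'' 1 < n := by
            rw [hd'', Finsupp.add_apply, Finsupp.tsub_apply, vec3_one, vec3_one, ← hdn]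
            omega
          have hrec := ih (d'' 1) hd1 d'' rfl hw''
          have heq : Ideal.Quotient.mkₐ k I (monomial d 1) =
              s • Ideal.Quotient.mkₐ k I (monomial d'' 1) := by
            rw [← map_smul, ← C_mul']
            exact Ideal.Quotient.eq.mpr hmem
          rw [heq]
          exact Submodule.smul_mem _ _ hrec
        · -- divisible by an invariant
          push_neg at h
          obtain ⟨u, hu0, huw, hule⟩ := h
          have : monomial d (1 : k) ∈ I :=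
            Ideal.mem_sup_right (mono_mem_idealK k hu0 huw hule)
          have : Ideal.Quotient.mkₐ k I (monomial d 1) = 0 :=
            Ideal.Quotient.eq_zero_iff_mem.mpr this
          rw [this]; exact Submodule.zero_mem _
  intro y hy
  obtain ⟨f, hf, rfl⟩ := Submodule.mem_map.mp hy
  rw [← support_sum_monomial_coeff f, map_sum]
  refine Submodule.sum_mem _ fun d hd => ?_
  have hdw : Finsupp.weight (wt3 p q m) d = ν := hf (mem_support_iff.mp hd)
  have : monomial d (coeff d f) = coeff d f • monomial d (1 : k) := by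
    rw [smul_monomial, smul_eq_mul, mul_one]
  rw [this, map_smul]
  exact Submodule.smul_mem _ _ (key (d 1) d rfl hdw)

end RankThm

end Groth.Agent.Lib.Helper48.HJ
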