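import Groth.Agent.Lib.Helper48.DerLift2
import Groth.Agent.Lib.Helper48.FSmoothSplit2

/-!
# Universal thickening of `f = j ≫ π` with `π` formally smooth: ring maps between charts

`κ : Γ(X', W') → Γ(X, i⁻¹W')`, `π₀ : Γ(P, W_P) → Γ(X, i⁻¹W')` with kernel `J`.  We construct
`ρ : Γ(P, W_P) → Γ(X', W')` and `σ : Γ(X', W') → Γ(P, W_P) ⧸ J²` with `ρ̄ ∘ σ = id`.
-/

set_option autoImplicit false
universe u

open AlgebraicGeometry CategoryTheory Opposite TopologicalSpace CategoryTheory.Limits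

namespace Groth.Agent.Lib.Helper48.KoszulThick

open Groth.Agent.Lib.Helper48.DerLift Groth.Agent.Lib.Helper48.FSmoothSplit

variable {X X' Y P : Scheme.{u}} (f : X ⟶ Y) (i : X ⟶ X') (h' : X' ⟶ Y)
  (hu : OmegaSh.IsUnivThickening f i h') (j : X ⟶ P) (π : P ⟶ Y)
  (hπ : MoreMor.IsFormallySmoothHom π) (hjπ : j ≫ π = f)
  {W' : X'.Opens} (hW' : IsAffineOpen W') {WP : P.Opens} (hWP : IsAffineOpen WP)
  (e : i ⁻¹ᵁ W' ≤ j ⁻¹ᵁ WP)

include hu hπ hjπ hW' hWP in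
theorem exists_rho : ∃ ρ : Γ(P, WP) ⟶ Γ(X', W'),
    ρ ≫ i.app W' = j.appLE WP (i ⁻¹ᵁ W') e ∧
    Spec.map ρ ≫ hWP.fromSpec ≫ π = hW'.fromSpec ≫ h' := by
  have hu' := hu
  obtain ⟨hfot, hih, huniv⟩ := hu
  have : IsClosedImmersion i := hfot.1.1
  have hU : IsAffineOpen (i ⁻¹ᵁ W') := hW'.preimage i
  have hκsurj : Function.Surjective (i.app W').hom := i.app_surjective W' hW'
  have hκker : RingHom.ker (i.app W').hom ^ 2 = ⊥ := ker_app_sq f i h' hu' hW'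
  have hj : MoreMor.IsFirstOrderThickening (Spec.map (i.app W')) :=
    Groth.Agent.S9732.fot_spec (i.app W') hκsurj hκker
  haveI : IsClosedImmersion (Spec.map (i.app W')) := hj.1.1
  have hκfs : Spec.map (i.app W') ≫ hW'.fromSpec = hU.fromSpec ≫ i := by
    rw [← IsAffineOpen.SpecMap_appLE_fromSpec i hW' hU (le_refl _), Scheme.Hom.appLE_eq_app]
  have w : Spec.map (i.app W') ≫ (hW'.fromSpec ≫ h') = (hU.fromSpec ≫ j) ≫ π := by
    rw [← Category.assoc, hκfs, Category.assoc, hih, Category.assoc, hjπ]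
  obtain ⟨l, hl₁, hl₂⟩ := exists_lift (Spec.map (i.app W')) π hπ (ker_appTop_sq _ hj.2)
    (hU.fromSpec ≫ j) (hW'.fromSpec ≫ h') w
  have hrange : Set.range l ⊆ Set.range hWP.fromSpec := by
    rw [hWP.range_fromSpec]
    rintro _ ⟨y, rfl⟩
    obtain ⟨x, rfl⟩ := hj.1.2.surj y
    have h1 : l ((Spec.map (i.app W')) x) = j (hU.fromSpec x) := by
      have := congrArg (fun g : Spec _ ⟶ P => g x) hl₁
      simpa using this
    rw [h1]
    have h2 : hU.fromSpec x ∈ (i ⁻¹ᵁ W' : Set X) := by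
      rw [← hU.range_fromSpec]
      exact ⟨x, rfl⟩
    exact e h2
  have hl : IsOpenImmersion.lift hWP.fromSpec l hrange ≫ hWP.fromSpec = l :=
    IsOpenImmersion.lift_fac _ _ _
  obtain ⟨ρ, hρ⟩ : ∃ ρ : Γ(P, WP) ⟶ Γ(X', W'),
      Spec.map ρ = IsOpenImmersion.lift hWP.fromSpec l hrange := ⟨_, Spec.map_preimage _⟩
  rw [← hρ] at hl
  refine ⟨ρ, ?_, ?_⟩
  · apply Spec.map_injective
    rw [← cancel_mono hWP.fromSpec, Spec.map_comp, Category.assoc, hl, hl₁,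
      IsAffineOpen.SpecMap_appLE_fromSpec j hWP hU e]
  · rw [← Category.assoc, hl, hl₂]


/-- the quotient map `Γ(P, W_P) → Γ(P, W_P) ⧸ J²` -/
noncomputable abbrev qMap : Γ(P, WP) ⟶
    CommRingCat.of (Γ(P, WP) ⧸ RingHom.ker (j.appLE WP (i ⁻¹ᵁ W') e).hom ^ 2) :=
  CommRingCat.ofHom (Ideal.Quotient.mk _)

/-- the induced map `Γ(P, W_P) ⧸ J² → Γ(X, i⁻¹W')` -/
noncomputable abbrev piBar :
    CommRingCat.of (Γ(P, WP) ⧸ RingHom.ker (j.appLE WP (i ⁻¹ᵁ W') e).hom ^ 2) ⟶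
      Γ(X, i ⁻¹ᵁ W') :=
  CommRingCat.ofHom (Ideal.Quotient.lift _ (j.appLE WP (i ⁻¹ᵁ W') e).hom
    (fun a ha => RingHom.mem_ker.mp (Ideal.pow_le_self two_ne_zero ha)))

theorem qMap_piBar : qMap i j e ≫ piBar i j e = j.appLE WP (i ⁻¹ᵁ W') e := by
  ext a
  rfl

theorem ker_piBar_sq :
    RingHom.ker (piBar i j e).hom ^ 2 = ⊥ := by
  have h1 : RingHom.ker (piBar i j e).hom =
      (RingHom.ker (j.appLE WP (i ⁻¹ᵁ W') e).hom).map (Ideal.Quotient.mk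
        (RingHom.ker (j.appLE WP (i ⁻¹ᵁ W') e).hom ^ 2)) := by
    ext x
    obtain ⟨a, rfl⟩ := Ideal.Quotient.mk_surjective x
    rw [RingHom.mem_ker]
    constructor
    · intro hx
      exact Ideal.mem_map_of_mem _ (RingHom.mem_ker.mpr hx)
    · intro hx
      rw [Ideal.mem_map_iff_of_surjective _ Ideal.Quotient.mk_surjective] at hx
      obtain ⟨b, hb, hba⟩ := hx
      rw [← hba]
      exact RingHom.mem_ker.mp hb
  rw [h1, ← Ideal.map_pow, Ideal.map_quotient_self]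

include hu hjπ hW' hWP in
theorem exists_sigma (hsurj : Function.Surjective (j.appLE WP (i ⁻¹ᵁ W') e).hom) :
    ∃ σ : Γ(X', W') ⟶
      CommRingCat.of (Γ(P, WP) ⧸ RingHom.ker (j.appLE WP (i ⁻¹ᵁ W') e).hom ^ 2),
    σ ≫ piBar i j e = i.app W' ∧
    Spec.map σ ≫ hW'.fromSpec ≫ h' = Spec.map (qMap i j e) ≫ hWP.fromSpec ≫ π := by
  obtain ⟨hfot, hih, huniv⟩ := hu
  have : IsClosedImmersion i := hfot.1.1
  have hU : IsAffineOpen (i ⁻¹ᵁ W') := hW'.preimage i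
  have hκfs : Spec.map (i.app W') ≫ hW'.fromSpec = hU.fromSpec ≫ i := by
    rw [← IsAffineOpen.SpecMap_appLE_fromSpec i hW' hU (le_refl _), Scheme.Hom.appLE_eq_app]
  have hpsurj : Function.Surjective (piBar i j e).hom := by
    intro b
    obtain ⟨a, rfl⟩ := hsurj b
    exact ⟨Ideal.Quotient.mk _ a, rfl⟩
  have hj : MoreMor.IsFirstOrderThickening (Spec.map (piBar i j e)) :=
    Groth.Agent.S9732.fot_spec (piBar i j e) hpsurj (ker_piBar_sq i j e)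
  have w : Spec.map (piBar i j e) ≫ (Spec.map (qMap i j e) ≫ hWP.fromSpec ≫ π) =
      hU.fromSpec ≫ f := by
    rw [← Category.assoc, ← Spec.map_comp, qMap_piBar, ← Category.assoc,
      IsAffineOpen.SpecMap_appLE_fromSpec j hWP hU e, Category.assoc, hjπ]
  obtain ⟨r, ⟨hr₁, hr₂⟩, -⟩ := huniv _ _ (Spec.map (piBar i j e))
    (Spec.map (qMap i j e) ≫ hWP.fromSpec ≫ π) hU.fromSpec hj w
  have hrange : Set.range r ⊆ Set.range hW'.fromSpec := by
    rw [hW'.range_fromSpec]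
    rintro _ ⟨y, rfl⟩
    obtain ⟨x, rfl⟩ := hj.1.2.surj y
    have h1 : r ((Spec.map (piBar i j e)) x) = i (hU.fromSpec x) := by
      have := congrArg (fun g : Spec _ ⟶ X' => g x) hr₁
      simpa using this
    rw [h1]
    have h2 : hU.fromSpec x ∈ (i ⁻¹ᵁ W' : Set X) := by
      rw [← hU.range_fromSpec]
      exact ⟨x, rfl⟩
    exact h2
  have hl : IsOpenImmersion.lift hW'.fromSpec r hrange ≫ hW'.fromSpec = r :=
    IsOpenImmersion.lift_fac _ _ _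
  obtain ⟨σ, hσ⟩ : ∃ σ : Γ(X', W') ⟶
      CommRingCat.of (Γ(P, WP) ⧸ RingHom.ker (j.appLE WP (i ⁻¹ᵁ W') e).hom ^ 2),
      Spec.map σ = IsOpenImmersion.lift hW'.fromSpec r hrange := ⟨_, Spec.map_preimage _⟩
  rw [← hσ] at hl
  refine ⟨σ, ?_, ?_⟩
  · apply Spec.map_injective
    rw [← cancel_mono hW'.fromSpec, Spec.map_comp, Category.assoc, hl, hr₁, hκfs]
  · rw [← Category.assoc, hl, hr₂]

include hu hW' in
theorem sigma_rhoBar_eq_id
    (ρ : Γ(P, WP) ⟶ Γ(X', W'))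
    (hρ₁ : ρ ≫ i.app W' = j.appLE WP (i ⁻¹ᵁ W') e)
    (hρ₂ : Spec.map ρ ≫ hWP.fromSpec ≫ π = hW'.fromSpec ≫ h')
    (σ : Γ(X', W') ⟶
      CommRingCat.of (Γ(P, WP) ⧸ RingHom.ker (j.appLE WP (i ⁻¹ᵁ W') e).hom ^ 2))
    (hσ₁ : σ ≫ piBar i j e = i.app W')
    (hσ₂ : Spec.map σ ≫ hW'.fromSpec ≫ h' = Spec.map (qMap i j e) ≫ hWP.fromSpec ≫ π)
    (ρbar : CommRingCat.of (Γ(P, WP) ⧸ RingHom.ker (j.appLE WP (i ⁻¹ᵁ W') e).hom ^ 2) ⟶
      Γ(X', W'))
    (hρbar : qMap i j e ≫ ρbar = ρ) : σ ≫ ρbar = 𝟙 _ := by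
  have hu' := hu
  obtain ⟨hfot, hih, huniv⟩ := hu
  have : IsClosedImmersion i := hfot.1.1
  have hU : IsAffineOpen (i ⁻¹ᵁ W') := hW'.preimage i
  have hκsurj : Function.Surjective (i.app W').hom := i.app_surjective W' hW'
  have hκker : RingHom.ker (i.app W').hom ^ 2 = ⊥ := ker_app_sq f i h' hu' hW'
  have hj : MoreMor.IsFirstOrderThickening (Spec.map (i.app W')) :=
    Groth.Agent.S9732.fot_spec (i.app W') hκsurj hκker
  have hκfs : Spec.map (i.app W') ≫ hW'.fromSpec = hU.fromSpec ≫ i := by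
    rw [← IsAffineOpen.SpecMap_appLE_fromSpec i hW' hU (le_refl _), Scheme.Hom.appLE_eq_app]
  have hbar : ρbar ≫ i.app W' = piBar i j e := by
    apply CommRingCat.hom_ext
    apply Ideal.Quotient.ringHom_ext
    have h1 : qMap i j e ≫ ρbar ≫ i.app W' = qMap i j e ≫ piBar i j e := by
      rw [← Category.assoc, hρbar, hρ₁, qMap_piBar]
    exact congr(($h1).hom)
  have w : Spec.map (i.app W') ≫ (hW'.fromSpec ≫ h') = hU.fromSpec ≫ f := by
    rw [← Category.assoc, hκfs, Category.assoc, hih]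
  obtain ⟨r, -, hr⟩ := huniv _ _ (Spec.map (i.app W')) (hW'.fromSpec ≫ h') hU.fromSpec hj w
  have e1 := hr hW'.fromSpec ⟨hκfs, rfl⟩
  have e2 := hr (Spec.map (σ ≫ ρbar) ≫ hW'.fromSpec) ⟨by
      rw [← Category.assoc, ← Spec.map_comp, Category.assoc, hbar, hσ₁, hκfs], by
      rw [Spec.map_comp, Category.assoc, Category.assoc, hσ₂, ← Category.assoc,
        ← Spec.map_comp, hρbar, hρ₂]⟩
  have e3 : Spec.map (σ ≫ ρbar) = Spec.map (𝟙 _) := by
    rw [← cancel_mono hW'.fromSpec, e2, Spec.map_id, Category.id_comp, e1]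
  exact Spec.map_injective e3

include hu hπ hjπ hW' hWP in
/-- **Ring level package.** -/
theorem exists_rho_sigma (hsurj : Function.Surjective (j.appLE WP (i ⁻¹ᵁ W') e).hom) :
    ∃ (ρ : Γ(P, WP) →+* Γ(X', W'))
      (σ : Γ(X', W') →+* Γ(P, WP) ⧸ RingHom.ker (j.appLE WP (i ⁻¹ᵁ W') e).hom ^ 2),
      (∀ a, i.app W' (ρ a) = j.appLE WP (i ⁻¹ᵁ W') e a) ∧
      ∀ b' a, σ b' = Ideal.Quotient.mk _ a →
        j.appLE WP (i ⁻¹ᵁ W') e a = i.app W' b' ∧ ρ a = b' := by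
  obtain ⟨ρ, hρ₁, hρ₂⟩ := exists_rho f i h' hu j π hπ hjπ hW' hWP e
  obtain ⟨σ, hσ₁, hσ₂⟩ := exists_sigma f i h' hu j π hjπ hW' hWP e hsurj
  have hκker : RingHom.ker (i.app W').hom ^ 2 = ⊥ := ker_app_sq f i h' hu hW'
  have hρJ : ∀ a ∈ RingHom.ker (j.appLE WP (i ⁻¹ᵁ W') e).hom ^ 2, ρ.hom a = 0 := by
    intro a ha
    have h1 : (RingHom.ker (j.appLE WP (i ⁻¹ᵁ W') e).hom ^ 2).map ρ.hom ≤
        RingHom.ker (i.app W').hom ^ 2 := by
      rw [Ideal.map_pow]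
      apply Ideal.pow_right_mono
      rw [Ideal.map_le_iff_le_comap]
      intro x hx
      rw [Ideal.mem_comap, RingHom.mem_ker]
      have := congr($hρ₁ x)
      rw [RingHom.mem_ker] at hx
      rw [hx] at this
      exact this
    have h2 := h1 (Ideal.mem_map_of_mem _ ha)
    rw [hκker] at h2
    exact h2
  let ρbar : CommRingCat.of (Γ(P, WP) ⧸ RingHom.ker (j.appLE WP (i ⁻¹ᵁ W') e).hom ^ 2) ⟶
      Γ(X', W') := CommRingCat.ofHom (Ideal.Quotient.lift _ ρ.hom hρJ)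
  have hρbar : qMap i j e ≫ ρbar = ρ := by
    ext a
    rfl
  have hid := sigma_rhoBar_eq_id f i h' hu j π hW' hWP e ρ hρ₁ hρ₂ σ hσ₁ hσ₂ ρbar hρbar
  refine ⟨ρ.hom, σ.hom, fun a => congr($hρ₁ a), fun b' a hb' => ⟨?_, ?_⟩⟩
  · have h1 := congr($hσ₁ b')
    change (piBar i j e) (σ.hom b') = _ at h1
    rw [hb'] at h1
    exact h1
  · have h1 := congr($hid b')
    change ρbar (σ.hom b') = b' at h1
    rw [hb'] at h1
    exact h1

end Groth.Agent.Lib.Helper48.KoszulThick
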