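import Groth.Agent.Lib.Helper48.Conormal13
import Groth.Agent.Lib.Helper48.Conormal6

/-!
# The sections of the conormal sheaf of a universal thickening as a retract

Sections-level retraction argument: given ring maps `ρ`, `σ` between the charts, the module
`Γ(C_i, i⁻¹W')` is a retract of `Γ(C_j, i⁻¹W')`.
-/

set_option autoImplicit false
universe u

open AlgebraicGeometry CategoryTheory Opposite TopologicalSpace CategoryTheory.Limits

namespace Groth.Agent.Lib.Helper48.KoszulThick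

open Groth.Agent.Lib.Helper48.Conormal Groth.Agent.Lib.Helper48.OmegaAff

variable {X X' P : Scheme.{u}} (i : X ⟶ X') [QuasiCompact i] (j : X ⟶ P) [QuasiCompact j]
  {W' : X'.Opens} (hW' : IsGoodFor i W') {WP : P.Opens} (hWP : IsAffineOpen WP)
  (hUV : i ⁻¹ᵁ W' = j ⁻¹ᵁ WP)
  (ρ : Γ(P, WP) →+* Γ(X', W'))
  (σ : Γ(X', W') →+* Γ(P, WP) ⧸ RingHom.ker (j.appLE WP (i ⁻¹ᵁ W') hUV.le).hom ^ 2)
  (h1 : ∀ a, i.app W' (ρ a) = j.appLE WP (i ⁻¹ᵁ W') hUV.le a)
  (h2 : ∀ b' a, σ b' = Ideal.Quotient.mk _ a →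
        j.appLE WP (i ⁻¹ᵁ W') hUV.le a = i.app W' b' ∧ ρ a = b')

omit [QuasiCompact i] [QuasiCompact j] in
include hUV in
theorem appLE_eq_zero_iff (a : Γ(P, WP)) :
    j.appLE WP (i ⁻¹ᵁ W') hUV.le a = 0 ↔ j.app WP a = 0 := by
  have key : ∀ (U : X.Opens) (hU : U = j ⁻¹ᵁ WP), j.appLE WP U hU.le a = 0 ↔ j.app WP a = 0 := by
    rintro _ rfl
    rw [Scheme.Hom.appLE_eq_app]
  exact key _ hUV

include h1 in
theorem rho_mem_ker (t : Γ(ClSub.idealMod j.ker, WP)) :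
    ρ (OmegaSh.idealSect j.ker WP t) ∈ RingHom.ker (i.app W').hom := by
  rw [RingHom.mem_ker]
  change i.app W' (ρ _) = 0
  rw [h1, appLE_eq_zero_iff i j hUV, app_idealSect]

/-- the additive map defining `p` -/
noncomputable def lP : Γ(ClSub.idealMod j.ker, WP) →+ Γ(Omega.conormal i, i ⁻¹ᵁ W') :=
  AddMonoidHom.mk' (fun t => csLin i W' ⟨ρ (OmegaSh.idealSect j.ker WP t),
    rho_mem_ker i j hUV ρ h1 t⟩) (fun t₁ t₂ => by
      rw [← map_add]
      congr 1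
      apply Subtype.ext
      change ρ (OmegaSh.idealSect j.ker WP (t₁ + t₂)) = ρ _ + ρ _
      rw [map_add, map_add])

theorem lP_apply (t : Γ(ClSub.idealMod j.ker, WP)) :
    lP i j hUV ρ h1 t = OmegaSh.conormalSect i W' (sectOf i W' ⟨ρ (OmegaSh.idealSect j.ker WP t),
      rho_mem_ker i j hUV ρ h1 t⟩) := rfl

theorem lP_smul (a : Γ(P, WP)) (t : Γ(ClSub.idealMod j.ker, WP)) :
    lP i j hUV ρ h1 (a • t) = j.appLE WP (i ⁻¹ᵁ W') hUV.le a • lP i j hUV ρ h1 t := by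
  rw [lP_apply, lP_apply, ← h1, ← conormalSect_smul]
  congr 1
  apply idealSect_injective i.ker W'
  rw [idealSect_smul i.ker W', idealSect_sectOf, idealSect_sectOf]
  change ρ (OmegaSh.idealSect j.ker WP (a • t)) = ρ a * ρ _
  rw [idealSect_smul, map_mul]

include hW' hWP h1 h2 in
theorem finite_projective_of_retract
    [Module.Finite Γ(X, i ⁻¹ᵁ W') Γ(Omega.conormal j, i ⁻¹ᵁ W')]
    [Module.Projective Γ(X, i ⁻¹ᵁ W') Γ(Omega.conormal j, i ⁻¹ᵁ W')] :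
    Module.Finite Γ(X, i ⁻¹ᵁ W') Γ(Omega.conormal i, i ⁻¹ᵁ W') ∧
      Module.Projective Γ(X, i ⁻¹ᵁ W') Γ(Omega.conormal i, i ⁻¹ᵁ W') := by
  -- the map `p`
  obtain ⟨p, hp, -⟩ := existsUnique_of_semilinear_conormalRes j hW'.2.1 hWP hUV.le
    Γ(Omega.conormal i, i ⁻¹ᵁ W') (lP i j hUV ρ h1) (lP_smul i j hUV ρ h1)
  -- the relation defining `s`
  let R : Γ(ClSub.idealMod j.ker, WP) → Γ(ClSub.idealMod i.ker, W') → Prop := fun s₀ t =>
    σ (OmegaSh.idealSect i.ker W' t) = Ideal.Quotient.mk _ (OmegaSh.idealSect j.ker WP s₀)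
  have hR0 : R 0 0 := by
    change σ (OmegaSh.idealSect i.ker W' 0) = Ideal.Quotient.mk _ (OmegaSh.idealSect j.ker WP 0)
    rw [map_zero, map_zero, map_zero, map_zero]
  have hRadd : ∀ s₁ s₂ t₁ t₂, R s₁ t₁ → R s₂ t₂ → R (s₁ + s₂) (t₁ + t₂) := by
    intro s₁ s₂ t₁ t₂ hr₁ hr₂
    change σ (OmegaSh.idealSect i.ker W' (t₁ + t₂)) =
      Ideal.Quotient.mk _ (OmegaSh.idealSect j.ker WP (s₁ + s₂))
    rw [map_add, map_add, map_add, map_add, hr₁, hr₂]
  have hRlift : ∀ t, ∃ s₀, R s₀ t := by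
    intro t
    obtain ⟨a, ha⟩ := Ideal.Quotient.mk_surjective (σ (OmegaSh.idealSect i.ker W' t))
    have h3 := (h2 _ a ha.symm).1
    rw [app_idealSect, appLE_eq_zero_iff i j hUV] at h3
    obtain ⟨s₀, hs₀⟩ := exists_idealSect_eq j WP a h3
    exact ⟨s₀, by change σ _ = Ideal.Quotient.mk _ _; rw [hs₀, ha]⟩
  have hRwd : ∀ s₁ s₂ t, R s₁ t → R s₂ t →
      conormalRes j hUV.le s₁ = conormalRes j hUV.le s₂ := by
    intro s₁ s₂ t hr₁ hr₂
    have h3 : Ideal.Quotient.mk (RingHom.ker (j.appLE WP (i ⁻¹ᵁ W') hUV.le).hom ^ 2)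
        (OmegaSh.idealSect j.ker WP (s₁ - s₂)) = 0 := by
      rw [map_sub, map_sub, ← hr₁, ← hr₂, sub_self]
    rw [Ideal.Quotient.eq_zero_iff_mem] at h3
    have h4 := conormalRes_eq_zero_of_mem_sq j hUV (s₁ - s₂) h3
    rw [map_sub, sub_eq_zero] at h4
    exact h4
  obtain ⟨ℓ, hℓ⟩ := exists_descend R hR0 hRadd hRlift (conormalRes j hUV.le) hRwd
  have hℓsmul : ∀ (b' : Γ(X', W')) (t : Γ(ClSub.idealMod i.ker, W')),
      ℓ (b' • t) = i.app W' b' • ℓ t := by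
    intro b' t
    obtain ⟨s₀, hs₀⟩ := hRlift t
    obtain ⟨a, ha⟩ := Ideal.Quotient.mk_surjective (σ b')
    have hr : R (a • s₀) (b' • t) := by
      change σ (OmegaSh.idealSect i.ker W' (b' • t)) =
        Ideal.Quotient.mk _ (OmegaSh.idealSect j.ker WP (a • s₀))
      rw [idealSect_smul, idealSect_smul, map_mul, map_mul, ha, hs₀]
    rw [hℓ _ _ hr, hℓ _ _ hs₀, conormalRes_smul, (h2 b' a ha.symm).1]
  obtain ⟨s, hs, -⟩ := existsUnique_of_semilinear_conormal i hW'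
    Γ(Omega.conormal j, i ⁻¹ᵁ W') ℓ hℓsmul
  have hps : p ∘ₗ s = LinearMap.id := by
    apply LinearMap.ext_on (span_range_conormalSect i hW')
    rintro _ ⟨t, rfl⟩
    obtain ⟨s₀, hs₀⟩ := hRlift t
    change p (s (OmegaSh.conormalSect i W' t)) = OmegaSh.conormalSect i W' t
    rw [hs, hℓ _ _ hs₀, hp, lP_apply]
    congr 1
    apply idealSect_injective i.ker W'
    rw [idealSect_sectOf]
    exact (h2 _ _ hs₀).2
  have hsurj : Function.Surjective p := fun x => ⟨s x, congr($hps x)⟩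
  exact ⟨Module.Finite.of_surjective p hsurj, Module.Projective.of_split s p hps⟩

end Groth.Agent.Lib.Helper48.KoszulThick
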