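import Groth.Agent.Lib.Helper48.KoszulThick1
import Groth.Agent.Lib.Helper48.KoszulThick2
import Groth.Agent.Lib.Helper48.Nbhd8
import Groth.Agent.Lib.Helper48.ConormalMap2
import Groth.Agent.Lib.Helper57.UnivThickGlue
import Groth.Agent.Lib.Helper57.UnivThickAffine
import Groth.Agent.Lib.Helper15.LocFreeLocus
import Groth.Agent.Lib.Helper7.FinLocFree

/-!
# Universal thickenings: affine opens, local finite projectivity of the conormal sheaf
-/

set_option autoImplicit false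
universe u

open AlgebraicGeometry CategoryTheory Opposite TopologicalSpace CategoryTheory.Limits

namespace Groth.Agent.Lib.Helper48.KoszulThick

open Groth.Agent.Lib.Helper48.Conormal Groth.Agent.Lib.Helper48.OmegaAff
  Groth.Agent.Lib.Helper57.UnivThickGlue Groth.Agent.Lib.Helper57.UnivThickAffine
  Groth.Agent.Lib.Helper15.LocFreeLocus

/-- restriction of a universal thickening to an open subscheme of the source, with the cartesian
square -/
theorem exists_restrict_opens {X X' Y : Scheme.{u}} {f : X ⟶ Y} {i : X ⟶ X'} {h' : X' ⟶ Y}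
    (hu : OmegaSh.IsUnivThickening f i h') (W : X.Opens) :
    ∃ (V' : X'.Opens) (iW : (W : Scheme.{u}) ⟶ (V' : Scheme.{u})),
      i ⁻¹ᵁ V' = W ∧ IsPullback iW W.ι V'.ι i ∧
      OmegaSh.IsUnivThickening (W.ι ≫ f) iW (V'.ι ≫ h') := by
  have hr : Set.range (W.ι ≫ i) ⊆ Set.range (thickOpen i hu.1.1 W).ι := by
    rintro _ ⟨v, rfl⟩
    rw [Scheme.Opens.range_ι]
    exact (mem_thickOpen i hu.1.1 W (W.ι v)).mpr v.2
  have hl : IsOpenImmersion.lift (thickOpen i hu.1.1 W).ι (W.ι ≫ i) hr ≫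
      (thickOpen i hu.1.1 W).ι = W.ι ≫ i := IsOpenImmersion.lift_fac _ _ _
  generalize IsOpenImmersion.lift (thickOpen i hu.1.1 W).ι (W.ι ≫ i) hr = iW at hl
  have sq : IsPullback iW W.ι (thickOpen i hu.1.1 W).ι i :=
    IsOpenImmersion.isPullback iW W.ι _ i hl.symm (by
      rw [Scheme.Opens.opensRange_ι, preimage_thickOpen, Scheme.Opens.opensRange_ι])
  exact ⟨thickOpen i hu.1.1 W, iW, preimage_thickOpen i hu.1.1 W, sq,
    restrict hu W.ι _ iW sq.flip⟩

/-- an affine open of the source mapping into an affine open of the base is the preimage of an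
affine open of the universal thickening -/
theorem exists_affine_thick {X X' Y : Scheme.{u}} {f : X ⟶ Y} {i : X ⟶ X'} {h' : X' ⟶ Y}
    [FormallyUnramified f] (hu : OmegaSh.IsUnivThickening f i h')
    (U₁ : X.Opens) (hU₁ : IsAffineOpen U₁) (V : Y.Opens) (hV : IsAffineOpen V)
    (e : U₁ ≤ f ⁻¹ᵁ V) :
    ∃ W' : X'.Opens, IsAffineOpen W' ∧ i ⁻¹ᵁ W' = U₁ := by
  obtain ⟨W', iU, hpre, -, hu₁⟩ := exists_restrict_opens hu U₁
  refine ⟨W', ?_, hpre⟩
  let _ : Algebra Γ(Y, V) Γ(X, U₁) := (f.appLE V U₁ e).hom.toAlgebra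
  have _ : Algebra.FormallyUnramified Γ(Y, V) Γ(X, U₁) := f.formallyUnramified_appLE hV hU₁ e
  obtain ⟨S', _, _, π, hπ⟩ := Groth.Agent.S9426.result Γ(Y, V) Γ(X, U₁)
  have h0 := Groth.Agent.Lib.Helper57.UnivThickAffine.spec Γ(Y, V) Γ(X, U₁) S' π hπ
  have h1 := comp_openImmersion h0 hV.fromSpec
  have h2 := of_isIso_source h1 hU₁.isoSpec.hom
  have h3 : hU₁.isoSpec.hom ≫ Spec.map (f.appLE V U₁ e) ≫ hV.fromSpec = U₁.ι ≫ f := by
    rw [IsAffineOpen.SpecMap_appLE_fromSpec f hV hU₁ e, ← Category.assoc,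
      IsAffineOpen.isoSpec_hom_fromSpec]
  have h2' : OmegaSh.IsUnivThickening (U₁.ι ≫ f)
      (hU₁.isoSpec.hom ≫ Spec.map (CommRingCat.ofHom π.toRingHom))
      (Spec.map (CommRingCat.ofHom (algebraMap Γ(Y, V) S')) ≫ hV.fromSpec) := by
    rw [← h3]
    exact h2
  obtain ⟨g', ⟨hg1, hg2⟩, -⟩ := existsUnique_map hu₁ h2' (𝟙 _) (Category.id_comp _)
  have hiso : IsIso g' := isIso_of_univ hu₁ h2' g' (by rw [hg1, Category.id_comp]) hg2
  exact IsAffine.of_isIso g'

end Groth.Agent.Lib.Helper48.KoszulThick
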