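import Groth.Agent.Lib.Helper48.KoszulThick3
import Groth.Agent.Lib.Helper2.LocFreeAff

/-!
# Universal thickenings of `f = j ≫ π`: the conormal sheaf is locally finite projective
-/

set_option autoImplicit false
universe u

open AlgebraicGeometry CategoryTheory Opposite TopologicalSpace CategoryTheory.Limits

namespace Groth.Agent.Lib.Helper48.KoszulThick

open Groth.Agent.Lib.Helper48.Conormal Groth.Agent.Lib.Helper48.OmegaAff
  Groth.Agent.Lib.Helper57.UnivThickGlue Groth.Agent.Lib.Helper57.UnivThickAffine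
  Groth.Agent.Lib.Helper15.LocFreeLocus

theorem exists_affine_finite_projective {X X' Y P : Scheme.{u}} (f : X ⟶ Y)
    [FormallyUnramified f] (i : X ⟶ X') (h' : X' ⟶ Y) (hu : OmegaSh.IsUnivThickening f i h')
    (j : X ⟶ P) [IsClosedImmersion j] (π : P ⟶ Y) (hπ : MoreMor.IsFormallySmoothHom π)
    (hjπ : j ≫ π = f) (hC : FlatMod.IsFinLocFree (Omega.conormal j)) (z : X) :
    ∃ O : X.Opens, IsAffineOpen O ∧ z ∈ O ∧ Module.Finite Γ(X, O) Γ(Omega.conormal i, O) ∧
      Module.Projective Γ(X, O) Γ(Omega.conormal i, O) := by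
  have : IsClosedImmersion i := hu.1.1.1
  obtain ⟨V, hV, hzV, -⟩ := exists_isAffineOpen_mem_and_subset (x := f z) (U := ⊤) trivial
  have hz : j z ∈ π ⁻¹ᵁ V := by
    change π (j z) ∈ V
    rw [← Scheme.Hom.comp_apply, hjπ]
    exact hzV
  obtain ⟨WP, hWP, hzWP, hWPle⟩ := exists_isAffineOpen_mem_and_subset hz
  have hU₁ : IsAffineOpen (j ⁻¹ᵁ WP) := hWP.preimage j
  have e₁ : j ⁻¹ᵁ WP ≤ f ⁻¹ᵁ V := by
    subst hjπ
    exact fun x hx => hWPle hx
  obtain ⟨W', hW', hUV⟩ := exists_affine_thick hu (j ⁻¹ᵁ WP) hU₁ V hV e₁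
  have hgood : IsGoodFor i W' := ⟨hW', hW'.preimage i, i.app_surjective W' hW'⟩
  have hsurj : Function.Surjective (j.appLE WP (i ⁻¹ᵁ W') hUV.le).hom := by
    have key : ∀ (U : X.Opens) (hU : U = j ⁻¹ᵁ WP),
        Function.Surjective (j.appLE WP U hU.le).hom := by
      rintro _ rfl
      rw [Scheme.Hom.appLE_eq_app]
      exact j.app_surjective WP hWP
    exact key _ hUV
  obtain ⟨ρ, σ, h1, h2⟩ := exists_rho_sigma f i h' hu j π hπ hjπ hW' hWP hUV.le hsurj
  obtain ⟨hfin, hproj⟩ := LF.of_isFinLocFree hC ⊤ (i ⁻¹ᵁ W') hgood.2.1 le_top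
  refine ⟨i ⁻¹ᵁ W', hgood.2.1, ?_, finite_projective_of_retract i j hgood hWP hUV ρ σ h1 h2⟩
  rw [hUV]
  exact hzWP

/-- transfer from an open subscheme -/
theorem LF_of_restrict {X X' Y : Scheme.{u}} (f : X ⟶ Y) (i : X ⟶ X') (h' : X' ⟶ Y)
    (hu : OmegaSh.IsUnivThickening f i h') (W : X.Opens)
    (H : ∀ (W'' : Scheme.{u}) (iW : (W : Scheme.{u}) ⟶ W'') (hW'' : W'' ⟶ Y),
      OmegaSh.IsUnivThickening (W.ι ≫ f) iW hW'' → FlatMod.IsFinLocFree (Omega.conormal iW)) :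
    LF (Omega.conormal i) W := by
  have : IsClosedImmersion i := hu.1.1.1
  obtain ⟨V', iW, hpre, sq, huW⟩ := exists_restrict_opens hu W
  have : IsClosedImmersion iW := huW.1.1.1
  have hF := H _ iW _ huW
  obtain ⟨φ, hφ, -⟩ := Groth.Agent.Lib.Helper48.ConormalMap.existsUnique_conormalMap
    (i := iW) (i' := i) (g := V'.ι) (gZ := W.ι) sq.w.symm
  have hiso : IsIso φ := Groth.Agent.Lib.Helper48.Nbhd.conormalMap_isIso sq hφ
  have h1 : FlatMod.IsFinLocFree ((Scheme.Modules.pullback W.ι).obj (Omega.conormal i)) :=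
    Groth.Agent.Lib.Helper7.FinLocFree.isFinLocFree_of_iso (asIso φ).symm hF
  have h2 : FlatMod.IsFinLocFree ((Omega.conormal i).restrict W.ι) :=
    Groth.Agent.Lib.Helper7.FinLocFree.isFinLocFree_of_iso
      ((Scheme.Modules.restrictFunctorIsoPullback W.ι).app (Omega.conormal i)).symm h1
  exact LF.of_isFinLocFree_restrict h2

end Groth.Agent.Lib.Helper48.KoszulThick
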