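import Groth.Agent.Lib.Helper48.LambdaRing
import Mathlib.RingTheory.PowerSeries.Substitution
import Mathlib.RingTheory.PowerSeries.WellKnown

set_option autoImplicit false
universe u

namespace Groth.Agent.Lib.Helper48

open PowerSeries Finset LambdaRing

variable {K : Type u} [CommRing K] [LambdaOps K]

/-- `b = X / (1 - X)`. -/
noncomputable def bser (K : Type u) [CommRing K] : PowerSeries K := X * (PowerSeries.mk 1)

theorem constantCoeff_bser : constantCoeff (bser K) = 0 := by
  simp [bser]

theorem hasSubst_bser : PowerSeries.HasSubst (bser K) :=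
  PowerSeries.HasSubst.of_constantCoeff_zero' constantCoeff_bser

theorem coeff_bser_pow_succ (d k : ℕ) :
    coeff k ((bser K) ^ (d + 1)) = if d + 1 ≤ k then ((k - 1).choose d : K) else 0 := by
  rw [bser, mul_pow, mk_one_pow_eq_mk_choose_add, coeff_X_pow_mul']
  split_ifs with h
  · rw [coeff_mk]
    congr 2
    omega
  · rfl

theorem coeff_bser_pow_zero (k : ℕ) :
    coeff k ((bser K) ^ 0) = if k = 0 then 1 else 0 := by
  rw [pow_zero, coeff_one]

/-- the gamma series -/
noncomputable def gammaSeries (x : K) : PowerSeries K := (lamSeries x).subst (bser K)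

theorem gammaSeries_add (x y : K) : gammaSeries (x + y) = gammaSeries x * gammaSeries y := by
  rw [gammaSeries, lamSeries_add, PowerSeries.subst_mul hasSubst_bser]
  rfl

theorem coeff_gammaSeries (k : ℕ) (x : K) : coeff k (gammaSeries x) = gamma k x := by
  rw [gammaSeries, PowerSeries.coeff_subst' hasSubst_bser]
  rw [finsum_eq_sum_of_support_subset (s := Finset.range (k + 1))]
  · rcases k with _ | k
    · rw [gamma, if_pos rfl, Finset.sum_range_one, coeff_bser_pow_zero, if_pos rfl, lamSeries,
        coeff_mk, LambdaOps.lam_zero]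
      simp
    · rw [gamma, if_neg (Nat.succ_ne_zero k)]
      apply Finset.sum_congr rfl
      intro j hj
      rcases j with _ | j
      · simp [coeff_bser_pow_zero]
      · have hjk : j + 1 ≤ k + 1 := Nat.lt_succ_iff.mp (Finset.mem_range.mp hj)
        rw [coeff_bser_pow_succ, if_pos hjk, lamSeries, coeff_mk, if_neg (Nat.succ_ne_zero j)]
        simp [mul_comm]
  · intro d hd
    rw [Function.mem_support] at hd
    rw [Finset.coe_range, Set.mem_Iio]
    by_contra hlt
    apply hd
    have hkd : k < d := by omega
    obtain ⟨d', rfl⟩ : ∃ d', d = d' + 1 := ⟨d - 1, by omega⟩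
    rw [coeff_bser_pow_succ, if_neg (by omega), smul_zero]

theorem gamma_add (k : ℕ) (x y : K) :
    gamma k (x + y) = ∑ i ∈ range (k + 1), gamma i x * gamma (k - i) y := by
  rw [← coeff_gammaSeries, gammaSeries_add, coeff_mul,
    Finset.Nat.sum_antidiagonal_eq_sum_range_succ_mk]
  apply Finset.sum_congr rfl
  intro i _
  rw [coeff_gammaSeries, coeff_gammaSeries]

section pos

theorem mk_one_eq : (PowerSeries.mk 1 : PowerSeries K) = 1 + bser K := by
  have h := mk_one_mul_one_sub_eq_one K
  have : (PowerSeries.mk 1 : PowerSeries K) = (PowerSeries.mk 1) * (1 - X) + X * PowerSeries.mk 1 := by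
    ring
  rw [h] at this
  exact this

theorem lamSeries_natCast (P : PosStructure K) (n : ℕ) : lamSeries (n : K) = (1 + X) ^ n := by
  induction n with
  | zero => simp [lamSeries_zero]
  | succ n ih =>
    rw [Nat.cast_succ, lamSeries_add, ih, lamSeries_line P 1 (isLine_one P), map_one, one_mul,
      pow_succ]

theorem subst_eq (f : PowerSeries K) :
    f.subst (bser K) = PowerSeries.substAlgHom (hasSubst_bser (K := K)) f := by
  rw [PowerSeries.coe_substAlgHom]

theorem gammaSeries_natCast (P : PosStructure K) (n : ℕ) :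
    gammaSeries (n : K) = (PowerSeries.mk 1) ^ n := by
  rw [gammaSeries, lamSeries_natCast P, subst_eq, map_pow, map_add, map_one,
    PowerSeries.substAlgHom_X, mk_one_eq]

theorem lamSeries_pos (P : PosStructure K) (e : K) (he : e ∈ P.pos) :
    lamSeries e = ∑ i ∈ range ((P.aug e).toNat + 1), C (LambdaOps.lam i e) * X ^ i := by
  ext k
  rw [lamSeries, coeff_mk, map_sum]
  simp only [coeff_C_mul, coeff_X_pow]
  by_cases hk : k ∈ range ((P.aug e).toNat + 1)
  · rw [Finset.sum_eq_single k]
    · simp
    · intro j _ hj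
      rw [if_neg (Ne.symm hj), mul_zero]
    · intro h; exact absurd hk h
  · rw [Finset.sum_eq_zero]
    · apply P.lam_eq_zero e he
      rw [Finset.mem_range] at hk
      have := P.aug_pos e he
      omega
    · intro j hj
      rw [if_neg, mul_zero]
      rintro rfl
      exact hk hj

theorem gammaSeries_pos (P : PosStructure K) (e : K) (he : e ∈ P.pos) :
    gammaSeries e = ∑ i ∈ range ((P.aug e).toNat + 1), C (LambdaOps.lam i e) * (bser K) ^ i := by
  rw [gammaSeries, lamSeries_pos P e he, subst_eq, map_sum]
  apply Finset.sum_congr rfl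
  intro i _
  rw [map_mul, map_pow, PowerSeries.substAlgHom_X]
  congr 1
  rw [show (C (LambdaOps.lam i e) : PowerSeries K) =
    algebraMap K (PowerSeries K) (LambdaOps.lam i e) from rfl, AlgHom.commutes]

/-- the polynomial `Q` -/
noncomputable def Qpoly (P : PosStructure K) (e : K) : Polynomial K :=
  ∑ i ∈ range ((P.aug e).toNat + 1),
    Polynomial.C (LambdaOps.lam i e) * Polynomial.X ^ i * (1 - Polynomial.X) ^ ((P.aug e).toNat - i)

omit [LambdaOps K] in
theorem bser_pow_mul (i m : ℕ) (him : i ≤ m) :
    (bser K) ^ i * (1 - X : PowerSeries K) ^ m = X ^ i * (1 - X : PowerSeries K) ^ (m - i) := by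
  have hu : (PowerSeries.mk 1 : PowerSeries K) * (1 - X) = 1 := mk_one_mul_one_sub_eq_one K
  have : m = i + (m - i) := by omega
  conv_lhs => rw [this]
  rw [bser, mul_pow, pow_add]
  calc (X : PowerSeries K) ^ i * PowerSeries.mk 1 ^ i *
        ((1 - X : PowerSeries K) ^ i * (1 - X : PowerSeries K) ^ (m - i))
      = X ^ i * ((PowerSeries.mk 1 * (1 - X : PowerSeries K)) ^ i) *
          (1 - X : PowerSeries K) ^ (m - i) := by rw [mul_pow]; ring
    _ = X ^ i * (1 - X : PowerSeries K) ^ (m - i) := by rw [hu, one_pow, mul_one]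

theorem gammaSeries_sub_aug (P : PosStructure K) (e : K) (he : e ∈ P.pos) :
    gammaSeries (e - ((P.aug e).toNat : K)) = ((Qpoly P e : Polynomial K) : PowerSeries K) := by
  have h1 : gammaSeries (e - ((P.aug e).toNat : K)) * (PowerSeries.mk 1) ^ (P.aug e).toNat =
      gammaSeries e := by
    rw [← gammaSeries_natCast P, ← gammaSeries_add, sub_add_cancel]
  have hu : (PowerSeries.mk 1 : PowerSeries K) * (1 - X) = 1 := mk_one_mul_one_sub_eq_one K
  have h2 : gammaSeries (e - ((P.aug e).toNat : K)) =
      gammaSeries e * (1 - X : PowerSeries K) ^ (P.aug e).toNat := by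
    rw [← h1, mul_assoc, ← mul_pow, hu, one_pow, mul_one]
  rw [h2, gammaSeries_pos P e he, Finset.sum_mul, Qpoly,
    ← Polynomial.coeToPowerSeries.ringHom_apply, map_sum]
  apply Finset.sum_congr rfl
  intro i hi
  have him : i ≤ (P.aug e).toNat := Nat.lt_succ_iff.mp (Finset.mem_range.mp hi)
  rw [mul_assoc, bser_pow_mul i _ him, Polynomial.coeToPowerSeries.ringHom_apply]
  simp [Polynomial.coe_mul, Polynomial.coe_pow, Polynomial.coe_sub, Polynomial.coe_one,
    Polynomial.coe_X, Polynomial.coe_C, mul_assoc]

theorem natDegree_Qpoly_le (P : PosStructure K) (e : K) :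
    (Qpoly P e).natDegree ≤ (P.aug e).toNat := by
  apply Polynomial.natDegree_sum_le_of_forall_le
  intro i hi
  have him : i ≤ (P.aug e).toNat := Nat.lt_succ_iff.mp (Finset.mem_range.mp hi)
  refine (Polynomial.natDegree_mul_le).trans ?_
  have h1 : (Polynomial.C (LambdaOps.lam i e) * Polynomial.X ^ i).natDegree ≤ i :=
    Polynomial.natDegree_C_mul_X_pow_le _ _
  have h2 : ((1 - Polynomial.X : Polynomial K) ^ ((P.aug e).toNat - i)).natDegree ≤
      (P.aug e).toNat - i := by
    refine (Polynomial.natDegree_pow_le).trans ?_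
    have : (1 - Polynomial.X : Polynomial K).natDegree ≤ 1 := by
      refine (Polynomial.natDegree_sub_le _ _).trans ?_
      simp [Polynomial.natDegree_X_le]
    calc ((P.aug e).toNat - i) * (1 - Polynomial.X : Polynomial K).natDegree
        ≤ ((P.aug e).toNat - i) * 1 := Nat.mul_le_mul_left _ this
      _ = (P.aug e).toNat - i := mul_one _
  omega

omit [LambdaOps K] in
theorem reflect_one_sub_X_pow (n : ℕ) :
    Polynomial.reflect n ((1 - Polynomial.X : Polynomial K) ^ n) = (Polynomial.X - 1) ^ n := by
  induction n with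
  | zero => simp [Polynomial.reflect_one]
  | succ n ih =>
    have hd : (1 - Polynomial.X : Polynomial K).natDegree ≤ 1 := by
      refine (Polynomial.natDegree_sub_le _ _).trans ?_
      simp [Polynomial.natDegree_X_le]
    have hdn : ((1 - Polynomial.X : Polynomial K) ^ n).natDegree ≤ n := by
      refine (Polynomial.natDegree_pow_le).trans ?_
      calc n * (1 - Polynomial.X : Polynomial K).natDegree ≤ n * 1 := Nat.mul_le_mul_left _ hd
        _ = n := mul_one _
    rw [pow_succ, Polynomial.reflect_mul _ _ hdn hd, ih, pow_succ]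
    congr 1
    rw [Polynomial.reflect_sub, Polynomial.reflect_one, Polynomial.reflect_one_X, pow_one]

theorem reflect_Qpoly (P : PosStructure K) (e : K) :
    Polynomial.reflect (P.aug e).toNat (Qpoly P e) =
      ∑ i ∈ range ((P.aug e).toNat + 1),
        Polynomial.C (LambdaOps.lam i e) * (Polynomial.X - 1) ^ ((P.aug e).toNat - i) := by
  set m := (P.aug e).toNat with hm
  rw [Qpoly]
  have hadd : ∀ (s : Finset ℕ) (f : ℕ → Polynomial K),
      Polynomial.reflect m (∑ i ∈ s, f i) = ∑ i ∈ s, Polynomial.reflect m (f i) := by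
    intro s f
    induction s using Finset.induction_on with
    | empty => simp
    | insert a s ha ih => rw [Finset.sum_insert ha, Finset.sum_insert ha, Polynomial.reflect_add, ih]
  rw [hadd]
  apply Finset.sum_congr rfl
  intro i hi
  have him : i ≤ m := Nat.lt_succ_iff.mp (Finset.mem_range.mp hi)
  have hd1 : (Polynomial.C (LambdaOps.lam i e) * Polynomial.X ^ i).natDegree ≤ i :=
    Polynomial.natDegree_C_mul_X_pow_le _ _
  have hd2 : ((1 - Polynomial.X : Polynomial K) ^ (m - i)).natDegree ≤ m - i := by
    have hd : (1 - Polynomial.X : Polynomial K).natDegree ≤ 1 := by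
      refine (Polynomial.natDegree_sub_le _ _).trans ?_
      simp [Polynomial.natDegree_X_le]
    refine (Polynomial.natDegree_pow_le).trans ?_
    calc (m - i) * (1 - Polynomial.X : Polynomial K).natDegree ≤ (m - i) * 1 :=
          Nat.mul_le_mul_left _ hd
      _ = m - i := mul_one _
  have hmi : m = i + (m - i) := by omega
  conv_lhs => rw [hmi]
  rw [Polynomial.reflect_mul _ _ hd1 hd2, Polynomial.reflect_C_mul_X_pow, reflect_one_sub_X_pow,
    Polynomial.revAt_le le_rfl, Nat.sub_self, pow_zero, mul_one]

theorem gamma_sub_aug_identity (P : PosStructure K) (e : K) (he : e ∈ P.pos) :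
    (∑ i ∈ range ((P.aug e).toNat + 1),
        Polynomial.C (gamma i (e - ((P.aug e).toNat : K))) * Polynomial.X ^ ((P.aug e).toNat - i)) =
      ∑ i ∈ range ((P.aug e).toNat + 1),
        Polynomial.C (LambdaOps.lam i e) * (Polynomial.X - 1) ^ ((P.aug e).toNat - i) := by
  rw [← reflect_Qpoly]
  set m := (P.aug e).toNat with hm
  have hcoeff : ∀ i, gamma i (e - (m : K)) = (Qpoly P e).coeff i := by
    intro i
    rw [← coeff_gammaSeries, gammaSeries_sub_aug P e he, Polynomial.coeff_coe]
  simp only [hcoeff]
  ext j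
  rw [Polynomial.coeff_reflect, Polynomial.finsetSum_coeff]
  simp only [Polynomial.coeff_C_mul, Polynomial.coeff_X_pow]
  by_cases hj : j ≤ m
  · rw [Polynomial.revAt_le hj, Finset.sum_eq_single (m - j)]
    · rw [if_pos (by omega), mul_one]
    · intro i hi hne
      have him : i ≤ m := Nat.lt_succ_iff.mp (Finset.mem_range.mp hi)
      rw [if_neg (by omega), mul_zero]
    · intro h
      exact absurd (Finset.mem_range.mpr (by omega)) h
  · rw [not_le] at hj
    rw [Polynomial.revAt_eq_self_of_lt hj, Finset.sum_eq_zero]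
    · exact (Polynomial.coeff_eq_zero_of_natDegree_lt
        (lt_of_le_of_lt (natDegree_Qpoly_le P e) hj)).symm
    · intro i hi
      rw [if_neg (by omega), mul_zero]

end pos

end Groth.Agent.Lib.Helper48
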