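import Groth.Prelude.Def_LambdaRing
import Mathlib.Tactic

set_option autoImplicit false
universe u

namespace Groth.Agent.Lib.Helper48

open PowerSeries Finset LambdaRing

section basic

variable {K : Type u} [CommRing K] [LambdaOps K]

theorem constantCoeff_lamSeries (x : K) : constantCoeff (lamSeries x) = 1 := by
  rw [← coeff_zero_eq_constantCoeff_apply, lamSeries, coeff_mk, LambdaOps.lam_zero]

theorem lamSeries_add (x y : K) : lamSeries (x + y) = lamSeries x * lamSeries y := by
  ext k
  rw [lamSeries, coeff_mk, LambdaOps.lam_add, coeff_mul,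
    Finset.Nat.sum_antidiagonal_eq_sum_range_succ_mk]
  apply Finset.sum_congr rfl
  intro i _
  simp [lamSeries, coeff_mk]

/-- `Λ x = λ_{-t}(x)`. -/
noncomputable def Lam (x : K) : PowerSeries K := rescale (-1 : K) (lamSeries x)

theorem Lam_add (x y : K) : Lam (x + y) = Lam x * Lam y := by
  rw [Lam, lamSeries_add, map_mul]; rfl

theorem constantCoeff_Lam (x : K) : constantCoeff (Lam x) = 1 := by
  rw [← coeff_zero_eq_constantCoeff_apply, Lam, coeff_rescale, pow_zero, one_mul,
    coeff_zero_eq_constantCoeff_apply, constantCoeff_lamSeries]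

theorem Lam_mul_inv (x : K) : Lam x * (Lam x).invOfUnit 1 = 1 :=
  mul_invOfUnit _ _ (by rw [constantCoeff_Lam]; rfl)

theorem inv_unique {A : Type*} [CommRing A] {a b c : A} (h1 : a * b = 1) (h2 : a * c = 1) : b = c := by
  calc b = b * (a * c) := by rw [h2, mul_one]
    _ = (a * b) * c := by ring
    _ = c := by rw [h1, one_mul]

theorem Lam_inv_add (x y : K) :
    (Lam (x + y)).invOfUnit 1 = (Lam x).invOfUnit 1 * (Lam y).invOfUnit 1 := by
  apply inv_unique (Lam_mul_inv (x + y))
  rw [Lam_add]
  calc Lam x * Lam y * ((Lam x).invOfUnit 1 * (Lam y).invOfUnit 1)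
      = (Lam x * (Lam x).invOfUnit 1) * (Lam y * (Lam y).invOfUnit 1) := by ring
    _ = 1 := by rw [Lam_mul_inv, Lam_mul_inv, one_mul]

theorem adamsSeries_eq (P : PosStructure K) (x : K) :
    adamsSeries P x = C (P.aug x : K) - X * (derivative K (Lam x)) * (Lam x).invOfUnit 1 := rfl

theorem adamsSeries_add (P : PosStructure K) (x y : K) :
    adamsSeries P (x + y) = adamsSeries P x + adamsSeries P y := by
  rw [adamsSeries_eq, adamsSeries_eq, adamsSeries_eq, Lam_inv_add, Lam_add, Derivation.leibniz,
    map_add, Int.cast_add, map_add]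
  simp only [smul_eq_mul]
  have hx := Lam_mul_inv x
  have hy := Lam_mul_inv y
  set a := Lam x
  set b := Lam y
  set a' := (Lam x).invOfUnit 1
  set b' := (Lam y).invOfUnit 1
  set da := derivative K a
  set db := derivative K b
  have e : X * (a * db + b * da) * (a' * b') =
      X * da * a' * (b * b') + X * db * b' * (a * a') := by ring
  rw [e, hx, hy]
  ring

theorem adams_add (P : PosStructure K) (j : ℕ) (x y : K) :
    adams P j (x + y) = adams P j x + adams P j y := by
  rw [adams, adamsSeries_add, map_add]; rfl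

theorem adams_zero (P : PosStructure K) (j : ℕ) : adams P j 0 = 0 := by
  have h := adams_add P j 0 0
  rw [add_zero] at h
  exact left_eq_add.mp h

theorem adams_neg (P : PosStructure K) (j : ℕ) (x : K) : adams P j (-x) = -adams P j x := by
  have h := adams_add P j x (-x)
  rw [add_neg_cancel, adams_zero] at h
  exact (neg_eq_of_add_eq_zero_right h.symm).symm

theorem adams_sub (P : PosStructure K) (j : ℕ) (x y : K) :
    adams P j (x - y) = adams P j x - adams P j y := by
  rw [sub_eq_add_neg, adams_add, adams_neg, sub_eq_add_neg]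

theorem adams_multiset_sum (P : PosStructure K) (j : ℕ) (s : Multiset K) :
    adams P j s.sum = (s.map (adams P j)).sum := by
  induction s using Multiset.induction with
  | empty => simp [adams_zero]
  | cons a s ih => simp [adams_add, ih]

end basic

section line

variable {K : Type u} [CommRing K] [LambdaOps K]

theorem lamSeries_line (P : PosStructure K) (u : K) (hu : P.IsLine u) :
    lamSeries u = 1 + C u * X := by
  ext k
  rw [lamSeries, coeff_mk]
  rcases k with _ | _ | k
  · simp [LambdaOps.lam_zero]
  · simp [LambdaOps.lam_one]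
  · have h : LambdaOps.lam (k + 2) u = 0 := by
      apply P.lam_eq_zero u hu.1
      rw [hu.2]
      push_cast
      omega
    rw [h]
    simp [coeff_one, coeff_X]

theorem Lam_line (P : PosStructure K) (u : K) (hu : P.IsLine u) : Lam u = 1 - C u * X := by
  rw [Lam, lamSeries_line P u hu, map_add, map_one, map_mul, rescale_X]
  have : rescale (-1 : K) (C u) = C u := by
    ext n
    rw [coeff_rescale, coeff_C]
    split_ifs with h
    · simp [h]
    · simp
  rw [this, map_neg, map_one]
  ring

theorem geom_inv (u : K) : (1 - C u * X) * (PowerSeries.mk fun k => u ^ k) = 1 := by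
  ext n
  rw [sub_mul, one_mul, map_sub, mul_assoc, coeff_C_mul, coeff_mk]
  rcases n with _ | n
  · simp
  · rw [coeff_succ_X_mul, coeff_mk, coeff_one, if_neg (Nat.succ_ne_zero n), pow_succ]
    ring

theorem adams_line (P : PosStructure K) (u : K) (hu : P.IsLine u) (j : ℕ) :
    adams P j u = u ^ j := by
  have hinv : (Lam u).invOfUnit 1 = PowerSeries.mk fun k => u ^ k := by
    apply inv_unique (Lam_mul_inv u)
    rw [Lam_line P u hu]
    exact geom_inv u
  rw [adams, adamsSeries_eq, hinv, Lam_line P u hu, hu.2]
  simp only [map_sub, Derivation.map_one_eq_zero, Derivation.leibniz, derivative_C, derivative_X,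
    smul_eq_mul, mul_one, mul_zero, add_zero, zero_sub, Int.cast_one, map_one]
  rcases j with _ | j
  · simp
  · rw [coeff_one, if_neg (Nat.succ_ne_zero j), zero_sub]
    have e : X * -C u * (PowerSeries.mk fun k => u ^ k) =
        -(X * (C u * PowerSeries.mk fun k => u ^ k)) := by ring
    rw [e, map_neg, neg_neg, coeff_succ_X_mul, coeff_C_mul, coeff_mk, pow_succ]
    ring

theorem isLine_one (P : PosStructure K) : P.IsLine (1 : K) := by
  refine ⟨?_, map_one _⟩
  have := P.natCast_mem 1 Nat.one_pos
  simpa using this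

theorem isLine_mul (P : PosStructure K) {u v : K} (hu : P.IsLine u) (hv : P.IsLine v) :
    P.IsLine (u * v) :=
  ⟨P.mul_mem u v hu.1 hv.1, by rw [map_mul, hu.2, hv.2, one_mul]⟩

theorem isLine_pow (P : PosStructure K) {u : K} (hu : P.IsLine u) (j : ℕ) : P.IsLine (u ^ j) := by
  induction j with
  | zero => rw [pow_zero]; exact isLine_one P
  | succ j ih => rw [pow_succ]; exact isLine_mul P ih hu

theorem adams_line_mul_sum (P : PosStructure K) (j : ℕ) (u : K) (hu : P.IsLine u)
    (t : Multiset K) (ht : ∀ v ∈ t, P.IsLine v) :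
    adams P j (u * t.sum) = u ^ j * (t.map (· ^ j)).sum := by
  induction t using Multiset.induction with
  | empty => simp [adams_zero]
  | cons v t ih =>
    rw [Multiset.sum_cons, mul_add, adams_add, ih (fun w hw => ht w (Multiset.mem_cons_of_mem hw)),
      adams_line P (u * v) (isLine_mul P hu (ht v (Multiset.mem_cons_self v t))),
      Multiset.map_cons, Multiset.sum_cons, mul_pow]
    ring

theorem adams_sum_mul_sum (P : PosStructure K) (j : ℕ)
    (s : Multiset K) (hs : ∀ v ∈ s, P.IsLine v)
    (t : Multiset K) (ht : ∀ v ∈ t, P.IsLine v) :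
    adams P j (s.sum * t.sum) = (s.map (· ^ j)).sum * (t.map (· ^ j)).sum := by
  induction s using Multiset.induction with
  | empty => simp [adams_zero]
  | cons u s ih =>
    rw [Multiset.sum_cons, add_mul, adams_add, ih (fun w hw => hs w (Multiset.mem_cons_of_mem hw)),
      adams_line_mul_sum P j u (hs u (Multiset.mem_cons_self u s)) t ht,
      Multiset.map_cons, Multiset.sum_cons]
    ring

theorem adams_sum_lines (P : PosStructure K) (j : ℕ)
    (s : Multiset K) (hs : ∀ v ∈ s, P.IsLine v) :
    adams P j s.sum = (s.map (· ^ j)).sum := by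
  rw [adams_multiset_sum]
  congr 1
  exact Multiset.map_congr rfl (fun v hv => adams_line P v (hs v hv) j)

end line

section hom

variable {K K' : Type u} [CommRing K] [LambdaOps K] [CommRing K'] [LambdaOps K']

theorem map_lamSeries (f : K →+* K') (hf : IsLambdaHom f) (x : K) :
    PowerSeries.map f (lamSeries x) = lamSeries (f x) := by
  ext k
  simp [lamSeries, coeff_map, hf k x]

theorem map_Lam (f : K →+* K') (hf : IsLambdaHom f) (x : K) :
    PowerSeries.map f (Lam x) = Lam (f x) := by
  rw [Lam, Lam, ← map_lamSeries f hf, ← rescale_map]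
  simp

theorem map_derivative (f : K →+* K') (φ : PowerSeries K) :
    PowerSeries.map f (derivative K φ) = derivative K' (PowerSeries.map f φ) := by
  ext n
  simp [coeff_derivative, coeff_map]

theorem map_Lam_inv (f : K →+* K') (hf : IsLambdaHom f) (x : K) :
    PowerSeries.map f ((Lam x).invOfUnit 1) = (Lam (f x)).invOfUnit 1 := by
  refine inv_unique (a := Lam (f x)) ?_ (Lam_mul_inv (f x))
  rw [← map_Lam f hf, ← map_mul, Lam_mul_inv, map_one]

theorem map_adamsSeries (P : PosStructure K) (P' : PosStructure K') (f : K →+* K')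
    (hf : IsExtension P P' f) (x : K) :
    PowerSeries.map f (adamsSeries P x) = adamsSeries P' (f x) := by
  rw [adamsSeries_eq, adamsSeries_eq, map_sub, map_mul, map_mul, map_X, map_C, map_derivative,
    map_Lam f hf.isLambdaHom, map_Lam_inv f hf.isLambdaHom, hf.aug_comp]
  simp

theorem map_adams (P : PosStructure K) (P' : PosStructure K') (f : K →+* K')
    (hf : IsExtension P P' f) (j : ℕ) (x : K) :
    f (adams P j x) = adams P' j (f x) := by
  rw [adams, adams, ← map_adamsSeries P P' f hf, coeff_map]

theorem isLine_map (P : PosStructure K) (P' : PosStructure K') (f : K →+* K')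
    (hf : IsExtension P P' f) {u : K} (hu : P.IsLine u) : P'.IsLine (f u) :=
  ⟨hf.pos_subset u hu.1, by rw [hf.aug_comp, hu.2]⟩

end hom

section splitting

variable {K : Type u} [CommRing K] [LambdaOps K]

theorem isExtension_comp {K' K'' : Type u} [CommRing K'] [LambdaOps K'] [CommRing K'']
    [LambdaOps K''] (P : PosStructure K) (P' : PosStructure K') (P'' : PosStructure K'')
    (f : K →+* K') (g : K' →+* K'') (hf : IsExtension P P' f) (hg : IsExtension P' P'' g) :
    IsExtension P P'' (g.comp f) where
  isLambdaHom := fun i x => by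
    rw [RingHom.comp_apply, RingHom.comp_apply, hf.isLambdaHom, hg.isLambdaHom]
  injective := hg.injective.comp hf.injective
  aug_comp := fun x => by rw [RingHom.comp_apply, hg.aug_comp, hf.aug_comp]
  pos_subset := fun e he => hg.pos_subset _ (hf.pos_subset e he)

theorem exists_split₂ (P : PosStructure K) (hK : HasSplitting K P) (e d : K) (he : e ∈ P.pos)
    (hd : d ∈ P.pos) :
    ∃ (K' : Type u) (_ : CommRing K') (_ : LambdaOps K') (P' : PosStructure K') (h : K →+* K'),
      IsExtension P P' h ∧ ∃ s t : Multiset K', (∀ u ∈ s, P'.IsLine u) ∧ (∀ u ∈ t, P'.IsLine u) ∧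
        s.sum = h e ∧ t.sum = h d := by
  obtain ⟨C, hC, hsplit⟩ := hK
  obtain ⟨L', hL', f, hf, s, hs, hsum⟩ := hsplit ⟨K, P⟩ hC e he
  obtain ⟨L'', hL'', g, hg, t, ht, htsum⟩ := hsplit L' hL' (f d) (hf.pos_subset d hd)
  refine ⟨L''.carrier, inferInstance, inferInstance, L''.posStr, g.comp f,
    isExtension_comp P L'.posStr L''.posStr f g hf hg, s.map g, t, ?_, ht, ?_, htsum⟩
  · intro u hu
    obtain ⟨v, hv, rfl⟩ := Multiset.mem_map.mp hu
    exact isLine_map L'.posStr L''.posStr g hg (hs v hv)
  · rw [RingHom.comp_apply, ← hsum, map_multiset_sum]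

theorem adams_mul_of_pos (P : PosStructure K) (hK : HasSplitting K P) (j : ℕ) (e d : K)
    (he : e ∈ P.pos) (hd : d ∈ P.pos) :
    adams P j (e * d) = adams P j e * adams P j d := by
  obtain ⟨K', _, _, P', h, hh, s, t, hs, ht, hse, htd⟩ := exists_split₂ P hK e d he hd
  apply hh.injective
  rw [map_adams P P' h hh, map_mul, map_mul, map_adams P P' h hh, map_adams P P' h hh, ← hse, ← htd,
    adams_sum_mul_sum P' j s hs t ht, adams_sum_lines P' j s hs, adams_sum_lines P' j t ht]

theorem adams_mul (P : PosStructure K) (hK : HasSplitting K P) (j : ℕ) (x y : K) :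
    adams P j (x * y) = adams P j x * adams P j y := by
  obtain ⟨e, e', he, he', rfl⟩ := P.exists_sub x
  obtain ⟨d, d', hd, hd', rfl⟩ := P.exists_sub y
  have h1 : (e - e') * (d - d') = e * d - e * d' - e' * d + e' * d' := by ring
  rw [h1, adams_add, adams_sub, adams_sub, adams_sub, adams_sub,
    adams_mul_of_pos P hK j e d he hd, adams_mul_of_pos P hK j e d' he hd',
    adams_mul_of_pos P hK j e' d he' hd, adams_mul_of_pos P hK j e' d' he' hd']
  ring

theorem adams_one (P : PosStructure K) (j : ℕ) : adams P j (1 : K) = 1 := by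
  rw [adams_line P 1 (isLine_one P), one_pow]

theorem adams_adams_of_pos (P : PosStructure K) (hK : HasSplitting K P) (i j : ℕ) (e : K)
    (he : e ∈ P.pos) : adams P i (adams P j e) = adams P (i * j) e := by
  obtain ⟨K', _, _, P', h, hh, s, t, hs, ht, hse, htd⟩ := exists_split₂ P hK e e he he
  apply hh.injective
  rw [map_adams P P' h hh, map_adams P P' h hh, map_adams P P' h hh, ← hse,
    adams_sum_lines P' j s hs, adams_sum_lines P' (i * j) s hs]
  have hs' : ∀ v ∈ s.map (· ^ j), P'.IsLine v := by
    intro v hv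
    obtain ⟨w, hw, rfl⟩ := Multiset.mem_map.mp hv
    exact isLine_pow P' (hs w hw) j
  rw [adams_sum_lines P' i _ hs', Multiset.map_map]
  congr 1
  apply Multiset.map_congr rfl
  intro v _
  simp only [Function.comp_apply]
  rw [← pow_mul, mul_comm]

theorem adams_adams (P : PosStructure K) (hK : HasSplitting K P) (i j : ℕ) (x : K) :
    adams P i (adams P j x) = adams P (i * j) x := by
  obtain ⟨e, e', he, he', rfl⟩ := P.exists_sub x
  rw [adams_sub, adams_sub, adams_sub, adams_adams_of_pos P hK i j e he,
    adams_adams_of_pos P hK i j e' he']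

theorem lamSeries_zero : lamSeries (0 : K) = 1 := by
  have h : lamSeries (0 : K) = lamSeries 0 * lamSeries 0 := by
    conv_lhs => rw [← add_zero (0 : K)]
    exact lamSeries_add 0 0
  have hinv : lamSeries (0 : K) * (lamSeries (0 : K)).invOfUnit 1 = 1 :=
    mul_invOfUnit _ _ (by rw [constantCoeff_lamSeries]; rfl)
  calc lamSeries (0 : K) = lamSeries 0 * (lamSeries (0 : K) * (lamSeries (0 : K)).invOfUnit 1) := by
        rw [hinv, mul_one]
    _ = (lamSeries 0 * lamSeries 0) * (lamSeries (0 : K)).invOfUnit 1 := by ring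
    _ = 1 := by rw [← h, hinv]

theorem lamSeries_multiset_sum (s : Multiset K) :
    lamSeries s.sum = (s.map lamSeries).prod := by
  induction s using Multiset.induction with
  | empty => simp [lamSeries_zero]
  | cons a s ih => simp [lamSeries_add, ih]

theorem map_aug_lamSeries_sum_lines (P : PosStructure K) (s : Multiset K)
    (hs : ∀ v ∈ s, P.IsLine v) :
    PowerSeries.map P.aug (lamSeries s.sum) = (1 + X) ^ (Multiset.card s) := by
  rw [lamSeries_multiset_sum, map_multiset_prod, Multiset.map_map]
  have : s.map (⇑(PowerSeries.map P.aug) ∘ lamSeries) = s.map (fun _ => (1 + X : PowerSeries ℤ)) := by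
    apply Multiset.map_congr rfl
    intro v hv
    simp only [Function.comp_apply]
    rw [lamSeries_line P v (hs v hv), map_add, map_one, map_mul, map_C, map_X, (hs v hv).2]
    simp
  rw [this, Multiset.map_const', Multiset.prod_replicate]

theorem aug_sum_lines (P : PosStructure K) (s : Multiset K) (hs : ∀ v ∈ s, P.IsLine v) :
    P.aug s.sum = (Multiset.card s : ℤ) := by
  rw [map_multiset_sum]
  have : s.map P.aug = s.map (fun _ => (1 : ℤ)) :=
    Multiset.map_congr rfl (fun v hv => (hs v hv).2)
  rw [this, Multiset.map_const', Multiset.sum_replicate]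
  simp

theorem aug_lam_eq_choose (P : PosStructure K) (hK : HasSplitting K P) (e : K) (he : e ∈ P.pos)
    (i : ℕ) : P.aug (LambdaOps.lam i e) = ((P.aug e).toNat.choose i : ℤ) := by
  obtain ⟨K', _, _, P', h, hh, s, t, hs, ht, hse, htd⟩ := exists_split₂ P hK e e he he
  have hcard : P.aug e = (Multiset.card s : ℤ) := by
    rw [← hh.aug_comp, ← hse, aug_sum_lines P' s hs]
  have h1 : P.aug (LambdaOps.lam i e) = coeff i (PowerSeries.map P'.aug (lamSeries s.sum)) := by
    rw [coeff_map, hse, lamSeries, coeff_mk, ← hh.isLambdaHom, hh.aug_comp]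
  rw [h1, map_aug_lamSeries_sum_lines P' s hs, hcard, Int.toNat_natCast]
  have h2 : ((1 + X : PowerSeries ℤ)) ^ (Multiset.card s) =
      (((1 + Polynomial.X : Polynomial ℤ) ^ (Multiset.card s) : Polynomial ℤ) : PowerSeries ℤ) := by
    simp
  rw [h2, Polynomial.coeff_coe, Polynomial.coeff_one_add_X_pow]

end splitting

end Groth.Agent.Lib.Helper48
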