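import Mathlib
import Groth.Agent.Lib.Helper48.H1Conormal1

/-!
# Algebra for the left exactness of the conormal sequence of an lci morphism

`P'` flat over `B'`, `M ↪ B'` an ideal (as a module), `J'` an ideal of `P'` with
`IP' ∩ J'² ⊆ J' · IP'`.  If `z ∈ P' ⊗ M` has `μ(z) ∈ J'²` then `z` dies in `(P'/J') ⊗ M`.
-/

set_option autoImplicit false
universe u

open TensorProduct

namespace Groth.Agent.Lib.Helper48.LciMono

variable {B' P' M : Type u} [CommRing B'] [CommRing P'] [Algebra B' P'] [AddCommGroup M]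
  [Module B' M] (ι : M →ₗ[B'] B')

/-- `p ⊗ m ↦ ι(m) • p`. -/
noncomputable def mu : P' ⊗[B'] M →ₗ[P'] P' :=
  (Algebra.TensorProduct.rid B' P' P').toLinearMap ∘ₗ (ι.baseChange P')

theorem mu_tmul (p : P') (m : M) : mu ι (p ⊗ₜ[B'] m) = algebraMap B' P' (ι m) * p := by
  unfold mu
  rw [LinearMap.comp_apply, LinearMap.baseChange_tmul]
  change (Algebra.TensorProduct.rid B' P' P') (p ⊗ₜ[B'] ι m) = _
  rw [Algebra.TensorProduct.rid_tmul, Algebra.smul_def]

theorem mu_injective [Module.Flat B' P'] (hι : Function.Injective ι) :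
    Function.Injective (mu (P' := P') ι) := by
  unfold mu
  rw [LinearMap.coe_comp]
  refine Function.Injective.comp (AlgEquiv.injective _) ?_
  have h := Module.Flat.lTensor_preserves_injective_linearMap (M := P') ι hι
  intro x y hxy
  apply h
  simpa [LinearMap.baseChange_eq_ltensor] using hxy

theorem range_mu (I : Ideal B') (hrange : LinearMap.range ι = I) :
    LinearMap.range (mu (P' := P') ι) = I.map (algebraMap B' P') := by
  apply le_antisymm
  · rintro _ ⟨z, rfl⟩
    induction z using TensorProduct.induction_on with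
    | zero => rw [map_zero]; exact Submodule.zero_mem _
    | tmul p m =>
      rw [mu_tmul]
      apply Ideal.mul_mem_right
      apply Ideal.mem_map_of_mem
      rw [← hrange]
      exact ⟨m, rfl⟩
    | add x y hx hy => rw [map_add]; exact Submodule.add_mem _ hx hy
  · change Ideal.map _ _ ≤ (LinearMap.range (mu (P' := P') ι) : Ideal P')
    rw [Ideal.map_le_iff_le_comap]
    intro b hb
    rw [← hrange] at hb
    obtain ⟨m, rfl⟩ := hb
    rw [Ideal.mem_comap]
    refine ⟨(1 : P') ⊗ₜ[B'] m, ?_⟩
    rw [mu_tmul, mul_one]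

theorem mem_smul_top_of_mu_mem_sq [Module.Flat B' P'] (hι : Function.Injective ι) (I : Ideal B')
    (hrange : LinearMap.range ι = I) (J' : Ideal P')
    (hH : I.map (algebraMap B' P') ⊓ J' ^ 2 ≤ J' * I.map (algebraMap B' P'))
    (z : P' ⊗[B'] M) (hz : mu ι z ∈ J' ^ 2) :
    z ∈ (J' • ⊤ : Submodule P' (P' ⊗[B'] M)) := by
  have h1 : mu ι z ∈ I.map (algebraMap B' P') := by
    rw [← range_mu ι I hrange]
    exact ⟨z, rfl⟩
  have h2 : mu ι z ∈ J' * I.map (algebraMap B' P') := hH ⟨h1, hz⟩
  have h3 : (J' * I.map (algebraMap B' P') : Ideal P') =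
      Submodule.map (mu (P' := P') ι) (J' • ⊤ : Submodule P' (P' ⊗[B'] M)) := by
    rw [Submodule.map_smul'', Submodule.map_top, range_mu ι I hrange]
    rfl
  rw [h3] at h2
  obtain ⟨z', hz', hzz'⟩ := h2
  have := mu_injective ι hι hzz'
  rw [← this]
  exact hz'

section Quot

variable {C : Type u} [CommRing C] [Algebra B' C] (p : P' →ₐ[B'] C)

theorem rTensor_eq_zero_of_mem_smul_top (z : P' ⊗[B'] M)
    (hz : z ∈ (RingHom.ker p.toRingHom • ⊤ : Submodule P' (P' ⊗[B'] M))) :
    (p.toLinearMap.rTensor M) z = 0 := by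
  refine Submodule.smul_induction_on hz (fun a ha w hw => ?_) (fun x y hx hy => ?_)
  · clear hw
    induction w using TensorProduct.induction_on with
    | zero => rw [smul_zero, map_zero]
    | tmul x m =>
      rw [TensorProduct.smul_tmul', LinearMap.rTensor_tmul, smul_eq_mul]
      change (p (a * x)) ⊗ₜ[B'] m = 0
      have : p a = 0 := ha
      rw [map_mul, this, zero_mul, TensorProduct.zero_tmul]
    | add x y hx hy => rw [smul_add, map_add, hx, hy, add_zero]
  · rw [map_add, hx, hy, add_zero]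

/-- **Main algebra lemma.** -/
theorem rTensor_eq_zero_of_mu_mem_sq [Module.Flat B' P'] (hι : Function.Injective ι)
    (I : Ideal B') (hrange : LinearMap.range ι = I)
    (hH : I.map (algebraMap B' P') ⊓ RingHom.ker p.toRingHom ^ 2 ≤
      RingHom.ker p.toRingHom * I.map (algebraMap B' P'))
    (z : P' ⊗[B'] M) (hz : mu ι z ∈ RingHom.ker p.toRingHom ^ 2) :
    (p.toLinearMap.rTensor M) z = 0 :=
  rTensor_eq_zero_of_mem_smul_top p z
    (mem_smul_top_of_mu_mem_sq ι hι I hrange _ hH z hz)

end Quot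

end Groth.Agent.Lib.Helper48.LciMono
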