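import Groth.Agent.Lib.Helper48.KoszulThick1

/-!
# Ring maps out of affine opens of a universal thickening (general form)
-/

set_option autoImplicit false
universe u

open AlgebraicGeometry CategoryTheory Opposite TopologicalSpace CategoryTheory.Limits

namespace Groth.Agent.Lib.Helper48.LciMono

open Groth.Agent.Lib.Helper48.DerLift

variable {X X' Y : Scheme.{u}} (f : X ⟶ Y) (i : X ⟶ X') (h' : X' ⟶ Y)
  (hu : OmegaSh.IsUnivThickening f i h')
  {W' : X'.Opens} (hW' : IsAffineOpen W')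

include hu hW' in
/-- A first order thickening `Spec Q` of the affine open `i⁻¹W'` over `Y` receives a ring map
from `Γ(X', W')`. -/
theorem exists_sigma' (hU : IsAffineOpen (i ⁻¹ᵁ W')) (Q : CommRingCat.{u})
    (pbar : Q ⟶ Γ(X, i ⁻¹ᵁ W')) (hsurj : Function.Surjective pbar.hom)
    (hker : RingHom.ker pbar.hom ^ 2 = ⊥) (t : Spec Q ⟶ Y)
    (ht : Spec.map pbar ≫ t = hU.fromSpec ≫ f) :
    ∃ σ : Γ(X', W') ⟶ Q, σ ≫ pbar = i.app W' ∧ Spec.map σ ≫ hW'.fromSpec ≫ h' = t := by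
  obtain ⟨hfot, hih, huniv⟩ := hu
  have : IsClosedImmersion i := hfot.1.1
  have hκfs : Spec.map (i.app W') ≫ hW'.fromSpec = hU.fromSpec ≫ i := by
    rw [← IsAffineOpen.SpecMap_appLE_fromSpec i hW' hU (le_refl _), Scheme.Hom.appLE_eq_app]
  have hj : MoreMor.IsFirstOrderThickening (Spec.map pbar) :=
    Groth.Agent.S9732.fot_spec pbar hsurj hker
  obtain ⟨r, ⟨hr₁, hr₂⟩, -⟩ := huniv _ _ (Spec.map pbar) t hU.fromSpec hj ht
  have hrange : Set.range r ⊆ Set.range hW'.fromSpec := by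
    rw [hW'.range_fromSpec]
    rintro _ ⟨y, rfl⟩
    obtain ⟨x, rfl⟩ := hj.1.2.surj y
    have h1 : r ((Spec.map pbar) x) = i (hU.fromSpec x) := by
      have := congrArg (fun g : Spec _ ⟶ X' => g x) hr₁
      simpa using this
    rw [h1]
    have h2 : hU.fromSpec x ∈ (i ⁻¹ᵁ W' : Set X) := by
      rw [← hU.range_fromSpec]
      exact ⟨x, rfl⟩
    exact h2
  have hl : IsOpenImmersion.lift hW'.fromSpec r hrange ≫ hW'.fromSpec = r :=
    IsOpenImmersion.lift_fac _ _ _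
  obtain ⟨σ, hσ⟩ : ∃ σ : Γ(X', W') ⟶ Q,
      Spec.map σ = IsOpenImmersion.lift hW'.fromSpec r hrange := ⟨_, Spec.map_preimage _⟩
  rw [← hσ] at hl
  refine ⟨σ, ?_, ?_⟩
  · apply Spec.map_injective
    rw [← cancel_mono hW'.fromSpec, Spec.map_comp, Category.assoc, hl, hr₁, hκfs]
  · rw [← Category.assoc, hl, hr₂]

include hu hW' in
/-- Two ring maps `Γ(X', W') ⟶ Q` into a first order thickening that agree on the thickened
scheme and over the base are equal. -/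
theorem ringHom_ext_of_univ (Q C₀ : CommRingCat.{u}) (pbar : Q ⟶ C₀)
    (hsurj : Function.Surjective pbar.hom) (hker : RingHom.ker pbar.hom ^ 2 = ⊥)
    (a : Spec C₀ ⟶ X) (β₁ β₂ : Γ(X', W') ⟶ Q)
    (h₁ : Spec.map pbar ≫ Spec.map β₁ ≫ hW'.fromSpec = a ≫ i)
    (h₂ : Spec.map pbar ≫ Spec.map β₂ ≫ hW'.fromSpec = a ≫ i)
    (h₁₂ : Spec.map β₁ ≫ hW'.fromSpec ≫ h' = Spec.map β₂ ≫ hW'.fromSpec ≫ h') : β₁ = β₂ := by
  obtain ⟨hfot, hih, huniv⟩ := hu
  have hj : MoreMor.IsFirstOrderThickening (Spec.map pbar) :=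
    Groth.Agent.S9732.fot_spec pbar hsurj hker
  have w : Spec.map pbar ≫ (Spec.map β₁ ≫ hW'.fromSpec ≫ h') = a ≫ f := by
    rw [← Category.assoc, ← Category.assoc, Category.assoc (Spec.map pbar), h₁, Category.assoc, hih]
  obtain ⟨r, -, hr⟩ := huniv _ _ (Spec.map pbar) (Spec.map β₁ ≫ hW'.fromSpec ≫ h') a hj w
  have e1 := hr (Spec.map β₁ ≫ hW'.fromSpec) ⟨h₁, by rw [Category.assoc]⟩
  have e2 := hr (Spec.map β₂ ≫ hW'.fromSpec) ⟨h₂, by rw [Category.assoc, h₁₂]⟩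
  have e3 : Spec.map β₁ = Spec.map β₂ := by
    rw [← cancel_mono hW'.fromSpec, e1, e2]
  exact Spec.map_injective e3

end Groth.Agent.Lib.Helper48.LciMono
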