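import Mathlib.RingTheory.IsTensorProduct
import Mathlib.RingTheory.Flat.Basic
import Mathlib.RingTheory.Ideal.Maps
import Mathlib.RingTheory.RingHom.Flat

/-!
# Universal semilinear maps (base change in semilinear clothing)

`IsUniv σ β` : the additive map `β : M → N` from an `R`-module to an `S`-module is a universal
`σ`-semilinear map (`σ : R →+* S`), i.e. exhibits `N` as `S ⊗[R] M`.  All modules live over
their own rings; no `Algebra`/`IsScalarTower` instances are needed to *state* things.
-/

set_option autoImplicit false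
universe u

namespace Groth.Agent.Lib.Helper48.SL

variable {R S T : Type u} [CommRing R] [CommRing S] [CommRing T]

/-- `β` is a universal `σ`-semilinear map. -/
structure IsUniv (σ : R →+* S) {M N : Type u} [AddCommGroup M] [Module R M] [AddCommGroup N]
    [Module S N] (β : M →+ N) : Prop where
  smul : ∀ (r : R) (m : M), β (r • m) = σ r • β m
  lift : ∀ (Q : Type u) [AddCommGroup Q] [Module S Q] (l : M →+ Q),
    (∀ (r : R) (m : M), l (r • m) = σ r • l m) → ∃! α : N →ₗ[S] Q, ∀ m, α (β m) = l m

section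

variable {σ : R →+* S} {M N : Type u} [AddCommGroup M] [Module R M] [AddCommGroup N]
  [Module S N] {β : M →+ N}

theorem IsUniv.hom_ext (h : IsUniv σ β) {Q : Type u} [AddCommGroup Q] [Module S Q]
    (α₁ α₂ : N →ₗ[S] Q) (e : ∀ m, α₁ (β m) = α₂ (β m)) : α₁ = α₂ := by
  let l : M →+ Q := α₁.toAddMonoidHom.comp β
  have hl : ∀ (r : R) (m : M), l (r • m) = σ r • l m := fun r m => by
    change α₁ (β (r • m)) = σ r • α₁ (β m)
    rw [h.smul, map_smul]
  obtain ⟨α, -, hu⟩ := h.lift Q l hl
  exact (hu α₁ (fun m => rfl)).trans (hu α₂ (fun m => (e m).symm)).symm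

theorem IsUniv.span_range (h : IsUniv σ β) : Submodule.span S (Set.range β) = ⊤ := by
  set P := Submodule.span S (Set.range β) with hP
  have hmem : ∀ m, β m ∈ P := fun m => Submodule.subset_span ⟨m, rfl⟩
  have h3 : P.mkQ = 0 := h.hom_ext _ _ (fun m => by
    rw [LinearMap.zero_apply]
    exact (Submodule.Quotient.mk_eq_zero P).mpr (hmem m))
  rw [← Submodule.ker_mkQ P, h3, LinearMap.ker_zero]

/-- Two universal semilinear maps out of the same module are identified by any comparison. -/
theorem IsUniv.bijective_of_comm (h : IsUniv σ β) {N' : Type u} [AddCommGroup N'] [Module S N']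
    {β' : M →+ N'} (h' : IsUniv σ β') (φ : N →ₗ[S] N') (hφ : ∀ m, φ (β m) = β' m) :
    Function.Bijective φ := by
  obtain ⟨ψ, hψ, -⟩ := h'.lift N β h.smul
  have h1 : ψ.comp φ = LinearMap.id := h.hom_ext _ _ (fun m => by
    rw [LinearMap.comp_apply, hφ, hψ, LinearMap.id_apply])
  have h2 : φ.comp ψ = LinearMap.id := h'.hom_ext _ _ (fun m => by
    rw [LinearMap.comp_apply, hψ, hφ, LinearMap.id_apply])
  refine ⟨fun x y e => ?_, fun y => ⟨ψ y, congr($h2 y)⟩⟩
  have := congr(ψ $e)
  rwa [← LinearMap.comp_apply, ← LinearMap.comp_apply, h1] at this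

/-- If `φ ∘ β = β' ∘ ρ` with `β'(ρ(M))` spanning, `φ` is surjective. -/
theorem surjective_of_span {N' : Type u} [AddCommGroup N'] [Module S N']
    (φ : N →ₗ[S] N') (G : Set N') (hG : Submodule.span S G = ⊤) (h : ∀ g ∈ G, g ∈ LinearMap.range φ) :
    Function.Surjective φ := by
  rw [← LinearMap.range_eq_top, eq_top_iff, ← hG, Submodule.span_le]
  exact h

end

/-- Composition of universal semilinear maps. -/
theorem IsUniv.comp {σ₁ : R →+* S} {σ₂ : S →+* T} {M N P : Type u} [AddCommGroup M] [Module R M]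
    [AddCommGroup N] [Module S N] [AddCommGroup P] [Module T P] {β₁ : M →+ N} {β₂ : N →+ P}
    (h₁ : IsUniv σ₁ β₁) (h₂ : IsUniv σ₂ β₂) : IsUniv (σ₂.comp σ₁) (β₂.comp β₁) := by
  refine ⟨fun r m => ?_, fun Q _ _ l hl => ?_⟩
  · change β₂ (β₁ (r • m)) = σ₂ (σ₁ r) • β₂ (β₁ m)
    rw [h₁.smul, h₂.smul]
  · letI : Module S Q := Module.compHom Q σ₂
    have hsQ : ∀ (s : S) (q : Q), s • q = σ₂ s • q := fun s q => rfl
    obtain ⟨α₁, hα₁, hu₁⟩ := h₁.lift Q l (fun r m => by rw [hl, hsQ]; rfl)
    obtain ⟨α₂, hα₂, hu₂⟩ := h₂.lift Q α₁.toAddMonoidHom (fun s n => by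
      change α₁ (s • n) = σ₂ s • α₁ n
      rw [map_smul, hsQ])
    refine ⟨α₂, fun m => ?_, fun α hα => ?_⟩
    · change α₂ (β₂ (β₁ m)) = l m
      rw [← hα₁ m]
      exact hα₂ (β₁ m)
    · let α' : N →ₗ[S] Q :=
        { toFun := fun n => α (β₂ n)
          map_add' := fun x y => by rw [map_add, map_add]
          map_smul' := fun s n => by
            rw [h₂.smul, map_smul, RingHom.id_apply, hsQ] }
      have e1 : α' = α₁ := hu₁ α' (fun m => hα m)
      exact hu₂ α (fun n => by
        change α' n = α₁ n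
        rw [e1])

/-- Transport along linear isomorphisms. -/
theorem IsUniv.of_equiv {σ : R →+* S} {M M₀ N N₀ : Type u} [AddCommGroup M] [Module R M]
    [AddCommGroup M₀] [Module R M₀] [AddCommGroup N] [Module S N] [AddCommGroup N₀] [Module S N₀]
    {β : M →+ N} (h : IsUniv σ β) (eM : M₀ ≃ₗ[R] M) (eN : N ≃ₗ[S] N₀) (β₀ : M₀ →+ N₀)
    (hβ₀ : ∀ m, β₀ m = eN (β (eM m))) : IsUniv σ β₀ := by
  refine ⟨fun r m => ?_, fun Q _ _ l hl => ?_⟩
  · rw [hβ₀, hβ₀, map_smul, h.smul, map_smul]
  · let l' : M →+ Q := l.comp eM.symm.toLinearMap.toAddMonoidHom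
    have hl' : ∀ (r : R) (m : M), l' (r • m) = σ r • l' m := fun r m => by
      change l (eM.symm (r • m)) = σ r • l (eM.symm m)
      rw [map_smul, hl]
    obtain ⟨α, hα, hu⟩ := h.lift Q l' hl'
    refine ⟨α.comp eN.symm.toLinearMap, fun m => ?_, fun α₀ hα₀ => ?_⟩
    · rw [hβ₀, LinearMap.comp_apply, LinearEquiv.coe_coe, LinearEquiv.symm_apply_apply, hα]
      change l (eM.symm (eM m)) = l m
      rw [LinearEquiv.symm_apply_apply]
    · have e1 : α₀.comp eN.toLinearMap = α := hu _ (fun m => by
        rw [LinearMap.comp_apply, LinearEquiv.coe_coe]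
        have := hα₀ (eM.symm m)
        rw [hβ₀, LinearEquiv.apply_symm_apply] at this
        exact this)
      rw [← e1]
      ext n
      simp

/-- A base change is a universal semilinear map. -/
theorem IsUniv.of_isBaseChange [Algebra R S] {M N : Type u} [AddCommGroup M] [Module R M]
    [AddCommGroup N] [Module S N] [Module R N] [IsScalarTower R S N] (f : M →ₗ[R] N)
    (hf : IsBaseChange S f) : IsUniv (algebraMap R S) f.toAddMonoidHom := by
  refine ⟨fun r m => ?_, fun Q _ _ l hl => ?_⟩
  · change f (r • m) = algebraMap R S r • f m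
    rw [map_smul, algebraMap_smul]
  · letI : Module R Q := Module.compHom Q (algebraMap R S)
    haveI : IsScalarTower R S Q := IsScalarTower.of_algebraMap_smul fun r q => rfl
    let lR : M →ₗ[R] Q :=
      { toFun := l
        map_add' := map_add l
        map_smul' := fun r m => hl r m }
    refine ⟨hf.lift lR, fun m => hf.lift_eq lR m, fun α hα => ?_⟩
    exact hf.algHom_ext _ _ (fun m => (hα m).trans (hf.lift_eq lR m).symm)

section FlatIdeal

variable [Algebra R S]

/-- `S ⊗[R] J → J·S`. -/
noncomputable def idealTensorMap (J : Ideal R) :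
    TensorProduct R S J →ₗ[S] (J.map (algebraMap R S)) :=
  LinearMap.liftBaseChange S (Algebra.idealMap S J)

theorem idealTensorMap_tmul (J : Ideal R) (s : S) (x : J) :
    ((idealTensorMap (S := S) J (s ⊗ₜ x) : J.map (algebraMap R S)) : S) = s * algebraMap R S x := by
  simp only [idealTensorMap, LinearMap.liftBaseChange_tmul, Submodule.coe_smul, smul_eq_mul]
  rfl

theorem idealTensorMap_surjective (J : Ideal R) :
    Function.Surjective (idealTensorMap (S := S) J) := by
  intro y
  let L : Ideal S := LinearMap.range ((J.map (algebraMap R S)).subtype.comp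
    ((idealTensorMap (S := S) J).restrictScalars S))
  have hle : J.map (algebraMap R S) ≤ L := by
    rw [Ideal.map_le_iff_le_comap]
    intro x hx
    refine ⟨(1 : S) ⊗ₜ (⟨x, hx⟩ : J), ?_⟩
    change ((idealTensorMap (S := S) J ((1 : S) ⊗ₜ (⟨x, hx⟩ : J)) : J.map (algebraMap R S)) : S) = _
    rw [idealTensorMap_tmul, one_mul]
  obtain ⟨t, ht⟩ := hle y.2
  exact ⟨t, Subtype.ext ht⟩

theorem idealTensorMap_injective [Module.Flat R S] (J : Ideal R) :
    Function.Injective (idealTensorMap (S := S) J) := by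
  have h1 : Function.Injective (LinearMap.lTensor S (J.subtype.restrictScalars R)) :=
    Module.Flat.lTensor_preserves_injective_linearMap _ Subtype.val_injective
  have h2 : ∀ t, ((idealTensorMap (S := S) J t : J.map (algebraMap R S)) : S) =
      TensorProduct.rid R S (LinearMap.lTensor S (J.subtype.restrictScalars R) t) := by
    intro t
    induction t using TensorProduct.induction_on with
    | zero => simp
    | tmul s x =>
      rw [idealTensorMap_tmul]
      simp [Algebra.smul_def, mul_comm]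
    | add a b ha hb => simp only [map_add, Submodule.coe_add, ha, hb]
  intro a b e
  apply h1
  apply (TensorProduct.rid R S).injective
  rw [← h2, ← h2, e]

/-- For a flat algebra, `J → J·S` is a base change. -/
theorem isBaseChange_idealMap [Module.Flat R S] (J : Ideal R) :
    IsBaseChange S (Algebra.idealMap S J) :=
  IsBaseChange.of_equiv (LinearEquiv.ofBijective (idealTensorMap (S := S) J)
    ⟨idealTensorMap_injective J, idealTensorMap_surjective J⟩) (fun x => by
      apply Subtype.ext
      change ((idealTensorMap (S := S) J ((1 : S) ⊗ₜ x) : J.map (algebraMap R S)) : S) = _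
      rw [idealTensorMap_tmul, one_mul]
      rfl)

end FlatIdeal

section Main

variable {A A' B' : Type u} [CommRing A] [CommRing A'] [CommRing B']

/-- For a flat ring map `σ`, modules `M ≃ J`, `M' ≃ J·A'` and `ρ : M → M'` inducing `σ`:
`ρ` is a universal `σ`-semilinear map. -/
theorem isUniv_of_flat (σ : A →+* A') (hσ : σ.Flat) (J : Ideal A) (J' : Ideal A')
    (hJ' : J' = J.map σ) {M M' : Type u} [AddCommGroup M] [Module A M] [AddCommGroup M']
    [Module A' M'] (eM : M ≃ₗ[A] J) (eM' : M' ≃ₗ[A'] J') (ρ : M →+ M')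
    (hρ : ∀ m, ((eM' (ρ m) : J') : A') = σ (eM m)) : IsUniv σ ρ := by
  subst hJ'
  algebraize [σ]
  have h0 := IsUniv.of_isBaseChange (Algebra.idealMap A' J) (isBaseChange_idealMap J)
  refine h0.of_equiv eM eM'.symm ρ (fun m => ?_)
  apply eM'.injective
  rw [LinearEquiv.apply_symm_apply]
  apply Subtype.ext
  rw [hρ]
  rfl

/-- Without flatness, the image of `ρ` still spans. -/
theorem span_range_of_map (σ : A →+* A') (J : Ideal A) (J' : Ideal A')
    (hJ' : J' = J.map σ) {M M' : Type u} [AddCommGroup M] [Module A M] [AddCommGroup M']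
    [Module A' M'] (eM : M ≃ₗ[A] J) (eM' : M' ≃ₗ[A'] J') (ρ : M →+ M')
    (hρ : ∀ m, ((eM' (ρ m) : J') : A') = σ (eM m)) :
    Submodule.span A' (Set.range ρ) = ⊤ := by
  subst hJ'
  rw [eq_top_iff]
  intro m' _
  let L : Ideal A' := Submodule.map ((J.map σ).subtype.comp eM'.toLinearMap)
    (Submodule.span A' (Set.range ρ))
  have hle : J.map σ ≤ L := by
    rw [Ideal.map_le_iff_le_comap]
    intro x hx
    refine ⟨ρ (eM.symm ⟨x, hx⟩), Submodule.subset_span ⟨_, rfl⟩, ?_⟩
    change ((eM' (ρ (eM.symm ⟨x, hx⟩)) : J.map σ) : A') = σ x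
    rw [hρ, LinearEquiv.apply_symm_apply]
  obtain ⟨n, hn, hn'⟩ := hle (eM' m').2
  have : n = m' := eM'.injective (Subtype.ext hn')
  rw [← this]
  exact hn

variable (σa : A →+* A') (σ' : A' →+* B') {M M' P P' : Type u} [AddCommGroup M] [Module A M]
  [AddCommGroup M'] [Module A' M'] [AddCommGroup P] [Module B' P] [AddCommGroup P'] [Module B' P']
  (β : M →+ P) (ρ : M →+ M') (β' : M' →+ P')

theorem main_surjective (hβ' : IsUniv σ' β') (hρspan : Submodule.span A' (Set.range ρ) = ⊤)
    (φ : P →ₗ[B'] P') (hφ : ∀ m, φ (β m) = β' (ρ m)) : Function.Surjective φ := by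
  refine surjective_of_span φ (Set.range β') hβ'.span_range ?_
  rintro _ ⟨m', rfl⟩
  have hm' : m' ∈ Submodule.span A' (Set.range ρ) := by rw [hρspan]; trivial
  induction hm' using Submodule.span_induction with
  | mem x hx =>
    obtain ⟨m, rfl⟩ := hx
    exact ⟨β m, hφ m⟩
  | zero => rw [map_zero]; exact Submodule.zero_mem _
  | add x y _ _ hx hy => rw [map_add]; exact Submodule.add_mem _ hx hy
  | smul a x _ hx => rw [hβ'.smul]; exact Submodule.smul_mem _ _ hx

theorem main_bijective (σ : A →+* B') (hσ : σ = σ'.comp σa) (hβ : IsUniv σ β)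
    (hρ : IsUniv σa ρ) (hβ' : IsUniv σ' β')
    (φ : P →ₗ[B'] P') (hφ : ∀ m, φ (β m) = β' (ρ m)) : Function.Bijective φ := by
  subst hσ
  exact hβ.bijective_of_comm (hρ.comp hβ') φ hφ

end Main

end Groth.Agent.Lib.Helper48.SL
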