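import Groth.Agent.Lib.Helper48.LciMono1
import Groth.Agent.Lib.Helper48.LciMono2
import Groth.Agent.Lib.Helper48.Nbhd8
import Groth.Agent.Lib.Helper48.ConormalMap2
import Groth.Agent.Lib.Helper48.Conormal13
import Groth.Agent.Lib.Helper48.SemiUniv
import Groth.Agent.Lib.Helper34.SmoothLift

/-!
# Injectivity of `i^* C_{Y/X} → C_{Z/X}` on sections over a chart (lci case)
-/

set_option autoImplicit false
universe u

open AlgebraicGeometry CategoryTheory Opposite TopologicalSpace CategoryTheory.Limits TensorProduct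

namespace Groth.Agent.Lib.Helper48.LciMono

open Groth.Agent.Lib.Helper48.DerLift Groth.Agent.Lib.Helper48.Conormal
  Groth.Agent.Lib.Helper48.OmegaAff Groth.Agent.Lib.Helper48.Nbhd Groth.Agent.Lib.Helper48.SL
  Groth.Agent.Lib.Helper48.ConormalMap

theorem ker_lift_sq {A C : Type u} [CommRing A] [CommRing C] (p : A →+* C) :
    RingHom.ker (Ideal.Quotient.lift (RingHom.ker p ^ 2) p
      (fun a ha => RingHom.mem_ker.mp (Ideal.pow_le_self two_ne_zero ha))) ^ 2 = ⊥ := by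
  have h1 : RingHom.ker (Ideal.Quotient.lift (RingHom.ker p ^ 2) p
      (fun a ha => RingHom.mem_ker.mp (Ideal.pow_le_self two_ne_zero ha))) =
      (RingHom.ker p).map (Ideal.Quotient.mk (RingHom.ker p ^ 2)) := by
    ext x
    obtain ⟨a, rfl⟩ := Ideal.Quotient.mk_surjective x
    rw [RingHom.mem_ker]
    constructor
    · intro hx
      exact Ideal.mem_map_of_mem _ (RingHom.mem_ker.mpr hx)
    · intro hx
      rw [Ideal.mem_map_iff_of_surjective _ Ideal.Quotient.mk_surjective] at hx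
      obtain ⟨b, hb, hba⟩ := hx
      rw [← hba]
      exact RingHom.mem_ker.mp hb
  rw [h1, ← Ideal.map_pow, Ideal.map_quotient_self]

section Chart

variable {Z Y X Z' Y' : Scheme.{u}} (i : Z ⟶ Y) (b : Y ⟶ X)
  (i' : Z ⟶ Z') (c : Z' ⟶ X) (hZ' : OmegaSh.IsUnivThickening (i ≫ b) i' c)
  (j : Y ⟶ Y') (d : Y' ⟶ X) (hY' : OmegaSh.IsUnivThickening b j d)
  (m : Z' ⟶ Y') (hm₁ : i' ≫ m = i ≫ j) (hm₂ : m ≫ d = c)
  (ψ₁ : (Scheme.Modules.pullback i).obj (Omega.conormal j) ⟶ Omega.conormal i')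
  (hψ₁ : OmegaSh.IsConormalMap i' j m i ψ₁)
  {V' : Y'.Opens} (hV' : IsAffineOpen V') {W' : Z'.Opens} (hW' : IsAffineOpen W')
  (hWV : W' ≤ m ⁻¹ᵁ V')

include hm₁ hWV in
theorem le_aux : i' ⁻¹ᵁ W' ≤ i ⁻¹ᵁ (j ⁻¹ᵁ V') := by
  intro z hz
  have h1 : m (i' z) ∈ V' := hWV hz
  have h2 : m (i' z) = j (i z) := by
    rw [← Scheme.Hom.comp_apply, hm₁, Scheme.Hom.comp_apply]
  rw [h2] at h1
  exact h1

include hm₁ hWV in
theorem le_aux' : i' ⁻¹ᵁ W' ≤ (i ≫ j) ⁻¹ᵁ V' := le_aux i i' j m hm₁ hWV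

include hZ' hY' hm₁ hm₂ hψ₁ hV' hW' in
theorem app_injective_of_chart
    {P : Type u} [CommRing P] (πs : Γ(Y, j ⁻¹ᵁ V') →+* P) (hsm : πs.IsStandardSmooth)
    (π₀ : P →+* Γ(Z, i' ⁻¹ᵁ W')) (hπ₀ : Function.Surjective π₀)
    {n : ℕ} (g : Fin n → P) (hg : CAlgX.IsH1Regular g)
    (hker : RingHom.ker π₀ = Ideal.span (Set.range g))
    (hcomp : π₀.comp πs = (i.appLE (j ⁻¹ᵁ V') (i' ⁻¹ᵁ W') (le_aux i i' j m hm₁ hWV)).hom) :
    Function.Injective (ψ₁.app (i' ⁻¹ᵁ W')) := by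
  classical
  have hciJ : IsClosedImmersion j := hY'.1.1.1
  have hciI' : IsClosedImmersion i' := hZ'.1.1.1
  have hle := le_aux i i' j m hm₁ hWV
  have hle' := le_aux' i i' j m hm₁ hWV
  have hO : IsAffineOpen (i' ⁻¹ᵁ W') := hW'.preimage i'
  have hV : IsAffineOpen (j ⁻¹ᵁ V') := hV'.preimage j
  have hκYsurj : Function.Surjective (j.app V').hom := j.app_surjective V' hV'
  have hκYsq : RingHom.ker (j.app V').hom ^ 2 = ⊥ := ker_app_sq b j d hY' hV'
  have hκZsq : RingHom.ker (i'.app W').hom ^ 2 = ⊥ := ker_app_sq (i ≫ b) i' c hZ' hW'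
  letI algBP : Algebra Γ(Y, j ⁻¹ᵁ V') P := πs.toAlgebra
  haveI : Algebra.IsStandardSmooth Γ(Y, j ⁻¹ᵁ V') P := hsm
  obtain ⟨P', _, _, q, hflat, hq, hqalg, hkerq⟩ :=
    Groth.Agent.Lib.Helper34.SmoothLift.exists_flat_lift (j.app V').hom hκYsurj hκYsq (P := P)
  let p : P' →+* Γ(Z, i' ⁻¹ᵁ W') := π₀.comp q
  have hp : Function.Surjective p := hπ₀.comp hq
  let σ₀ : Γ(Y', V') →+* Γ(Z, i' ⁻¹ᵁ W') := p.comp (algebraMap Γ(Y', V') P')
  have hσ₀ : ∀ b', σ₀ b' = i.appLE (j ⁻¹ᵁ V') (i' ⁻¹ᵁ W') hle (j.app V' b') := by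
    intro b'
    change π₀ (q (algebraMap _ P' b')) = _
    rw [hqalg]
    change (π₀.comp πs) ((j.app V').hom b') = _
    rw [hcomp]
  have hσ₀' : ∀ b', σ₀ b' = (i ≫ j).appLE V' (i' ⁻¹ᵁ W') hle' b' := by
    intro b'
    rw [hσ₀]
    have e1 : j.app V' ≫ i.appLE (j ⁻¹ᵁ V') (i' ⁻¹ᵁ W') hle =
        (i ≫ j).appLE V' (i' ⁻¹ᵁ W') hle' := by
      rw [Scheme.Hom.app_eq_appLE, Scheme.Hom.appLE_comp_appLE]
    exact congr($e1 b')
  letI algBC : Algebra Γ(Y', V') Γ(Z, i' ⁻¹ᵁ W') := σ₀.toAlgebra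
  let pA : P' →ₐ[Γ(Y', V')] Γ(Z, i' ⁻¹ᵁ W') := { p with commutes' := fun _ => rfl }
  have hH : (RingHom.ker (j.app V').hom).map (algebraMap Γ(Y', V') P') ⊓
      RingHom.ker pA.toRingHom ^ 2 ≤
      RingHom.ker pA.toRingHom * (RingHom.ker (j.app V').hom).map (algebraMap Γ(Y', V') P') := by
    rw [← hkerq]
    exact Groth.Agent.Lib.Helper48.H1Conormal.inf_sq_le_mul q hq π₀ g hg hker
  -- the thickening `Q = P'/J'²`
  let Q : CommRingCat.{u} := CommRingCat.of (P' ⧸ RingHom.ker p ^ 2)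
  let mkQ : P' →+* (P' ⧸ RingHom.ker p ^ 2) := Ideal.Quotient.mk _
  let pbar : Q ⟶ Γ(Z, i' ⁻¹ᵁ W') := CommRingCat.ofHom (Ideal.Quotient.lift (RingHom.ker p ^ 2) p
    (fun a ha => RingHom.mem_ker.mp (Ideal.pow_le_self two_ne_zero ha)))
  have hpbarsurj : Function.Surjective pbar.hom := by
    intro y
    obtain ⟨x, rfl⟩ := hp y
    exact ⟨mkQ x, rfl⟩
  have hpbarker : RingHom.ker pbar.hom ^ 2 = ⊥ := ker_lift_sq p
  have hkermul : ∀ x y : Q, pbar.hom x = 0 → pbar.hom y = 0 → x * y = 0 := by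
    intro x y hx hy
    have h1 : x * y ∈ RingHom.ker pbar.hom * RingHom.ker pbar.hom :=
      Ideal.mul_mem_mul (RingHom.mem_ker.mpr hx) (RingHom.mem_ker.mpr hy)
    rw [← pow_two, hpbarker] at h1
    exact (Ideal.mem_bot).mp h1
  let βQ : Γ(Y', V') ⟶ Q := CommRingCat.ofHom (mkQ.comp (algebraMap Γ(Y', V') P'))
  have hβp : βQ ≫ pbar = (i ≫ j).appLE V' (i' ⁻¹ᵁ W') hle' :=
    CommRingCat.hom_ext (RingHom.ext fun b' => hσ₀' b')
  have hfs : Spec.map pbar ≫ Spec.map βQ ≫ hV'.fromSpec = hO.fromSpec ≫ i ≫ j := by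
    rw [← Category.assoc, ← Spec.map_comp, hβp,
      IsAffineOpen.SpecMap_appLE_fromSpec (i ≫ j) hV' hO hle']
  have ht : Spec.map pbar ≫ (Spec.map βQ ≫ hV'.fromSpec ≫ d) = hO.fromSpec ≫ (i ≫ b) := by
    have := congr($hfs ≫ d)
    simp only [Category.assoc] at this
    rw [hY'.2.1] at this
    exact this
  obtain ⟨σ, hσ₁, hσ₂⟩ := exists_sigma' (i ≫ b) i' c hZ' hW' hO Q pbar hpbarsurj hpbarker
    (Spec.map βQ ≫ hV'.fromSpec ≫ d) ht
  have hR6 : βQ = m.appLE V' W' hWV ≫ σ := by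
    refine ringHom_ext_of_univ b j d hY' hV' Q _ pbar hpbarsurj hpbarker (hO.fromSpec ≫ i) βQ
      (m.appLE V' W' hWV ≫ σ) ?_ ?_ ?_
    · rw [hfs, Category.assoc]
    · have e1 : (m.appLE V' W' hWV ≫ σ) ≫ pbar = (i ≫ j).appLE V' (i' ⁻¹ᵁ W') hle' := by
        rw [Category.assoc, hσ₁, Scheme.Hom.app_eq_appLE, Scheme.Hom.appLE_comp_appLE]
        exact appLE_congr hm₁ V' (i' ⁻¹ᵁ W') _
      rw [← Category.assoc, ← Spec.map_comp, e1,
        IsAffineOpen.SpecMap_appLE_fromSpec (i ≫ j) hV' hO hle', Category.assoc]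
    · rw [Spec.map_comp, Category.assoc, ← Category.assoc (Spec.map (m.appLE V' W' hWV)),
        IsAffineOpen.SpecMap_appLE_fromSpec m hV' hW' hWV, Category.assoc, hm₂, hσ₂]
  have hR6' : ∀ x, (mkQ (algebraMap Γ(Y', V') P' x)) = σ (m.appLE V' W' hWV x) := fun x =>
    congr($hR6 x)
  -- modules
  let ιM : Γ(ClSub.idealMod j.ker, V') →ₗ[Γ(Y', V')] Γ(Y', V') := idealModιL j.ker V'
  have hιM : Function.Injective ιM := idealModιL_injective j.ker V'
  have hιM_apply : ∀ t, ιM t = OmegaSh.idealSect j.ker V' t := fun _ => rfl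
  have hrange : LinearMap.range ιM = RingHom.ker (j.app V').hom := by
    ext x
    constructor
    · rintro ⟨t, rfl⟩
      exact idealSect_mem_ker j V' t
    · intro hx
      obtain ⟨t, ht⟩ := exists_idealSect_eq j V' x (RingHom.mem_ker.mp hx)
      exact ⟨t, ht⟩
  let β : Γ(ClSub.idealMod j.ker, V') →+
      Γ((Scheme.Modules.pullback i).obj (Omega.conormal j), i' ⁻¹ᵁ W') :=
    (pullRes i (Omega.conormal j) hle).comp (conormalRes j (le_refl (j ⁻¹ᵁ V')))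
  have hβ0 : IsUniv ((i.appLE (j ⁻¹ᵁ V') (i' ⁻¹ᵁ W') hle).hom.comp
      (j.appLE V' (j ⁻¹ᵁ V') le_rfl).hom) β :=
    IsUniv.comp (isUniv_pullRes j (ClSub.idealMod j.ker) hV hV' le_rfl)
      (isUniv_pullRes i (Omega.conormal j) hO hV hle)
  have hσeq : (i.appLE (j ⁻¹ᵁ V') (i' ⁻¹ᵁ W') hle).hom.comp (j.appLE V' (j ⁻¹ᵁ V') le_rfl).hom =
      algebraMap Γ(Y', V') Γ(Z, i' ⁻¹ᵁ W') := by
    ext b'
    change _ = σ₀ b'
    rw [hσ₀, RingHom.comp_apply]
    congr 1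
    exact congr($(Scheme.Hom.appLE_eq_app j (U := V')) b')
  have hβ : IsUniv (algebraMap Γ(Y', V') Γ(Z, i' ⁻¹ᵁ W')) β := hσeq ▸ hβ0
  have hT : IsUniv (algebraMap Γ(Y', V') Γ(Z, i' ⁻¹ᵁ W'))
      (TensorProduct.mk Γ(Y', V') Γ(Z, i' ⁻¹ᵁ W') Γ(ClSub.idealMod j.ker, V') 1).toAddMonoidHom :=
    IsUniv.of_isBaseChange _ (TensorProduct.isBaseChange _ _ _)
  obtain ⟨γ, hγ, -⟩ := hT.lift _ β hβ.smul
  have hγbij : Function.Bijective γ := IsUniv.bijective_of_comm hT hβ γ hγ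
  have hgood : IsGoodFor i' W' := ⟨hW', hO, i'.app_surjective W' hW'⟩
  have hK : j.ker.comap m ≤ i'.ker := comap_ker_le (i := i') (i' := j) (g := m) (gZ := i) hm₁.symm
  -- the key formula
  have key : ∀ zh : P' ⊗[Γ(Y', V')] Γ(ClSub.idealMod j.ker, V'),
      ∃ s : Γ(ClSub.idealMod i'.ker, W'),
        ψ₁.app (i' ⁻¹ᵁ W') (γ (pA.toLinearMap.rTensor _ zh)) = OmegaSh.conormalSect i' W' s ∧
        σ (OmegaSh.idealSect i'.ker W' s) = mkQ (mu ιM zh) := by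
    intro zh
    induction zh using TensorProduct.induction_on with
    | zero =>
      refine ⟨0, ?_, ?_⟩
      · rw [map_zero, map_zero, map_zero, map_zero]
      · rw [map_zero, map_zero, map_zero, map_zero]
    | tmul p' t =>
      obtain ⟨a', ha'⟩ := i'.app_surjective W' hW' (p p')
      let s₀ := pullIdeal m j.ker i'.ker hK V' t
      have hs₀ : OmegaSh.idealSect i'.ker (m ⁻¹ᵁ V') s₀ = m.app V' (OmegaSh.idealSect j.ker V' t) :=
        idealSect_pullIdeal m j.ker i'.ker hK V' t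
      let sW := (ClSub.idealMod i'.ker).presheaf.map (homOfLE hWV).op s₀
      have hsW : OmegaSh.idealSect i'.ker W' sW = m.appLE V' W' hWV (OmegaSh.idealSect j.ker V' t) := by
        rw [idealSect_map, hs₀]
        rfl
      refine ⟨a' • sW, ?_, ?_⟩
      · rw [LinearMap.rTensor_tmul]
        have e1 : (pA.toLinearMap p') ⊗ₜ[Γ(Y', V')] t =
            p p' • ((TensorProduct.mk Γ(Y', V') Γ(Z, i' ⁻¹ᵁ W') Γ(ClSub.idealMod j.ker, V') 1).toAddMonoidHom t) := by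
          change (p p') ⊗ₜ[Γ(Y', V')] t = p p' • ((1 : Γ(Z, i' ⁻¹ᵁ W')) ⊗ₜ[Γ(Y', V')] t)
          rw [TensorProduct.smul_tmul', smul_eq_mul, mul_one]
        rw [e1, _root_.map_smul, hγ, Scheme.Modules.Hom.app_smul]
        have e2 : ψ₁.app (i' ⁻¹ᵁ W') (β t) = OmegaSh.conormalSect i' W' sW := by
          change ψ₁.app (i' ⁻¹ᵁ W') (pullRes i (Omega.conormal j) hle (conormalRes j le_rfl t)) = _
          rw [conormalRes_refl,
            isConormalMap_pullRes i' j m i ψ₁ hψ₁ V' t s₀ hs₀ (i' ⁻¹ᵁ W') hle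
              (i'.preimage_mono hWV),
            ← conormalRes_map_left i' hWV (le_refl _) s₀, conormalRes_refl]
        rw [e2, conormalSect_smul, ha']
      · rw [idealSect_smul, map_mul, hsW, ← hR6', mu_tmul, map_mul, hιM_apply]
        -- σ a' * mkQ (alg (ι t)) = mkQ (alg (ι t)) * mkQ p'
        have h0 : (σ a' - mkQ p') * mkQ (algebraMap Γ(Y', V') P' (OmegaSh.idealSect j.ker V' t)) = 0 := by
          apply hkermul
          · rw [map_sub, sub_eq_zero]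
            have h1 : pbar.hom (σ a') = i'.app W' a' := congr($hσ₁ a')
            rw [h1, ha']
            rfl
          · have h2 : pbar.hom (mkQ (algebraMap Γ(Y', V') P' (OmegaSh.idealSect j.ker V' t))) =
                σ₀ (OmegaSh.idealSect j.ker V' t) := rfl
            rw [h2, hσ₀, app_idealSect, map_zero]
        rw [sub_mul, sub_eq_zero] at h0
        rw [h0, mul_comm]
    | add x y hx hy =>
      obtain ⟨s₁, h1, h1'⟩ := hx
      obtain ⟨s₂, h2, h2'⟩ := hy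
      refine ⟨s₁ + s₂, ?_, ?_⟩
      · rw [map_add, map_add, map_add, h1, h2, map_add]
      · rw [map_add, map_add, map_add, map_add, h1', h2']
  have hconinj : ∀ s, OmegaSh.conormalSect i' W' s = 0 → s = 0 := by
    intro s hs
    have h1 := idealSect_mem_sq_of_conormalSect_eq_zero i' hgood s hs
    rw [hκZsq] at h1
    apply idealSect_injective i'.ker W'
    rw [map_zero]
    exact (Ideal.mem_bot).mp h1
  rw [injective_iff_map_eq_zero]
  intro x hx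
  obtain ⟨z, rfl⟩ := hγbij.2 x
  obtain ⟨zh, rfl⟩ := LinearMap.rTensor_surjective Γ(ClSub.idealMod j.ker, V')
    (show Function.Surjective pA.toLinearMap from hp) z
  obtain ⟨s, hs₁, hs₂⟩ := key zh
  rw [hx] at hs₁
  have hs0 := hconinj s hs₁.symm
  rw [hs0, map_zero, map_zero] at hs₂
  have h3 : mu ιM zh ∈ RingHom.ker pA.toRingHom ^ 2 :=
    (Ideal.Quotient.eq_zero_iff_mem).mp hs₂.symm
  have h4 := rTensor_eq_zero_of_mu_mem_sq ιM pA hιM _ hrange hH zh h3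
  rw [h4, map_zero]

end Chart

end Groth.Agent.Lib.Helper48.LciMono
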