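import Groth.Agent.Lib.Helper48.LciMono3
import Groth.Agent.Lib.Helper48.KoszulThick3
import Groth.Agent.Lib.Helper43.KoszulH1
import Groth.Agent.Lib.Helper43.RegImmComp
import Groth.Agent.Lib.Helper43.KoszulAtPerf

/-!
# Charts for an lci morphism inside universal thickenings
-/

set_option autoImplicit false
universe u

open AlgebraicGeometry CategoryTheory Opposite TopologicalSpace CategoryTheory.Limits

namespace Groth.Agent.Lib.Helper48.LciMono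

open Groth.Agent.Lib.Helper48.Conormal Groth.Agent.Lib.Helper48.Nbhd

/-- a smooth morphism is standard smooth on small basic opens of any affine chart -/
theorem exists_standardSmooth_basicOpen {Ps Y : Scheme.{u}} (π : Ps ⟶ Y) [Smooth π]
    {V : Y.Opens} (hV : IsAffineOpen V) {W₀ : Ps.Opens} (hW₀ : IsAffineOpen W₀)
    (e : W₀ ≤ π ⁻¹ᵁ V) (x : Ps) (hx : x ∈ W₀) :
    ∃ t : Γ(Ps, W₀), x ∈ Ps.basicOpen t ∧
      (π.appLE V (Ps.basicOpen t) ((Ps.basicOpen_le t).trans e)).hom.IsStandardSmooth := by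
  obtain ⟨s, hs, hP⟩ := (RingHom.smooth_iff_locally_isStandardSmooth).mp (π.smooth_appLE hV hW₀ e)
  have hcov := iSup_basicOpen_of_span_eq_top W₀ s hs
  have hx' : x ∈ ⨆ t ∈ s, Ps.basicOpen t := by rw [hcov]; exact hx
  simp only [Opens.mem_iSup] at hx'
  obtain ⟨t, hts, hxt⟩ := hx'
  refine ⟨t, hxt, ?_⟩
  haveI := hW₀.isLocalization_basicOpen t
  let eq := IsLocalization.algEquiv (Submonoid.powers t) (Localization.Away t)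
    Γ(Ps, Ps.basicOpen t)
  have h1 := RingHom.isStandardSmooth_respectsIso.1 _ eq.toRingEquiv (hP t hts)
  have h2 : eq.toRingEquiv.toRingHom.comp
      ((algebraMap Γ(Ps, W₀) (Localization.Away t)).comp (π.appLE V W₀ e).hom) =
      (π.appLE V (Ps.basicOpen t) ((Ps.basicOpen_le t).trans e)).hom := by
    ext a
    change eq (algebraMap Γ(Ps, W₀) (Localization.Away t) ((π.appLE V W₀ e).hom a)) = _
    rw [AlgEquiv.commutes]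
    have h3 : π.appLE V W₀ e ≫ Ps.presheaf.map (homOfLE (Ps.basicOpen_le t)).op =
        π.appLE V (Ps.basicOpen t) ((Ps.basicOpen_le t).trans e) := Scheme.Hom.appLE_map _ _ _
    exact congr($h3 a)
  rw [← h2]
  exact h1

/-- the ring map `Γ(P, W) → Γ(Z, U.ι ''ᵁ (jP⁻¹W))` and its compatibility with `i`. -/
theorem comp_app_eq {Z Y Ps : Scheme.{u}} (i : Z ⟶ Y) (U : Z.Opens) (jP : (U : Scheme.{u}) ⟶ Ps)
    (π : Ps ⟶ Y) (hjπ : jP ≫ π = U.ι ≫ i) {V : Y.Opens} {W : Ps.Opens} (e : W ≤ π ⁻¹ᵁ V)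
    (hle : U.ι ''ᵁ (jP ⁻¹ᵁ W) ≤ i ⁻¹ᵁ V) (a : Γ(Y, V)) :
    ((jP.app W).hom (π.appLE V W e a) : Γ(Z, U.ι ''ᵁ (jP ⁻¹ᵁ W))) = i.appLE V _ hle a := by
  have h1 : π.appLE V W e ≫ jP.app W = (jP ≫ π).appLE V (jP ⁻¹ᵁ W) (fun x hx => e hx) := by
    rw [Scheme.Hom.app_eq_appLE, Scheme.Hom.appLE_comp_appLE]
  have hle₂ : jP ⁻¹ᵁ W ≤ (U.ι ≫ i) ⁻¹ᵁ V := by
    rw [← hjπ]; exact fun x hx => e hx
  have h2 : (jP ≫ π).appLE V (jP ⁻¹ᵁ W) (fun x hx => e hx) =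
      (U.ι ≫ i).appLE V (jP ⁻¹ᵁ W) hle₂ := appLE_congr hjπ V _ _
  have hle₃ : jP ⁻¹ᵁ W ≤ U.ι ⁻¹ᵁ (U.ι ''ᵁ (jP ⁻¹ᵁ W)) := by
    intro x hx
    exact ⟨x, hx, rfl⟩
  have h3 : (U.ι ≫ i).appLE V (jP ⁻¹ᵁ W) hle₂ =
      i.appLE V (U.ι ''ᵁ (jP ⁻¹ᵁ W)) hle ≫ U.ι.appLE (U.ι ''ᵁ (jP ⁻¹ᵁ W)) (jP ⁻¹ᵁ W) hle₃ := by
    rw [Scheme.Hom.appLE_comp_appLE]
  have h4 : U.ι.appLE (U.ι ''ᵁ (jP ⁻¹ᵁ W)) (jP ⁻¹ᵁ W) hle₃ = 𝟙 _ := by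
    rw [Scheme.Opens.ι_appLE]
    exact Z.presheaf.map_id _
  have h5 := congr($h1 a)
  rw [h2, h3, h4] at h5
  exact h5


section ChartExists

variable {Z Y X Z' Y' : Scheme.{u}} (i : Z ⟶ Y) (b : Y ⟶ X) [FormallyUnramified i]
  [FormallyUnramified b]
  (i' : Z ⟶ Z') (c : Z' ⟶ X) (hZ' : OmegaSh.IsUnivThickening (i ≫ b) i' c)
  (j : Y ⟶ Y') (d : Y' ⟶ X) (hY' : OmegaSh.IsUnivThickening b j d)
  (m : Z' ⟶ Y') (hm₁ : i' ≫ m = i ≫ j)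

include hZ' hY' in
theorem exists_chart (z₀ : Z) (hlci : Synt.IsKoszulAt i z₀) (O₀ : Z.Opens) (hz₀ : z₀ ∈ O₀) :
    ∃ (V' : Y'.Opens) (W' : Z'.Opens) (_ : IsAffineOpen V') (_ : IsAffineOpen W')
      (hWV : W' ≤ m ⁻¹ᵁ V'), z₀ ∈ i' ⁻¹ᵁ W' ∧ i' ⁻¹ᵁ W' ≤ O₀ ∧
      ∃ (P : Type u) (_ : CommRing P) (πs : Γ(Y, j ⁻¹ᵁ V') →+* P)
        (π₀ : P →+* Γ(Z, i' ⁻¹ᵁ W')) (n : ℕ) (g : Fin n → P),
        πs.IsStandardSmooth ∧ Function.Surjective π₀ ∧ CAlgX.IsH1Regular g ∧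
        RingHom.ker π₀ = Ideal.span (Set.range g) ∧
        π₀.comp πs = (i.appLE (j ⁻¹ᵁ V') (i' ⁻¹ᵁ W') (le_aux i i' j m hm₁ hWV)).hom := by
  have hciJ : IsClosedImmersion j := hY'.1.1.1
  have hciI' : IsClosedImmersion i' := hZ'.1.1.1
  obtain ⟨U, Ps, jP, π, hz₀U, -, ⟨himm, hreg⟩, hsm, hjπ⟩ := hlci
  obtain ⟨X₀, hX₀, hzX₀, -⟩ :=
    exists_isAffineOpen_mem_and_subset (x := b (i z₀)) (U := ⊤) trivial
  have hzb : i z₀ ∈ b ⁻¹ᵁ X₀ := hzX₀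
  obtain ⟨V, hV, hzV, hVle⟩ := exists_isAffineOpen_mem_and_subset hzb
  obtain ⟨V', hV', hV'eq⟩ :=
    Groth.Agent.Lib.Helper48.KoszulThick.exists_affine_thick hY' V hV X₀ hX₀ hVle
  subst hV'eq
  have hpt : ∀ u : (U : Scheme.{u}), π (jP u) = i (U.ι u) := fun u => by
    have := congrArg (fun g : (U : Scheme.{u}) ⟶ Y => g u) hjπ
    simpa using this
  let u₀ : (U : Scheme.{u}) := ⟨z₀, hz₀U⟩
  have hu₀ : U.ι u₀ = z₀ := rfl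
  obtain ⟨U₀, hzU₀, hci, rs, hrs, hker⟩ := hreg u₀
  haveI := hci
  obtain ⟨O', hO', hOO'⟩ := jP.isEmbedding.isInducing.isOpen_iff.mp (U.ι ⁻¹ᵁ O₀).isOpen
  let O'' : Ps.Opens := ⟨O', hO'⟩
  have hzO'' : jP u₀ ∈ O'' := by
    have : u₀ ∈ (jP ⁻¹' O' : Set (U : Scheme.{u})) := by rw [hOO']; exact hz₀
    exact this
  have hzπ : jP u₀ ∈ π ⁻¹ᵁ (j ⁻¹ᵁ V') := by
    change π (jP u₀) ∈ j ⁻¹ᵁ V'
    rw [hpt, hu₀]
    exact hzV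
  obtain ⟨W₀, hW₀, hzW₀, hW₀le⟩ := exists_isAffineOpen_mem_and_subset
    (show jP u₀ ∈ U₀.1 ⊓ O'' ⊓ π ⁻¹ᵁ (j ⁻¹ᵁ V') from ⟨⟨hzU₀, hzO''⟩, hzπ⟩)
  have e₀ : W₀ ≤ π ⁻¹ᵁ (j ⁻¹ᵁ V') := hW₀le.trans inf_le_right
  haveI := hsm
  obtain ⟨t, hzt, hst⟩ := exists_standardSmooth_basicOpen π hV hW₀ e₀ _ hzW₀
  have hW : IsAffineOpen (Ps.basicOpen t) := hW₀.basicOpen t
  have hWle : Ps.basicOpen t ≤ U₀.1 :=
    (Ps.basicOpen_le t).trans (hW₀le.trans (inf_le_left.trans inf_le_left))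
  have eW : Ps.basicOpen t ≤ π ⁻¹ᵁ (j ⁻¹ᵁ V') := (Ps.basicOpen_le t).trans e₀
  obtain ⟨hci₁, rs₁, -, hrs₁, hker₁⟩ :=
    Groth.Agent.Lib.Helper43.RegImmComp.chart_restrict .koszul jP U₀.1 U₀.2 rs hrs hker
      (Ps.basicOpen t) hW hWle u₀ hzt
  haveI := hci₁
  have hU₁ : IsAffineOpen (jP ⁻¹ᵁ Ps.basicOpen t) :=
    Groth.Agent.Lib.Helper43.KoszulAtPerf.isAffineOpen_preimage_of_restrict jP _ hW
  have hsurj : Function.Surjective (jP.app (Ps.basicOpen t)).hom :=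
    Groth.Agent.Lib.Helper43.KoszulAtPerf.app_surjective_of_restrict jP _ hW
  have hH1 := Groth.Agent.Lib.Helper43.KoszulH1.isH1Regular_of_isKoszulRegularSeq rs₁ hrs₁
  have hker₁' : RingHom.ker (jP.app (Ps.basicOpen t)).hom = Ideal.span (Set.range rs₁.get) := by
    rw [hker₁, Set.range_list_get]
  obtain ⟨O₁, hO₁aff, hzO₁, hO₁le, hO₁V, π₀, hπ₀surj, hπ₀ker, hπ₀comp⟩ :
    ∃ O₁ : Z.Opens, IsAffineOpen O₁ ∧ z₀ ∈ O₁ ∧ O₁ ≤ O₀ ∧ O₁ ≤ i ⁻¹ᵁ (j ⁻¹ᵁ V') ∧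
      ∃ π₀ : Γ(Ps, Ps.basicOpen t) →+* Γ(Z, O₁), Function.Surjective π₀ ∧
        RingHom.ker π₀ = Ideal.span (Set.range rs₁.get) ∧
        ∀ hle : O₁ ≤ i ⁻¹ᵁ (j ⁻¹ᵁ V'),
          π₀.comp (π.appLE (j ⁻¹ᵁ V') (Ps.basicOpen t) eW).hom =
            (i.appLE (j ⁻¹ᵁ V') O₁ hle).hom := by
    refine ⟨U.ι ''ᵁ (jP ⁻¹ᵁ Ps.basicOpen t), hU₁.image_of_isOpenImmersion U.ι,
      ⟨u₀, hzt, hu₀⟩, ?_, ?_, (jP.app (Ps.basicOpen t)).hom, hsurj, hker₁', ?_⟩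
    · rintro _ ⟨u, hu, rfl⟩
      have h1 : jP u ∈ O'' := (hW₀le ((Ps.basicOpen_le t) hu)).1.2
      have h2 : u ∈ (jP ⁻¹' O' : Set (U : Scheme.{u})) := h1
      rw [hOO'] at h2
      exact h2
    · rintro _ ⟨u, hu, rfl⟩
      have h1 : π (jP u) ∈ j ⁻¹ᵁ V' := e₀ ((Ps.basicOpen_le t) hu)
      rw [hpt] at h1
      exact h1
    · intro hle
      ext a
      exact comp_app_eq i U jP π hjπ eW hle a
  have hO₁X : O₁ ≤ (i ≫ b) ⁻¹ᵁ X₀ := fun z hz => hVle (hO₁V hz)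
  haveI : FormallyUnramified (i ≫ b) :=
    MorphismProperty.comp_mem _ _ _ (inferInstance : FormallyUnramified i)
      (inferInstance : FormallyUnramified b)
  obtain ⟨W', hW', hW'eq⟩ :=
    Groth.Agent.Lib.Helper48.KoszulThick.exists_affine_thick hZ' O₁ hO₁aff X₀ hX₀ hO₁X
  subst hW'eq
  have hWV : W' ≤ m ⁻¹ᵁ V' := by
    intro w hw
    obtain ⟨z, rfl⟩ := hZ'.1.1.2.surj w
    have h1 : z ∈ i' ⁻¹ᵁ W' := hw
    have h2 := hO₁V h1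
    change m (i' z) ∈ V'
    rw [← Scheme.Hom.comp_apply, hm₁, Scheme.Hom.comp_apply]
    exact h2
  exact ⟨V', W', hV', hW', hWV, hzO₁, hO₁le, Γ(Ps, Ps.basicOpen t), inferInstance,
    (π.appLE (j ⁻¹ᵁ V') (Ps.basicOpen t) eW).hom, π₀, _, rs₁.get, hst, hπ₀surj, hH1, hπ₀ker,
    hπ₀comp _⟩

include hZ' hY' hm₁ in
/-- **Left exactness**: `i^* C_{Y/X} ⟶ C_{Z/X}` is a monomorphism when `i` is lci. -/
theorem mono_of_lci (hm₂ : m ≫ d = c)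
    (ψ₁ : (Scheme.Modules.pullback i).obj (Omega.conormal j) ⟶ Omega.conormal i')
    (hψ₁ : OmegaSh.IsConormalMap i' j m i ψ₁) (hlci : ∀ z : Z, Synt.IsKoszulAt i z) :
    Mono ψ₁ := by
  let 𝓑 : Set Z.Opens := {O | Function.Injective (ψ₁.app O)}
  refine mono_of_basis ψ₁ 𝓑 ?_ (fun O hO => hO)
  rw [Opens.isBasis_iff_nbhd]
  intro O₀ z₀ hz₀
  obtain ⟨V', W', hV', hW', hWV, hz, hle, P, _, πs, π₀, n, g, h1, h2, h3, h4, h5⟩ :=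
    exists_chart i b i' c hZ' j d hY' m hm₁ z₀ (hlci z₀) O₀ hz₀
  exact ⟨i' ⁻¹ᵁ W', app_injective_of_chart i b i' c hZ' j d hY' m hm₁ hm₂ ψ₁ hψ₁ hV' hW' hWV
    πs h1 π₀ h2 g h3 h4 h5, hz, hle⟩

end ChartExists

end Groth.Agent.Lib.Helper48.LciMono
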