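import Mathlib.RingTheory.Extension.Cotangent.Basic
import Mathlib.RingTheory.Smooth.Basic

/-!
# The class of a constant in `H¹(L_{B/A})`
-/

set_option autoImplicit false
universe u

namespace Groth.Agent.Lib.Helper48.NL

open Algebra TensorProduct

section RingLevel

variable {A B : Type u} [CommRing A] [CommRing B] [Algebra A B]

theorem algebraMap_mem_ker (P : Extension.{u} A B) {a : A} (ha : algebraMap A B a = 0) :
    algebraMap A P.Ring a ∈ P.ker := by
  rw [RingHom.mem_ker, ← IsScalarTower.algebraMap_apply, ha]

theorem mk_algebraMap_mem (P : Extension.{u} A B) {a : A} (ha : algebraMap A B a = 0) :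
    Extension.Cotangent.mk ⟨algebraMap A P.Ring a, algebraMap_mem_ker P ha⟩ ∈
      LinearMap.ker P.cotangentComplex := by
  rw [LinearMap.mem_ker, Extension.cotangentComplex_mk]
  have : KaehlerDifferential.D A P.Ring (algebraMap A P.Ring a) = 0 :=
    Derivation.map_algebraMap _ _
  change (1 : B) ⊗ₜ[P.Ring] KaehlerDifferential.D A P.Ring (algebraMap A P.Ring a) = 0
  rw [this, tmul_zero]

/-- The class in `H¹(L_P)` of an element of `A` mapping to zero in `B`. -/
noncomputable def constClassExt (P : Extension.{u} A B) :
    RingHom.ker (algebraMap A B) →+ P.H1Cotangent where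
  toFun a := ⟨Extension.Cotangent.mk
    ⟨algebraMap A P.Ring a.1, algebraMap_mem_ker P (RingHom.mem_ker.mp a.2)⟩,
    mk_algebraMap_mem P (RingHom.mem_ker.mp a.2)⟩
  map_zero' := by
    apply Extension.h1Cotangentι_ext
    change Extension.Cotangent.mk _ = 0
    rw [← map_zero Extension.Cotangent.mk]
    congr 1
    exact Subtype.ext (map_zero _)
  map_add' a b := by
    apply Extension.h1Cotangentι_ext
    change Extension.Cotangent.mk _ = Extension.Cotangent.mk _ + Extension.Cotangent.mk _
    rw [← map_add Extension.Cotangent.mk]
    congr 1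
    exact Subtype.ext (map_add _ _ _)

theorem constClassExt_val (P : Extension.{u} A B) (a : RingHom.ker (algebraMap A B)) :
    (constClassExt P a).1 = Extension.Cotangent.mk
      ⟨algebraMap A P.Ring a.1, algebraMap_mem_ker P (RingHom.mem_ker.mp a.2)⟩ := rfl

theorem constClassExt_smul (P : Extension.{u} A B) (r : A) (a : RingHom.ker (algebraMap A B)) :
    constClassExt P (r • a) = algebraMap A B r • constClassExt P a := by
  apply Extension.h1Cotangentι_ext
  rw [Extension.H1Cotangent.val_smul, constClassExt_val, constClassExt_val]
  have h1 : algebraMap A B r = algebraMap P.Ring B (algebraMap A P.Ring r) :=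
    IsScalarTower.algebraMap_apply A P.Ring B r
  rw [h1, algebraMap_smul, ← LinearMap.map_smul]
  congr 1
  apply Subtype.ext
  change algebraMap A P.Ring (r * a.1) = algebraMap A P.Ring r * algebraMap A P.Ring a.1
  rw [map_mul]

section Naturality

variable {A' B' : Type u} [CommRing A'] [CommRing B'] [Algebra A' B'] [Algebra A A']
  [Algebra B B'] [Algebra A B'] [IsScalarTower A A' B'] [IsScalarTower A B B']

theorem algebraMap_mem_ker' (a : RingHom.ker (algebraMap A B)) :
    algebraMap A A' a.1 ∈ RingHom.ker (algebraMap A' B') := by
  rw [RingHom.mem_ker, ← IsScalarTower.algebraMap_apply, IsScalarTower.algebraMap_apply A B B',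
    RingHom.mem_ker.mp a.2, map_zero]

theorem map_constClassExt {P : Extension.{u} A B} {P' : Extension.{u} A' B'} (f : P.Hom P')
    (a : RingHom.ker (algebraMap A B)) :
    Extension.H1Cotangent.map f (constClassExt P a) =
      constClassExt P' ⟨algebraMap A A' a.1, algebraMap_mem_ker' a⟩ := by
  apply Extension.h1Cotangentι_ext
  rw [Extension.H1Cotangent.map_apply_coe, constClassExt_val, constClassExt_val,
    Extension.Cotangent.map_mk]
  congr 1
  apply Subtype.ext
  change f.toAlgHom (algebraMap A P.Ring a.1) = algebraMap A' P'.Ring (algebraMap A A' a.1)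
  rw [← f.toRingHom_algebraMap]
  rfl

end Naturality

/-- The class in `H¹(L_{B/A})` of an element of `A` mapping to zero in `B`. -/
noncomputable def constClass (A B : Type u) [CommRing A] [CommRing B] [Algebra A B] :
    RingHom.ker (algebraMap A B) →+ Algebra.H1Cotangent A B :=
  constClassExt (Generators.self A B).toExtension

theorem constClass_smul (r : A) (a : RingHom.ker (algebraMap A B)) :
    constClass A B (r • a) = algebraMap A B r • constClass A B a :=
  constClassExt_smul _ r a

section Naturality

variable {A' B' : Type u} [CommRing A'] [CommRing B'] [Algebra A' B'] [Algebra A A']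
  [Algebra B B'] [Algebra A B'] [IsScalarTower A A' B'] [IsScalarTower A B B']

theorem map_constClass (a : RingHom.ker (algebraMap A B)) :
    Algebra.H1Cotangent.map A A' B B' (constClass A B a) =
      constClass A' B' ⟨algebraMap A A' a.1, algebraMap_mem_ker' a⟩ :=
  map_constClassExt _ a

end Naturality

end RingLevel

end Groth.Agent.Lib.Helper48.NL
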