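import Groth.Agent.Lib.Helper48.NL1
import Groth.Agent.Lib.Helper48.Conormal13
import Groth.Prelude.Def_SheafNL

/-!
# The comparison map `Γ(C_{Z/X}, U) → H¹(L_{Γ(Z,U)/Γ(X,V)})` on chart pairs
-/

set_option autoImplicit false
set_option linter.style.haveILetI false
universe u

open AlgebraicGeometry CategoryTheory Opposite TopologicalSpace CategoryTheory.Limits

namespace Groth.Agent.Lib.Helper48.NL

open Groth.Agent.Lib.Helper48.OmegaAff Groth.Agent.Lib.Helper48.Conormal Scheme.Modules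

variable {Z X : Scheme.{u}} (i : Z ⟶ X)

/-- `H¹(L_{Γ(Z,U)/Γ(X,V)})` for `U ≤ i⁻¹V`. -/
abbrev H1 {U : Z.Opens} {V : X.Opens} (e : U ≤ i ⁻¹ᵁ V) : Type u :=
  @Algebra.H1Cotangent Γ(X, V) Γ(Z, U) _ _ (i.appLE V U e).hom.toAlgebra

theorem appLE_idealSect {U : Z.Opens} {V : X.Opens} (e : U ≤ i ⁻¹ᵁ V)
    (s : Γ(ClSub.idealMod i.ker, V)) : i.appLE V U e (OmegaSh.idealSect i.ker V s) = 0 := by
  rw [Scheme.Hom.appLE]
  change Z.presheaf.map (homOfLE e).op (i.app V (OmegaSh.idealSect i.ker V s)) = 0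
  rw [app_idealSect, map_zero]

theorem idealSect_mem_kerLE {U : Z.Opens} {V : X.Opens} (e : U ≤ i ⁻¹ᵁ V)
    (s : Γ(ClSub.idealMod i.ker, V)) :
    OmegaSh.idealSect i.ker V s ∈
      RingHom.ker (@algebraMap Γ(X, V) Γ(Z, U) _ _ (i.appLE V U e).hom.toAlgebra) :=
  RingHom.mem_ker.mpr (appLE_idealSect i e s)

/-- `s ↦ [idealSect s]`. -/
noncomputable def lamAux {U : Z.Opens} {V : X.Opens} (e : U ≤ i ⁻¹ᵁ V) :
    Γ(ClSub.idealMod i.ker, V) →+ H1 i e :=
  letI := (i.appLE V U e).hom.toAlgebra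
  { toFun := fun s => constClass Γ(X, V) Γ(Z, U)
      ⟨OmegaSh.idealSect i.ker V s, idealSect_mem_kerLE i e s⟩
    map_zero' := by
      rw [← map_zero (constClass Γ(X, V) Γ(Z, U))]
      congr 1
      exact Subtype.ext (map_zero _)
    map_add' := fun s t => by
      rw [← map_add (constClass Γ(X, V) Γ(Z, U))]
      congr 1
      exact Subtype.ext (map_add _ _ _) }

theorem lamAux_apply {U : Z.Opens} {V : X.Opens} (e : U ≤ i ⁻¹ᵁ V)
    (s : Γ(ClSub.idealMod i.ker, V)) :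
    lamAux i e s = @constClass Γ(X, V) Γ(Z, U) _ _ (i.appLE V U e).hom.toAlgebra
      ⟨OmegaSh.idealSect i.ker V s, idealSect_mem_kerLE i e s⟩ := rfl

theorem lamAux_smul {U : Z.Opens} {V : X.Opens} (e : U ≤ i ⁻¹ᵁ V) (a : Γ(X, V))
    (s : Γ(ClSub.idealMod i.ker, V)) :
    lamAux i e (a • s) = i.appLE V U e a • lamAux i e s := by
  letI := (i.appLE V U e).hom.toAlgebra
  rw [lamAux_apply, lamAux_apply]
  have h := constClass_smul (A := Γ(X, V)) (B := Γ(Z, U)) a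
    ⟨OmegaSh.idealSect i.ker V s, idealSect_mem_kerLE i e s⟩
  rw [← show algebraMap Γ(X, V) Γ(Z, U) a = i.appLE V U e a from rfl, ← h]
  congr 1
  exact Subtype.ext (idealSect_smul i.ker V a s)

variable {U : Z.Opens} {V : X.Opens} (hU : IsAffineOpen U) (hV : IsAffineOpen V)
  (e : U ≤ i ⁻¹ᵁ V)

/-- The comparison map `Γ(C_{Z/X}, U) → H¹(L_{Γ(Z,U)/Γ(X,V)})`. -/
noncomputable def lam : Γ(Omega.conormal i, U) →ₗ[Γ(Z, U)] H1 i e :=
  (existsUnique_of_semilinear_conormalRes i hU hV e (H1 i e) (lamAux i e)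
    (lamAux_smul i e)).choose

theorem lam_conormalRes (s : Γ(ClSub.idealMod i.ker, V)) :
    lam i hU hV e (conormalRes i e s) = lamAux i e s :=
  (existsUnique_of_semilinear_conormalRes i hU hV e (H1 i e) (lamAux i e)
    (lamAux_smul i e)).choose_spec.1 s

theorem chartRes_lamAux {U U' : Z.Opens} {V V' : X.Opens} (hU : IsAffineOpen U)
    (hU' : IsAffineOpen U') (hV : IsAffineOpen V) (hV' : IsAffineOpen V')
    (e : U ≤ i ⁻¹ᵁ V) (e' : U' ≤ i ⁻¹ᵁ V') (hUU : U' ≤ U) (hVV : V' ≤ V)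
    (s : Γ(ClSub.idealMod i.ker, V)) :
    NLCx.chartRes (f := i) (U := ⟨U, hU⟩) (U' := ⟨U', hU'⟩) (V := ⟨V, hV⟩) (V' := ⟨V', hV'⟩)
      e e' hUU hVV (lamAux i e s) =
      lamAux i e' ((ClSub.idealMod i.ker).presheaf.map (homOfLE hVV).op s) := by
  rw [lamAux_apply, lamAux_apply]
  unfold NLCx.chartRes
  dsimp only
  rw [LinearMap.toAddMonoidHom_coe]
  letI := (i.appLE V U e).hom.toAlgebra
  letI := (i.appLE V' U' e').hom.toAlgebra
  letI := (i.appLE V U' (hUU.trans e)).hom.toAlgebra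
  letI := (Z.presheaf.map (homOfLE hUU).op).hom.toAlgebra
  letI := (X.presheaf.map (homOfLE hVV).op).hom.toAlgebra
  haveI : IsScalarTower Γ(X, V) Γ(X, V') Γ(Z, U') :=
    IsScalarTower.of_algebraMap_eq' (by
      change (i.appLE _ _ _).hom = (i.appLE _ _ _).hom.comp (X.presheaf.map _).hom
      rw [← CommRingCat.hom_comp, Scheme.Hom.map_appLE])
  haveI : IsScalarTower Γ(X, V) Γ(Z, U) Γ(Z, U') :=
    IsScalarTower.of_algebraMap_eq' (by
      change (i.appLE _ _ _).hom = (Z.presheaf.map _).hom.comp (i.appLE _ _ _).hom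
      rw [← CommRingCat.hom_comp, Scheme.Hom.appLE_map])
  refine (map_constClass (A := Γ(X, V)) (B := Γ(Z, U)) (A' := Γ(X, V')) (B' := Γ(Z, U')) _).trans ?_
  congr 1
  apply Subtype.ext
  exact (idealSect_map i.ker hVV s).symm

theorem chartRes_smul {U U' : Z.Opens} {V V' : X.Opens} (hU : IsAffineOpen U)
    (hU' : IsAffineOpen U') (hV : IsAffineOpen V) (hV' : IsAffineOpen V')
    (e : U ≤ i ⁻¹ᵁ V) (e' : U' ≤ i ⁻¹ᵁ V') (hUU : U' ≤ U) (hVV : V' ≤ V)
    (b : Γ(Z, U)) (x : H1 i e) :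
    NLCx.chartRes (f := i) (U := ⟨U, hU⟩) (U' := ⟨U', hU'⟩) (V := ⟨V, hV⟩) (V' := ⟨V', hV'⟩)
      e e' hUU hVV (b • x) =
      (Z.presheaf.map (homOfLE hUU).op b • NLCx.chartRes (f := i) (U := ⟨U, hU⟩) (U' := ⟨U', hU'⟩)
        (V := ⟨V, hV⟩) (V' := ⟨V', hV'⟩) e e' hUU hVV x : H1 i e') := by
  unfold NLCx.chartRes
  dsimp only
  rw [LinearMap.toAddMonoidHom_coe]
  letI := (i.appLE V U e).hom.toAlgebra
  letI := (i.appLE V' U' e').hom.toAlgebra
  letI := (i.appLE V U' (hUU.trans e)).hom.toAlgebra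
  letI := (Z.presheaf.map (homOfLE hUU).op).hom.toAlgebra
  letI := (X.presheaf.map (homOfLE hVV).op).hom.toAlgebra
  haveI : IsScalarTower Γ(X, V) Γ(X, V') Γ(Z, U') :=
    IsScalarTower.of_algebraMap_eq' (by
      change (i.appLE _ _ _).hom = (i.appLE _ _ _).hom.comp (X.presheaf.map _).hom
      rw [← CommRingCat.hom_comp, Scheme.Hom.map_appLE])
  haveI : IsScalarTower Γ(X, V) Γ(Z, U) Γ(Z, U') :=
    IsScalarTower.of_algebraMap_eq' (by
      change (i.appLE _ _ _).hom = (Z.presheaf.map _).hom.comp (i.appLE _ _ _).hom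
      rw [← CommRingCat.hom_comp, Scheme.Hom.appLE_map])
  refine ((Algebra.H1Cotangent.map Γ(X, V) Γ(X, V') Γ(Z, U) Γ(Z, U')).map_smul b x).trans ?_
  exact (algebraMap_smul Γ(Z, U') b _).symm


/-- Naturality of `lam` with respect to restriction to a nested chart pair. -/
theorem lam_res {U U' : Z.Opens} {V V' : X.Opens} (hU : IsAffineOpen U)
    (hU' : IsAffineOpen U') (hV : IsAffineOpen V) (hV' : IsAffineOpen V')
    (e : U ≤ i ⁻¹ᵁ V) (e' : U' ≤ i ⁻¹ᵁ V') (hUU : U' ≤ U) (hVV : V' ≤ V)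
    (m : Γ(Omega.conormal i, U)) :
    lam i hU' hV' e' ((Omega.conormal i).presheaf.map (homOfLE hUU).op m) =
      NLCx.chartRes (f := i) (U := ⟨U, hU⟩) (U' := ⟨U', hU'⟩) (V := ⟨V, hV⟩) (V' := ⟨V', hV'⟩)
        e e' hUU hVV (lam i hU hV e m) := by
  have hm : m ∈ Submodule.span Γ(Z, U) (Set.range (conormalRes i e)) := by
    rw [span_range_conormalRes i hU hV e]; trivial
  induction hm using Submodule.span_induction with
  | mem y hy =>
    obtain ⟨s, rfl⟩ := hy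
    rw [conormalRes_map_right, lam_conormalRes, chartRes_lamAux, ← lam_conormalRes i hU' hV' e',
      conormalRes_map_left]
  | zero => rw [map_zero, map_zero, map_zero, map_zero]
  | add y z _ _ hy hz => rw [map_add, map_add, map_add, map_add, hy, hz]
  | smul r y _ hy =>
    rw [(lam i hU hV e).map_smul, chartRes_smul, ← hy, ← (lam i hU' hV' e').map_smul,
      Scheme.Modules.map_smul]

end Groth.Agent.Lib.Helper48.NL
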