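import Groth.Agent.Lib.Helper48.NL2

/-!
# Bijectivity of the comparison map on special chart pairs
-/

set_option autoImplicit false
set_option linter.style.haveILetI false
universe u

open AlgebraicGeometry CategoryTheory Opposite TopologicalSpace CategoryTheory.Limits

namespace Groth.Agent.Lib.Helper48.NL

open Groth.Agent.Lib.Helper48.OmegaAff Groth.Agent.Lib.Helper48.Conormal Scheme.Modules

variable {Z X : Scheme.{u}} (i : Z ⟶ X) [QuasiCompact i]

theorem cotangentToConormal_injective {V : X.Opens} (hV : IsGoodFor i V) :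
    Function.Injective (cotangentToConormal i V) := by
  rw [injective_iff_map_eq_zero]
  intro y hy
  obtain ⟨x, rfl⟩ := Ideal.toCotangent_surjective _ y
  rw [cotangentToConormal_toCotangent] at hy
  have h1 := idealSect_mem_sq_of_conormalSect_eq_zero i hV _ hy
  rw [idealSect_sectOf] at h1
  exact (Ideal.toCotangent_eq_zero _ _).mpr h1

open Algebra in
theorem lam_bijective_of_good {V : X.Opens} (hV : IsAffineOpen V) (g : Γ(X, V))
    (hg : IsGoodFor i (X.basicOpen g)) :
    Function.Bijective (lam i hg.2.1 hV (i.preimage_mono (X.basicOpen_le g))) := by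
  have e' : i ⁻¹ᵁ X.basicOpen g ≤ i ⁻¹ᵁ V := i.preimage_mono (X.basicOpen_le g)
  letI algAA' : Algebra Γ(X, V) Γ(X, X.basicOpen g) :=
    (X.presheaf.map (homOfLE (X.basicOpen_le g)).op).hom.toAlgebra
  letI algA'B' : Algebra Γ(X, X.basicOpen g) Γ(Z, i ⁻¹ᵁ X.basicOpen g) :=
    (i.app (X.basicOpen g)).hom.toAlgebra
  letI algAB' : Algebra Γ(X, V) Γ(Z, i ⁻¹ᵁ X.basicOpen g) :=
    (i.appLE V (i ⁻¹ᵁ X.basicOpen g) e').hom.toAlgebra
  haveI : IsScalarTower Γ(X, V) Γ(X, X.basicOpen g) Γ(Z, i ⁻¹ᵁ X.basicOpen g) :=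
    IsScalarTower.of_algebraMap_eq' (by
      change (i.appLE _ _ _).hom = (i.app _).hom.comp (X.presheaf.map _).hom
      rw [← CommRingCat.hom_comp, ← Scheme.Hom.appLE_eq_app, Scheme.Hom.map_appLE])
  haveI : IsLocalization.Away g Γ(X, X.basicOpen g) := hV.isLocalization_basicOpen g
  haveI : FormallySmooth Γ(X, V) Γ(X, X.basicOpen g) :=
    FormallySmooth.of_isLocalization (Submonoid.powers g)
  have hsurj : Function.Surjective
      (algebraMap Γ(X, X.basicOpen g) Γ(Z, i ⁻¹ᵁ X.basicOpen g)) := hg.2.2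
  let Q : Extension.{u} Γ(X, V) Γ(Z, i ⁻¹ᵁ X.basicOpen g) :=
    { Ring := Γ(X, X.basicOpen g)
      σ := fun x => (hsurj x).choose
      algebraMap_σ := fun x => (hsurj x).choose_spec }
  let P : Extension.{u} Γ(X, V) Γ(Z, i ⁻¹ᵁ X.basicOpen g) :=
    (Generators.self Γ(X, V) Γ(Z, i ⁻¹ᵁ X.basicOpen g)).toExtension
  haveI : FormallySmooth Γ(X, V) Q.Ring :=
    inferInstanceAs (FormallySmooth Γ(X, V) Γ(X, X.basicOpen g))
  haveI : FormallySmooth Γ(X, V) P.Ring :=
    inferInstanceAs (FormallySmooth Γ(X, V) (MvPolynomial Γ(Z, i ⁻¹ᵁ X.basicOpen g) Γ(X, V)))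
  let f : P.Hom Q := Extension.defaultHom _ _ Q
  have hΦ : Function.Bijective (Extension.H1Cotangent.map f) := by
    have h1 : ∀ x, Extension.H1Cotangent.equivOfFormallySmooth P Q x =
        Extension.H1Cotangent.map f x :=
      fun x => Extension.H1Cotangent.equivOfFormallySmooth_apply f x
    have h2 : (Extension.H1Cotangent.map f : P.H1Cotangent → Q.H1Cotangent) =
        Extension.H1Cotangent.equivOfFormallySmooth P Q := funext fun x => (h1 x).symm
    rw [h2]
    exact (Extension.H1Cotangent.equivOfFormallySmooth P Q).bijective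
  let μ : H1 i e' → Γ(Omega.conormal i, i ⁻¹ᵁ X.basicOpen g) := fun x =>
    cotangentToConormal i (X.basicOpen g) ((Extension.H1Cotangent.map f x).1.val)
  have hμ : ∀ x, μ x =
    cotangentToConormal i (X.basicOpen g) ((Extension.H1Cotangent.map f x).1.val) := fun _ => rfl
  have hμ_inj : Function.Injective μ := by
    intro x y hxy
    have h1 := cotangentToConormal_injective i hg hxy
    have h2 : (Extension.H1Cotangent.map f x).1 = (Extension.H1Cotangent.map f y).1 :=
      Extension.Cotangent.ext h1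
    exact hΦ.1 (Extension.h1Cotangentι_ext _ _ h2)
  have hμ_add : ∀ x y, μ (x + y) = μ x + μ y := by
    intro x y
    rw [hμ, hμ, hμ, map_add, Extension.H1Cotangent.val_add, Extension.Cotangent.val_add, map_add]
  have hμ_smul : ∀ (b : Γ(Z, i ⁻¹ᵁ X.basicOpen g)) x, μ (b • x) = b • μ x := by
    intro b x
    rw [hμ, hμ, LinearMap.map_smul, Extension.H1Cotangent.val_smul, Extension.Cotangent.val_smul,
      map_smulₛₗ]
    congr 1
    exact Q.algebraMap_σ b
  have hμ_gen : ∀ s : Γ(ClSub.idealMod i.ker, V), μ (lamAux i e' s) = conormalRes i e' s := by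
    intro s
    rw [hμ, lamAux_apply]
    have h1 := map_constClassExt f (A := Γ(X, V)) (A' := Γ(X, V))
      (B := Γ(Z, i ⁻¹ᵁ X.basicOpen g)) (B' := Γ(Z, i ⁻¹ᵁ X.basicOpen g))
      ⟨OmegaSh.idealSect i.ker V s, idealSect_mem_kerLE i e' s⟩
    change cotangentToConormal i (X.basicOpen g) ((Extension.H1Cotangent.map f
      (constClassExt P ⟨OmegaSh.idealSect i.ker V s, idealSect_mem_kerLE i e' s⟩)).1.val) = _
    rw [h1, constClassExt_val, Extension.Cotangent.val_mk]
    have h2 := cotangentToConormal_idealSect i (X.basicOpen g)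
      ((ClSub.idealMod i.ker).presheaf.map (homOfLE (X.basicOpen_le g)).op s)
    rw [← conormalRes_refl, conormalRes_map_left] at h2
    rw [← h2]
    congr 2
    apply Subtype.ext
    exact (idealSect_map i.ker (X.basicOpen_le g) s).symm
  have hμlam : ∀ m, μ (lam i hg.2.1 hV e' m) = m := by
    intro m
    have hm : m ∈ Submodule.span Γ(Z, i ⁻¹ᵁ X.basicOpen g) (Set.range (conormalRes i e')) := by
      rw [span_range_conormalRes i hg.2.1 hV e']; trivial
    induction hm using Submodule.span_induction with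
    | mem y hy =>
      obtain ⟨s, rfl⟩ := hy
      rw [lam_conormalRes, hμ_gen]
    | zero =>
      rw [map_zero]
      have := hμ_smul 0 0
      rwa [zero_smul, zero_smul] at this
    | add y z _ _ hy hz => rw [map_add, hμ_add, hy, hz]
    | smul r y _ hy => rw [(lam i hg.2.1 hV e').map_smul, hμ_smul, hy]
  refine ⟨fun x y hxy => ?_, fun x => ⟨μ x, hμ_inj ?_⟩⟩
  · rw [← hμlam x, ← hμlam y]
    exact congrArg μ hxy
  · exact hμlam (μ x)

end Groth.Agent.Lib.Helper48.NL
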