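import Groth.Agent.Lib.Helper48.OmegaAff5

set_option autoImplicit false
universe u

open AlgebraicGeometry CategoryTheory Opposite TopologicalSpace CategoryTheory.Limits

namespace Groth.Agent.Lib.Helper48.OmegaAff

/-- The frozen conormal sheaf is quasi-coherent. -/
instance isQuasicoherent_conormal {X Z : Scheme.{u}} (i : Z ⟶ X) :
    (Omega.conormal i).IsQuasicoherent :=
  inferInstanceAs ((Scheme.Modules.pullback i).obj (ClSub.idealMod i.ker)).IsQuasicoherent

/-- The frozen sheaf of differentials is quasi-coherent. -/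
instance isQuasicoherent_omega {X Y : Scheme.{u}} (f : X ⟶ Y) : (Omega.sheaf f).IsQuasicoherent :=
  inferInstanceAs (Omega.conormal (pullback.diagonal f)).IsQuasicoherent

theorem smul_moduleSpecΓ {R : CommRingCat.{u}} (M : (Spec R).Modules) (a : R)
    (x : moduleSpecΓFunctor.obj M) :
    a • x = (show moduleSpecΓFunctor.obj M from
      (((Scheme.ΓSpecIso R).inv a • (show Γ(M, ⊤) from x) : Γ(M, ⊤)))) := by
  rfl

section SpecCase

variable (R A : Type u) [CommRing R] [CommRing A] [Algebra R A]

/-- The comparison map as an `A`-linear map into the module of global sections. -/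
noncomputable def kaehlerToΓ :
    Ω[A⁄R] →ₗ[A] (moduleSpecΓFunctor (R := CommRingCat.of A)).obj (Omega.sheaf (specMap R A)) where
  toFun := fun ω => (show ((moduleSpecΓFunctor (R := CommRingCat.of A)).obj
    (Omega.sheaf (specMap R A))) from OmAff.toSpec R A ω)
  map_add' := fun x y => map_add (OmAff.toSpec R A) x y
  map_smul' := fun a ω => by
    have h1 : OmAff.toSpec R A (a • ω) = OmAff.toΓ A a • OmAff.toSpec R A ω :=
      LinearMap.map_smulₛₗ _ _ _
    exact h1

/-- `Ω[A⁄R]` is the module of global sections of the frozen sheaf of differentials of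
`Spec A ⟶ Spec R`. -/
noncomputable def kaehlerEquivΓ :
    Ω[A⁄R] ≃ₗ[A] (moduleSpecΓFunctor (R := CommRingCat.of A)).obj (Omega.sheaf (specMap R A)) :=
  LinearEquiv.ofBijective (kaehlerToΓ R A) (bijective_toSpec R A)

theorem omega_spec_iso_tilde :
    Nonempty (Omega.sheaf (Spec.map (CommRingCat.ofHom (algebraMap R A))) ≅
      tilde (R := CommRingCat.of A) (ModuleCat.of A (Ω[A⁄R]))) := by
  have e : ModuleCat.of A (Ω[A⁄R]) ≅
      (moduleSpecΓFunctor (R := CommRingCat.of A)).obj (Omega.sheaf (specMap R A)) :=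
    (kaehlerEquivΓ R A).toModuleIso
  have : (Omega.sheaf (specMap R A)).IsQuasicoherent := inferInstance
  have : IsIso (Scheme.Modules.fromTildeΓ (R := CommRingCat.of A) (Omega.sheaf (specMap R A))) :=
    Scheme.Modules.isIso_fromTildeΓ_of_isQuasicoherent (R := CommRingCat.of A) _
  have i1 : Omega.sheaf (specMap R A) ≅ tilde ((moduleSpecΓFunctor (R := CommRingCat.of A)).obj
      (Omega.sheaf (specMap R A))) :=
    (asIso (Scheme.Modules.fromTildeΓ (R := CommRingCat.of A) (Omega.sheaf (specMap R A)))).symm
  exact ⟨i1 ≪≫ (tilde.functor (CommRingCat.of A)).mapIso e.symm⟩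

end SpecCase

end Groth.Agent.Lib.Helper48.OmegaAff
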