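import Groth.Agent.Lib.Helper48.NL3
import Groth.Agent.Lib.Helper48.OmegaAff6
import Groth.Agent.Lib.Lead.QCohAff
import Mathlib.RingTheory.Etale.Kaehler

/-!
# Bijectivity of the comparison map on all chart pairs
-/

set_option autoImplicit false
set_option linter.style.haveILetI false
universe u

open AlgebraicGeometry CategoryTheory Opposite TopologicalSpace CategoryTheory.Limits

namespace Groth.Agent.Lib.Helper48.NL

open Groth.Agent.Lib.Helper48.OmegaAff Groth.Agent.Lib.Helper48.Conormal Scheme.Modules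
open Groth.Agent.Lib.Lead.QCohAff

section QCoh

variable {X : Scheme.{u}} (F : X.Modules) [F.IsQuasicoherent]

/-- a section over (an open equal to) `D(r)` times a power of `r` extends -/
theorem exists_res_eq_pow_smul' {U W : X.Opens} (hU : IsAffineOpen U) (r : Γ(X, U))
    (hW : W = X.basicOpen r) (hWU : W ≤ U) (y : Γ(F, W)) :
    ∃ (k : ℕ) (m : Γ(F, U)), F.presheaf.map (homOfLE hWU).op m =
      (X.presheaf.map (homOfLE hWU).op r) ^ k • y := by
  subst hW
  exact exists_res_eq_pow_smul F hU r y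

end QCoh

variable {Z X : Scheme.{u}} (i : Z ⟶ X) [IsImmersion i]

theorem exists_good_basicOpen {U : Z.Opens} {V : X.Opens} (hV : IsAffineOpen V)
    (e : U ≤ i ⁻¹ᵁ V) (z : Z) (hz : z ∈ U) :
    ∃ g : Γ(X, V), IsGoodFor i (X.basicOpen g) ∧ z ∈ i ⁻¹ᵁ X.basicOpen g ∧
      i ⁻¹ᵁ X.basicOpen g ≤ U := by
  obtain ⟨V₀, hV₀, hzV₀, hV₀V, hV₀U⟩ := exists_goodFor i z U hz V (e hz)
  obtain ⟨g, hgle, hzg⟩ := hV.exists_basicOpen_le (V := V₀) ⟨i z, hzV₀⟩ (hV₀V hzV₀)
  refine ⟨g, ?_, hzg, (i.preimage_mono hgle).trans hV₀U⟩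
  have h1 : X.basicOpen (X.presheaf.map (homOfLE hV₀V).op g) = X.basicOpen g := by
    rw [Scheme.basicOpen_res]
    exact inf_eq_right.mpr hgle
  rw [← h1]
  exact hV₀.basicOpen _

variable [QuasiCompact i]

theorem lam_injective {U : Z.Opens} {V : X.Opens} (hU : IsAffineOpen U) (hV : IsAffineOpen V)
    (e : U ≤ i ⁻¹ᵁ V) : Function.Injective (lam i hU hV e) := by
  rw [injective_iff_map_eq_zero]
  intro m hm
  apply eq_zero_of_locally (Omega.conormal i) m
  intro z hz
  obtain ⟨g, hg, hzg, hgU⟩ := exists_good_basicOpen i hV e z hz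
  refine ⟨i ⁻¹ᵁ X.basicOpen g, hgU, hzg, ?_⟩
  have h1 := lam_res i hU hg.2.1 hV hV e (i.preimage_mono (X.basicOpen_le g)) hgU le_rfl m
  rw [hm, map_zero] at h1
  exact (lam_bijective_of_good i hV g hg).1 (h1.trans (map_zero _).symm)

end Groth.Agent.Lib.Helper48.NL

namespace Groth.Agent.Lib.Helper48.NL

open Groth.Agent.Lib.Helper48.OmegaAff Groth.Agent.Lib.Helper48.Conormal Scheme.Modules
open Groth.Agent.Lib.Lead.QCohAff

section RingLevel

/-- `H¹(L_{B/A}) → H¹(L_{B'/A})` is a localization when `B → B'` is, for any (propositionally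
trivial) algebra structure of `A` over itself. -/
theorem isLocalizedModule_H1map {A B B' : Type u} [cA : CommRing A] [cB : CommRing B]
    [cB' : CommRing B'] [aAB : Algebra A B] [aAB' : Algebra A B'] [aBB' : Algebra B B']
    [t2 : IsScalarTower A B B'] (M : Submonoid B) [IsLocalization M B'] (inst : Algebra A A)
    (hinst : @algebraMap A A _ _ inst = RingHom.id A)
    (t1 : @IsScalarTower A A B' inst.toSMul _ _) :
    IsLocalizedModule M
      (@Algebra.H1Cotangent.map A A cA cA inst B cB aAB B' cB' aAB' aAB' t1 aBB' t2) := by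
  have : inst = Algebra.id A := Algebra.algebra_ext _ _ (fun r => by rw [hinst]; rfl)
  subst this
  exact Algebra.H1Cotangent.isLocalizedModule A B' M

end RingLevel


section Surj

variable {Z X : Scheme.{u}} (i : Z ⟶ X)

theorem exists_pow_smul_eq_zero_of_chartRes_eq_zero {U W : Z.Opens} {V : X.Opens}
    (hU : IsAffineOpen U) (hWaff : IsAffineOpen W) (hV : IsAffineOpen V)
    (e : U ≤ i ⁻¹ᵁ V) (e' : W ≤ i ⁻¹ᵁ V) (hWU : W ≤ U) (r : Γ(Z, U)) (hW : W = Z.basicOpen r)
    (x : H1 i e)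
    (hx : NLCx.chartRes (f := i) (U := ⟨U, hU⟩) (U' := ⟨W, hWaff⟩) (V := ⟨V, hV⟩)
      (V' := ⟨V, hV⟩) e e' hWU le_rfl x = 0) :
    ∃ k : ℕ, r ^ k • x = 0 := by
  unfold NLCx.chartRes at hx
  dsimp only at hx
  rw [LinearMap.toAddMonoidHom_coe] at hx
  letI := (i.appLE V U e).hom.toAlgebra
  letI := (i.appLE V W e').hom.toAlgebra
  letI := (Z.presheaf.map (homOfLE hWU).op).hom.toAlgebra
  haveI t2 : IsScalarTower Γ(X, V) Γ(Z, U) Γ(Z, W) :=
    IsScalarTower.of_algebraMap_eq' (by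
      change (i.appLE _ _ _).hom = (Z.presheaf.map _).hom.comp (i.appLE _ _ _).hom
      rw [← CommRingCat.hom_comp, Scheme.Hom.appLE_map])
  haveI : IsLocalization.Away r Γ(Z, W) := hU.isLocalization_of_eq_basicOpen r (homOfLE hWU) hW
  have hinst : @algebraMap Γ(X, V) Γ(X, V) _ _
      (X.presheaf.map (homOfLE (le_refl V)).op).hom.toAlgebra = RingHom.id _ := by
    change (X.presheaf.map (homOfLE (le_refl V)).op).hom = _
    rw [show (homOfLE (le_refl V)).op = 𝟙 _ from rfl, X.presheaf.map_id]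
    rfl
  have hloc := isLocalizedModule_H1map (A := Γ(X, V)) (B := Γ(Z, U)) (B' := Γ(Z, W))
    (Submonoid.powers r) (X.presheaf.map (homOfLE (le_refl V)).op).hom.toAlgebra hinst
    (@IsScalarTower.of_algebraMap_eq' _ _ _ _ _ _
      (X.presheaf.map (homOfLE (le_refl V)).op).hom.toAlgebra _ _ (by
        change (i.appLE _ _ _).hom = (i.appLE _ _ _).hom.comp (X.presheaf.map _).hom
        rw [← CommRingCat.hom_comp, Scheme.Hom.map_appLE]))
  obtain ⟨⟨_, k, rfl⟩, hk⟩ := (IsLocalizedModule.eq_zero_iff (Submonoid.powers r) _).mp hx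
  exact ⟨k, hk⟩

variable [IsImmersion i] [QuasiCompact i]

theorem lam_surjective {U : Z.Opens} {V : X.Opens} (hU : IsAffineOpen U) (hV : IsAffineOpen V)
    (e : U ≤ i ⁻¹ᵁ V) : Function.Surjective (lam i hU hV e) := by
  intro n
  let J : Ideal Γ(Z, U) :=
    { carrier := {b | b • n ∈ LinearMap.range (lam i hU hV e)}
      add_mem' := fun {a b} ha hb => by
        change (a + b) • n ∈ LinearMap.range (lam i hU hV e)
        rw [add_smul]
        exact Submodule.add_mem _ ha hb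
      zero_mem' := by
        change (0 : Γ(Z, U)) • n ∈ LinearMap.range (lam i hU hV e)
        rw [zero_smul]
        exact Submodule.zero_mem _
      smul_mem' := fun c b hb => by
        change (c • b) • n ∈ LinearMap.range (lam i hU hV e)
        rw [smul_assoc]
        exact Submodule.smul_mem _ c hb }
  have hJmem : ∀ b, b ∈ J ↔ b • n ∈ LinearMap.range (lam i hU hV e) := fun _ => Iff.rfl
  have hloc : ∀ z ∈ U, ∃ r : Γ(Z, U), z ∈ Z.basicOpen r ∧ r ∈ J.radical := by
    intro z hz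
    obtain ⟨g, hg, hzg, hgU⟩ := exists_good_basicOpen i hV e z hz
    have hW : i ⁻¹ᵁ X.basicOpen g = Z.basicOpen (i.appLE V U e g) := by
      rw [Scheme.basicOpen_appLE]
      exact (inf_eq_right.mpr hgU).symm
    refine ⟨i.appLE V U e g, hW ▸ hzg, ?_⟩
    have e' : i ⁻¹ᵁ X.basicOpen g ≤ i ⁻¹ᵁ V := i.preimage_mono (X.basicOpen_le g)
    have hbij := lam_bijective_of_good i hV g hg
    obtain ⟨m', hm'⟩ := hbij.2 (NLCx.chartRes (f := i) (U := ⟨U, hU⟩) (U' := ⟨_, hg.2.1⟩)
      (V := ⟨V, hV⟩) (V' := ⟨V, hV⟩) e e' hgU le_rfl n)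
    obtain ⟨k, m, hm⟩ := exists_res_eq_pow_smul' (Omega.conormal i) hU (i.appLE V U e g) hW hgU m'
    have h1 : NLCx.chartRes (f := i) (U := ⟨U, hU⟩) (U' := ⟨_, hg.2.1⟩)
        (V := ⟨V, hV⟩) (V' := ⟨V, hV⟩) e e' hgU le_rfl
        ((i.appLE V U e g) ^ k • n - lam i hU hV e m) = 0 := by
      rw [map_sub, chartRes_smul, ← lam_res, hm, (lam i hg.2.1 hV e').map_smul, hm', map_pow,
        sub_self]
    obtain ⟨k', hk'⟩ := exists_pow_smul_eq_zero_of_chartRes_eq_zero i hU hg.2.1 hV e e' hgU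
      (i.appLE V U e g) hW _ h1
    refine ⟨k' + k, ?_⟩
    rw [hJmem]
    rw [smul_sub, sub_eq_zero, smul_smul, ← pow_add] at hk'
    rw [hk', ← (lam i hU hV e).map_smul]
    exact ⟨_, rfl⟩
  have hcover : U ≤ ⨆ f : (J.radical : Set Γ(Z, U)), Z.basicOpen f.1 := by
    intro z hz
    obtain ⟨r, hzr, hr⟩ := hloc z hz
    exact Opens.mem_iSup.mpr ⟨⟨r, hr⟩, hzr⟩
  rw [hU.self_le_iSup_basicOpen_iff, Ideal.span_eq, Ideal.radical_eq_top] at hcover
  have h1 : (1 : Γ(Z, U)) ∈ J := by rw [hcover]; trivial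
  rw [hJmem, one_smul] at h1
  exact h1

theorem lam_bijective {U : Z.Opens} {V : X.Opens} (hU : IsAffineOpen U) (hV : IsAffineOpen V)
    (e : U ≤ i ⁻¹ᵁ V) : Function.Bijective (lam i hU hV e) :=
  ⟨lam_injective i hU hV e, lam_surjective i hU hV e⟩

end Surj

end Groth.Agent.Lib.Helper48.NL
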