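import Groth.Agent.Lib.Helper48.NL4
import Groth.Agent.Lib.Lead.QCohAff8
import Mathlib.AlgebraicGeometry.Morphisms.Smooth
import Mathlib.AlgebraicGeometry.Morphisms.OpenImmersion
import Mathlib.RingTheory.Support

/-!
# The conormal sheaf of an immersion vanishes at a point iff the immersion is locally open there
-/

set_option autoImplicit false
set_option linter.style.haveILetI false
universe u

open AlgebraicGeometry CategoryTheory Opposite TopologicalSpace CategoryTheory.Limits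

namespace Groth.Agent.Lib.Helper48.NL

open Groth.Agent.Lib.Helper48.OmegaAff Groth.Agent.Lib.Helper48.Conormal Scheme.Modules
open Groth.Agent.Lib.Lead.QCohAff

variable {Y X : Scheme.{u}} (j : Y ⟶ X) [IsImmersion j] [QuasiCompact j]

/-- If `j` restricted to the affine open `U` is an open immersion, the conormal sheaf has no
sections over `U` (written as `U.ι ''ᵁ ⊤`). -/
theorem subsingleton_sections_of_isOpenImmersion {U : Y.Opens} (hU : IsAffineOpen U)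
    [IsOpenImmersion (U.ι ≫ j)] {V : X.Opens} (hV : IsAffineOpen V)
    (e : U.ι ''ᵁ ⊤ ≤ j ⁻¹ᵁ V) : Subsingleton Γ(Omega.conormal j, U.ι ''ᵁ ⊤) := by
  haveI : IsAffine U.toScheme := hU
  have hW : IsAffineOpen (U.ι ''ᵁ ⊤) := by rw [U.ι_image_top]; exact hU
  have e0 : (⊤ : U.toScheme.Opens) ≤ (U.ι ≫ j) ⁻¹ᵁ V := fun x _ => e ⟨x, trivial, rfl⟩
  have hsm : ((U.ι ≫ j).appLE V ⊤ e0).hom.Smooth :=
    HasRingHomProperty.appLE (P := @Smooth) (U.ι ≫ j) inferInstance ⟨V, hV⟩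
      ⟨⊤, isAffineOpen_top _⟩ e0
  have h1 : (U.ι ≫ j).appLE V ⊤ e0 = j.appLE V (U.ι ''ᵁ ⊤) e := by
    rw [← Scheme.Hom.appLE_comp_appLE U.ι j V (U.ι ''ᵁ ⊤) ⊤ e (fun x _ => ⟨x, trivial, rfl⟩),
      Scheme.Opens.ι_appLE]
    erw [show (homOfLE (le_refl (U.ι ''ᵁ ⊤))).op = 𝟙 _ from rfl, Y.presheaf.map_id]
    exact Category.comp_id _
  rw [h1] at hsm
  letI := (j.appLE V (U.ι ''ᵁ ⊤) e).hom.toAlgebra
  haveI : Algebra.Smooth Γ(X, V) Γ(Y, U.ι ''ᵁ ⊤) := hsm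
  haveI : Subsingleton (H1 j e) := Algebra.FormallySmooth.subsingleton_h1Cotangent
  exact (lam_injective j hW hV e).subsingleton

theorem subsingleton_stalk_of_isOpenImmersion (y : Y) (U : Y.Opens) (hy : y ∈ U)
    [IsOpenImmersion (U.ι ≫ j)] : Subsingleton ((Omega.conormal j).presheaf.stalk y) := by
  have keyV : ∃ V : X.Opens, IsAffineOpen V ∧ j y ∈ V := by
    obtain ⟨_, ⟨V, hV : IsAffineOpen V, rfl⟩, hyV, -⟩ :=
      (X.isBasis_affineOpens).exists_subset_of_mem_open (Set.mem_univ (j y)) isOpen_univ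
    exact ⟨V, hV, hyV⟩
  obtain ⟨V, hV, hyV⟩ := keyV
  have keyU : ∃ U' : Y.Opens, IsAffineOpen U' ∧ y ∈ U' ∧ U' ≤ U ⊓ j ⁻¹ᵁ V := by
    obtain ⟨_, ⟨U', hU' : IsAffineOpen U', rfl⟩, hyU', hU'le⟩ :=
      (Y.isBasis_affineOpens).exists_subset_of_mem_open
        (show y ∈ ((U ⊓ j ⁻¹ᵁ V : Y.Opens) : Set Y) from ⟨hy, hyV⟩) (U ⊓ j ⁻¹ᵁ V).2
    exact ⟨U', hU', hyU', hU'le⟩
  obtain ⟨U', hU', hyU', hU'le⟩ := keyU
  have hU'U : U' ≤ U := fun x hx => (hU'le hx).1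
  haveI : IsOpenImmersion (U'.ι ≫ j) := by
    rw [← Scheme.homOfLE_ι Y hU'U, Category.assoc]
    infer_instance
  have e : U'.ι ''ᵁ ⊤ ≤ j ⁻¹ᵁ V := by
    rw [U'.ι_image_top]
    exact fun x hx => (hU'le hx).2
  have hsub := subsingleton_sections_of_isOpenImmersion j hU' hV e
  have hW : IsAffineOpen (U'.ι ''ᵁ ⊤) := by rw [U'.ι_image_top]; exact hU'
  have hyW : y ∈ U'.ι ''ᵁ ⊤ := by rw [U'.ι_image_top]; exact hyU'
  rw [subsingleton_stalk_iff (Omega.conormal j) hW y hyW]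
  intro s
  rw [Subsingleton.elim s 0, map_zero]

theorem exists_good_subsingleton_of_subsingleton_stalk [LocallyOfFinitePresentation j] (y : Y)
    (hst : Subsingleton ((Omega.conormal j).presheaf.stalk y)) :
    ∃ V : X.Opens, IsGoodFor j V ∧ y ∈ j ⁻¹ᵁ V ∧ Subsingleton Γ(Omega.conormal j, j ⁻¹ᵁ V) := by
  obtain ⟨V₀, hV₀, hyV₀, -, -⟩ := exists_goodFor j y ⊤ trivial ⊤ trivial
  have e₀ : j ⁻¹ᵁ V₀ ≤ j ⁻¹ᵁ V₀ := le_rfl
  letI alg₀ : Algebra Γ(X, V₀) Γ(Y, j ⁻¹ᵁ V₀) := (j.appLE V₀ (j ⁻¹ᵁ V₀) e₀).hom.toAlgebra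
  have hfp : (j.appLE V₀ (j ⁻¹ᵁ V₀) e₀).hom.FinitePresentation :=
    HasRingHomProperty.appLE (P := @LocallyOfFinitePresentation) j inferInstance ⟨V₀, hV₀.1⟩
      ⟨j ⁻¹ᵁ V₀, hV₀.2.1⟩ e₀
  haveI : Algebra.FinitePresentation Γ(X, V₀) Γ(Y, j ⁻¹ᵁ V₀) := hfp
  have hfu : (j.appLE V₀ (j ⁻¹ᵁ V₀) e₀).hom.FormallyUnramified :=
    HasRingHomProperty.appLE (P := @FormallyUnramified) j inferInstance ⟨V₀, hV₀.1⟩
      ⟨j ⁻¹ᵁ V₀, hV₀.2.1⟩ e₀
  haveI : Algebra.FormallyUnramified Γ(X, V₀) Γ(Y, j ⁻¹ᵁ V₀) := hfu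
  haveI : Module.Finite Γ(Y, j ⁻¹ᵁ V₀) (H1 j e₀) := inferInstance
  let E := LinearEquiv.ofBijective (lam j hV₀.2.1 hV₀.1 e₀) (lam_bijective j hV₀.2.1 hV₀.1 e₀)
  haveI : Module.Finite Γ(Y, j ⁻¹ᵁ V₀) Γ(Omega.conormal j, j ⁻¹ᵁ V₀) := Module.Finite.equiv E.symm
  have hsupp : hV₀.2.1.primeIdealOf ⟨y, hyV₀⟩ ∉
      Module.support Γ(Y, j ⁻¹ᵁ V₀) Γ(Omega.conormal j, j ⁻¹ᵁ V₀) := by
    rw [primeIdealOf_mem_support_iff (Omega.conormal j) hV₀.2.1 y hyV₀, not_not]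
    exact hst
  rw [Module.mem_support_iff_of_finite, SetLike.not_le_iff_exists] at hsupp
  obtain ⟨c, hcann, hcp⟩ := hsupp
  have hyc : y ∈ Y.basicOpen c := (mem_basicOpen_iff_notMem_primeIdealOf hV₀.2.1 y hyV₀ c).mpr hcp
  obtain ⟨b, hb⟩ := hV₀.2.2 c
  have hpre : j ⁻¹ᵁ X.basicOpen b = Y.basicOpen c := by
    rw [Scheme.preimage_basicOpen, hb]
  refine ⟨X.basicOpen b, hV₀.basicOpen b, hpre ▸ hyc, ?_⟩
  rw [hpre]
  refine ⟨fun t t' => ?_⟩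
  have key : ∀ t : Γ(Omega.conormal j, Y.basicOpen c), t = 0 := by
    intro t
    obtain ⟨n, s, hs⟩ := exists_res_eq_pow_smul (Omega.conormal j) hV₀.2.1 c t
    have h1 : c • s = 0 := Module.mem_annihilator.mp hcann s
    have h2 := congrArg ((Omega.conormal j).presheaf.map (homOfLE (Y.basicOpen_le c)).op) h1
    rw [Scheme.Modules.map_smul, hs, map_zero, smul_smul, ← pow_succ'] at h2
    exact ((isUnit_res_basicOpen c).pow (n + 1)).smul_eq_zero.mp h2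
  rw [key t, key t']

theorem isOpenImmersion_of_good_subsingleton [LocallyOfFinitePresentation j] {V : X.Opens}
    (hV : IsGoodFor j V) (hsub : Subsingleton Γ(Omega.conormal j, j ⁻¹ᵁ V)) :
    IsOpenImmersion ((j ⁻¹ᵁ V).ι ≫ j) := by
  have hV₁ : IsGoodFor j (V.ι ''ᵁ ⊤) := by rw [V.ι_image_top]; exact hV
  have hsub₁ : Subsingleton Γ(Omega.conormal j, j ⁻¹ᵁ (V.ι ''ᵁ ⊤)) := by
    rw [V.ι_image_top]; exact hsub
  haveI : Subsingleton (RingHom.ker (j.app (V.ι ''ᵁ ⊤)).hom).Cotangent :=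
    (cotangentToConormal_injective j hV₁).subsingleton
  have hidem : IsIdempotentElem (RingHom.ker (j.app (V.ι ''ᵁ ⊤)).hom) :=
    (Ideal.cotangent_subsingleton_iff _).mp inferInstance
  have hfg : (RingHom.ker (j.app (V.ι ''ᵁ ⊤)).hom).FG := by
    have hfp : (j.appLE (V.ι ''ᵁ ⊤) (j ⁻¹ᵁ (V.ι ''ᵁ ⊤)) le_rfl).hom.FinitePresentation :=
      HasRingHomProperty.appLE (P := @LocallyOfFinitePresentation) j inferInstance
        ⟨V.ι ''ᵁ ⊤, hV₁.1⟩ ⟨j ⁻¹ᵁ (V.ι ''ᵁ ⊤), hV₁.2.1⟩ le_rfl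
    rw [Scheme.Hom.appLE_eq_app] at hfp
    letI := (j.app (V.ι ''ᵁ ⊤)).hom.toAlgebra
    haveI : Algebra.FinitePresentation Γ(X, V.ι ''ᵁ ⊤) Γ(Y, j ⁻¹ᵁ (V.ι ''ᵁ ⊤)) := hfp
    exact Algebra.FinitePresentation.ker_fG_of_surjective
      (Algebra.ofId Γ(X, V.ι ''ᵁ ⊤) Γ(Y, j ⁻¹ᵁ (V.ι ''ᵁ ⊤))) hV₁.2.2
  obtain ⟨e, he, hker⟩ := (Ideal.isIdempotentElem_iff_of_fg _ hfg).mp hidem
  rw [← morphismRestrict_ι]
  haveI : IsAffine V.toScheme := hV.1
  haveI : IsAffine (j ⁻¹ᵁ V).toScheme := hV.2.1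
  suffices IsOpenImmersion (j ∣_ V) from inferInstance
  rw [MorphismProperty.arrow_mk_iso_iff @IsOpenImmersion (arrowIsoSpecΓOfIsAffine (j ∣_ V))]
  have hinj : Function.Injective
      (Y.presheaf.map (eqToHom (image_morphismRestrict_preimage j V ⊤)).op).hom := by
    haveI : IsIso (Y.presheaf.map (eqToHom (image_morphismRestrict_preimage j V ⊤)).op) :=
      inferInstance
    exact ((ConcreteCategory.bijective_of_isIso
      (Y.presheaf.map (eqToHom (image_morphismRestrict_preimage j V ⊤)).op))).1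
  have hsurj' : Function.Surjective
      (Y.presheaf.map (eqToHom (image_morphismRestrict_preimage j V ⊤)).op).hom :=
    ((ConcreteCategory.bijective_of_isIso
      (Y.presheaf.map (eqToHom (image_morphismRestrict_preimage j V ⊤)).op))).2
  have happ : (j ∣_ V).appTop.hom =
      (Y.presheaf.map (eqToHom (image_morphismRestrict_preimage j V ⊤)).op).hom.comp
        (j.app (V.ι ''ᵁ ⊤)).hom := by
    rw [morphismRestrict_appTop]
    rfl
  rw [isOpenImmersion_SpecMap_iff_of_surjective _ (by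
    rw [happ]
    exact hsurj'.comp hV₁.2.2)]
  refine ⟨e, he, Eq.trans ?_ hker⟩
  rw [happ]
  exact RingHom.ker_comp_of_injective _ hinj

end Groth.Agent.Lib.Helper48.NL
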