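import Groth.Agent.Lib.Helper82.EffCartier
import Groth.Prelude.Def_OmegaPn

/-!
# Infinitesimal neighbourhoods and base change (EGA IV 16.2)

`comap_pow`: pullback of ideal sheaves commutes with powers;
`ker_eq_comap_of_isPullback`: the ideal of a base-changed closed immersion is the pulled back ideal;
`isPullback_infNbhd`: infinitesimal neighbourhoods commute with base change.
-/

set_option autoImplicit false
universe u

open CategoryTheory CategoryTheory.Limits AlgebraicGeometry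

namespace Groth.Agent.Lib.Helper48.Nbhd

open Scheme

/-- Pairs (affine `U ⊆ X`, affine `W ⊆ Y`) with `U ≤ v⁻¹W` cover `X`. -/
theorem iSup_affinePairs_eq_top {X Y : Scheme.{u}} (v : X ⟶ Y) :
    ⨆ p : {p : X.affineOpens × Y.affineOpens // p.1.1 ≤ v ⁻¹ᵁ p.2.1}, (p.1.1 : X.affineOpens).1 = ⊤ := by
  rw [eq_top_iff]
  intro x _
  obtain ⟨W, hW, hxW⟩ : ∃ W : Y.Opens, IsAffineOpen W ∧ v x ∈ W := by
    obtain ⟨_, ⟨W, hW : IsAffineOpen W, rfl⟩, hxW, -⟩ :=
      (isBasis_affineOpens Y).exists_subset_of_mem_open (Set.mem_univ (v x)) isOpen_univ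
    exact ⟨W, hW, hxW⟩
  obtain ⟨U, hU, hxU, hUW⟩ : ∃ U : X.Opens, IsAffineOpen U ∧ x ∈ U ∧ U ≤ v ⁻¹ᵁ W := by
    obtain ⟨_, ⟨U, hU : IsAffineOpen U, rfl⟩, hxU, hUW⟩ :=
      (isBasis_affineOpens X).exists_subset_of_mem_open (show x ∈ (v ⁻¹ᵁ W : Set X) from hxW)
        (v ⁻¹ᵁ W).2
    exact ⟨U, hU, hxU, hUW⟩
  exact TopologicalSpace.Opens.mem_iSup.mpr ⟨⟨(⟨U, hU⟩, ⟨W, hW⟩), hUW⟩, hxU⟩

/-- Pullback of ideal sheaves commutes with powers. -/
theorem comap_pow {X Y : Scheme.{u}} (v : X ⟶ Y) (I : Y.IdealSheafData) (n : ℕ) :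
    (I ^ n).comap v = (I.comap v) ^ n := by
  refine IdealSheafData.ext_of_iSup_eq_top
    (fun p : {p : X.affineOpens × Y.affineOpens // p.1.1 ≤ v ⁻¹ᵁ p.2.1} => p.1.1)
    (iSup_affinePairs_eq_top v) ?_
  rintro ⟨⟨U, W⟩, e⟩
  have h1 := Groth.Agent.Lib.Helper82.ideal_comap_of_le v (I ^ n) U.1 U.2 W.1 W.2 e
  have h2 := Groth.Agent.Lib.Helper82.ideal_comap_of_le v I U.1 U.2 W.1 W.2 e
  change ((I ^ n).comap v).ideal ⟨U.1, U.2⟩ = ((I.comap v) ^ n).ideal ⟨U.1, U.2⟩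
  rw [h1, IdealSheafData.ideal_pow, IdealSheafData.ideal_pow, Pi.pow_apply, Pi.pow_apply, h2,
    Ideal.map_pow]

/-- The ideal of a base-changed closed immersion is the pulled back ideal. -/
theorem ker_eq_comap_of_isPullback {Y X Y' X' : Scheme.{u}} (f : Y ⟶ X) [IsClosedImmersion f]
    (v : X' ⟶ X) (u : Y' ⟶ Y) (f' : Y' ⟶ X') (hsq : IsPullback u f' f v) :
    f'.ker = f.ker.comap v := by
  rw [← IdealSheafData.ker_fst_of_isClosedImmersion f v, ← hsq.flip.isoPullback_hom_fst,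
    Scheme.Hom.ker_comp_of_isIso]

theorem ker_pow_eq_comap_of_isPullback {Y X Y' X' : Scheme.{u}} (f : Y ⟶ X) [IsClosedImmersion f]
    (v : X' ⟶ X) (u : Y' ⟶ Y) (f' : Y' ⟶ X') (hsq : IsPullback u f' f v) (n : ℕ) :
    f'.ker ^ n = (f.ker ^ n).comap v := by
  rw [comap_pow, ker_eq_comap_of_isPullback f v u f' hsq]

/-- EGA IV 16.2.2 (i): infinitesimal neighbourhoods commute with base change. -/
theorem isPullback_infNbhd {Y X Y' X' : Scheme.{u}} (f : Y ⟶ X) [IsClosedImmersion f]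
    (v : X' ⟶ X) (u : Y' ⟶ Y) (f' : Y' ⟶ X') (hsq : IsPullback u f' f v) (n : ℕ)
    (w : PrinPart.infNbhd f' n ⟶ PrinPart.infNbhd f n)
    (hw : w ≫ PrinPart.infNbhdι f n = PrinPart.infNbhdι f' n ≫ v) :
    IsPullback w (PrinPart.infNbhdι f' n) (PrinPart.infNbhdι f n) v := by
  have hcl : IsClosedImmersion (PrinPart.infNbhdι f n) := by
    unfold PrinPart.infNbhdι; infer_instance
  have hcl' : IsClosedImmersion (PrinPart.infNbhdι f' n) := by
    unfold PrinPart.infNbhdι; infer_instance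
  refine (isPullback_of_isClosedImmersion (PrinPart.infNbhdι f' n) (PrinPart.infNbhdι f n) w v
    hw.symm ?_).flip
  unfold PrinPart.infNbhdι
  rw [IdealSheafData.ker_subschemeι, IdealSheafData.ker_subschemeι,
    ker_pow_eq_comap_of_isPullback f v u f' hsq]

end Groth.Agent.Lib.Helper48.Nbhd
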