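import Groth.Agent.Lib.Helper48.Nbhd1
import Groth.Agent.Lib.Helper48.SemiUniv
import Groth.Agent.Lib.Helper48.Conormal5

/-!
# Chart analysis for maps between pulled back ideal modules (EGA IV 16.2.2)
-/

set_option autoImplicit false
universe u

open CategoryTheory CategoryTheory.Limits AlgebraicGeometry

namespace Groth.Agent.Lib.Helper48.Nbhd

open Scheme Groth.Agent.Lib.Helper48.SL Groth.Agent.Lib.Helper48.OmegaAff
  Groth.Agent.Lib.Helper48.Conormal

section Univ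

variable {X Y : Scheme.{u}} (f : X ⟶ Y) (G : Y.Modules) [G.IsQuasicoherent] {U : X.Opens}
  {V : Y.Opens}

theorem isUniv_pullRes (hU : IsAffineOpen U) (hV : IsAffineOpen V) (e : U ≤ f ⁻¹ᵁ V) :
    IsUniv (f.appLE V U e).hom (pullRes f G e) :=
  ⟨fun a m => pullRes_smul f G e a m,
    fun Q _ _ l hl => existsUnique_of_semilinear f G hU hV e Q l hl⟩

end Univ

section Sect

variable {P : Scheme.{u}} (K : P.IdealSheafData) {U : P.Opens} (hU : IsAffineOpen U)

theorem idealSect_mem_ideal (m : Γ(ClSub.idealMod K, U)) :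
    OmegaSh.idealSect K U m ∈ K.ideal ⟨U, hU⟩ := by
  rw [← IdealSheafData.ker_subschemeι_app K ⟨U, hU⟩, RingHom.mem_ker]
  exact subschemeι_app_idealSect K U m

theorem exists_idealSect_eq_of_mem (a : Γ(P, U)) (ha : a ∈ K.ideal ⟨U, hU⟩) :
    ∃ m, OmegaSh.idealSect K U m = a := by
  apply exists_idealSect_eq_of_subschemeι
  rw [← IdealSheafData.ker_subschemeι_app K ⟨U, hU⟩, RingHom.mem_ker] at ha
  exact ha

/-- Sections of the ideal module over an affine open are the ideal. -/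
noncomputable def sectEquiv : Γ(ClSub.idealMod K, U) ≃ₗ[Γ(P, U)] K.ideal ⟨U, hU⟩ :=
  LinearEquiv.ofBijective
    (LinearMap.codRestrict (K.ideal ⟨U, hU⟩) (idealModιL K U)
      (fun m => idealSect_mem_ideal K hU m))
    ⟨fun _ _ h => idealModιL_injective K U (congrArg Subtype.val h),
     fun y => by
      obtain ⟨m, hm⟩ := exists_idealSect_eq_of_mem K hU y.1 y.2
      exact ⟨m, Subtype.ext hm⟩⟩

theorem sectEquiv_apply (m : Γ(ClSub.idealMod K, U)) :
    ((sectEquiv K hU m : K.ideal ⟨U, hU⟩) : Γ(P, U)) = OmegaSh.idealSect K U m := rfl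

end Sect

section Rho

variable {X X' : Scheme.{u}} (v : X' ⟶ X) (K : X.IdealSheafData) (K' : X'.IdealSheafData)
  {U : X.Opens} {U' : X'.Opens} (hU : IsAffineOpen U) (hU' : IsAffineOpen U') (e : U' ≤ v ⁻¹ᵁ U)

theorem ideal_eq_map (hK : K.comap v = K') :
    K'.ideal ⟨U', hU'⟩ = (K.ideal ⟨U, hU⟩).map (v.appLE U U' e).hom := by
  rw [← hK]
  exact Groth.Agent.Lib.Helper82.ideal_comap_of_le v K U' hU' U hU e

theorem appLE_mem (hK : K.comap v ≤ K') (x : Γ(X, U)) (hx : x ∈ K.ideal ⟨U, hU⟩) :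
    (v.appLE U U' e).hom x ∈ K'.ideal ⟨U', hU'⟩ := by
  apply hK ⟨U', hU'⟩
  rw [Groth.Agent.Lib.Helper82.ideal_comap_of_le v K U' hU' U hU e]
  exact Ideal.mem_map_of_mem _ hx

/-- `v♯` on sections of ideal modules over a pair of affine opens. -/
noncomputable def rho (hK : K.comap v ≤ K') :
    Γ(ClSub.idealMod K, U) →+ Γ(ClSub.idealMod K', U') :=
  AddMonoidHom.mk' (fun m => (sectEquiv K' hU').symm
      ⟨(v.appLE U U' e).hom (OmegaSh.idealSect K U m),
        appLE_mem v K K' hU hU' e hK _ (idealSect_mem_ideal K hU m)⟩)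
    (fun a b => by
      rw [← map_add]
      congr 1
      apply Subtype.ext
      simp only [map_add, Submodule.coe_add])

theorem idealSect_rho (hK : K.comap v ≤ K') (m : Γ(ClSub.idealMod K, U)) :
    OmegaSh.idealSect K' U' (rho v K K' hU hU' e hK m) =
      (v.appLE U U' e).hom (OmegaSh.idealSect K U m) := by
  rw [← sectEquiv_apply K' hU']
  change (((sectEquiv K' hU') ((sectEquiv K' hU').symm _) : K'.ideal ⟨U', hU'⟩) : Γ(X', U')) = _
  rw [LinearEquiv.apply_symm_apply]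

theorem isUniv_rho [Flat v] (hK : K.comap v = K') :
    IsUniv (v.appLE U U' e).hom (rho v K K' hU hU' e hK.le) :=
  isUniv_of_flat _ (HasRingHomProperty.appLE (P := @Flat) v inferInstance ⟨U, hU⟩ ⟨U', hU'⟩ e)
    (K.ideal ⟨U, hU⟩) (K'.ideal ⟨U', hU'⟩) (ideal_eq_map v K K' hU hU' e hK)
    (sectEquiv K hU) (sectEquiv K' hU') _ (fun m => by
      rw [sectEquiv_apply, idealSect_rho, sectEquiv_apply])

theorem span_range_rho (hK : K.comap v = K') :
    Submodule.span Γ(X', U') (Set.range (rho v K K' hU hU' e hK.le)) = ⊤ :=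
  span_range_of_map (v.appLE U U' e).hom
    (K.ideal ⟨U, hU⟩) (K'.ideal ⟨U', hU'⟩) (ideal_eq_map v K K' hU hU' e hK)
    (sectEquiv K hU) (sectEquiv K' hU') _ (fun m => by
      rw [sectEquiv_apply, idealSect_rho, sectEquiv_apply])

/-- `v♯` maps sections of `K` to sections of `K'` over arbitrary opens. -/
theorem exists_pull_idealSect (hK : K.comap v ≤ K') (O : X.Opens)
    (m : Γ(ClSub.idealMod K, O)) :
    ∃ s' : Γ(ClSub.idealMod K', v ⁻¹ᵁ O),
      OmegaSh.idealSect K' (v ⁻¹ᵁ O) s' = v.app O (OmegaSh.idealSect K O m) := by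
  apply exists_idealSect_eq_of_subschemeι
  have hle : K ≤ K'.map v := IdealSheafData.le_map_iff_comap_le.mpr hK
  have hw : IdealSheafData.subschemeMap K' K v hle ≫ K.subschemeι = K'.subschemeι ≫ v :=
    IdealSheafData.subschemeMap_subschemeι K' K v hle
  have h1 : (K'.subschemeι ≫ v).app O (OmegaSh.idealSect K O m) = 0 := by
    apply app_eq_of_eq hw
    rw [Scheme.Hom.comp_app]
    change (IdealSheafData.subschemeMap K' K v hle).app _
      (K.subschemeι.app O (OmegaSh.idealSect K O m)) = 0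
    rw [subschemeι_app_idealSect, map_zero]
  rw [Scheme.Hom.comp_app] at h1
  exact h1

end Rho

section Compat

variable {Y X Y' X' : Scheme.{u}} (f' : Y' ⟶ X') (f : Y ⟶ X) (v : X' ⟶ X) (u : Y' ⟶ Y)
  (K' : X'.IdealSheafData) (K : X.IdealSheafData)

/-- Compatibility of a map of pulled-back ideal modules with `v♯`; `PrinPart.IsGrMap` and
`OmegaSh.IsConormalMap` are instances. -/
def IsIdMap (φ : (Scheme.Modules.pullback u).obj
      ((Scheme.Modules.pullback f).obj (ClSub.idealMod K)) ⟶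
    (Scheme.Modules.pullback f').obj (ClSub.idealMod K')) : Prop :=
  u ≫ f = f' ≫ v ∧
  ∀ (U : X.Opens) (s : Γ(ClSub.idealMod K, U)) (s' : Γ(ClSub.idealMod K', v ⁻¹ᵁ U)),
    OmegaSh.idealSect K' (v ⁻¹ᵁ U) s' = v.app U (OmegaSh.idealSect K U s) →
    ∀ (V : Y'.Opens) (h₁ : V ≤ u ⁻¹ᵁ (f ⁻¹ᵁ U)) (h₂ : V ≤ f' ⁻¹ᵁ (v ⁻¹ᵁ U)),
      ((Scheme.Modules.pullback f').obj (ClSub.idealMod K')).presheaf.map (homOfLE h₁).op
        (φ.app (u ⁻¹ᵁ (f ⁻¹ᵁ U)) (OmegaSh.pullSect u _ (f ⁻¹ᵁ U)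
          (OmegaSh.pullSect f (ClSub.idealMod K) U s))) =
      ((Scheme.Modules.pullback f').obj (ClSub.idealMod K')).presheaf.map (homOfLE h₂).op
        (OmegaSh.pullSect f' (ClSub.idealMod K') (v ⁻¹ᵁ U) s')

variable {f' f v u K' K}
variable {φ : (Scheme.Modules.pullback u).obj
      ((Scheme.Modules.pullback f).obj (ClSub.idealMod K)) ⟶
    (Scheme.Modules.pullback f').obj (ClSub.idealMod K')}

theorem IsIdMap.le_preimage (hφ : IsIdMap f' f v u K' K φ) {U : X.Opens} {U' : X'.Opens}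
    (e : U' ≤ v ⁻¹ᵁ U) : f' ⁻¹ᵁ U' ≤ u ⁻¹ᵁ (f ⁻¹ᵁ U) := by
  rw [← Scheme.Hom.comp_preimage, hφ.1, Scheme.Hom.comp_preimage]
  exact f'.preimage_mono e

theorem IsIdMap.app_pullRes (hφ : IsIdMap f' f v u K' K φ) (hK : K.comap v ≤ K') {U : X.Opens}
    {U' : X'.Opens} (hU : IsAffineOpen U) (hU' : IsAffineOpen U') (e : U' ≤ v ⁻¹ᵁ U)
    (m : Γ(ClSub.idealMod K, U)) :
    φ.app (f' ⁻¹ᵁ U') (pullRes u _ (hφ.le_preimage e)
        (pullRes f (ClSub.idealMod K) (le_refl _) m)) =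
      pullRes f' (ClSub.idealMod K') (le_refl _) (rho v K K' hU hU' e hK m) := by
  obtain ⟨s', hs'⟩ := exists_pull_idealSect v K K' hK U m
  have key := hφ.2 U m s' hs' (f' ⁻¹ᵁ U') (hφ.le_preimage e) (f'.preimage_mono e)
  have hρ : rho v K K' hU hU' e hK m = (ClSub.idealMod K').presheaf.map (homOfLE e).op s' := by
    apply idealSect_injective
    rw [idealSect_rho, idealSect_map, hs']
    rfl
  rw [hρ, pullRes_refl f' (ClSub.idealMod K'), OmegaSh.pullSect_map f' (ClSub.idealMod K') e s',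
    pullRes_refl f (ClSub.idealMod K), pullRes_eq_map, hom_app_map]
  exact key

variable [IsAffineHom f] [IsAffineHom f']

theorem IsIdMap.app_surjective (hφ : IsIdMap f' f v u K' K φ) (hK : K.comap v = K')
    {U : X.Opens} {U' : X'.Opens} (hU : IsAffineOpen U) (hU' : IsAffineOpen U')
    (e : U' ≤ v ⁻¹ᵁ U) : Function.Surjective (φ.app (f' ⁻¹ᵁ U')) := by
  have hW' : IsAffineOpen (f' ⁻¹ᵁ U') := hU'.preimage f'
  exact main_surjective (f'.appLE U' (f' ⁻¹ᵁ U') (le_refl _)).hom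
    ((pullRes u _ (hφ.le_preimage e)).comp (pullRes f (ClSub.idealMod K) (le_refl _)))
    (rho v K K' hU hU' e hK.le) (pullRes f' (ClSub.idealMod K') (le_refl _))
    (isUniv_pullRes f' _ hW' hU' (le_refl _)) (span_range_rho v K K' hU hU' e hK)
    (appL φ (f' ⁻¹ᵁ U')) (fun m => hφ.app_pullRes hK.le hU hU' e m)

theorem appLE_congr {A B : Scheme.{u}} {g g' : A ⟶ B} (h : g = g') (U : B.Opens) (W : A.Opens)
    (e : W ≤ g ⁻¹ᵁ U) : g.appLE U W e = g'.appLE U W (h ▸ e) := by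
  subst h; rfl

theorem IsIdMap.app_bijective [Flat v] (hφ : IsIdMap f' f v u K' K φ) (hK : K.comap v = K')
    {U : X.Opens} {U' : X'.Opens} (hU : IsAffineOpen U) (hU' : IsAffineOpen U')
    (e : U' ≤ v ⁻¹ᵁ U) : Function.Bijective (φ.app (f' ⁻¹ᵁ U')) := by
  have hW' : IsAffineOpen (f' ⁻¹ᵁ U') := hU'.preimage f'
  have hW : IsAffineOpen (f ⁻¹ᵁ U) := hU.preimage f
  refine main_bijective (v.appLE U U' e).hom (f'.appLE U' (f' ⁻¹ᵁ U') (le_refl _)).hom
    ((pullRes u _ (hφ.le_preimage e)).comp (pullRes f (ClSub.idealMod K) (le_refl _)))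
    (rho v K K' hU hU' e hK.le) (pullRes f' (ClSub.idealMod K') (le_refl _))
    ((u.appLE (f ⁻¹ᵁ U) (f' ⁻¹ᵁ U') (hφ.le_preimage e)).hom.comp
      (f.appLE U (f ⁻¹ᵁ U) (le_refl _)).hom) ?_
    ((isUniv_pullRes f _ hW hU (le_refl _)).comp
      (isUniv_pullRes u _ hW' hW (hφ.le_preimage e)))
    (isUniv_rho v K K' hU hU' e hK)
    (isUniv_pullRes f' _ hW' hU' (le_refl _))
    (appL φ (f' ⁻¹ᵁ U')) (fun m => hφ.app_pullRes hK.le hU hU' e m)
  rw [← CommRingCat.hom_comp, ← CommRingCat.hom_comp, Scheme.Hom.appLE_comp_appLE,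
    Scheme.Hom.appLE_comp_appLE, appLE_congr hφ.1]

end Compat

end Groth.Agent.Lib.Helper48.Nbhd
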