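import Groth.Agent.Lib.Helper48.Nbhd2

/-!
# `Gr_n` of a base-changed closed immersion (EGA IV 16.2.2 (ii), (iii))
-/

set_option autoImplicit false
universe u

open CategoryTheory CategoryTheory.Limits AlgebraicGeometry

namespace Groth.Agent.Lib.Helper48.Nbhd

open Scheme Groth.Agent.Lib.Helper48.SL Groth.Agent.Lib.Helper48.OmegaAff
  Groth.Agent.Lib.Helper48.Conormal

variable {Y X Y' X' : Scheme.{u}} {f' : Y' ⟶ X'} {f : Y ⟶ X} {v : X' ⟶ X} {u : Y' ⟶ Y}
  {K' : X'.IdealSheafData} {K : X.IdealSheafData}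
  {φ : (Scheme.Modules.pullback u).obj
      ((Scheme.Modules.pullback f).obj (ClSub.idealMod K)) ⟶
    (Scheme.Modules.pullback f').obj (ClSub.idealMod K')}

theorem isBasis_charts (f' : Y' ⟶ X') (v : X' ⟶ X) [IsImmersion f'] :
    TopologicalSpace.Opens.IsBasis {W' : Y'.Opens | ∃ U' : X'.Opens, IsGoodFor f' U' ∧
      (∃ U : X.Opens, IsAffineOpen U ∧ U' ≤ v ⁻¹ᵁ U) ∧ W' = f' ⁻¹ᵁ U'} :=
  isBasis_goodFor f' (fun U' => ∃ U : X.Opens, IsAffineOpen U ∧ U' ≤ v ⁻¹ᵁ U)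
    (fun z => exists_over_affine v (f' z))

theorem IsIdMap.epi [IsClosedImmersion f] [IsClosedImmersion f']
    (hφ : IsIdMap f' f v u K' K φ) (hK : K.comap v = K') : Epi φ := by
  refine epi_of_basis φ _ (isBasis_charts f' v) ?_
  rintro _ ⟨U', hU', ⟨U, hU, e⟩, rfl⟩
  exact hφ.app_surjective hK hU hU'.1 e

theorem IsIdMap.isIso [IsClosedImmersion f] [IsClosedImmersion f'] [Flat v]
    (hφ : IsIdMap f' f v u K' K φ) (hK : K.comap v = K') : IsIso φ := by
  have h1 : Epi φ := hφ.epi hK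
  have h2 : Mono φ := by
    refine mono_of_basis φ _ (isBasis_charts f' v) ?_
    rintro _ ⟨U', hU', ⟨U, hU, e⟩, rfl⟩
    exact (hφ.app_bijective hK hU hU'.1 e).1
  exact isIso_of_mono_of_epi φ

end Groth.Agent.Lib.Helper48.Nbhd
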