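import Groth.Agent.Lib.Helper48.Nbhd3
import Groth.Agent.Lib.Lead.CohAff3
import Mathlib.AlgebraicGeometry.Morphisms.FinitePresentation
import Mathlib.RingTheory.FinitePresentation

/-!
# Finiteness of `Gr_n` of a closed immersion locally of finite presentation
-/

set_option autoImplicit false
universe u

open CategoryTheory CategoryTheory.Limits AlgebraicGeometry

namespace Groth.Agent.Lib.Helper48.Nbhd

open Scheme Groth.Agent.Lib.Helper48.SL Groth.Agent.Lib.Helper48.OmegaAff
  Groth.Agent.Lib.Helper48.Conormal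

/-- The target of a universal semilinear map out of a finite module is finite. -/
theorem _root_.Groth.Agent.Lib.Helper48.SL.IsUniv.finite {R S : Type u} [CommRing R] [CommRing S]
    {σ : R →+* S} {M N : Type u} [AddCommGroup M] [Module R M] [AddCommGroup N] [Module S N]
    {β : M →+ N} (h : IsUniv σ β) [Module.Finite R M] : Module.Finite S N := by
  classical
  obtain ⟨s, hs⟩ := (Module.finite_def (R := R) (M := M)).mp inferInstance
  refine ⟨⟨s.image β, ?_⟩⟩
  rw [eq_top_iff, ← h.span_range, Submodule.span_le]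
  rintro _ ⟨m, rfl⟩
  have hm : m ∈ Submodule.span R (s : Set M) := by rw [hs]; trivial
  induction hm using Submodule.span_induction with
  | mem x hx => exact Submodule.subset_span (by simpa using ⟨x, hx, rfl⟩)
  | zero => rw [map_zero]; exact Submodule.zero_mem _
  | add x y _ _ hx hy => rw [map_add]; exact Submodule.add_mem _ hx hy
  | smul a x _ hx => rw [h.smul]; exact Submodule.smul_mem _ _ hx

theorem ker_app_fg {Y X : Scheme.{u}} (f : Y ⟶ X) [IsClosedImmersion f]
    [LocallyOfFinitePresentation f] {U : X.Opens} (hU : IsAffineOpen U) :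
    (RingHom.ker (f.app U).hom).FG := by
  have hfp : (f.appLE U (f ⁻¹ᵁ U) le_rfl).hom.FinitePresentation :=
    HasRingHomProperty.appLE (P := @LocallyOfFinitePresentation) f inferInstance
      ⟨U, hU⟩ ⟨f ⁻¹ᵁ U, hU.preimage f⟩ le_rfl
  rw [Scheme.Hom.appLE_eq_app] at hfp
  letI := (f.app U).hom.toAlgebra
  haveI : Algebra.FinitePresentation Γ(X, U) Γ(Y, f ⁻¹ᵁ U) := hfp
  exact Algebra.FinitePresentation.ker_fG_of_surjective
    (Algebra.ofId Γ(X, U) Γ(Y, f ⁻¹ᵁ U)) (f.app_surjective U hU)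

theorem isCoh_grMod {Y X : Scheme.{u}} (f : Y ⟶ X) [IsClosedImmersion f]
    [LocallyOfFinitePresentation f] (n : ℕ) : Coh.IsCoh (PrinPart.grMod f n) := by
  unfold PrinPart.grMod
  haveI : ((Scheme.Modules.pullback f).obj (ClSub.idealMod (f.ker ^ n))).IsQuasicoherent :=
    inferInstance
  refine ⟨inferInstance, Groth.Agent.Lib.Lead.CohAff.isFiniteType_of_finite_sections _ fun y => ?_⟩
  obtain ⟨U, hU, hyU⟩ : ∃ U : X.Opens, IsAffineOpen U ∧ f y ∈ U := by
    obtain ⟨_, ⟨U, hU : IsAffineOpen U, rfl⟩, hxU, -⟩ :=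
      (isBasis_affineOpens X).exists_subset_of_mem_open (Set.mem_univ (f y)) isOpen_univ
    exact ⟨U, hU, hxU⟩
  refine ⟨f ⁻¹ᵁ U, hU.preimage f, hyU, ?_⟩
  have hfg : ((f.ker ^ n).ideal ⟨U, hU⟩).FG := by
    rw [IdealSheafData.ideal_pow, Pi.pow_apply, Scheme.Hom.ker_apply]
    exact (ker_app_fg f hU).pow
  haveI : Module.Finite Γ(X, U) ((f.ker ^ n).ideal ⟨U, hU⟩) := Module.Finite.of_fg hfg
  haveI : Module.Finite Γ(X, U) Γ(ClSub.idealMod (f.ker ^ n), U) :=
    Module.Finite.equiv (sectEquiv (f.ker ^ n) hU).symm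
  exact (isUniv_pullRes f (ClSub.idealMod (f.ker ^ n)) (hU.preimage f) hU (le_refl _)).finite

end Groth.Agent.Lib.Helper48.Nbhd
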