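import Groth.Agent.Lib.Helper48.OmegaAff12
import Mathlib.AlgebraicGeometry.Morphisms.Flat

/-!
# Derivations on fibre products

`derKer` (kernel of a derivation as a subring), `derKer_inv`, `pushout_le_subring` (a pushout of
commutative rings is generated by the two legs), `eq_zero_of_locally`, `isAffineOpen_prodOpen`,
`isPushout_prodOpen`, and `der_eq_zero_of_isPullback`: a derivation of `X ×_S S'` relative to `S'`
killing the functions pulled back from `X` is zero.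
-/

set_option autoImplicit false
universe u

open AlgebraicGeometry CategoryTheory Opposite TopologicalSpace CategoryTheory.Limits TensorProduct

namespace Groth.Agent.Lib.Helper48.OmegaAff

section RingLevel

/-- The kernel of an additive map satisfying the Leibniz rule, as a subring. -/
def derKer {R M : Type*} [CommRing R] [AddCommGroup M] [Module R M] (δ : R →+ M)
    (hδ : ∀ a b, δ (a * b) = a • δ b + b • δ a) : Subring R where
  carrier := {r | δ r = 0}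
  mul_mem' {a b} ha hb := by
    change δ (a * b) = 0
    rw [hδ, show δ a = 0 from ha, show δ b = 0 from hb, smul_zero, smul_zero, add_zero]
  one_mem' := by
    change δ 1 = 0
    have h := hδ 1 1
    rw [mul_one, one_smul] at h
    exact left_eq_add.mp h
  add_mem' {a b} ha hb := by
    change δ (a + b) = 0
    rw [map_add, show δ a = 0 from ha, show δ b = 0 from hb, add_zero]
  zero_mem' := map_zero δ
  neg_mem' {a} ha := by
    change δ (-a) = 0
    rw [map_neg, show δ a = 0 from ha, neg_zero]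

theorem mem_derKer {R M : Type*} [CommRing R] [AddCommGroup M] [Module R M] (δ : R →+ M)
    (hδ : ∀ a b, δ (a * b) = a • δ b + b • δ a) (r : R) : r ∈ derKer δ hδ ↔ δ r = 0 := Iff.rfl

/-- If a unit is killed by a derivation, so is its inverse. -/
theorem derKer_inv {R M : Type*} [CommRing R] [AddCommGroup M] [Module R M] (δ : R →+ M)
    (hδ : ∀ a b, δ (a * b) = a • δ b + b • δ a) (u v : R) (huv : u * v = 1) (hu : δ u = 0) :
    δ v = 0 := by
  have h1 : δ (u * v) = 0 := by rw [huv]; exact (derKer δ hδ).one_mem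
  rw [hδ, hu, smul_zero, add_zero] at h1
  have h2 : v • u • δ v = 0 := by rw [h1, smul_zero]
  rwa [smul_smul, mul_comm, huv, one_smul] at h2

/-- A pushout of commutative rings is generated as a ring by the images of the two legs. -/
theorem pushout_le_subring {A B A' C : CommRingCat.{u}} {φ : A ⟶ B} {ψ : A ⟶ A'} {p₁ : B ⟶ C}
    {p₂ : A' ⟶ C} (H : IsPushout φ ψ p₁ p₂) (K : Subring C) (h₁ : ∀ b, p₁ b ∈ K)
    (h₂ : ∀ a, p₂ a ∈ K) (c : C) : c ∈ K := by
  let _ := φ.hom.toAlgebra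
  let _ := ψ.hom.toAlgebra
  let e := (CommRingCat.isPushout_tensorProduct A B A').isoIsPushout _ _ H
  have he₁ : ∀ b : B, e.hom (b ⊗ₜ 1) = p₁ b := fun b =>
    congr($((CommRingCat.isPushout_tensorProduct A B A').inl_isoIsPushout_hom _ _ H) b)
  have he₂ : ∀ a : A', e.hom (1 ⊗ₜ a) = p₂ a := fun a =>
    congr($((CommRingCat.isPushout_tensorProduct A B A').inr_isoIsPushout_hom _ _ H) a)
  have he : ∀ (b : B) (a : A'), e.hom (b ⊗ₜ a) = p₁ b * p₂ a := by
    intro b a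
    rw [← he₁, ← he₂, ← map_mul, Algebra.TensorProduct.tmul_mul_tmul, mul_one, one_mul]
  have hc : c = e.hom (e.inv c) := (congr($(e.inv_hom_id) c)).symm
  rw [hc]
  generalize e.inv c = t
  induction t using TensorProduct.induction_on with
  | zero => rw [map_zero]; exact K.zero_mem
  | tmul b a => rw [he]; exact K.mul_mem (h₁ b) (h₂ a)
  | add x y hx hy => rw [map_add]; exact K.add_mem hx hy

end RingLevel


section Local

variable {X : Scheme.{u}}

/-- A section of a module which vanishes locally vanishes. -/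
theorem eq_zero_of_locally (M : X.Modules) {W : X.Opens} (s : Γ(M, W))
    (h : ∀ z ∈ W, ∃ (W' : X.Opens) (hW' : W' ≤ W), z ∈ W' ∧
      M.presheaf.map (homOfLE hW').op s = 0) : s = 0 := by
  refine TopCat.Presheaf.section_ext ⟨M.presheaf, M.isSheaf⟩ W s 0 (fun x hx => ?_)
  obtain ⟨W', hW', hxW', hs⟩ := h x hx
  have e1 := TopCat.Presheaf.germ_res_apply M.presheaf (homOfLE hW') x hxW' s
  change M.presheaf.germ W x hx s = M.presheaf.germ W x hx 0
  rw [← e1, hs, map_zero, map_zero]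

end Local

section FibreProduct

variable {X S X' S' : Scheme.{u}} {p₁ : X' ⟶ X} {p₂ : X' ⟶ S'} {f : X ⟶ S} {g : S' ⟶ S}
  (H : IsPullback p₁ p₂ f g) {M : X'.Modules} (E : OmegaSh.Der p₂ M)
  (hE : ∀ (U : X.Opens) (b : Γ(X, U)), E.app (p₁ ⁻¹ᵁ U) (p₁.app U b) = 0)

section Affine

variable {U : X.Opens} {V : S.Opens} {V' : S'.Opens} (hUa : IsAffineOpen U)
  (hVa : IsAffineOpen V) (hV'a : IsAffineOpen V') (hU : U ≤ f ⁻¹ᵁ V) (hV' : V' ≤ g ⁻¹ᵁ V)

include H hUa hVa hV'a hU hV' in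
theorem isAffineOpen_prodOpen : IsAffineOpen (p₁ ⁻¹ᵁ U ⊓ p₂ ⁻¹ᵁ V') := by
  have : IsAffine _ := hUa
  have : IsAffine _ := hVa
  have : IsAffine _ := hV'a
  exact .of_isIso (Scheme.Hom.isPullback_resLE H hV' hU (UY := p₁ ⁻¹ᵁ U ⊓ p₂ ⁻¹ᵁ V')
    rfl).isoPullback.hom

include H hUa hVa hV'a in
theorem isPushout_prodOpen :
    IsPushout (f.appLE V U hU) (g.appLE V V' hV')
      (p₁.appLE U (p₁ ⁻¹ᵁ U ⊓ p₂ ⁻¹ᵁ V') inf_le_left)
      (p₂.appLE V' (p₁ ⁻¹ᵁ U ⊓ p₂ ⁻¹ᵁ V') inf_le_right) := by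
  have := isIso_pushoutSection_of_isAffineOpen H hV' hU (UY := p₁ ⁻¹ᵁ U ⊓ p₂ ⁻¹ᵁ V') rfl
    hVa hV'a hUa
  exact (isIso_pushoutSection_iff H hV' hU rfl).mp this

include H hE hUa hVa hV'a hU hV' in
theorem der_prodOpen_eq_zero (t : Γ(X', p₁ ⁻¹ᵁ U ⊓ p₂ ⁻¹ᵁ V')) :
    E.app (p₁ ⁻¹ᵁ U ⊓ p₂ ⁻¹ᵁ V') t = 0 := by
  refine pushout_le_subring (isPushout_prodOpen H hUa hVa hV'a hU hV')
    (derKer (E.app (p₁ ⁻¹ᵁ U ⊓ p₂ ⁻¹ᵁ V')) (der_app_mul p₂ E _)) (fun b => ?_) (fun a => ?_) t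
  · change E.app _ (p₁.appLE U (p₁ ⁻¹ᵁ U ⊓ p₂ ⁻¹ᵁ V') inf_le_left b) = 0
    rw [Scheme.Hom.appLE, CommRingCat.comp_apply]
    erw [der_app_map]
    rw [hE, map_zero]
  · exact der_app_appLE p₂ E V' _ inf_le_right a

include H hE hUa hVa hV'a hU hV' in
theorem der_basicOpen_eq_zero (r : Γ(X', p₁ ⁻¹ᵁ U ⊓ p₂ ⁻¹ᵁ V'))
    (t : Γ(X', X'.basicOpen r)) : E.app (X'.basicOpen r) t = 0 := by
  have hP := isAffineOpen_prodOpen H hUa hVa hV'a hU hV'
  have hloc := hP.isLocalization_basicOpen r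
  obtain ⟨⟨a, m⟩, ham⟩ := IsLocalization.surj (Submonoid.powers r) t
  have hm : IsUnit (algebraMap _ Γ(X', X'.basicOpen r) (m : Γ(X', p₁ ⁻¹ᵁ U ⊓ p₂ ⁻¹ᵁ V'))) :=
    IsLocalization.map_units _ m
  have hres : ∀ c : Γ(X', p₁ ⁻¹ᵁ U ⊓ p₂ ⁻¹ᵁ V'),
      E.app (X'.basicOpen r) (algebraMap _ Γ(X', X'.basicOpen r) c) = 0 := by
    intro c
    change E.app (X'.basicOpen r) (X'.presheaf.map (homOfLE (X'.basicOpen_le r)).op c) = 0
    rw [der_app_map, der_prodOpen_eq_zero H E hE hUa hVa hV'a hU hV', map_zero]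
  have h1 := congrArg (E.app (X'.basicOpen r)) ham
  rw [der_app_mul, hres, hres, smul_zero, zero_add] at h1
  exact hm.smul_eq_zero.mp h1

end Affine

include H hE in
/-- A derivation on a fibre product `X ×_S S'` relative to `S'` which kills the functions coming
from `X` is zero. -/
theorem der_eq_zero_of_isPullback (W : X'.Opens) (t : Γ(X', W)) : E.app W t = 0 := by
  refine eq_zero_of_locally M _ (fun z hz => ?_)
  obtain ⟨_, ⟨V, hV : IsAffineOpen V, rfl⟩, hsV, -⟩ :=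
    (S.isBasis_affineOpens).exists_subset_of_mem_open (Set.mem_univ (f (p₁ z))) isOpen_univ
  obtain ⟨_, ⟨U, hU : IsAffineOpen U, rfl⟩, hxU, hUV⟩ :=
    (X.isBasis_affineOpens).exists_subset_of_mem_open
      (show p₁ z ∈ ((f ⁻¹ᵁ V : X.Opens) : Set X) from hsV) (f ⁻¹ᵁ V).isOpen
  have hgz : g (p₂ z) ∈ V := by
    have : g (p₂ z) = f (p₁ z) := by
      rw [← Scheme.Hom.comp_apply, ← Scheme.Hom.comp_apply, H.w]
    rw [this]; exact hsV
  obtain ⟨_, ⟨V', hV' : IsAffineOpen V', rfl⟩, hsV', hV'V⟩ :=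
    (S'.isBasis_affineOpens).exists_subset_of_mem_open
      (show p₂ z ∈ ((g ⁻¹ᵁ V : S'.Opens) : Set S') from hgz) (g ⁻¹ᵁ V).isOpen
  have hP := isAffineOpen_prodOpen H hU hV hV' hUV hV'V
  have hzP : z ∈ p₁ ⁻¹ᵁ U ⊓ p₂ ⁻¹ᵁ V' := ⟨hxU, hsV'⟩
  obtain ⟨r, hrW, hzr⟩ := hP.exists_basicOpen_le ⟨z, hz⟩ hzP
  refine ⟨X'.basicOpen r, hrW, hzr, ?_⟩
  rw [← der_app_map]
  exact der_basicOpen_eq_zero H E hE hU hV hV' hUV hV'V r _

end FibreProduct

end Groth.Agent.Lib.Helper48.OmegaAff
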