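import Groth.Agent.Lib.Helper48.SemiUniv
import Groth.Agent.Lib.Helper78.FlatSES
import Mathlib.RingTheory.Flat.Equalizer
import Mathlib.RingTheory.TensorProduct.Basic
import Mathlib.RingTheory.Ideal.Quotient.Operations

/-!
# Base change of `I^n/I^(n+1)` for the ideal of a section (EGA IV 16.2.3 / 16.2.4), ring level
-/

set_option autoImplicit false
universe u

open TensorProduct

namespace Groth.Agent.Lib.Helper48.SL

section Quot

variable {A B : Type u} [CommRing A] [CommRing B]

/-- `M → M/IM` is universal along a surjection with kernel `I`. -/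
theorem isUniv_of_surjective (π : A →+* B) (hπ : Function.Surjective π) {M N : Type u}
    [AddCommGroup M] [Module A M] [AddCommGroup N] [Module B N] (q : M →+ N)
    (hq : ∀ (r : A) (m : M), q (r • m) = π r • q m) (hsurj : Function.Surjective q)
    (hker : ∀ m, q m = 0 → m ∈ (RingHom.ker π • ⊤ : Submodule A M)) : IsUniv π q := by
  refine ⟨hq, fun Q _ _ l hl => ?_⟩
  have hl0 : ∀ m ∈ (RingHom.ker π • ⊤ : Submodule A M), l m = 0 := by
    intro m hm
    refine Submodule.smul_induction_on hm (fun r hr n _ => ?_) (fun x y hx hy => ?_)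
    · rw [hl, RingHom.mem_ker.mp hr, zero_smul]
    · rw [map_add, hx, hy, add_zero]
  have hlq : ∀ m, q m = 0 → l m = 0 := fun m hm => hl0 m (hker m hm)
  let α₀ : N →+ Q := q.liftOfRightInverse (Function.surjInv hsurj)
    (Function.rightInverse_surjInv hsurj) ⟨l, fun m hm => hlq m hm⟩
  have hα₀ : ∀ m, α₀ (q m) = l m := fun m =>
    AddMonoidHom.liftOfRightInverse_comp_apply _ _ (Function.rightInverse_surjInv hsurj) _ m
  refine ⟨{ toFun := α₀, map_add' := map_add α₀, map_smul' := ?_ }, hα₀, ?_⟩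
  · intro b n
    obtain ⟨r, rfl⟩ := hπ b
    obtain ⟨m, rfl⟩ := hsurj n
    rw [RingHom.id_apply, ← hq, hα₀, hα₀, hl]
  · intro α hα
    ext n
    obtain ⟨m, rfl⟩ := hsurj n
    exact (hα m).trans (hα₀ m).symm

end Quot

/-- Ring data of a section and its base change. -/
structure SecData (B A B' A' : Type u) [CommRing B] [CommRing A] [CommRing B'] [CommRing A'] where
  γ : B →+* A
  π : A →+* B
  b : B →+* B'
  a : A →+* A'
  γ' : B' →+* A'
  π' : A' →+* B'
  hπγ : ∀ x, π (γ x) = x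
  hπγ' : ∀ x, π' (γ' x) = x
  hπa : ∀ x, π' (a x) = b (π x)
  hpo : ∀ (T : Type u) [CommRing T] (s : A →+* T) (t : B' →+* T),
    (∀ x, s (γ x) = t (b x)) → ∃ θ : A' →+* T, (∀ x, θ (a x) = s x) ∧ ∀ y, θ (γ' y) = t y
  hker : RingHom.ker π' = (RingHom.ker π).map a

variable {B A B' A' : Type u} [CommRing B] [CommRing A] [CommRing B'] [CommRing A']

/-- The `B`-algebra structure on `A ⧸ J` through `γ`. -/
abbrev quotAlg (γ : B →+* A) (J : Ideal A) : Algebra B (A ⧸ J) :=
  ((Ideal.Quotient.mk J).comp γ).toAlgebra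

namespace SecData

variable (D : SecData B A B' A')

theorem sub_mem_ker (r : A) : r - D.γ (D.π r) ∈ RingHom.ker D.π := by
  rw [RingHom.mem_ker, map_sub, D.hπγ, sub_self]

theorem sub_mem_ker' (r : A') : r - D.γ' (D.π' r) ∈ RingHom.ker D.π' := by
  rw [RingHom.mem_ker, map_sub, D.hπγ', sub_self]

theorem π_surjective : Function.Surjective D.π := fun x => ⟨D.γ x, D.hπγ x⟩

theorem map_mem (n : ℕ) (x : A) (hx : x ∈ RingHom.ker D.π ^ n) :
    D.a x ∈ RingHom.ker D.π' ^ n := by
  rw [D.hker, ← Ideal.map_pow]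
  exact Ideal.mem_map_of_mem _ hx

set_option maxHeartbeats 1600000 in
/-- **Core**: injectivity of the base change map on `I^n/I^(n+1)` when `A/I^n` is `B`-flat. -/
theorem injective (n : ℕ)
    (hflat : @Module.Flat B (A ⧸ RingHom.ker D.π ^ n) _ _ (quotAlg D.γ _).toModule)
    {P P' : Type u} [AddCommGroup P] [Module B' P] [AddCommGroup P'] [Module B' P']
    (β : ↥(RingHom.ker D.π ^ n) →+ P) (hβ : IsUniv (D.b.comp D.π) β)
    (β' : ↥(RingHom.ker D.π' ^ n) →+ P') (hβ' : IsUniv D.π' β')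
    (φ : P →ₗ[B'] P')
    (hφ : ∀ x : ↥(RingHom.ker D.π ^ n), φ (β x) = β' ⟨D.a x, D.map_mem n x x.2⟩) :
    Function.Injective φ := by
  set I := RingHom.ker D.π with hI
  set I' := RingHom.ker D.π' with hI'
  letI alg₁ : Algebra B (A ⧸ I ^ (n + 1)) := quotAlg D.γ _
  letI alg₀ : Algebra B (A ⧸ I ^ n) := quotAlg D.γ _
  letI algB' : Algebra B B' := D.b.toAlgebra
  haveI : Module.Flat B (A ⧸ I ^ n) := hflat
  -- the factor map
  let facR : A ⧸ I ^ (n + 1) →+* A ⧸ I ^ n :=
    Ideal.Quotient.factor (Ideal.pow_le_pow_right (Nat.le_succ n))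
  let fac : A ⧸ I ^ (n + 1) →ₗ[B] A ⧸ I ^ n :=
    { toFun := facR
      map_add' := map_add facR
      map_smul' := fun c x => by
        rw [Algebra.smul_def, Algebra.smul_def, map_mul, RingHom.id_apply]
        rfl }
  have hfac_surj : Function.Surjective fac :=
    Ideal.Quotient.factor_surjective (Ideal.pow_le_pow_right (Nat.le_succ n))
  let N := LinearMap.ker fac
  -- q : I^n → N
  have hqmem : ∀ x : ↥(I ^ n), Ideal.Quotient.mk (I ^ (n + 1)) (x : A) ∈ N := fun x => by
    change facR (Ideal.Quotient.mk (I ^ (n + 1)) (x : A)) = 0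
    rw [Ideal.Quotient.factor_mk, Ideal.Quotient.eq_zero_iff_mem]
    exact x.2
  let q : ↥(I ^ n) →+ N :=
    { toFun := fun x => ⟨Ideal.Quotient.mk (I ^ (n + 1)) (x : A), hqmem x⟩
      map_zero' := by apply Subtype.ext; simp
      map_add' := fun x y => by apply Subtype.ext; simp }
  have hq_apply : ∀ x : ↥(I ^ n), ((q x : N) : A ⧸ I ^ (n + 1)) =
      Ideal.Quotient.mk (I ^ (n + 1)) (x : A) := fun x => rfl
  have hmulmem : ∀ (r : A) (x : A), r ∈ I → x ∈ I ^ n → r * x ∈ I ^ (n + 1) := fun r x hr hx => by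
    rw [pow_succ']
    exact Ideal.mul_mem_mul hr hx
  have hq : IsUniv D.π q := by
    refine isUniv_of_surjective D.π D.π_surjective q (fun r x => ?_) (fun y => ?_) (fun x hx => ?_)
    · apply Subtype.ext
      rw [Submodule.coe_smul, hq_apply, hq_apply, Algebra.smul_def]
      change Ideal.Quotient.mk (I ^ (n + 1)) ((r • x : ↥(I ^ n)) : A) =
        Ideal.Quotient.mk (I ^ (n + 1)) (D.γ (D.π r)) * Ideal.Quotient.mk (I ^ (n + 1)) (x : A)
      rw [← map_mul, Ideal.Quotient.eq, Submodule.coe_smul, smul_eq_mul, ← sub_mul]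
      exact hmulmem _ _ (D.sub_mem_ker r) x.2
    · obtain ⟨z, hz⟩ := Ideal.Quotient.mk_surjective (y : A ⧸ I ^ (n + 1))
      have hz' : z ∈ I ^ n := by
        have h0 : fac (y : A ⧸ I ^ (n + 1)) = 0 := y.2
        rw [← hz] at h0
        change facR (Ideal.Quotient.mk (I ^ (n + 1)) z) = 0 at h0
        rwa [Ideal.Quotient.factor_mk, Ideal.Quotient.eq_zero_iff_mem] at h0
      exact ⟨⟨z, hz'⟩, Subtype.ext hz⟩
    · have h0 : Ideal.Quotient.mk (I ^ (n + 1)) (x : A) = 0 := congrArg Subtype.val hx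
      rw [Ideal.Quotient.eq_zero_iff_mem, pow_succ', ← smul_eq_mul] at h0
      have h1 : Submodule.map (I ^ n).subtype (I • ⊤ : Submodule A ↥(I ^ n)) = I • I ^ n := by
        rw [Submodule.map_smul'', Submodule.map_top, Submodule.range_subtype]
      rw [← h1] at h0
      obtain ⟨x', hx', hxx'⟩ := h0
      have : x' = x := Subtype.ext hxx'
      rw [← this]
      exact hx'
  -- tensor
  let tN : N →+ B' ⊗[B] N := (TensorProduct.mk B B' N 1).toAddMonoidHom
  have htN : IsUniv D.b tN := IsUniv.of_isBaseChange _ (TensorProduct.isBaseChange B N B')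
  have hcomp : IsUniv (D.b.comp D.π) (tN.comp q) := hq.comp htN
  obtain ⟨c, hc, -⟩ := hβ.lift (B' ⊗[B] N) (tN.comp q) hcomp.smul
  have hcbij : Function.Bijective c := hβ.bijective_of_comm hcomp c hc
  let j₀ : B' ⊗[B] N →ₗ[B'] B' ⊗[B] (A ⧸ I ^ (n + 1)) :=
    TensorProduct.AlgebraTensorModule.lTensor B' B' N.subtype
  have hj₀ : Function.Injective j₀ :=
    LinearMap.lTensor_injective_of_exact_of_flat fac hfac_surj N.subtype N.injective_subtype
      (LinearMap.exact_subtype_ker_map fac) B'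
  -- the ring map θ
  let T := B' ⊗[B] (A ⧸ I ^ (n + 1))
  let s : A →+* T := (Algebra.TensorProduct.includeRight (R := B) (A := B')
    (B := A ⧸ I ^ (n + 1))).toRingHom.comp (Ideal.Quotient.mk (I ^ (n + 1)))
  let t : B' →+* T := (Algebra.TensorProduct.includeLeft (R := B) (S := B) (A := B')
    (B := A ⧸ I ^ (n + 1))).toRingHom
  have hst : ∀ x, s (D.γ x) = t (D.b x) := by
    intro x
    change (1 : B') ⊗ₜ[B] (Ideal.Quotient.mk (I ^ (n + 1)) (D.γ x)) = (D.b x) ⊗ₜ[B] (1 : A ⧸ I ^ (n + 1))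
    have e1 : Ideal.Quotient.mk (I ^ (n + 1)) (D.γ x) = x • (1 : A ⧸ I ^ (n + 1)) := by
      rw [Algebra.smul_def, mul_one]; rfl
    have e2 : D.b x = x • (1 : B') := by
      rw [Algebra.smul_def, mul_one]; rfl
    rw [e1, e2, TensorProduct.tmul_smul, TensorProduct.smul_tmul']
  obtain ⟨θ, hθa, hθγ'⟩ := D.hpo T s t hst
  have hθ0 : ∀ z ∈ I' ^ (n + 1), θ z = 0 := by
    have hle : I' ^ (n + 1) ≤ RingHom.ker θ := by
      rw [hI', D.hker, ← Ideal.map_pow, Ideal.map_le_iff_le_comap]
      intro x hx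
      rw [Ideal.mem_comap, RingHom.mem_ker, hθa]
      change (1 : B') ⊗ₜ[B] (Ideal.Quotient.mk (I ^ (n + 1)) x) = 0
      rw [Ideal.Quotient.eq_zero_iff_mem.mpr hx, TensorProduct.tmul_zero]
    exact fun z hz => RingHom.mem_ker.mp (hle hz)
  let lk : ↥(I' ^ n) →+ T := θ.toAddMonoidHom.comp (I' ^ n).subtype.toAddMonoidHom
  have hlk : ∀ (r : A') (x : ↥(I' ^ n)), lk (r • x) = D.π' r • lk x := by
    intro r x
    change θ (r * (x : A')) = D.π' r • θ (x : A')
    have hsm : ∀ (b' : B') (z : T), b' • z = t b' * z := fun b' z => Algebra.smul_def b' z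
    rw [hsm]
    rw [← hθγ', ← map_mul, ← sub_eq_zero, ← map_sub, ← sub_mul]
    apply hθ0
    rw [pow_succ']
    exact Ideal.mul_mem_mul (D.sub_mem_ker' r) x.2
  obtain ⟨k, hk, -⟩ := hβ'.lift T lk hlk
  have hcomm : k.comp φ = j₀.comp c := hβ.hom_ext _ _ (fun x => by
    rw [LinearMap.comp_apply, LinearMap.comp_apply, hφ, hk, hc]
    change θ (D.a x) = (1 : B') ⊗ₜ[B] (Ideal.Quotient.mk (I ^ (n + 1)) (x : A))
    rw [hθa]
    rfl)
  have hinj : Function.Injective (k.comp φ) := by
    rw [hcomm]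
    exact hj₀.comp hcbij.1
  exact Function.Injective.of_comp hinj

set_option maxHeartbeats 1600000 in
/-- If the graded pieces `I^k/I^(k+1)` (any universal models of them) are `B`-flat for `k < n`,
then `A/I^n` is `B`-flat. -/
theorem flat_quot (n : ℕ)
    (hP : ∀ k < n, ∃ (P : Type u) (_ : AddCommGroup P) (_ : Module B P)
      (β : ↥(RingHom.ker D.π ^ k) →+ P), IsUniv D.π β ∧ Module.Flat B P) :
    @Module.Flat B (A ⧸ RingHom.ker D.π ^ n) _ _ (quotAlg D.γ _).toModule := by
  induction n with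
  | zero =>
    letI alg₀ : Algebra B (A ⧸ RingHom.ker D.π ^ 0) := quotAlg D.γ _
    haveI : Subsingleton (A ⧸ RingHom.ker D.π ^ 0) := by
      rw [pow_zero, Ideal.one_eq_top]
      exact Ideal.Quotient.subsingleton_iff.mpr rfl
    haveI := Module.Free.of_subsingleton B (A ⧸ RingHom.ker D.π ^ 0)
    infer_instance
  | succ n ih =>
    have hflat := ih (fun k hk => hP k (Nat.lt_succ_of_lt hk))
    set I := RingHom.ker D.π with hI
    obtain ⟨P, _, _, β, hβ, hPflat⟩ := hP n (Nat.lt_succ_self n)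
    letI alg₁ : Algebra B (A ⧸ I ^ (n + 1)) := quotAlg D.γ _
    letI alg₀ : Algebra B (A ⧸ I ^ n) := quotAlg D.γ _
    haveI : Module.Flat B (A ⧸ I ^ n) := hflat
    let facR : A ⧸ I ^ (n + 1) →+* A ⧸ I ^ n :=
      Ideal.Quotient.factor (Ideal.pow_le_pow_right (Nat.le_succ n))
    let fac : A ⧸ I ^ (n + 1) →ₗ[B] A ⧸ I ^ n :=
      { toFun := facR
        map_add' := map_add facR
        map_smul' := fun c x => by
          rw [Algebra.smul_def, Algebra.smul_def, map_mul, RingHom.id_apply]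
          rfl }
    have hfac_surj : Function.Surjective fac :=
      Ideal.Quotient.factor_surjective (Ideal.pow_le_pow_right (Nat.le_succ n))
    let N := LinearMap.ker fac
    have hqmem : ∀ x : ↥(I ^ n), Ideal.Quotient.mk (I ^ (n + 1)) (x : A) ∈ N := fun x => by
      change facR (Ideal.Quotient.mk (I ^ (n + 1)) (x : A)) = 0
      rw [Ideal.Quotient.factor_mk, Ideal.Quotient.eq_zero_iff_mem]
      exact x.2
    let q : ↥(I ^ n) →+ N :=
      { toFun := fun x => ⟨Ideal.Quotient.mk (I ^ (n + 1)) (x : A), hqmem x⟩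
        map_zero' := by apply Subtype.ext; simp
        map_add' := fun x y => by apply Subtype.ext; simp }
    have hq_apply : ∀ x : ↥(I ^ n), ((q x : N) : A ⧸ I ^ (n + 1)) =
        Ideal.Quotient.mk (I ^ (n + 1)) (x : A) := fun x => rfl
    have hmulmem : ∀ (r : A) (x : A), r ∈ I → x ∈ I ^ n → r * x ∈ I ^ (n + 1) :=
      fun r x hr hx => by
        rw [pow_succ']
        exact Ideal.mul_mem_mul hr hx
    have hq : IsUniv D.π q := by
      refine isUniv_of_surjective D.π D.π_surjective q (fun r x => ?_) (fun y => ?_)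
        (fun x hx => ?_)
      · apply Subtype.ext
        rw [Submodule.coe_smul, hq_apply, hq_apply, Algebra.smul_def]
        change Ideal.Quotient.mk (I ^ (n + 1)) ((r • x : ↥(I ^ n)) : A) =
          Ideal.Quotient.mk (I ^ (n + 1)) (D.γ (D.π r)) * Ideal.Quotient.mk (I ^ (n + 1)) (x : A)
        rw [← map_mul, Ideal.Quotient.eq, Submodule.coe_smul, smul_eq_mul, ← sub_mul]
        exact hmulmem _ _ (D.sub_mem_ker r) x.2
      · obtain ⟨z, hz⟩ := Ideal.Quotient.mk_surjective (y : A ⧸ I ^ (n + 1))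
        have hz' : z ∈ I ^ n := by
          have h0 : fac (y : A ⧸ I ^ (n + 1)) = 0 := y.2
          rw [← hz] at h0
          change facR (Ideal.Quotient.mk (I ^ (n + 1)) z) = 0 at h0
          rwa [Ideal.Quotient.factor_mk, Ideal.Quotient.eq_zero_iff_mem] at h0
        exact ⟨⟨z, hz'⟩, Subtype.ext hz⟩
      · have h0 : Ideal.Quotient.mk (I ^ (n + 1)) (x : A) = 0 := congrArg Subtype.val hx
        rw [Ideal.Quotient.eq_zero_iff_mem, pow_succ', ← smul_eq_mul] at h0
        have h1 : Submodule.map (I ^ n).subtype (I • ⊤ : Submodule A ↥(I ^ n)) = I • I ^ n := by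
          rw [Submodule.map_smul'', Submodule.map_top, Submodule.range_subtype]
        rw [← h1] at h0
        obtain ⟨x', hx', hxx'⟩ := h0
        have : x' = x := Subtype.ext hxx'
        rw [← this]
        exact hx'
    -- N ≅ P
    obtain ⟨c, hc, -⟩ := hq.lift P β hβ.smul
    have hcbij : Function.Bijective c := hq.bijective_of_comm hβ c hc
    haveI : Module.Flat B N := Module.Flat.of_linearEquiv (LinearEquiv.ofBijective c hcbij)
    exact (Groth.Agent.Lib.Helper78.FlatSES.flat_iff_of_exact N.subtype fac N.injective_subtype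
      (LinearMap.exact_subtype_ker_map fac) hfac_surj).mpr inferInstance

/-- The universal model of `I^0/I^1` is `B` itself. -/
theorem univ_zero : ∃ (P : Type u) (_ : AddCommGroup P) (_ : Module B P)
    (β : ↥(RingHom.ker D.π ^ 0) →+ P), IsUniv D.π β ∧ Module.Flat B P := by
  let β : ↥(RingHom.ker D.π ^ 0) →+ B := D.π.toAddMonoidHom.comp
    (RingHom.ker D.π ^ 0).subtype.toAddMonoidHom
  refine ⟨B, inferInstance, inferInstance, β, ?_, inferInstance⟩
  refine isUniv_of_surjective D.π D.π_surjective β (fun r x => ?_) (fun y => ?_) (fun x hx => ?_)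
  · change D.π (r * (x : A)) = D.π r * D.π (x : A)
    rw [map_mul]
  · refine ⟨⟨D.γ y, by rw [pow_zero, Ideal.one_eq_top]; trivial⟩, D.hπγ y⟩
  · have hx' : (x : A) ∈ RingHom.ker D.π := hx
    have h1 : x = (⟨(x : A), hx'⟩ : RingHom.ker D.π) • (⟨1, by rw [pow_zero, Ideal.one_eq_top]; trivial⟩ :
        ↥(RingHom.ker D.π ^ 0)) := by
      apply Subtype.ext
      change (x : A) = (x : A) * 1
      rw [mul_one]
    rw [h1]
    exact Submodule.smul_mem_smul hx' trivial

/-- Variant of `flat_quot` asking for flat models only in degrees `0 < k < n`. -/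
theorem flat_quot' (n : ℕ)
    (hP : ∀ k < n, 0 < k → ∃ (P : Type u) (_ : AddCommGroup P) (_ : Module B P)
      (β : ↥(RingHom.ker D.π ^ k) →+ P), IsUniv D.π β ∧ Module.Flat B P) :
    @Module.Flat B (A ⧸ RingHom.ker D.π ^ n) _ _ (quotAlg D.γ _).toModule := by
  refine D.flat_quot n (fun k hk => ?_)
  by_cases h0 : k = 0
  · subst h0
    exact D.univ_zero
  · exact hP k hk (Nat.pos_of_ne_zero h0)

end SecData

end Groth.Agent.Lib.Helper48.SL
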