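import Groth.Agent.Lib.Helper48.Nbhd3
import Groth.Agent.Lib.Helper48.SectionBC
import Groth.Agent.Lib.Helper48.OmegaAff13

/-!
# `Gr_n` of a section under base change (EGA IV 16.2.3, 16.2.4): charts
-/

set_option autoImplicit false
universe u

open CategoryTheory CategoryTheory.Limits AlgebraicGeometry

namespace Groth.Agent.Lib.Helper48.Nbhd

open Scheme Groth.Agent.Lib.Helper48.SL Groth.Agent.Lib.Helper48.OmegaAff
  Groth.Agent.Lib.Helper48.Conormal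

section PullRes

variable {X Y : Scheme.{u}} (f : X ⟶ Y) (G : Y.Modules)

theorem pullRes_map_left {U U₁ : X.Opens} {V : Y.Opens} (e : U ≤ f ⁻¹ᵁ V) (h : U₁ ≤ U)
    (m : Γ(G, V)) :
    ((Scheme.Modules.pullback f).obj G).presheaf.map (homOfLE h).op (pullRes f G e m) =
      pullRes f G (h.trans e) m := by
  rw [pullRes_eq_map, pullRes_eq_map, OmegaSh.resM_resM]
  rfl

end PullRes

section Compat'

variable {Y X Y' X' : Scheme.{u}} {f' : Y' ⟶ X'} {f : Y ⟶ X} {v : X' ⟶ X} {u : Y' ⟶ Y}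
  {K' : X'.IdealSheafData} {K : X.IdealSheafData}
  {φ : (Scheme.Modules.pullback u).obj
      ((Scheme.Modules.pullback f).obj (ClSub.idealMod K)) ⟶
    (Scheme.Modules.pullback f').obj (ClSub.idealMod K')}

/-- Version of `IsIdMap.app_pullRes` over any open `W' ≤ f'⁻¹U'`. -/
theorem IsIdMap.app_pullRes' (hφ : IsIdMap f' f v u K' K φ) (hK : K.comap v ≤ K') {U : X.Opens}
    {U' : X'.Opens} (hU : IsAffineOpen U) (hU' : IsAffineOpen U') (e : U' ≤ v ⁻¹ᵁ U)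
    {W' : Y'.Opens} (e₃ : W' ≤ f' ⁻¹ᵁ U') (m : Γ(ClSub.idealMod K, U)) :
    φ.app W' (pullRes u _ (e₃.trans (hφ.le_preimage e))
        (pullRes f (ClSub.idealMod K) (le_refl _) m)) =
      pullRes f' (ClSub.idealMod K') e₃ (rho v K K' hU hU' e hK m) := by
  rw [← pullRes_map_left u _ (hφ.le_preimage e) e₃, hom_app_map, hφ.app_pullRes hK hU hU' e m,
    pullRes_map_left]

end Compat'

section Section

variable {X Y : Scheme.{u}} (g : X ⟶ Y) (f : Y ⟶ X) (hf : f ≫ g = 𝟙 Y)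

include hf in
theorem preimage_preimage_of_section (V : Y.Opens) : f ⁻¹ᵁ (g ⁻¹ᵁ V) = V := by
  rw [← Scheme.Hom.comp_preimage, hf, Scheme.Hom.id_preimage]

include hf in
/-- Around every point of the section there are affine opens `U` with `g(U) ⊆ f⁻¹(U)`. -/
theorem exists_section_chart (y : Y) (O : Y.Opens) (hy : y ∈ O) :
    ∃ U : X.Opens, IsAffineOpen U ∧ f y ∈ U ∧ U ≤ g ⁻¹ᵁ (f ⁻¹ᵁ U) ∧ f ⁻¹ᵁ U ≤ O := by
  obtain ⟨V₀, hV₀, hyV₀, hV₀O⟩ : ∃ V₀ : Y.Opens, IsAffineOpen V₀ ∧ y ∈ V₀ ∧ V₀ ≤ O := by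
    obtain ⟨_, ⟨V₀, hV₀ : IsAffineOpen V₀, rfl⟩, hyV₀, hV₀O⟩ :=
      (isBasis_affineOpens Y).exists_subset_of_mem_open hy O.2
    exact ⟨V₀, hV₀, hyV₀, hV₀O⟩
  have hgf : g (f y) = y := by rw [← Scheme.Hom.comp_apply, hf]; rfl
  obtain ⟨U₀, hU₀, hyU₀, hU₀V₀⟩ : ∃ U₀ : X.Opens, IsAffineOpen U₀ ∧ f y ∈ U₀ ∧ U₀ ≤ g ⁻¹ᵁ V₀ := by
    obtain ⟨_, ⟨U₀, hU₀ : IsAffineOpen U₀, rfl⟩, hyU₀, hU₀V₀⟩ :=
      (isBasis_affineOpens X).exists_subset_of_mem_open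
        (show f y ∈ (g ⁻¹ᵁ V₀ : Set X) by change g (f y) ∈ V₀; rw [hgf]; exact hyV₀) (g ⁻¹ᵁ V₀).2
    exact ⟨U₀, hU₀, hyU₀, hU₀V₀⟩
  -- a basic open of `V₀` inside `f⁻¹U₀`
  have hy' : y ∈ V₀ ⊓ f ⁻¹ᵁ U₀ := ⟨hyV₀, hyU₀⟩
  obtain ⟨b, hb, hyb⟩ := hV₀.exists_basicOpen_le (V := V₀ ⊓ f ⁻¹ᵁ U₀) ⟨y, hy'⟩ hyV₀
  refine ⟨X.basicOpen (g.appLE V₀ U₀ hU₀V₀ b), hU₀.basicOpen _, ?_, ?_, ?_⟩
  · rw [Scheme.basicOpen_appLE]
    exact ⟨hyU₀, by change g (f y) ∈ Y.basicOpen b; rw [hgf]; exact hyb⟩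
  · rw [Scheme.basicOpen_appLE]
    have h1 : f ⁻¹ᵁ (U₀ ⊓ g ⁻¹ᵁ Y.basicOpen b) = f ⁻¹ᵁ U₀ ⊓ Y.basicOpen b := by
      rw [Scheme.Hom.preimage_inf, preimage_preimage_of_section g f hf]
    rw [h1]
    intro x hx
    exact ⟨(hb hx.2).2, hx.2⟩
  · rw [Scheme.basicOpen_appLE]
    intro x hx
    have hx2 : g (f x) ∈ Y.basicOpen b := hx.2
    have hgfx : g (f x) = x := by rw [← Scheme.Hom.comp_apply, hf]; rfl
    rw [hgfx] at hx2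
    exact hV₀O (hb hx2).1

end Section

end Groth.Agent.Lib.Helper48.Nbhd
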