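import Groth.Agent.Lib.Helper48.Nbhd5

/-!
# `Gr_n` of a section under base change: the chart computation
-/

set_option autoImplicit false
universe u

open CategoryTheory CategoryTheory.Limits AlgebraicGeometry

namespace Groth.Agent.Lib.Helper48.Nbhd

open Scheme Groth.Agent.Lib.Helper48.SL Groth.Agent.Lib.Helper48.OmegaAff
  Groth.Agent.Lib.Helper48.Conormal

theorem id_appLE' {X : Scheme.{u}} (V : X.Opens) (e : V ≤ (𝟙 X) ⁻¹ᵁ V) :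
    (𝟙 X : X ⟶ X).appLE V V e = 𝟙 _ := by
  change 𝟙 _ ≫ X.presheaf.map (𝟙 _) = 𝟙 _
  rw [X.presheaf.map_id, Category.id_comp]

section Chart

variable {X Y X' Y' : Scheme.{u}} {g : X ⟶ Y} {f : Y ⟶ X}
  {u : Y' ⟶ Y} {v : X' ⟶ X} {g' : X' ⟶ Y'} {f' : Y' ⟶ X'}

theorem isPullback_sections (hf : f ≫ g = 𝟙 Y) (hsq : IsPullback v g' g u)
    (hf' : f' ≫ g' = 𝟙 Y') (hf'v : f' ≫ v = u ≫ f) : IsPullback u f' f v := by
  have s : IsPullback (f' ≫ g') u u (f ≫ g) := by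
    rw [hf, hf']
    exact IsPullback.id_horiz u
  exact (IsPullback.of_right s hf'v hsq.flip).flip

variable [IsClosedImmersion f] [IsClosedImmersion f']

theorem preimage_prodOpen (hf' : f' ≫ g' = 𝟙 Y') (hf'v : f' ≫ v = u ≫ f) (U : X.Opens)
    (V' : Y'.Opens) : f' ⁻¹ᵁ (v ⁻¹ᵁ U ⊓ g' ⁻¹ᵁ V') = u ⁻¹ᵁ (f ⁻¹ᵁ U) ⊓ V' := by
  rw [Scheme.Hom.preimage_inf, ← Scheme.Hom.comp_preimage, hf'v, Scheme.Hom.comp_preimage,
    preimage_preimage_of_section g' f' hf']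

/-- The ring data of a chart. -/
noncomputable def secData (hf : f ≫ g = 𝟙 Y) (hsq : IsPullback v g' g u)
    (hf' : f' ≫ g' = 𝟙 Y') (hf'v : f' ≫ v = u ≫ f)
    {U : X.Opens} (hU : IsAffineOpen U) (hUV : U ≤ g ⁻¹ᵁ (f ⁻¹ᵁ U)) {V' : Y'.Opens}
    (hV' : IsAffineOpen V') (hV'V : V' ≤ u ⁻¹ᵁ (f ⁻¹ᵁ U))
    (e₃ : V' ≤ f' ⁻¹ᵁ (v ⁻¹ᵁ U ⊓ g' ⁻¹ᵁ V')) :
    SecData Γ(Y, f ⁻¹ᵁ U) Γ(X, U) Γ(Y', V') Γ(X', v ⁻¹ᵁ U ⊓ g' ⁻¹ᵁ V') where
  γ := (g.appLE (f ⁻¹ᵁ U) U hUV).hom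
  π := (f.appLE U (f ⁻¹ᵁ U) (le_refl _)).hom
  b := (u.appLE (f ⁻¹ᵁ U) V' hV'V).hom
  a := (v.appLE U (v ⁻¹ᵁ U ⊓ g' ⁻¹ᵁ V') inf_le_left).hom
  γ' := (g'.appLE V' (v ⁻¹ᵁ U ⊓ g' ⁻¹ᵁ V') inf_le_right).hom
  π' := (f'.appLE (v ⁻¹ᵁ U ⊓ g' ⁻¹ᵁ V') V' e₃).hom
  hπγ x := by
    have h := Scheme.Hom.appLE_comp_appLE f g (f ⁻¹ᵁ U) U (f ⁻¹ᵁ U) hUV (le_refl _)
    rw [appLE_congr hf, id_appLE'] at h
    exact congr($h x)
  hπγ' x := by
    have h := Scheme.Hom.appLE_comp_appLE f' g' V' (v ⁻¹ᵁ U ⊓ g' ⁻¹ᵁ V') V' inf_le_right e₃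
    rw [appLE_congr hf', id_appLE'] at h
    exact congr($h x)
  hπa x := by
    have h1 := Scheme.Hom.appLE_comp_appLE f' v U (v ⁻¹ᵁ U ⊓ g' ⁻¹ᵁ V') V' inf_le_left e₃
    have h2 := Scheme.Hom.appLE_comp_appLE u f U (f ⁻¹ᵁ U) V' (le_refl _) hV'V
    rw [appLE_congr hf'v] at h1
    exact congr($(h1.trans h2.symm) x)
  hpo T _ s t hst := by
    have H := isPushout_prodOpen hsq hU (hU.preimage f) hV' hUV hV'V
    have w : g.appLE (f ⁻¹ᵁ U) U hUV ≫ CommRingCat.ofHom s =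
        u.appLE (f ⁻¹ᵁ U) V' hV'V ≫ CommRingCat.ofHom t := by
      ext x
      exact hst x
    refine ⟨(H.desc (CommRingCat.ofHom s) (CommRingCat.ofHom t) w).hom, fun x => ?_, fun y => ?_⟩
    · exact congr($(H.inl_desc (CommRingCat.ofHom s) (CommRingCat.ofHom t) w) x)
    · exact congr($(H.inr_desc (CommRingCat.ofHom s) (CommRingCat.ofHom t) w) y)
  hker := by
    have hUa' : IsAffineOpen (v ⁻¹ᵁ U ⊓ g' ⁻¹ᵁ V') :=
      isAffineOpen_prodOpen hsq hU (hU.preimage f) hV' hUV hV'V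
    have hle : f' ⁻¹ᵁ (v ⁻¹ᵁ U ⊓ g' ⁻¹ᵁ V') ≤ V' := by
      rw [preimage_prodOpen hf' hf'v]; exact inf_le_right
    -- restriction between equal opens is injective
    have hinj : Function.Injective (Y'.presheaf.map (homOfLE e₃).op).hom := by
      have h1 : Y'.presheaf.map (homOfLE e₃).op ≫ Y'.presheaf.map (homOfLE hle).op = 𝟙 _ := by
        rw [← Functor.map_comp]; exact Y'.presheaf.map_id _
      intro x y hxy
      have := congrArg (Y'.presheaf.map (homOfLE hle).op).hom hxy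
      rw [← CommRingCat.comp_apply, ← CommRingCat.comp_apply, h1] at this
      exact this
    have hk1 : RingHom.ker (f'.appLE (v ⁻¹ᵁ U ⊓ g' ⁻¹ᵁ V') V' e₃).hom =
        RingHom.ker (f'.app (v ⁻¹ᵁ U ⊓ g' ⁻¹ᵁ V')).hom := by
      ext x
      rw [RingHom.mem_ker, RingHom.mem_ker, Scheme.Hom.appLE, CommRingCat.hom_comp,
        RingHom.comp_apply]
      exact ⟨fun h => hinj (h.trans (map_zero _).symm), fun h => by rw [h, map_zero]⟩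
    have hK := (ker_eq_comap_of_isPullback f v u f'
      (isPullback_sections hf hsq hf' hf'v)).symm
    rw [hk1, Scheme.Hom.appLE_eq_app, ← Scheme.Hom.ker_apply f' ⟨_, hUa'⟩,
      ← Scheme.Hom.ker_apply f ⟨U, hU⟩]
    exact ideal_eq_map v f.ker f'.ker hU hUa' inf_le_left hK

end Chart

end Groth.Agent.Lib.Helper48.Nbhd
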