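import Groth.Agent.Lib.Helper48.Nbhd6
import Groth.Agent.Lib.Helper2.FinLocFreeAff

/-!
# `Gr_n` of a section under base change (EGA IV 16.2.3, 16.2.4): the theorem
-/

set_option autoImplicit false
universe u

open CategoryTheory CategoryTheory.Limits AlgebraicGeometry

namespace Groth.Agent.Lib.Helper48.Nbhd

open Scheme Groth.Agent.Lib.Helper48.SL Groth.Agent.Lib.Helper48.OmegaAff
  Groth.Agent.Lib.Helper48.Conormal

/-- Sections of `K^n` over an affine open, as the `n`-th power of an ideal `J = K(U)`. -/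
noncomputable def powEquiv {P : Scheme.{u}} (K : P.IdealSheafData) (n : ℕ) {U : P.Opens}
    (hU : IsAffineOpen U) (J : Ideal Γ(P, U)) (hJ : J = K.ideal ⟨U, hU⟩) :
    Γ(ClSub.idealMod (K ^ n), U) ≃ₗ[Γ(P, U)] ↥(J ^ n) :=
  (sectEquiv (K ^ n) hU).trans (LinearEquiv.ofEq _ _ (by rw [hJ]; rfl))

theorem powEquiv_apply {P : Scheme.{u}} (K : P.IdealSheafData) (n : ℕ) {U : P.Opens}
    (hU : IsAffineOpen U) (J : Ideal Γ(P, U)) (hJ : J = K.ideal ⟨U, hU⟩)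
    (m : Γ(ClSub.idealMod (K ^ n), U)) :
    ((powEquiv K n hU J hJ m : ↥(J ^ n)) : Γ(P, U)) = OmegaSh.idealSect (K ^ n) U m := rfl

section Main

variable {X Y X' Y' : Scheme.{u}} {g : X ⟶ Y} {f : Y ⟶ X}
  {u : Y' ⟶ Y} {v : X' ⟶ X} {g' : X' ⟶ Y'} {f' : Y' ⟶ X'}
  [IsClosedImmersion f] [IsClosedImmersion f']
  (hf : f ≫ g = 𝟙 Y) (hsq : IsPullback v g' g u) (hf' : f' ≫ g' = 𝟙 Y')
  (hf'v : f' ≫ v = u ≫ f) {n : ℕ}
  {φ : (Scheme.Modules.pullback u).obj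
      ((Scheme.Modules.pullback f).obj (ClSub.idealMod (f.ker ^ n))) ⟶
    (Scheme.Modules.pullback f').obj (ClSub.idealMod (f'.ker ^ n))}
  (hφ : IsIdMap f' f v u (f'.ker ^ n) (f.ker ^ n) φ)

include hf hsq hf' hf'v hφ in
set_option maxHeartbeats 1600000 in
theorem app_injective_of_section {U : X.Opens} (hU : IsAffineOpen U)
    (hUV : U ≤ g ⁻¹ᵁ (f ⁻¹ᵁ U)) {V' : Y'.Opens} (hV' : IsAffineOpen V')
    (hV'V : V' ≤ u ⁻¹ᵁ (f ⁻¹ᵁ U))
    (hflat : ∀ k < n, 0 < k → Module.Flat Γ(Y, f ⁻¹ᵁ U)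
      Γ((Scheme.Modules.pullback f).obj (ClSub.idealMod (f.ker ^ k)), f ⁻¹ᵁ U)) :
    Function.Injective (φ.app V') := by
  have hV : IsAffineOpen (f ⁻¹ᵁ U) := hU.preimage f
  have hU' : IsAffineOpen (v ⁻¹ᵁ U ⊓ g' ⁻¹ᵁ V') :=
    isAffineOpen_prodOpen hsq hU hV hV' hUV hV'V
  have e₃ : V' ≤ f' ⁻¹ᵁ (v ⁻¹ᵁ U ⊓ g' ⁻¹ᵁ V') := by
    rw [preimage_prodOpen hf' hf'v]; exact le_inf hV'V le_rfl
  have hpb := isPullback_sections hf hsq hf' hf'v
  have hK : (f.ker ^ n).comap v = f'.ker ^ n :=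
    (ker_pow_eq_comap_of_isPullback f v u f' hpb n).symm
  let D := secData hf hsq hf' hf'v hU hUV hV' hV'V e₃
  have hKπ : RingHom.ker D.π = f.ker.ideal ⟨U, hU⟩ := by
    rw [Scheme.Hom.ker_apply]
    change RingHom.ker (f.appLE U (f ⁻¹ᵁ U) (le_refl _)).hom = _
    rw [Scheme.Hom.appLE_eq_app]
  have hKπ' : RingHom.ker D.π' = f'.ker.ideal ⟨_, hU'⟩ := by
    rw [D.hker, hKπ]
    exact (ideal_eq_map v f.ker f'.ker hU hU' inf_le_left
      (ker_eq_comap_of_isPullback f v u f' hpb).symm).symm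
  let eM := powEquiv f.ker n hU (RingHom.ker D.π) hKπ
  let eM' := powEquiv f'.ker n hU' (RingHom.ker D.π') hKπ'
  -- flatness of `A/I^n`
  have hfl : @Module.Flat Γ(Y, f ⁻¹ᵁ U) (Γ(X, U) ⧸ RingHom.ker D.π ^ n) _ _
      (quotAlg D.γ _).toModule := by
    refine D.flat_quot' n (fun k hk hk0 => ?_)
    refine ⟨Γ((Scheme.Modules.pullback f).obj (ClSub.idealMod (f.ker ^ k)), f ⁻¹ᵁ U),
      inferInstance, inferInstance,
      (pullRes f (ClSub.idealMod (f.ker ^ k)) (le_refl _)).comp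
        (powEquiv f.ker k hU (RingHom.ker D.π) hKπ).symm.toLinearMap.toAddMonoidHom,
      ?_, hflat k hk hk0⟩
    exact (isUniv_pullRes f (ClSub.idealMod (f.ker ^ k)) hV hU (le_refl _)).of_equiv
      (powEquiv f.ker k hU (RingHom.ker D.π) hKπ).symm (LinearEquiv.refl _ _) _ (fun m => rfl)
  -- the universal maps
  let β : ↥(RingHom.ker D.π ^ n) →+
      Γ((Scheme.Modules.pullback u).obj
        ((Scheme.Modules.pullback f).obj (ClSub.idealMod (f.ker ^ n))), V') :=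
    ((pullRes u _ (e₃.trans (hφ.le_preimage inf_le_left))).comp
      (pullRes f (ClSub.idealMod (f.ker ^ n)) (le_refl _))).comp
        eM.symm.toLinearMap.toAddMonoidHom
  have hβ : IsUniv (D.b.comp D.π) β :=
    ((isUniv_pullRes f (ClSub.idealMod (f.ker ^ n)) hV hU (le_refl _)).comp
      (isUniv_pullRes u _ hV' hV (e₃.trans (hφ.le_preimage inf_le_left)))).of_equiv
        eM.symm (LinearEquiv.refl _ _) β (fun m => rfl)
  let β' : ↥(RingHom.ker D.π' ^ n) →+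
      Γ((Scheme.Modules.pullback f').obj (ClSub.idealMod (f'.ker ^ n)), V') :=
    (pullRes f' (ClSub.idealMod (f'.ker ^ n)) e₃).comp eM'.symm.toLinearMap.toAddMonoidHom
  have hβ' : IsUniv D.π' β' :=
    (isUniv_pullRes f' (ClSub.idealMod (f'.ker ^ n)) hV' hU' e₃).of_equiv
      eM'.symm (LinearEquiv.refl _ _) β' (fun m => rfl)
  refine D.injective n hfl β hβ β' hβ' (appL φ V') (fun x => ?_)
  have h1 := hφ.app_pullRes' hK.le hU hU' inf_le_left e₃ (eM.symm x)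
  change φ.app V' (pullRes u _ _ (pullRes f _ _ (eM.symm x))) =
    pullRes f' _ e₃ (eM'.symm ⟨D.a x, _⟩)
  rw [h1]
  congr 1
  apply eM'.injective
  rw [LinearEquiv.apply_symm_apply]
  apply Subtype.ext
  change OmegaSh.idealSect (f'.ker ^ n) _ (rho v (f.ker ^ n) (f'.ker ^ n) hU hU' inf_le_left hK.le
    (eM.symm x)) = D.a x
  rw [idealSect_rho]
  have h2 : OmegaSh.idealSect (f.ker ^ n) U (eM.symm x) = x := by
    have h3 := powEquiv_apply f.ker n hU (RingHom.ker D.π) hKπ (eM.symm x)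
    rw [← h3]
    change ((eM (eM.symm x) : ↥(RingHom.ker D.π ^ n)) : Γ(X, U)) = x
    rw [LinearEquiv.apply_symm_apply]
  rw [h2]
  rfl

include hf hsq hf' hf'v hφ in
theorem mono_of_section
    (hflat : ∀ k < n, 0 < k →
      FlatMod.IsFlat ((Scheme.Modules.pullback f).obj (ClSub.idealMod (f.ker ^ k)))) :
    Mono φ := by
  refine mono_of_basis φ {W' | ∃ U : X.Opens, IsAffineOpen U ∧ U ≤ g ⁻¹ᵁ (f ⁻¹ᵁ U) ∧
    IsAffineOpen W' ∧ W' ≤ u ⁻¹ᵁ (f ⁻¹ᵁ U)} ?_ ?_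
  · rw [TopologicalSpace.Opens.isBasis_iff_nbhd]
    intro O y' hy'
    obtain ⟨U, hU, hyU, hUV, -⟩ := exists_section_chart g f hf (u y') ⊤ trivial
    have hmem : y' ∈ O ⊓ u ⁻¹ᵁ (f ⁻¹ᵁ U) := ⟨hy', hyU⟩
    obtain ⟨_, ⟨V', hV' : IsAffineOpen V', rfl⟩, hyV', hV'O⟩ :=
      (isBasis_affineOpens Y').exists_subset_of_mem_open hmem (O ⊓ u ⁻¹ᵁ (f ⁻¹ᵁ U)).2
    have hV'O' : V' ≤ O ⊓ u ⁻¹ᵁ (f ⁻¹ᵁ U) := hV'O
    exact ⟨V', ⟨U, hU, hUV, hV', hV'O'.trans inf_le_right⟩, hyV', hV'O'.trans inf_le_left⟩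
  · rintro V' ⟨U, hU, hUV, hV', hV'V⟩
    refine app_injective_of_section hf hsq hf' hf'v hφ hU hUV hV' hV'V (fun k hk hk0 => ?_)
    exact (Groth.Agent.Lib.Helper2.FinLocFreeAff.flat_sections_iff_isFlatAt _
      (hU.preimage f)).mpr (fun x _ => hflat k hk hk0 x)

include hf hsq hf' hf'v hφ in
theorem isIso_of_section
    (hflat : ∀ k < n, 0 < k →
      FlatMod.IsFlat ((Scheme.Modules.pullback f).obj (ClSub.idealMod (f.ker ^ k)))) :
    IsIso φ := by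
  have hpb := isPullback_sections hf hsq hf' hf'v
  have h1 : Epi φ := hφ.epi (ker_pow_eq_comap_of_isPullback f v u f' hpb n).symm
  have h2 : Mono φ := mono_of_section hf hsq hf' hf'v hφ hflat
  exact isIso_of_mono_of_epi φ

end Main

end Groth.Agent.Lib.Helper48.Nbhd
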