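import Groth.Agent.Lib.Helper48.Nbhd1

/-!
# The symmetry of the infinitesimal neighbourhoods of the diagonal (EGA IV 16.3.4)
-/

set_option autoImplicit false
universe u

open CategoryTheory CategoryTheory.Limits AlgebraicGeometry

namespace Groth.Agent.Lib.Helper48.NbhdSymm

open Scheme Groth.Agent.Lib.Helper48.Nbhd

variable {X S : Scheme.{u}} (f : X ⟶ S)

theorem diagonal_symm :
    pullback.diagonal f ≫ (pullbackSymmetry f f).hom = pullback.diagonal f := by
  apply pullback.hom_ext <;> simp

theorem symm_symm :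
    (pullbackSymmetry f f).hom ≫ (pullbackSymmetry f f).hom = 𝟙 _ := by
  apply pullback.hom_ext <;> simp

theorem symm_apply_mem_range {x : ↥(pullback f f)} (hx : x ∈ Set.range (pullback.diagonal f)) :
    (pullbackSymmetry f f).hom x ∈ Set.range (pullback.diagonal f) := by
  obtain ⟨y, rfl⟩ := hx
  refine ⟨y, ?_⟩
  rw [← Scheme.Hom.comp_apply, diagonal_symm]

theorem symm_symm_apply (x : ↥(pullback f f)) :
    (pullbackSymmetry f f).hom ((pullbackSymmetry f f).hom x) = x := by
  rw [← Scheme.Hom.comp_apply, symm_symm]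
  rfl

theorem coborder_le :
    (pullback.diagonal f).coborderRange ≤
      (pullbackSymmetry f f).hom ⁻¹ᵁ (pullback.diagonal f).coborderRange := by
  intro x hx
  change (pullbackSymmetry f f).hom x ∈ coborder (Set.range (pullback.diagonal f))
  have hx' : x ∈ coborder (Set.range (pullback.diagonal f)) := hx
  rw [coborder, Set.mem_compl_iff, Set.mem_diff, not_and, not_not] at hx' ⊢
  intro h
  apply symm_apply_mem_range
  apply hx'
  have h1 : x ∈ (pullbackSymmetry f f).hom '' closure (Set.range (pullback.diagonal f)) :=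
    ⟨_, h, symm_symm_apply f x⟩
  have h2 := image_closure_subset_closure_image (pullbackSymmetry f f).hom.continuous h1
  refine closure_mono ?_ h2
  rintro _ ⟨z, hz, rfl⟩
  exact symm_apply_mem_range f hz

/-- The symmetry restricted to the open where the diagonal is closed. -/
noncomputable def symmU :
    ((pullback.diagonal f).coborderRange : Scheme.{u}) ⟶ (pullback.diagonal f).coborderRange :=
  (pullbackSymmetry f f).hom.resLE _ _ (coborder_le f)

@[reassoc]
theorem symmU_ι : symmU f ≫ (pullback.diagonal f).coborderRange.ι =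
    (pullback.diagonal f).coborderRange.ι ≫ (pullbackSymmetry f f).hom :=
  Scheme.Hom.resLE_comp_ι _ _

@[reassoc]
theorem symmU_symmU : symmU f ≫ symmU f = 𝟙 _ := by
  rw [← cancel_mono (pullback.diagonal f).coborderRange.ι, Category.assoc, symmU_ι,
    symmU_ι_assoc, symm_symm, Category.comp_id, Category.id_comp]

@[reassoc]
theorem diagCl_symmU : PrinPart.diagCl f ≫ symmU f = PrinPart.diagCl f := by
  rw [← cancel_mono (pullback.diagonal f).coborderRange.ι, Category.assoc, symmU_ι,
    Scheme.Hom.liftCoborder_ι_assoc, Scheme.Hom.liftCoborder_ι, diagonal_symm]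

instance : IsIso (symmU f) := ⟨symmU f, symmU_symmU f, symmU_symmU f⟩

theorem ker_pow_comap (n : ℕ) :
    ((PrinPart.diagCl f).ker ^ n).comap (symmU f) = (PrinPart.diagCl f).ker ^ n := by
  have hsq : IsPullback (𝟙 X) (PrinPart.diagCl f) (PrinPart.diagCl f) (symmU f) :=
    IsPullback.of_horiz_isIso ⟨by rw [Category.id_comp, diagCl_symmU]⟩
  exact (ker_pow_eq_comap_of_isPullback (PrinPart.diagCl f) (symmU f) (𝟙 X) (PrinPart.diagCl f)
    hsq n).symm

/-- The symmetry of the `n`-th infinitesimal neighbourhood of the diagonal. -/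
noncomputable def symm (n : ℕ) : PrinPart.nbhd f n ⟶ PrinPart.nbhd f n :=
  IdealSheafData.subschemeMap _ _ (symmU f)
    ((IdealSheafData.le_map_iff_comap_le).mpr (ker_pow_comap f (n + 1)).le)

@[reassoc]
theorem symm_infNbhdι (n : ℕ) : symm f n ≫ PrinPart.infNbhdι (PrinPart.diagCl f) n =
    PrinPart.infNbhdι (PrinPart.diagCl f) n ≫ symmU f :=
  IdealSheafData.subschemeMap_subschemeι _ _ _ _

@[reassoc]
theorem symm_nbhdι (n : ℕ) : symm f n ≫ PrinPart.nbhdι f n =
    PrinPart.nbhdι f n ≫ (pullbackSymmetry f f).hom := by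
  rw [PrinPart.nbhdι, symm_infNbhdι_assoc, symmU_ι, Category.assoc]

instance (n : ℕ) : Mono (PrinPart.infNbhdι (PrinPart.diagCl f) n) := by
  unfold PrinPart.infNbhdι; infer_instance

theorem symm_symm' (n : ℕ) : symm f n ≫ symm f n = 𝟙 _ := by
  rw [← cancel_mono (PrinPart.infNbhdι (PrinPart.diagCl f) n), Category.assoc, symm_infNbhdι,
    symm_infNbhdι_assoc, symmU_symmU, Category.comp_id, Category.id_comp]

theorem symm_pr1 (n : ℕ) : symm f n ≫ PrinPart.pr1 f n = PrinPart.pr2 f n := by
  rw [PrinPart.pr1, PrinPart.pr2, symm_nbhdι_assoc, pullbackSymmetry_hom_comp_fst]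

theorem symm_pr2 (n : ℕ) : symm f n ≫ PrinPart.pr2 f n = PrinPart.pr1 f n := by
  rw [PrinPart.pr1, PrinPart.pr2, symm_nbhdι_assoc, pullbackSymmetry_hom_comp_snd]

theorem toNbhd_symm (n : ℕ) : PrinPart.toNbhd f n ≫ symm f n = PrinPart.toNbhd f n := by
  rw [← cancel_mono (PrinPart.infNbhdι (PrinPart.diagCl f) n), Category.assoc, symm_infNbhdι,
    PrinPart.toInfNbhd_ι_assoc, PrinPart.toInfNbhd_ι, diagCl_symmU]

end Groth.Agent.Lib.Helper48.NbhdSymm
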