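import Groth.Agent.Lib.Helper48.OmegaAff8

/-!
# The canonical map `h^* Ω_{X/S} → Ω_{X'/S'}` of a commutative square

`pushDer`: for a commutative square `f' ≫ b = h ≫ f` and a derivation `d' : O_{X'} → Ω'` relative to `f'`,
the derivation `O_X → h_* Ω'`, `s ↦ d'(h♯ s)` relative to `f`.  `isDiffCompat_iff` translates the frozen
`OmegaSh.IsDiffCompat` through the pullback-pushforward adjunction; `existsUnique_diffCompat` is the
existence and uniqueness of the canonical map when `d` is universal.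
-/

set_option autoImplicit false
universe u

open AlgebraicGeometry CategoryTheory Opposite TopologicalSpace CategoryTheory.Limits

namespace Groth.Agent.Lib.Helper48.OmegaAff

section PushDer

variable {X S X' S' : Scheme.{u}} (f : X ⟶ S) (f' : X' ⟶ S') (h : X' ⟶ X) (b : S' ⟶ S)
  (hsq : f' ≫ b = h ≫ f) {Ω' : X'.Modules} (d' : OmegaSh.Der f' Ω')

include hsq in
theorem der_app_comp_app (V : S.Opens) (c : Γ(S, V)) :
    d'.app (h ⁻¹ᵁ (f ⁻¹ᵁ V)) (h.app (f ⁻¹ᵁ V) (f.app V c)) = 0 := by
  have e := Scheme.Hom.congr_app hsq.symm V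
  have e2 : h.app (f ⁻¹ᵁ V) (f.app V c) = (h ≫ f).app V c := rfl
  rw [e2, e, ConcreteCategory.comp_apply]
  erw [der_app_map]
  refine (congrArg _ ?_).trans (map_zero _)
  exact der_app_app f' d' (b ⁻¹ᵁ V) (b.app V c)

/-- The derivation `O_X → h_* Ω'`, `s ↦ d'(h♯ s)`, attached to a commutative square. -/
noncomputable def pushDer : OmegaSh.Der f ((Scheme.Modules.pushforward h).obj Ω') where
  d {U} := AddMonoidHom.mk' (fun s => d'.app (h ⁻¹ᵁ U.unop) (h.app U.unop s))
    (fun s t => (congrArg _ (map_add _ s t)).trans (map_add _ _ _))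
  d_mul {U} s t := by
    change d'.app (h ⁻¹ᵁ U.unop) (h.app U.unop (s * t)) =
      (h.app U.unop s • d'.app (h ⁻¹ᵁ U.unop) (h.app U.unop t) +
        h.app U.unop t • d'.app (h ⁻¹ᵁ U.unop) (h.app U.unop s) : Γ(Ω', h ⁻¹ᵁ U.unop))
    rw [map_mul, der_app_mul]
  d_map {U U'} i s := by
    change d'.app (h ⁻¹ᵁ U'.unop) (h.app U'.unop (X.presheaf.map i s)) =
      Ω'.presheaf.map ((Opens.map h.base).map i.unop).op
        (d'.app (h ⁻¹ᵁ U.unop) (h.app U.unop s))
    have e : h.app U'.unop (X.presheaf.map i s) =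
        X'.presheaf.map (homOfLE (h.preimage_mono i.unop.le)).op (h.app U.unop s) :=
      congr($(h.naturality i) s)
    rw [e, der_app_map]
    rfl
  d_app {V} c := der_app_comp_app f f' h b hsq d' V.unop c

theorem pushDer_app (U : X.Opens) (s : Γ(X, U)) :
    (pushDer f f' h b hsq d').app U s = d'.app (h ⁻¹ᵁ U) (h.app U s) := rfl

end PushDer

section DiffCompat

variable {X S X' S' : Scheme.{u}} {f : X ⟶ S} {f' : X' ⟶ S'} (h : X' ⟶ X) (b : S' ⟶ S)
  (hsq : f' ≫ b = h ≫ f) {Ω : X.Modules} (d : OmegaSh.Der f Ω) {Ω' : X'.Modules}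
  (d' : OmegaSh.Der f' Ω')

theorem isDiffCompat_iff (c : (Scheme.Modules.pullback h).obj Ω ⟶ Ω') :
    OmegaSh.IsDiffCompat h d d' c ↔
      d.postcomp ((Scheme.Modules.pullbackPushforwardAdjunction h).homEquiv Ω Ω' c).val =
        pushDer f f' h b hsq d' := by
  constructor
  · intro hc
    ext U s
    exact (pullbackAdj_homEquiv_app h Ω Ω' c U.unop (d.app U.unop s)).trans (hc U.unop s)
  · intro hc U s
    have := PresheafOfModules.Derivation.congr_d hc (X := op U) s
    exact (pullbackAdj_homEquiv_app h Ω Ω' c U (d.app U s)).symm.trans this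

include hsq in
theorem existsUnique_diffCompat (hd : OmegaSh.IsUniversal d) :
    ∃! c : (Scheme.Modules.pullback h).obj Ω ⟶ Ω', OmegaSh.IsDiffCompat h d d' c := by
  obtain ⟨α, hα, huniq⟩ := hd _ (pushDer f f' h b hsq d')
  set E := (Scheme.Modules.pullbackPushforwardAdjunction h).homEquiv Ω Ω'
  refine ⟨E.symm α, ?_, ?_⟩
  · change OmegaSh.IsDiffCompat h d d' (E.symm α)
    rw [isDiffCompat_iff h b hsq, Equiv.apply_symm_apply]
    exact hα
  · intro c hc
    change OmegaSh.IsDiffCompat h d d' c at hc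
    rw [isDiffCompat_iff h b hsq] at hc
    rw [← huniq _ hc, Equiv.symm_apply_apply]

end DiffCompat

end Groth.Agent.Lib.Helper48.OmegaAff
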