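import Groth.Agent.Lib.Helper48.OmegaAff10
import Mathlib.CategoryTheory.Abelian.Exact

/-!
# The first exact sequence of differentials, formally

For `X ⟶ Y ⟶ Z` and universal receptacles: `f^*Ω_{Y/Z} ⟶ Ω_{X/Z} ⟶ Ω_{X/Y} ⟶ 0` is exact
(`epi_of_compat`, `exact_of_compat`), by the Yoneda argument on derivations.  Also
`weakenDer`/`strengthenDer` (change of base of derivations) and `pullbackId_inv_app` (the unit of
the pullback-pushforward adjunction for the identity is `pullbackId.inv`).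
-/

set_option autoImplicit false
universe u

open AlgebraicGeometry CategoryTheory Opposite TopologicalSpace CategoryTheory.Limits

namespace Groth.Agent.Lib.Helper48.OmegaAff

section Weaken

variable {X Y Z : Scheme.{u}} (f : X ⟶ Y) (g : Y ⟶ Z) {F : X.Modules}

/-- A `Y`-derivation of `O_X` is a `Z`-derivation. -/
noncomputable def weakenDer (D : OmegaSh.Der f F) : OmegaSh.Der (f ≫ g) F where
  d {U} := D.d (X := U)
  d_mul a b := D.d_mul a b
  d_map i s := D.d_map i s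
  d_app {V} c := der_app_app f D (g ⁻¹ᵁ V.unop) (g.app V.unop c)

theorem weakenDer_app (D : OmegaSh.Der f F) (U : X.Opens) (s : Γ(X, U)) :
    (weakenDer f g D).app U s = D.app U s := rfl

/-- A `Z`-derivation of `O_X` killing `f♯ O_Y` is a `Y`-derivation. -/
noncomputable def strengthenDer (D : OmegaSh.Der (f ≫ g) F)
    (h : ∀ (V : Y.Opens) (c : Γ(Y, V)), D.app (f ⁻¹ᵁ V) (f.app V c) = 0) : OmegaSh.Der f F where
  d {U} := D.d (X := U)
  d_mul a b := D.d_mul a b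
  d_map i s := D.d_map i s
  d_app {V} c := h V.unop c

theorem strengthenDer_app (D : OmegaSh.Der (f ≫ g) F)
    (h : ∀ (V : Y.Opens) (c : Γ(Y, V)), D.app (f ⁻¹ᵁ V) (f.app V c) = 0) (U : X.Opens)
    (s : Γ(X, U)) : (strengthenDer f g D h).app U s = D.app U s := rfl

end Weaken

section PullId

variable {X : Scheme.{u}} (M : X.Modules)

theorem pullbackId_hom_pullSect (U : X.Opens) (m : Γ(M, U)) :
    ((Scheme.Modules.pullbackId X).hom.app M).app U (OmegaSh.pullSect (𝟙 X) M U m) = m := by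
  have h := Scheme.Modules.conjugateEquiv_pullbackId_hom X
  have h2 := congr($(h).app M)
  rw [conjugateEquiv_apply_app] at h2
  have h3 := congr($(h2).app U m)
  simp only [Adjunction.id_counit, Functor.id_obj, NatTrans.id_app,
    Scheme.Modules.Hom.comp_app, Scheme.Modules.pushforward_map_app,
    Scheme.Modules.pushforwardId_inv_app_app] at h3
  exact h3

theorem pullbackId_inv_app (U : X.Opens) (m : Γ(M, U)) :
    ((Scheme.Modules.pullbackId X).inv.app M).app U m = OmegaSh.pullSect (𝟙 X) M U m := by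
  have h := pullbackId_hom_pullSect M U m
  have h2 := congrArg (((Scheme.Modules.pullbackId X).inv.app M).app U) h
  rw [← h2]
  have h3 : (Scheme.Modules.pullbackId X).hom.app M ≫ (Scheme.Modules.pullbackId X).inv.app M =
      𝟙 _ := (Scheme.Modules.pullbackId X).hom_inv_id_app M
  exact congr($(h3).app U (OmegaSh.pullSect (𝟙 X) M U m))

end PullId

section FirstSeq

variable {X Y Z : Scheme.{u}} (f : X ⟶ Y) (g : Y ⟶ Z)
    {ΩY : Y.Modules} (dY : OmegaSh.Der g ΩY) (hY : OmegaSh.IsUniversal dY)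
    {ΩX : X.Modules} (dX : OmegaSh.Der (f ≫ g) ΩX) (hX : OmegaSh.IsUniversal dX)
    {ΩXY : X.Modules} (dXY : OmegaSh.Der f ΩXY) (hXY : OmegaSh.IsUniversal dXY)
    (c₁ : (Scheme.Modules.pullback f).obj ΩY ⟶ ΩX) (hc₁ : OmegaSh.IsDiffCompat f dY dX c₁)
    (c₂ : ΩX ⟶ ΩXY) (hc₂ : ∀ (U : X.Opens) (s : Γ(X, U)), c₂.app U (dX.app U s) = dXY.app U s)

include hXY hc₂ in
theorem epi_of_compat : Epi c₂ := by
  constructor
  intro F α β hαβ
  obtain ⟨γ, -, huniq⟩ := hXY F (dXY.postcomp α.val)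
  have hβ : dXY.postcomp β.val = dXY.postcomp α.val := by
    ext U s
    change β.app U.unop (dXY.app U.unop s) = α.app U.unop (dXY.app U.unop s)
    rw [← hc₂]
    exact (congr($(hαβ).app U.unop (dX.app U.unop s))).symm
  rw [huniq α rfl, huniq β hβ]

include hY hc₁ hc₂ in
theorem comp_eq_zero_of_compat : c₁ ≫ c₂ = 0 := by
  obtain ⟨γ, -, huniq⟩ := existsUnique_diffCompat (f := g) (f' := f) f g rfl dY dXY hY
  rw [huniq (c₁ ≫ c₂) ?_, huniq 0 ?_]
  · intro U s
    change (0 : Γ(ΩXY, f ⁻¹ᵁ U)) = _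
    exact (der_app_app f dXY U s).symm
  · intro U s
    change c₂.app (f ⁻¹ᵁ U) (c₁.app (f ⁻¹ᵁ U) _) = _
    rw [hc₁ U s, hc₂]

include hX hXY hc₁ hc₂ in
theorem exists_desc_of_compat {F : X.Modules} (φ : ΩX ⟶ F) (hφ : c₁ ≫ φ = 0) :
    ∃ ψ : ΩXY ⟶ F, c₂ ≫ ψ = φ := by
  have hvan : ∀ (V : Y.Opens) (c : Γ(Y, V)),
      OmegaSh.Der.app (F := F) (dX.postcomp φ.val) (f ⁻¹ᵁ V) (f.app V c) = 0 := by
    intro V c
    change φ.app (f ⁻¹ᵁ V) (dX.app (f ⁻¹ᵁ V) (f.app V c)) = 0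
    rw [← hc₁ V c]
    exact congr($(hφ).app (f ⁻¹ᵁ V) (OmegaSh.pullSect f ΩY V (dY.app V c)))
  obtain ⟨ψ, hψ, -⟩ := hXY F (strengthenDer f g (dX.postcomp φ.val) hvan)
  refine ⟨ψ, ?_⟩
  obtain ⟨γ, -, huniq⟩ := hX F (dX.postcomp φ.val)
  rw [huniq (c₂ ≫ ψ) ?_, huniq φ rfl]
  ext U s
  change ψ.app U.unop (c₂.app U.unop (dX.app U.unop s)) = φ.app U.unop (dX.app U.unop s)
  rw [hc₂]
  exact PresheafOfModules.Derivation.congr_d hψ (X := U) s

include hY hX hXY hc₁ hc₂ in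
theorem exact_of_compat :
    (ShortComplex.mk c₁ c₂ (comp_eq_zero_of_compat f g dY hY dX dXY c₁ hc₁ c₂ hc₂)).Exact := by
  have : Epi c₂ := epi_of_compat f g dX dXY hXY c₂ hc₂
  apply ShortComplex.exact_of_g_is_cokernel
  refine CokernelCofork.IsColimit.ofπ _ _
    (fun {F} φ hφ => (exists_desc_of_compat f g dY dX hX dXY hXY c₁ hc₁ c₂ hc₂ φ hφ).choose)
    (fun {F} φ hφ => (exists_desc_of_compat f g dY dX hX dXY hXY c₁ hc₁ c₂ hc₂ φ hφ).choose_spec)
    (fun {F} φ hφ ψ hψ => ?_)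
  rw [← cancel_epi c₂, hψ]
  exact (exists_desc_of_compat f g dY dX hX dXY hXY c₁ hc₁ c₂ hc₂ φ hφ).choose_spec.symm

end FirstSeq


end Groth.Agent.Lib.Helper48.OmegaAff

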