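import Groth.Agent.Lib.Helper48.OmegaAff13
import Groth.Prelude.Def_Frob

/-!
# Differentials and the relative Frobenius

`castDer`, `der_pow_succ`, `der_pow_char` (a derivation kills `p`-th powers in characteristic `p`),
`relFrob_der_eq_zero` (every `S`-derivation of `O_X` kills the functions coming from the Frobenius
twist `X^(p)`), `frobDer`, `unfrobDer`, `isUniversal_frobDer`.
-/

set_option autoImplicit false
universe u

open AlgebraicGeometry CategoryTheory Opposite TopologicalSpace CategoryTheory.Limits

namespace Groth.Agent.Lib.Helper48.OmegaAff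

section Cast

variable {X Y : Scheme.{u}} {F : X.Modules}

/-- Transport of a derivation along an equality of morphisms. -/
def castDer {f f' : X ⟶ Y} (h : f = f') (D : OmegaSh.Der f F) : OmegaSh.Der f' F := h ▸ D

theorem castDer_app {f f' : X ⟶ Y} (h : f = f') (D : OmegaSh.Der f F) (U : X.Opens)
    (s : Γ(X, U)) : (castDer h D).app U s = D.app U s := by
  subst h; rfl

theorem der_pow_succ {f : X ⟶ Y} (D : OmegaSh.Der f F) (U : X.Opens) (b : Γ(X, U)) (n : ℕ) :
    D.app U (b ^ (n + 1)) = ((n + 1 : ℕ) : Γ(X, U)) • b ^ n • D.app U b := by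
  induction n with
  | zero => simp
  | succ n ih =>
    rw [pow_succ, der_app_mul, ih, smul_smul, smul_smul, smul_smul, ← add_smul]
    congr 1
    push_cast
    ring

end Cast

section Frob

variable (p : ℕ) [Fact p.Prime] {X S : Scheme.{u}} [FrobSch.IsCharP S p] (f : X ⟶ S)
  {F : X.Modules} (D : OmegaSh.Der f F)

omit [FrobSch.IsCharP S p] in
theorem der_pow_char [FrobSch.IsCharP X p] (U : X.Opens) (b : Γ(X, U)) :
    D.app U (b ^ p) = 0 := by
  obtain ⟨n, hn⟩ : ∃ n, p = n + 1 := ⟨p - 1, (Nat.succ_pred_eq_of_pos (Fact.out : p.Prime).pos).symm⟩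
  have h0 : ((n + 1 : ℕ) : Γ(X, U)) = 0 := by
    rw [← hn]; exact FrobSch.natCast_eq_zero_app X p U
  rw [hn, der_pow_succ, h0, zero_smul]

theorem relFrob_der_eq_zero (W : (FrobSch.frobTwist f p).Opens)
    (t : Γ(FrobSch.frobTwist f p, W)) :
    D.app (FrobSch.relFrob f p ⁻¹ᵁ W) ((FrobSch.relFrob f p).app W t) = 0 := by
  have : FrobSch.IsCharP X p := FrobSch.IsCharP.of_hom f p
  have hsq : f ≫ 𝟙 S = FrobSch.relFrob f p ≫ pullback.snd f (FrobSch.frob S p) := by
    rw [Category.comp_id, FrobSch.relFrob_snd]
  refine der_eq_zero_of_isPullback (IsPullback.of_hasPullback f (FrobSch.frob S p))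
    (pushDer (pullback.snd f (FrobSch.frob S p)) f (FrobSch.relFrob f p) (𝟙 S) hsq D)
    (fun U b => ?_) W t
  change D.app _ ((FrobSch.relFrob f p ≫ pullback.fst f (FrobSch.frob S p)).app U b) = 0
  rw [Scheme.Hom.congr_app (FrobSch.relFrob_fst f p) U, CommRingCat.comp_apply]
  erw [der_app_map]
  refine (congrArg _ ?_).trans (map_zero _)
  exact der_pow_char p f D U b

/-- A derivation relative to `f` is a derivation relative to the relative Frobenius. -/
noncomputable def frobDer : OmegaSh.Der (FrobSch.relFrob f p) F where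
  d {U} := D.d (X := U)
  d_mul a b := D.d_mul a b
  d_map i s := D.d_map i s
  d_app {W} t := relFrob_der_eq_zero p f D W.unop t

theorem frobDer_app (U : X.Opens) (s : Γ(X, U)) : (frobDer p f D).app U s = D.app U s := rfl

/-- A derivation relative to the relative Frobenius is a derivation relative to `f`. -/
noncomputable def unfrobDer (D' : OmegaSh.Der (FrobSch.relFrob f p) F) : OmegaSh.Der f F :=
  castDer (FrobSch.relFrob_snd f p) (weakenDer (FrobSch.relFrob f p) (pullback.snd f _) D')

theorem unfrobDer_app (D' : OmegaSh.Der (FrobSch.relFrob f p) F) (U : X.Opens) (s : Γ(X, U)) :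
    (unfrobDer p f D').app U s = D'.app U s := by
  rw [unfrobDer, castDer_app, weakenDer_app]

theorem isUniversal_frobDer {Ω : X.Modules} (d : OmegaSh.Der f Ω) (hd : OmegaSh.IsUniversal d) :
    OmegaSh.IsUniversal (frobDer p f d) := by
  intro G D'
  obtain ⟨α, hα, huniq⟩ := hd G (unfrobDer p f D')
  refine ⟨α, ?_, ?_⟩
  · ext U s
    have h1 := PresheafOfModules.Derivation.congr_d hα (X := U) s
    change α.app U.unop (d.app U.unop s) = (unfrobDer p f D').app U.unop s at h1
    rw [unfrobDer_app] at h1
    exact h1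
  · intro β hβ
    apply huniq
    ext U s
    have h1 := PresheafOfModules.Derivation.congr_d hβ (X := U) s
    change β.app U.unop (d.app U.unop s) = (unfrobDer p f D').app U.unop s
    rw [unfrobDer_app]
    exact h1

end Frob

end Groth.Agent.Lib.Helper48.OmegaAff

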