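import Groth.Agent.Lib.Helper48.OmegaAff12
import Groth.Agent.Lib.Helper48.OmegaAff6
import Groth.Agent.Lib.Lead.QCohLocal

/-!
# Universal receptacles of derivations for arbitrary morphisms: restriction to opens

`resDer`: restriction of a derivation along an open immersion `j : X' ⟶ X`.  If `(Ω', d)` is a
universal receptacle for `f : X ⟶ Y` and `j ≫ f` is quasi-separated, `restrictIsoOmega` identifies
`Ω'.restrict j` with the frozen `Omega.sheaf (j ≫ f)` compatibly with the derivations.  Consequences: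
`isQuasicoherent_of_universal` (a universal receptacle is quasi-coherent, no hypothesis on `f`) and
`prop_sections_of_universal` (module properties of `Γ(Ω', U)`, `U` affine over an affine, from those
of the Kähler differentials of `Γ(Y,V) → Γ(U,⊤)`).
-/

set_option autoImplicit false
set_option linter.unusedSectionVars false
universe u

open AlgebraicGeometry CategoryTheory Opposite TopologicalSpace CategoryTheory.Limits

namespace Groth.Agent.Lib.Helper48.OmegaAff

section ResDer

variable {X Y X' : Scheme.{u}} (f : X ⟶ Y) (j : X' ⟶ X) [IsOpenImmersion j] {Ω' : X.Modules}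
  (d : OmegaSh.Der f Ω')

theorem appIso_inv_map {O O' : X'.Opens} (i : O' ≤ O) (s : Γ(X', O)) :
    (j.appIso O').inv (X'.presheaf.map (homOfLE i).op s) =
      X.presheaf.map (homOfLE (j.image_mono i)).op ((j.appIso O).inv s) :=
  congr($(j.appIso_inv_naturality (homOfLE i).op) s)

theorem appIso_inv_app_apply (W : X.Opens) (s : Γ(X, W)) :
    (j.appIso (j ⁻¹ᵁ W)).inv (j.app W s) =
      X.presheaf.map (homOfLE (j.image_preimage_le W)).op s :=
  congr($(j.app_appIso_inv W) s)

/-- The restriction of a derivation to an open subscheme. -/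
noncomputable def resDer : OmegaSh.Der (j ≫ f) (Ω'.restrict j) where
  d {O} := AddMonoidHom.mk' (fun s => d.app (j ''ᵁ O.unop) ((j.appIso O.unop).inv s))
    (fun s t => (congrArg _ (map_add _ s t)).trans (map_add _ _ _))
  d_mul {O} s t := by
    change d.app (j ''ᵁ O.unop) ((j.appIso O.unop).inv (s * t)) =
      ((j.appIso O.unop).inv s • d.app (j ''ᵁ O.unop) ((j.appIso O.unop).inv t) +
        (j.appIso O.unop).inv t • d.app (j ''ᵁ O.unop) ((j.appIso O.unop).inv s) :
          Γ(Ω', j ''ᵁ O.unop))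
    rw [map_mul, der_app_mul]
  d_map {O O'} i s := by
    change d.app (j ''ᵁ O'.unop) ((j.appIso O'.unop).inv (X'.presheaf.map i s)) =
      Ω'.presheaf.map (j.opensFunctor.map i.unop).op
        (d.app (j ''ᵁ O.unop) ((j.appIso O.unop).inv s))
    have e := appIso_inv_map j i.unop.le s
    rw [show i = (homOfLE i.unop.le).op from rfl, e, der_app_map]
    rfl
  d_app {V} c := by
    change d.app (j ''ᵁ (j ⁻¹ᵁ (f ⁻¹ᵁ V.unop)))
      ((j.appIso (j ⁻¹ᵁ (f ⁻¹ᵁ V.unop))).inv (j.app (f ⁻¹ᵁ V.unop) (f.app V.unop c))) = 0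
    rw [appIso_inv_app_apply, der_app_map, der_app_app, map_zero]

theorem resDer_app (O : X'.Opens) (s : Γ(X', O)) :
    (resDer f j d).app O s = d.app (j ''ᵁ O) ((j.appIso O).inv s) := rfl

end ResDer

section Compare

variable {X Y X' : Scheme.{u}} (f : X ⟶ Y) (j : X' ⟶ X) [IsOpenImmersion j] {Ω' : X.Modules}
  (d : OmegaSh.Der f Ω') (hd : OmegaSh.IsUniversal d) [QuasiSeparated (j ≫ f)]

/-- The map from the frozen sheaf of differentials of `X' ⟶ Y` to the restriction of a receptacle. -/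
noncomputable def ofOmega : Omega.sheaf (j ≫ f) ⟶ Ω'.restrict j :=
  factor (j ≫ f) (resDer f j d)

theorem ofOmega_dOmega (O : X'.Opens) (s : Γ(X', O)) :
    (ofOmega f j d).app O ((OmegaSh.dOmega (j ≫ f)).app O s) = (resDer f j d).app O s :=
  factor_app_dSect (j ≫ f) (resDer f j d) O s

/-- The map `Ω' ⟶ j_* Ω_{X'/Y}` given by universality. -/
noncomputable def toPushOmega : Ω' ⟶ (Scheme.Modules.pushforward j).obj (Omega.sheaf (j ≫ f)) :=
  (hd _ (pushDer f (j ≫ f) j (𝟙 Y) (Category.comp_id _) (OmegaSh.dOmega (j ≫ f)))).exists.choose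

theorem toPushOmega_app (W : X.Opens) (s : Γ(X, W)) :
    (toPushOmega f j d hd).app W (d.app W s) =
      (OmegaSh.dOmega (j ≫ f)).app (j ⁻¹ᵁ W) (j.app W s) := by
  have h := (hd _ (pushDer f (j ≫ f) j (𝟙 Y) (Category.comp_id _)
    (OmegaSh.dOmega (j ≫ f)))).exists.choose_spec
  exact PresheafOfModules.Derivation.congr_d h (X := op W) s

/-- The map from the restriction of a receptacle to the frozen sheaf of differentials. -/
noncomputable def toOmega : Ω'.restrict j ⟶ Omega.sheaf (j ≫ f) :=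
  ((Scheme.Modules.restrictAdjunction j).homEquiv _ _).symm (toPushOmega f j d hd)

theorem toOmega_resDer (O : X'.Opens) (s : Γ(X', O)) :
    (toOmega f j d hd).app O ((resDer f j d).app O s) = (OmegaSh.dOmega (j ≫ f)).app O s := by
  rw [toOmega, restrictAdj_homEquiv_symm_app, resDer_app]
  change (Omega.sheaf (j ≫ f)).presheaf.map _
    ((toPushOmega f j d hd).app (j ''ᵁ O) (d.app (j ''ᵁ O) ((j.appIso O).inv s))) = _
  rw [toPushOmega_app]
  have e : j.app (j ''ᵁ O) ((j.appIso O).inv s) =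
      X'.presheaf.map (eqToHom (j.preimage_image_eq O)).op s :=
    congr($(j.appIso_inv_app O) s)
  rw [e]
  erw [der_app_map]
  rw [OmegaSh.resM_resM]
  exact congr($((Omega.sheaf (j ≫ f)).presheaf.map_id (op O)) _)

theorem ofOmega_toOmega : ofOmega f j d ≫ toOmega f j d hd = 𝟙 _ := by
  refine hom_ext_of_universal (j ≫ f) (OmegaSh.dOmega (j ≫ f)) (isUniversal_dOmega (j ≫ f))
    _ _ (fun O s => ?_)
  change (toOmega f j d hd).app O ((ofOmega f j d).app O _) = _
  rw [ofOmega_dOmega, toOmega_resDer]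
  rfl

theorem toOmega_ofOmega : toOmega f j d hd ≫ ofOmega f j d = 𝟙 _ := by
  apply ((Scheme.Modules.restrictAdjunction j).homEquiv _ _).injective
  refine hom_ext_of_universal f d hd _ _ (fun W s => ?_)
  rw [restrictAdj_homEquiv_app, restrictAdj_homEquiv_app]
  have e : (Ω'.restrictAppIso j (j ⁻¹ᵁ W)).inv
      (Ω'.presheaf.map (homOfLE (j.image_preimage_le W)).op (d.app W s)) =
      (resDer f j d).app (j ⁻¹ᵁ W) (j.app W s) := by
    rw [resDer_app, appIso_inv_app_apply, der_app_map]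
    rfl
  rw [e]
  change (ofOmega f j d).app _ ((toOmega f j d hd).app _ _) = _
  rw [toOmega_resDer, ofOmega_dOmega]
  rfl

/-- The restriction of a universal receptacle to an open subscheme `X'` with `X' ⟶ Y`
quasi-separated is the frozen sheaf of differentials. -/
noncomputable def restrictIsoOmega : Ω'.restrict j ≅ Omega.sheaf (j ≫ f) where
  hom := toOmega f j d hd
  inv := ofOmega f j d
  hom_inv_id := toOmega_ofOmega f j d hd
  inv_hom_id := ofOmega_toOmega f j d hd

end Compare

section General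

variable {X Y : Scheme.{u}} (f : X ⟶ Y) {Ω' : X.Modules} (d : OmegaSh.Der f Ω')
  (hd : OmegaSh.IsUniversal d)

include hd in
/-- A universal receptacle of derivations (for an arbitrary morphism) is quasi-coherent. -/
theorem isQuasicoherent_of_universal : Ω'.IsQuasicoherent := by
  apply Groth.Agent.Lib.Lead.QCohLocal.isQuasicoherent_of_forall_affine
  intro x
  obtain ⟨_, ⟨U, hU : IsAffineOpen U, rfl⟩, hxU, -⟩ :=
    (X.isBasis_affineOpens).exists_subset_of_mem_open (Set.mem_univ x) isOpen_univ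
  refine ⟨U, hU, hxU, ?_⟩
  exact Groth.Agent.Lib.Lead.PullbackAff.isQuasicoherent_of_iso
    (restrictIsoOmega f hU.fromSpec d hd).symm

/-- The sections of an isomorphism of modules, as a linear equivalence. -/
noncomputable def sectionsEquiv {M N : X.Modules} (e : M ≅ N) (O : X.Opens) :
    Γ(M, O) ≃ₗ[Γ(X, O)] Γ(N, O) where
  toFun := e.hom.app O
  invFun := e.inv.app O
  map_add' x y := map_add _ x y
  map_smul' r x := Scheme.Modules.Hom.app_smul e.hom r x
  left_inv x := congr($(e.hom_inv_id).app O x)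
  right_inv x := congr($(e.inv_hom_id).app O x)

include hd in
/-- Transfer of module properties from Kähler differentials to the sections of a universal
receptacle over an affine open lying over an affine open. -/
theorem prop_sections_of_universal
    (P : ∀ (R : Type u) [CommRing R] (M : Type u) [AddCommGroup M] [Module R M], Prop)
    (hP : ∀ (R : Type u) [CommRing R] (M N : Type u) [AddCommGroup M] [Module R M]
      [AddCommGroup N] [Module R N], (M ≃ₗ[R] N) → P R M → P R N)
    {U : X.Opens} (hU : IsAffineOpen U) {V : Y.Opens} (hV : IsAffineOpen V)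
    (h' : (⊤ : (↑U : Scheme.{u}).Opens) ≤ (U.ι ≫ f) ⁻¹ᵁ V)
    (hK : P Γ(↑U, ⊤) (CommRingCat.KaehlerDifferential ((U.ι ≫ f).appLE V ⊤ h'))) :
    P Γ(X, U) Γ(Ω', U) := by
  have : IsAffine ↑U := hU
  have hTop : IsAffineOpen (⊤ : (↑U : Scheme.{u}).Opens) := isAffineOpen_top _
  have := isIso_toSect (U.ι ≫ f) hTop hV h'
  let e1 := (asIso (OmAff.toSect (U.ι ≫ f) V ⊤ h')).toLinearEquiv
  have h1 : P Γ(↑U, ⊤) Γ(Omega.sheaf (U.ι ≫ f), (⊤ : (↑U : Scheme.{u}).Opens)) :=
    hP _ _ _ e1 hK
  have h2 : P Γ(↑U, ⊤) Γ(Ω'.restrict U.ι, (⊤ : (↑U : Scheme.{u}).Opens)) :=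
    hP _ _ _ (sectionsEquiv (restrictIsoOmega f U.ι d hd) ⊤).symm h1
  let _ : Module Γ(↑U, ⊤) Γ(Ω', U.ι ''ᵁ ⊤) :=
    inferInstanceAs (Module Γ(X, U.ι ''ᵁ ⊤) Γ(Ω', U.ι ''ᵁ ⊤))
  let e3 : Γ(Ω'.restrict U.ι, (⊤ : (↑U : Scheme.{u}).Opens)) ≃ₗ[Γ(↑U, ⊤)]
      Γ(Ω', U.ι ''ᵁ ⊤) :=
    { toFun := fun x => x
      invFun := fun x => x
      map_add' := fun _ _ => rfl
      map_smul' := fun r x => by
        change ((U.ι.appIso ⊤).inv r • (show Γ(Ω', U.ι ''ᵁ ⊤) from x) : Γ(Ω', U.ι ''ᵁ ⊤)) = _
        rw [Scheme.Opens.ι_appIso]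
        rfl
      left_inv := fun _ => rfl
      right_inv := fun _ => rfl }
  have h3 : P Γ(X, U.ι ''ᵁ ⊤) Γ(Ω', U.ι ''ᵁ ⊤) := hP Γ(↑U, ⊤) _ _ e3 h2
  exact Eq.mp (congrArg (fun W : X.Opens => P Γ(X, W) Γ(Ω', W)) U.ι_image_top) h3

end General

end Groth.Agent.Lib.Helper48.OmegaAff
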