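import Groth.Agent.Lib.Helper48.OmegaAff15
import Groth.Agent.Lib.Helper48.FormallySmoothAppLE
import Groth.Agent.Lib.Lead.CohAff3
import Groth.Agent.Lib.Helper2.FinLocFreeAff
import Mathlib.RingTheory.Extension.Cotangent.Basic

/-!
# Finiteness properties of a universal receptacle of derivations (arbitrary morphisms)

`isFiniteType_of_universal` (f locally of finite type), `isFinitePresentation_of_universal`
(f locally of finite presentation), `isFinLocFree_of_universal` (f formally smooth and locally of
finite type), with the affine statements `finite_sections_of_universal`,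
`finitePresentation_sections_of_universal`, `projective_sections_of_universal`.
-/

set_option autoImplicit false
universe u

open AlgebraicGeometry CategoryTheory Opposite TopologicalSpace CategoryTheory.Limits

namespace Groth.Agent.Lib.Helper48.OmegaAff

section Fin

variable {X Y : Scheme.{u}} (f : X ⟶ Y) {Ω' : X.Modules} (d : OmegaSh.Der f Ω')
  (hd : OmegaSh.IsUniversal d)

/-- Every point has an affine open neighbourhood lying over an affine open of the base. -/
theorem exists_affine_pair (x : X) : ∃ (U : X.Opens) (V : Y.Opens), IsAffineOpen U ∧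
    IsAffineOpen V ∧ x ∈ U ∧ U ≤ f ⁻¹ᵁ V := by
  obtain ⟨U, ⟨hU, V, hV, h⟩, hxU, -⟩ := exists_good f x ⊤ trivial
  exact ⟨U, V, hU, hV, hxU, h⟩

theorem top_le_preimage {U : X.Opens} {V : Y.Opens} (h : U ≤ f ⁻¹ᵁ V) :
    (⊤ : (↑U : Scheme.{u}).Opens) ≤ (U.ι ≫ f) ⁻¹ᵁ V := fun x _ => h x.2

include hd in
theorem finite_sections_of_universal [LocallyOfFiniteType f] {U : X.Opens} {V : Y.Opens}
    (hU : IsAffineOpen U) (hV : IsAffineOpen V) (h : U ≤ f ⁻¹ᵁ V) :
    Module.Finite Γ(X, U) Γ(Ω', U) := by
  have : IsAffine ↑U := hU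
  refine prop_sections_of_universal f d hd (fun R _ M _ _ => Module.Finite R M)
    (fun R _ M N _ _ _ _ e hM => Module.Finite.equiv e) hU hV (top_le_preimage f h) ?_
  have hφ := (U.ι ≫ f).finiteType_appLE hV (isAffineOpen_top (↑U : Scheme.{u}))
    (top_le_preimage f h)
  let _ := ((U.ι ≫ f).appLE V ⊤ (top_le_preimage f h)).hom.toAlgebra
  have : Algebra.FiniteType Γ(Y, V) Γ(↑U, ⊤) := hφ
  change Module.Finite Γ(↑U, ⊤) (Ω[Γ(↑U, ⊤)⁄Γ(Y, V)])
  infer_instance

include hd in
theorem finitePresentation_sections_of_universal [LocallyOfFinitePresentation f] {U : X.Opens}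
    {V : Y.Opens} (hU : IsAffineOpen U) (hV : IsAffineOpen V) (h : U ≤ f ⁻¹ᵁ V) :
    Module.FinitePresentation Γ(X, U) Γ(Ω', U) := by
  have : IsAffine ↑U := hU
  refine prop_sections_of_universal f d hd (fun R _ M _ _ => Module.FinitePresentation R M)
    (fun R _ M N _ _ _ _ e hM => Module.FinitePresentation.of_equiv e) hU hV
    (top_le_preimage f h) ?_
  have hφ := (U.ι ≫ f).finitePresentation_appLE hV (isAffineOpen_top (↑U : Scheme.{u}))
    (top_le_preimage f h)
  let _ := ((U.ι ≫ f).appLE V ⊤ (top_le_preimage f h)).hom.toAlgebra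
  have : Algebra.FinitePresentation Γ(Y, V) Γ(↑U, ⊤) := hφ
  change Module.FinitePresentation Γ(↑U, ⊤) (Ω[Γ(↑U, ⊤)⁄Γ(Y, V)])
  infer_instance

include hd in
theorem projective_sections_of_universal (hf : MoreMor.IsFormallySmoothHom f) {U : X.Opens}
    {V : Y.Opens} (hU : IsAffineOpen U) (hV : IsAffineOpen V) (h : U ≤ f ⁻¹ᵁ V) :
    Module.Projective Γ(X, U) Γ(Ω', U) := by
  have : IsAffine ↑U := hU
  refine prop_sections_of_universal f d hd (fun R _ M _ _ => Module.Projective R M)
    (fun R _ M N _ _ _ _ e hM => Module.Projective.of_equiv e) hU hV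
    (top_le_preimage f h) ?_
  have h1 := formallySmooth_appLE f hf hU hV h
  have h3 : f.appLE V U h ≫ U.ι.appLE U ⊤ U.ι_preimage_self.ge =
      (U.ι ≫ f).appLE V ⊤ (top_le_preimage f h) :=
    Scheme.Hom.appLE_comp_appLE _ _ _ _ _ _ _
  have h2 : ((U.ι ≫ f).appLE V ⊤ (top_le_preimage f h)).hom.FormallySmooth := by
    rw [← h3, CommRingCat.hom_comp]
    exact (RingHom.FormallySmooth.respectsIso.cancel_right_isIso _ _).mpr h1
  let _ := ((U.ι ≫ f).appLE V ⊤ (top_le_preimage f h)).hom.toAlgebra
  have : Algebra.FormallySmooth Γ(Y, V) Γ(↑U, ⊤) := h2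
  change Module.Projective Γ(↑U, ⊤) (Ω[Γ(↑U, ⊤)⁄Γ(Y, V)])
  exact Algebra.FormallySmooth.projective_kaehlerDifferential

include hd in
theorem isFiniteType_of_universal [LocallyOfFiniteType f] :
    SheafOfModules.IsFiniteType (R := X.ringCatSheaf) Ω' := by
  have := isQuasicoherent_of_universal f d hd
  apply Groth.Agent.Lib.Lead.CohAff.isFiniteType_of_finite_sections
  intro x
  obtain ⟨U, V, hU, hV, hxU, h⟩ := exists_affine_pair f x
  exact ⟨U, hU, hxU, finite_sections_of_universal f d hd hU hV h⟩

include hd in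
theorem isFinitePresentation_of_universal [LocallyOfFinitePresentation f] :
    SheafOfModules.IsFinitePresentation (R := X.ringCatSheaf) Ω' := by
  have := isQuasicoherent_of_universal f d hd
  apply Groth.Agent.Lib.Helper2.FinLocFreeAff.isFinitePresentation_of_sections
  intro x
  obtain ⟨U, V, hU, hV, hxU, h⟩ := exists_affine_pair f x
  exact ⟨U, hU, hxU, finitePresentation_sections_of_universal f d hd hU hV h⟩

include hd in
theorem isFinLocFree_of_universal (hf : MoreMor.IsFormallySmoothHom f) [LocallyOfFiniteType f] :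
    FlatMod.IsFinLocFree Ω' := by
  have := isQuasicoherent_of_universal f d hd
  apply Groth.Agent.Lib.Helper2.LocFreeAff.isFinLocFree_of_projective
  intro x
  obtain ⟨U, V, hU, hV, hxU, h⟩ := exists_affine_pair f x
  exact ⟨U, hU, hxU, finite_sections_of_universal f d hd hU hV h,
    projective_sections_of_universal f d hd hf hU hV h⟩

end Fin

end Groth.Agent.Lib.Helper48.OmegaAff
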