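import Groth.Agent.Lib.Helper48.OmegaAff8
import Groth.Agent.Lib.Helper48.OmegaAff6
import Groth.Agent.Lib.Lead.QCohAff4
import Mathlib.RingTheory.Etale.Kaehler
import Mathlib.RingTheory.Unramified.LocalRing
import Mathlib.AlgebraicGeometry.Morphisms.FormallyUnramified
import Mathlib.AlgebraicGeometry.Morphisms.FiniteType

set_option autoImplicit false
set_option linter.style.haveILetI false
universe u

open AlgebraicGeometry CategoryTheory Opposite TopologicalSpace CategoryTheory.Limits

namespace Groth.Agent.Lib.Helper48.OmegaAff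

section Stalk

open Groth.Agent.Lib.Lead.QCohAff

variable {X S : Scheme.{u}} (f : X ⟶ S) [QuasiSeparated f]

/-- The stalk of the sheaf of differentials at `x` vanishes iff the stalk map at `x` is formally
unramified. -/
theorem subsingleton_stalk_iff (x : X) :
    Subsingleton ((Omega.sheaf f).presheaf.stalk x) ↔ (f.stalkMap x).hom.FormallyUnramified := by
  obtain ⟨U, ⟨hU, V, hV, e⟩, hx, -⟩ := exists_good f x ⊤ trivial
  have hfx : f x ∈ V := e hx
  letI : Algebra Γ(S, V) Γ(X, U) := (f.appLE V U e).hom.toAlgebra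
  letI : Algebra Γ(X, U) (X.presheaf.stalk x) := (X.presheaf.germ U x hx).hom.toAlgebra
  letI : Algebra Γ(S, V) (S.presheaf.stalk (f x)) := (S.presheaf.germ V (f x) hfx).hom.toAlgebra
  letI : Algebra (S.presheaf.stalk (f x)) (X.presheaf.stalk x) := (f.stalkMap x).hom.toAlgebra
  letI : Algebra Γ(S, V) (X.presheaf.stalk x) :=
    (f.appLE V U e ≫ X.presheaf.germ U x hx).hom.toAlgebra
  haveI : IsScalarTower Γ(S, V) Γ(X, U) (X.presheaf.stalk x) := .of_algebraMap_eq' rfl
  haveI : IsScalarTower Γ(S, V) (S.presheaf.stalk (f x)) (X.presheaf.stalk x) := by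
    refine .of_algebraMap_eq' ?_
    have h1 : S.presheaf.germ V (f x) hfx ≫ f.stalkMap x =
        f.appLE V U e ≫ X.presheaf.germ U x hx := by
      rw [Scheme.Hom.germ_stalkMap, Scheme.Hom.appLE, Category.assoc]
      congr 1
      exact (X.presheaf.germ_res (homOfLE e) x hx).symm
    exact congrArg CommRingCat.Hom.hom h1.symm
  haveI : IsLocalization.AtPrime (X.presheaf.stalk x) (hU.primeIdealOf ⟨x, hx⟩).asIdeal :=
    hU.isLocalization_stalk ⟨x, hx⟩
  haveI : IsLocalization.AtPrime (S.presheaf.stalk (f x)) (hV.primeIdealOf ⟨f x, hfx⟩).asIdeal :=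
    hV.isLocalization_stalk ⟨f x, hfx⟩
  -- Step 1
  haveI := isIso_toSect f hU hV e
  let e1 : Ω[Γ(X, U)⁄Γ(S, V)] ≃ₗ[Γ(X, U)] Γ(Omega.sheaf f, U) :=
    (asIso (OmAff.toSect f V U e)).toLinearEquiv
  haveI l1 : IsLocalizedModule (hU.primeIdealOf ⟨x, hx⟩).asIdeal.primeCompl
      (germL (Omega.sheaf f) U x hx) := isLocalizedModule_germL (Omega.sheaf f) hU x hx
  haveI l3 : IsLocalizedModule (hU.primeIdealOf ⟨x, hx⟩).asIdeal.primeCompl
      (germL (Omega.sheaf f) U x hx ∘ₗ e1.toLinearMap) :=
    IsLocalizedModule.of_linearEquiv_right _ _ e1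
  haveI l2 : IsLocalizedModule (hU.primeIdealOf ⟨x, hx⟩).asIdeal.primeCompl
      (KaehlerDifferential.map Γ(S, V) Γ(S, V) Γ(X, U) (X.presheaf.stalk x)) :=
    KaehlerDifferential.isLocalizedModule_map _ _ _ _
  let e2 : StalkOver (Omega.sheaf f) U x hx ≃ₗ[Γ(X, U)] Ω[(X.presheaf.stalk x)⁄Γ(S, V)] :=
    IsLocalizedModule.linearEquiv (hU.primeIdealOf ⟨x, hx⟩).asIdeal.primeCompl
      (germL (Omega.sheaf f) U x hx ∘ₗ e1.toLinearMap)
      (KaehlerDifferential.map Γ(S, V) Γ(S, V) Γ(X, U) (X.presheaf.stalk x))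
  have s1 : Subsingleton ((Omega.sheaf f).presheaf.stalk x) ↔
      Subsingleton Ω[(X.presheaf.stalk x)⁄Γ(S, V)] := e2.toEquiv.subsingleton_congr
  rw [s1, ← Algebra.formallyUnramified_iff]
  -- Step 3
  have s3 : Algebra.FormallyUnramified Γ(S, V) (X.presheaf.stalk x) ↔
      Algebra.FormallyUnramified (S.presheaf.stalk (f x)) (X.presheaf.stalk x) := by
    constructor
    · intro h
      exact Algebra.FormallyUnramified.of_restrictScalars Γ(S, V) _ _
    · intro h
      haveI : Algebra.FormallyUnramified Γ(S, V) (S.presheaf.stalk (f x)) :=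
        Algebra.FormallyUnramified.of_isLocalization
          (hV.primeIdealOf ⟨f x, hfx⟩).asIdeal.primeCompl
      exact Algebra.FormallyUnramified.comp Γ(S, V) (S.presheaf.stalk (f x)) _
  rw [s3]
  rfl

end Stalk


section StalkCriterion

variable {X S : Scheme.{u}} (f : X ⟶ S) [LocallyOfFiniteType f] [QuasiSeparated f]

/-- The stalk of the sheaf of differentials vanishes at `x` iff `𝔪_s O_{X,x} = 𝔪_x` and the
residue field extension is finite separable. -/
theorem subsingleton_stalk_iff_residue (x : X) :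
    Subsingleton ((Omega.sheaf f).presheaf.stalk x) ↔
      ((IsLocalRing.maximalIdeal (S.presheaf.stalk (f.base x))).map (f.stalkMap x).hom =
          IsLocalRing.maximalIdeal (X.presheaf.stalk x) ∧
        (f.residueFieldMap x).hom.Finite ∧
        @Algebra.IsSeparable (S.residueField (f.base x)) (X.residueField x) _ _
          (f.residueFieldMap x).hom.toAlgebra) := by
  rw [subsingleton_stalk_iff]
  algebraize [(f.stalkMap x).hom]
  have hloc : IsLocalHom (algebraMap (S.presheaf.stalk (f x)) (X.presheaf.stalk x)) :=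
    inferInstanceAs <| IsLocalHom (f.stalkMap x).hom
  have hess : Algebra.EssFiniteType (S.presheaf.stalk (f x)) (X.presheaf.stalk x) := by
    rw [← RingHom.essFiniteType_algebraMap, RingHom.algebraMap_toAlgebra]
    exact LocallyOfFiniteType.stalkMap f x
  have halg : (f.residueFieldMap x).hom.toAlgebra =
      (inferInstance : Algebra (IsLocalRing.ResidueField (S.presheaf.stalk (f x)))
        (IsLocalRing.ResidueField (X.presheaf.stalk x))) := by
    refine Algebra.algebra_ext _ _ fun y ↦ ?_
    obtain ⟨y, rfl⟩ := IsLocalRing.residue_surjective y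
    rfl
  have hsep : @Algebra.IsSeparable (S.residueField (f.base x)) (X.residueField x) _ _
        (f.residueFieldMap x).hom.toAlgebra ↔
      Algebra.IsSeparable (IsLocalRing.ResidueField (S.presheaf.stalk (f x)))
        (IsLocalRing.ResidueField (X.presheaf.stalk x)) := by
    rw [halg]
    rfl
  have hfin : (f.residueFieldMap x).hom.Finite ↔
      Module.Finite (IsLocalRing.ResidueField (S.presheaf.stalk (f x)))
        (IsLocalRing.ResidueField (X.presheaf.stalk x)) := by
    rw [RingHom.Finite, halg]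
    rfl
  rw [hsep, hfin]
  change Algebra.FormallyUnramified (S.presheaf.stalk (f x)) (X.presheaf.stalk x) ↔ _
  constructor
  · intro h
    exact ⟨Algebra.FormallyUnramified.map_maximalIdeal, inferInstance, inferInstance⟩
  · rintro ⟨h1, -, h3⟩
    exact Algebra.FormallyUnramified.of_map_maximalIdeal h1

end StalkCriterion

end Groth.Agent.Lib.Helper48.OmegaAff
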