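import Groth.Agent.Lib.Helper48.OmegaAff16
import Groth.Agent.Lib.Helper48.OmegaAff9
import Groth.Agent.Lib.Helper21.CohSupport
import Groth.Agent.Lib.Helper2.FittSheaf
import Groth.Agent.Lib.Helper75.Fitting13

/-!
# The zeroth Fitting ideal of the sheaf of differentials and the unramified locus

`mem_support_fitt_zero_iff`: for `F` quasi-coherent of finite type, the support of
`Fitt.sheafIdeal F 0` is the set of points with nonzero stalk.  `formallyUnramified_ι_comp_iff`,
`exists_formallyUnramified_iff`: `f` is formally unramified near `x` iff the stalk of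
`Omega.sheaf f` at `x` vanishes (`f` locally of finite type, quasi-separated).
-/

set_option autoImplicit false
universe u

open AlgebraicGeometry CategoryTheory Opposite TopologicalSpace CategoryTheory.Limits

namespace Groth.Agent.Lib.Helper48.OmegaAff

open Groth.Agent.Lib.Lead.QCohAff

section FittSupport

variable {X : Scheme.{u}} (F : X.Modules) [F.IsQuasicoherent]

/-- The support of the zeroth Fitting ideal sheaf of a quasi-coherent module of finite type is the
support of the module. -/
theorem mem_support_fitt_zero_iff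
    [SheafOfModules.IsFiniteType (R := X.ringCatSheaf) F] (x : X) :
    x ∈ (Fitt.sheafIdeal F 0).support ↔ ¬ Subsingleton (F.presheaf.stalk x) := by
  obtain ⟨_, ⟨U, hU : IsAffineOpen U, rfl⟩, hx, -⟩ :=
    (X.isBasis_affineOpens).exists_subset_of_mem_open (Set.mem_univ x) isOpen_univ
  have hfin : Module.Finite Γ(X, U) Γ(F, U) :=
    Groth.Agent.Lib.Lead.CohAff.finite_sections_of_isFiniteType F inferInstance hU
  set p := (hU.primeIdealOf ⟨x, hx⟩).asIdeal with hp
  rw [Scheme.IdealSheafData.mem_support_iff_of_mem (U := ⟨U, hU⟩) hx,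
    Groth.Agent.Lib.Helper2.FittSheaf.sheafIdeal_ideal F 0 ⟨U, hU⟩]
  have h1 : x ∈ X.zeroLocus (U := U) (Fitt.ideal Γ(X, U) Γ(F, U) 0 : Set Γ(X, U)) ↔
      Fitt.ideal Γ(X, U) Γ(F, U) 0 ≤ p := by
    rw [Scheme.mem_zeroLocus_iff]
    constructor
    · intro h r hr
      by_contra hrp
      exact h r hr ((mem_basicOpen_iff_notMem_primeIdealOf hU x hx r).2 hrp)
    · intro h r hr hxr
      exact (mem_basicOpen_iff_notMem_primeIdealOf hU x hx r).1 hxr (h hr)
  rw [h1, ← not_iff_not, not_not,
    Groth.Agent.Lib.Helper75.Fitting.not_fitt_le_iff_localization 0 p]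
  have l1 : IsLocalizedModule p.primeCompl (germL F U x hx) := isLocalizedModule_germL F hU x hx
  let e := IsLocalizedModule.iso p.primeCompl (germL F U x hx)
  have h2 : Subsingleton (LocalizedModule p.primeCompl Γ(F, U)) ↔
      Subsingleton (F.presheaf.stalk x) := e.toEquiv.subsingleton_congr
  rw [← h2]
  constructor
  · rintro ⟨g, hg⟩
    have : Set.range g = ∅ := Set.range_eq_empty g
    rw [this, Submodule.span_empty] at hg
    exact Submodule.subsingleton_iff (Localization.AtPrime p) |>.mp
      (subsingleton_of_bot_eq_top hg)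
  · intro h
    exact ⟨Fin.elim0, Subsingleton.elim _ _⟩

end FittSupport

section UnramLocus

variable {X S : Scheme.{u}} (f : X ⟶ S) [QuasiSeparated f]

/-- `U ⟶ X ⟶ S` is formally unramified iff the sheaf of differentials has no sections on the opens
contained in `U`. -/
theorem formallyUnramified_ι_comp_iff (U : X.Opens) :
    FormallyUnramified (U.ι ≫ f) ↔ ∀ W : X.Opens, W ≤ U → Subsingleton Γ(Omega.sheaf f, W) := by
  rw [formallyUnramified_iff_isZero (U.ι ≫ f),
    ← (restrictIsoOmega f U.ι (OmegaSh.dOmega f) (isUniversal_dOmega f)).isZero_iff,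
    isZero_iff_subsingleton_sections]
  constructor
  · intro h W hW
    have h1 : Subsingleton Γ(Omega.sheaf f, U.ι ''ᵁ (U.ι ⁻¹ᵁ W)) := h (U.ι ⁻¹ᵁ W)
    have h2 : U.ι ''ᵁ (U.ι ⁻¹ᵁ W) = W := by
      rw [Scheme.Hom.image_preimage_eq_opensRange_inf, Scheme.Opens.opensRange_ι]
      exact inf_eq_right.mpr hW
    rwa [h2] at h1
  · intro h O
    exact h (U.ι ''ᵁ O) (U.ι_image_le O)

variable [LocallyOfFiniteType f]

theorem exists_formallyUnramified_iff (x : X) :
    (∃ U : X.Opens, x ∈ U ∧ FormallyUnramified (U.ι ≫ f)) ↔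
      Subsingleton ((Omega.sheaf f).presheaf.stalk x) := by
  constructor
  · rintro ⟨U, hxU, hU⟩
    rw [formallyUnramified_ι_comp_iff] at hU
    obtain ⟨_, ⟨U', hU' : IsAffineOpen U', rfl⟩, hxU', hU'U⟩ :=
      (X.isBasis_affineOpens).exists_subset_of_mem_open hxU U.isOpen
    exact Groth.Agent.Lib.Helper21.CohSupport.subsingleton_stalk_of_subsingleton_sections
      (Omega.sheaf f) hU' (hU U' hU'U) x hxU'
  · intro hs
    obtain ⟨_, ⟨U₀, hU₀ : IsAffineOpen U₀, rfl⟩, hx, -⟩ :=
      (X.isBasis_affineOpens).exists_subset_of_mem_open (Set.mem_univ x) isOpen_univ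
    have hft := isFiniteType_of_universal f (OmegaSh.dOmega f) (isUniversal_dOmega f)
    have hfin : Module.Finite Γ(X, U₀) Γ(Omega.sheaf f, U₀) :=
      Groth.Agent.Lib.Lead.CohAff.finite_sections_of_isFiniteType (Omega.sheaf f) hft hU₀
    obtain ⟨a, hxa, hsub⟩ := Groth.Agent.Lib.Helper21.CohSupport.exists_basicOpen_subsingleton
      (Omega.sheaf f) hU₀ hfin x hx hs
    refine ⟨X.basicOpen a, hxa, ?_⟩
    rw [formallyUnramified_ι_comp_iff]
    intro W hW
    refine ⟨fun s t => ?_⟩
    refine TopCat.Presheaf.section_ext ⟨(Omega.sheaf f).presheaf, (Omega.sheaf f).isSheaf⟩ W s t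
      (fun y hy => ?_)
    have := Groth.Agent.Lib.Helper21.CohSupport.subsingleton_stalk_of_subsingleton_sections
      (Omega.sheaf f) (hU₀.basicOpen a) hsub y (hW hy)
    exact Subsingleton.elim _ _

end UnramLocus

end Groth.Agent.Lib.Helper48.OmegaAff

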