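import Groth.Agent.Lib.Helper48.OmegaAff13
import Mathlib.RingTheory.Etale.Kaehler
import Mathlib.RingTheory.Kaehler.TensorProduct
import Mathlib.Algebra.Category.Ring.Constructions

/-!
# Extending derivations along a pushout followed by a localisation (ring level)

`exists_derivation_ext`: for a pushout `C = B ⊗_A A'` and a localisation `T = C_r`, every
`A`-derivation `B → N` into a `T`-module extends to an `A'`-derivation `T → N`.
`existsUnique_der_ext`: the same in terms of ring homomorphisms of `CommRingCat` and plain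
additive maps satisfying the Leibniz rule, with uniqueness.
-/

set_option autoImplicit false
set_option linter.style.haveILetI false
universe u

open TensorProduct KaehlerDifferential CategoryTheory CategoryTheory.Limits

namespace Groth.Agent.Lib.Helper48.OmegaAff

theorem exists_derivation_ext (A A' B C T : Type u) [CommRing A] [CommRing A'] [CommRing B]
    [CommRing C] [CommRing T]
    [Algebra A A'] [Algebra A B] [Algebra A C] [Algebra A' C] [Algebra B C]
    [IsScalarTower A A' C] [IsScalarTower A B C] [Algebra.IsPushout A A' B C]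
    [Algebra C T] [Algebra A' T] [IsScalarTower A' C T] (r : C) [IsLocalization.Away r T]
    (N : Type u) [AddCommGroup N] [Module T N] [Module C N] [IsScalarTower C T N]
    [Module B N] [IsScalarTower B C N] [Module A N] [IsScalarTower A B N] [Module A' N]
    [IsScalarTower A' T N]
    (D₀ : Derivation A B N) :
    ∃ δ : Derivation A' T N, ∀ b, δ (algebraMap C T (algebraMap B C b)) = D₀ b := by
  let L : Ω[B⁄A] →ₗ[B] N := D₀.liftKaehlerDifferential
  let L_C : Ω[C⁄A'] →ₗ[C] N :=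
    (L.liftBaseChange C) ∘ₗ (tensorKaehlerEquiv A A' B C).symm.toLinearMap
  have hL_C : ∀ b, L_C (D A' C (algebraMap B C b)) = D₀ b := by
    intro b
    have h1 : tensorKaehlerEquiv A A' B C ((1 : C) ⊗ₜ D A B b) = D A' C (algebraMap B C b) := by
      rw [tensorKaehlerEquiv_tmul_D, one_smul]
    have h2 : (tensorKaehlerEquiv A A' B C).symm (D A' C (algebraMap B C b)) =
        (1 : C) ⊗ₜ D A B b := by
      rw [← h1, LinearEquiv.symm_apply_apply]
    change L.liftBaseChange C ((tensorKaehlerEquiv A A' B C).symm _) = _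
    rw [h2, LinearMap.liftBaseChange_tmul, one_smul]
    exact Derivation.liftKaehlerDifferential_comp_D D₀ b
  have : Algebra.FormallyEtale C T :=
    Algebra.FormallyEtale.of_isLocalization (Rₘ := T) (Submonoid.powers r)
  have hE : IsBaseChange T (KaehlerDifferential.map A' A' C T) :=
    isBaseChange_of_formallyEtale A' C T
  let L_T : Ω[T⁄A'] →ₗ[T] N := hE.lift L_C
  refine ⟨L_T.compDer (D A' T), fun b => ?_⟩
  change L_T (D A' T (algebraMap C T (algebraMap B C b))) = _
  rw [← KaehlerDifferential.map_D A' A' C T, hE.lift_eq, hL_C]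

/-- Extension of derivations along a pushout followed by a localisation, with values in a
module over a further ring `T₃` receiving `T`. -/
theorem existsUnique_der_ext {A A' B C T T₃ : CommRingCat.{u}} {φ : A ⟶ B} {ψ : A ⟶ A'}
    {q₁ : B ⟶ C} {q₂ : A' ⟶ C} (hP : IsPushout φ ψ q₁ q₂) (ℓ : C ⟶ T) (r : C)
    (hloc : @IsLocalization.Away C _ r T _ ℓ.hom.toAlgebra) (ρ : T ⟶ T₃)
    {N : Type u} [AddCommGroup N] [Module T₃ N] (D₀ : B →+ N)
    (hmul : ∀ x y, D₀ (x * y) = ρ (ℓ (q₁ x)) • D₀ y + ρ (ℓ (q₁ y)) • D₀ x)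
    (hA : ∀ a, D₀ (φ a) = 0) :
    ∃! δ : T →+ N, (∀ x y, δ (x * y) = ρ x • δ y + ρ y • δ x) ∧
      (∀ a', δ (ℓ (q₂ a')) = 0) ∧ ∀ b, δ (ℓ (q₁ b)) = D₀ b := by
  letI : Algebra A B := φ.hom.toAlgebra
  letI : Algebra A A' := ψ.hom.toAlgebra
  letI : Algebra B C := q₁.hom.toAlgebra
  letI : Algebra A' C := q₂.hom.toAlgebra
  letI : Algebra A C := (φ ≫ q₁).hom.toAlgebra
  letI : Algebra C T := ℓ.hom.toAlgebra
  letI : Algebra A' T := (q₂ ≫ ℓ).hom.toAlgebra
  haveI : IsScalarTower A B C := IsScalarTower.of_algebraMap_eq' rfl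
  haveI : IsScalarTower A A' C :=
    IsScalarTower.of_algebraMap_eq' (by ext a; exact congr($(hP.w) a))
  haveI : IsScalarTower A' C T := IsScalarTower.of_algebraMap_eq' rfl
  haveI : Algebra.IsPushout A A' B C := CommRingCat.isPushout_iff_isPushout.mp hP.flip
  haveI : IsLocalization.Away r T := hloc
  letI : Module T N := Module.compHom N ρ.hom
  letI : Module C N := Module.compHom N (algebraMap C T)
  letI : Module B N := Module.compHom N (algebraMap B C)
  letI : Module A N := Module.compHom N (algebraMap A B)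
  letI : Module A' N := Module.compHom N (algebraMap A' T)
  haveI : IsScalarTower C T N := IsScalarTower.of_algebraMap_smul (fun _ _ => rfl)
  haveI : IsScalarTower B C N := IsScalarTower.of_algebraMap_smul (fun _ _ => rfl)
  haveI : IsScalarTower A B N := IsScalarTower.of_algebraMap_smul (fun _ _ => rfl)
  haveI : IsScalarTower A' T N := IsScalarTower.of_algebraMap_smul (fun _ _ => rfl)
  -- uniqueness
  have key : ∀ δ₁ δ₂ : T →+ N,
      ((∀ x y, δ₁ (x * y) = ρ x • δ₁ y + ρ y • δ₁ x) ∧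
        (∀ a', δ₁ (ℓ (q₂ a')) = 0) ∧ ∀ b, δ₁ (ℓ (q₁ b)) = D₀ b) →
      ((∀ x y, δ₂ (x * y) = ρ x • δ₂ y + ρ y • δ₂ x) ∧
        (∀ a', δ₂ (ℓ (q₂ a')) = 0) ∧ ∀ b, δ₂ (ℓ (q₁ b)) = D₀ b) → δ₁ = δ₂ := by
    rintro δ₁ δ₂ ⟨h1m, h1a, h1b⟩ ⟨h2m, h2a, h2b⟩
    have hε : ∀ x y : T, (δ₁ - δ₂) (x * y) = x • (δ₁ - δ₂) y + y • (δ₁ - δ₂) x := by
      intro x y
      change δ₁ (x * y) - δ₂ (x * y) = ρ x • (δ₁ y - δ₂ y) + ρ y • (δ₁ x - δ₂ x)
      rw [h1m, h2m, smul_sub, smul_sub]
      abel
    have hC : ∀ c : C, (δ₁ - δ₂) (ℓ c) = 0 := by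
      intro c
      refine pushout_le_subring hP ((derKer (δ₁ - δ₂) hε).comap ℓ.hom) (fun b => ?_)
        (fun a => ?_) c
      · change δ₁ (ℓ (q₁ b)) - δ₂ (ℓ (q₁ b)) = 0
        rw [h1b, h2b, sub_self]
      · change δ₁ (ℓ (q₂ a)) - δ₂ (ℓ (q₂ a)) = 0
        rw [h1a, h2a, sub_self]
    have hT : ∀ t : T, (δ₁ - δ₂) t = 0 := by
      intro t
      obtain ⟨⟨c, m⟩, hcm⟩ := IsLocalization.surj (Submonoid.powers r) t
      have hm : IsUnit (algebraMap C T (m : C)) := IsLocalization.map_units _ m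
      have h1 := congrArg (δ₁ - δ₂) hcm
      change (δ₁ - δ₂) (t * ℓ (m : C)) = (δ₁ - δ₂) (ℓ c) at h1
      rw [hε, hC, hC, smul_zero, zero_add] at h1
      have hm' : IsUnit (ρ (ℓ (m : C))) := hm.map ρ.hom
      exact hm'.smul_eq_zero.mp h1
    ext t
    exact sub_eq_zero.mp (hT t)
  -- existence
  let D₀' : Derivation A B N :=
    Derivation.mk'
      { toFun := D₀
        map_add' := map_add D₀
        map_smul' := fun a b => by
          change D₀ (φ a * b) = ρ (ℓ (q₁ (φ a))) • D₀ b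
          rw [hmul, hA, smul_zero, add_zero] }
      (fun x y => hmul x y)
  obtain ⟨δ, hδ⟩ := exists_derivation_ext A A' B C T r N D₀'
  refine ⟨(δ : T →ₗ[A'] N).toAddMonoidHom, ⟨fun x y => δ.leibniz x y,
    fun a' => δ.map_algebraMap a', fun b => hδ b⟩, fun δ₂ h₂ => ?_⟩
  exact key δ₂ _ h₂ ⟨fun x y => δ.leibniz x y, fun a' => δ.map_algebraMap a', fun b => hδ b⟩

end Groth.Agent.Lib.Helper48.OmegaAff
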