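import Groth.Agent.Lib.Helper48.OmegaAff18
import Groth.Agent.Lib.Helper48.OmegaAff10

/-!
# Extension of derivations to a fibre product

For a cartesian square `X' = X ×_S S'` (projections `p₁ : X' ⟶ X`, `p₂ : X' ⟶ S'`), an
`O_{X'}`-module `F` and an `S`-derivation `D : O_X → p₁_* F`, `extDer D H : Der p₂ F` is an
`S'`-derivation `O_{X'} → F` with `extDer D H (p₁♯ b) = D b` (`extDer_pull`).  It is unique by
`der_eq_zero_of_isPullback`.  The construction glues the ring-level extensions of `OmegaAff18`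
over the basis of basic opens of products of affine opens (`EIdx`, `isBasis_idx`).
-/

set_option autoImplicit false
universe u

open AlgebraicGeometry CategoryTheory Opposite TopologicalSpace CategoryTheory.Limits

namespace Groth.Agent.Lib.Helper48.OmegaAff

section ExtDer

variable {X S X' S' : Scheme.{u}} {p₁ : X' ⟶ X} {p₂ : X' ⟶ S'} {f : X ⟶ S} {g : S' ⟶ S}
  {F : X'.Modules}

/-- Sections of a pushforward, as sections of the module over the preimage. -/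
def pfSect (p₁ : X' ⟶ X) (F : X'.Modules) (U : X.Opens) :
    Γ((Scheme.Modules.pushforward p₁).obj F, U) →+ Γ(F, p₁ ⁻¹ᵁ U) where
  toFun m := m
  map_zero' := rfl
  map_add' _ _ := rfl

theorem pfSect_smul (U : X.Opens) (x : Γ(X, U)) (m : Γ((Scheme.Modules.pushforward p₁).obj F, U)) :
    pfSect p₁ F U (x • m) = p₁.app U x • pfSect p₁ F U m := rfl

theorem pfSect_map {U U₂ : X.Opens} (hU : U₂ ≤ U)
    (m : Γ((Scheme.Modules.pushforward p₁).obj F, U)) :
    pfSect p₁ F U₂ (((Scheme.Modules.pushforward p₁).obj F).presheaf.map (homOfLE hU).op m) =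
      F.presheaf.map (homOfLE (p₁.preimage_mono hU)).op (pfSect p₁ F U m) := rfl

variable (D : OmegaSh.Der f ((Scheme.Modules.pushforward p₁).obj F))

/-- The values of a derivation `O_X → p₁_* F`, restricted to an open `O ⊆ p₁⁻¹ U`. -/
noncomputable def dRes (U : X.Opens) (O : X'.Opens) (hO : O ≤ p₁ ⁻¹ᵁ U) : Γ(X, U) →+ Γ(F, O) :=
  ((F.presheaf.map (homOfLE hO).op).hom.comp (pfSect p₁ F U)).comp (D.app U)

theorem dRes_apply (U : X.Opens) (O : X'.Opens) (hO : O ≤ p₁ ⁻¹ᵁ U) (b : Γ(X, U)) :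
    dRes D U O hO b = F.presheaf.map (homOfLE hO).op (pfSect p₁ F U (D.app U b)) := rfl

theorem dRes_mul (U : X.Opens) (O : X'.Opens) (hO : O ≤ p₁ ⁻¹ᵁ U) (x y : Γ(X, U)) :
    dRes D U O hO (x * y) = p₁.appLE U O hO x • dRes D U O hO y +
      p₁.appLE U O hO y • dRes D U O hO x := by
  rw [dRes_apply, der_app_mul f D U x y, map_add, pfSect_smul, pfSect_smul, map_add,
    Scheme.Modules.map_smul, Scheme.Modules.map_smul]
  rfl

theorem dRes_appLE (V : S.Opens) (U : X.Opens) (hU : U ≤ f ⁻¹ᵁ V) (O : X'.Opens)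
    (hO : O ≤ p₁ ⁻¹ᵁ U) (a : Γ(S, V)) : dRes D U O hO (f.appLE V U hU a) = 0 := by
  rw [dRes_apply, der_app_appLE f D V U hU a, map_zero, map_zero]

theorem dRes_res (U : X.Opens) {O O₂ : X'.Opens} (hO : O ≤ p₁ ⁻¹ᵁ U) (h : O₂ ≤ O) (b : Γ(X, U)) :
    F.presheaf.map (homOfLE h).op (dRes D U O hO b) = dRes D U O₂ (h.trans hO) b := by
  rw [dRes_apply, dRes_apply, ← ConcreteCategory.comp_apply, ← Functor.map_comp]
  rfl

theorem dRes_map {U U₂ : X.Opens} (hU : U₂ ≤ U) (O : X'.Opens) (hO : O ≤ p₁ ⁻¹ᵁ U₂)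
    (b : Γ(X, U)) :
    dRes D U₂ O hO (X.presheaf.map (homOfLE hU).op b) =
      dRes D U O (hO.trans (p₁.preimage_mono hU)) b := by
  rw [dRes_apply, dRes_apply, der_app_map f D hU b, pfSect_map, ← ConcreteCategory.comp_apply,
    ← Functor.map_comp]
  rfl

/-- Index set of the basis of `X ×_S S'` adapted to the product structure: basic opens of products
of affine opens. -/
structure EIdx (H : IsPullback p₁ p₂ f g) : Type u where
  U : X.Opens
  V : S.Opens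
  V' : S'.Opens
  hUa : IsAffineOpen U
  hVa : IsAffineOpen V
  hV'a : IsAffineOpen V'
  hU : U ≤ f ⁻¹ᵁ V
  hV' : V' ≤ g ⁻¹ᵁ V
  r : Γ(X', p₁ ⁻¹ᵁ U ⊓ p₂ ⁻¹ᵁ V')

namespace EIdx

variable {H : IsPullback p₁ p₂ f g} (i : EIdx H)

/-- The product open. -/
abbrev P : X'.Opens := p₁ ⁻¹ᵁ i.U ⊓ p₂ ⁻¹ᵁ i.V'

/-- The basic open of the product open. -/
def W : X'.Opens := X'.basicOpen i.r

theorem W_le_P : i.W ≤ i.P := X'.basicOpen_le i.r

theorem W_le_U : i.W ≤ p₁ ⁻¹ᵁ i.U := i.W_le_P.trans inf_le_left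

theorem W_le_V' : i.W ≤ p₂ ⁻¹ᵁ i.V' := i.W_le_P.trans inf_le_right

theorem isAffineOpen_P : IsAffineOpen i.P :=
  isAffineOpen_prodOpen H i.hUa i.hVa i.hV'a i.hU i.hV'

end EIdx

variable (H : IsPullback p₁ p₂ f g)

include H in
theorem exists_idx (z : X') (O₀ : X'.Opens) (hz : z ∈ O₀) (U₀ : X.Opens) (hU₀ : p₁ z ∈ U₀)
    (V'₀ : S'.Opens) (hV'₀ : p₂ z ∈ V'₀) :
    ∃ k : EIdx H, z ∈ k.W ∧ k.W ≤ O₀ ∧ k.U ≤ U₀ ∧ k.V' ≤ V'₀ := by
  obtain ⟨_, ⟨V, hV : IsAffineOpen V, rfl⟩, hsV, -⟩ :=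
    (S.isBasis_affineOpens).exists_subset_of_mem_open (Set.mem_univ (f (p₁ z))) isOpen_univ
  obtain ⟨_, ⟨U, hU : IsAffineOpen U, rfl⟩, hxU, hUV⟩ :=
    (X.isBasis_affineOpens).exists_subset_of_mem_open
      (show p₁ z ∈ ((f ⁻¹ᵁ V ⊓ U₀ : X.Opens) : Set X) from ⟨hsV, hU₀⟩) (f ⁻¹ᵁ V ⊓ U₀).isOpen
  have hgz : g (p₂ z) ∈ V := by
    have : g (p₂ z) = f (p₁ z) := by
      rw [← Scheme.Hom.comp_apply, ← Scheme.Hom.comp_apply, H.w]
    rw [this]; exact hsV
  obtain ⟨_, ⟨V', hV' : IsAffineOpen V', rfl⟩, hsV', hV'V⟩ :=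
    (S'.isBasis_affineOpens).exists_subset_of_mem_open
      (show p₂ z ∈ ((g ⁻¹ᵁ V ⊓ V'₀ : S'.Opens) : Set S') from ⟨hgz, hV'₀⟩) (g ⁻¹ᵁ V ⊓ V'₀).isOpen
  have hUV1 : U ≤ f ⁻¹ᵁ V := fun x hx => (hUV hx).1
  have hUV2 : U ≤ U₀ := fun x hx => (hUV hx).2
  have hV'1 : V' ≤ g ⁻¹ᵁ V := fun x hx => (hV'V hx).1
  have hV'2 : V' ≤ V'₀ := fun x hx => (hV'V hx).2
  have hP := isAffineOpen_prodOpen H hU hV hV' hUV1 hV'1
  have hzP : z ∈ p₁ ⁻¹ᵁ U ⊓ p₂ ⁻¹ᵁ V' := ⟨hxU, hsV'⟩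
  obtain ⟨r, hrW, hzr⟩ := hP.exists_basicOpen_le ⟨z, hz⟩ hzP
  exact ⟨⟨U, V, V', hU, hV, hV', hUV1, hV'1, r⟩, hzr, hrW, hUV2, hV'2⟩

include H in
theorem isBasis_idx : Opens.IsBasis (Set.range (EIdx.W : EIdx H → X'.Opens)) := by
  rw [Opens.isBasis_iff_nbhd]
  intro O z hz
  obtain ⟨k, hzk, hkO, -, -⟩ := exists_idx H z O hz ⊤ trivial ⊤ trivial
  exact ⟨k.W, ⟨k, rfl⟩, hzk, hkO⟩

variable {H}

theorem existsUnique_Δ (i : EIdx H) (O : X'.Opens) (hO : O ≤ i.W) :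
    ∃! δ : Γ(X', i.W) →+ Γ(F, O),
      (∀ x y, δ (x * y) = X'.presheaf.map (homOfLE hO).op x • δ y +
        X'.presheaf.map (homOfLE hO).op y • δ x) ∧
      (∀ a', δ (p₂.appLE i.V' i.W i.W_le_V' a') = 0) ∧
      ∀ b, δ (p₁.appLE i.U i.W i.W_le_U b) = dRes D i.U O (hO.trans i.W_le_U) b := by
  have hloc := i.isAffineOpen_P.isLocalization_basicOpen i.r
  have e1 : ∀ b, X'.presheaf.map (homOfLE i.W_le_P).op
      (p₁.appLE i.U (p₁ ⁻¹ᵁ i.U ⊓ p₂ ⁻¹ᵁ i.V') inf_le_left b) = p₁.appLE i.U i.W i.W_le_U b :=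
    fun b => congr($(Scheme.Hom.appLE_map p₁ (inf_le_left : p₁ ⁻¹ᵁ i.U ⊓ p₂ ⁻¹ᵁ i.V' ≤ p₁ ⁻¹ᵁ i.U)
      (homOfLE i.W_le_P).op) b)
  have e2 : ∀ a', X'.presheaf.map (homOfLE i.W_le_P).op
      (p₂.appLE i.V' (p₁ ⁻¹ᵁ i.U ⊓ p₂ ⁻¹ᵁ i.V') inf_le_right a') =
      p₂.appLE i.V' i.W i.W_le_V' a' :=
    fun a' => congr($(Scheme.Hom.appLE_map p₂
      (inf_le_right : p₁ ⁻¹ᵁ i.U ⊓ p₂ ⁻¹ᵁ i.V' ≤ p₂ ⁻¹ᵁ i.V') (homOfLE i.W_le_P).op) a')
  have e3 : ∀ b, X'.presheaf.map (homOfLE hO).op (p₁.appLE i.U i.W i.W_le_U b) =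
      p₁.appLE i.U O (hO.trans i.W_le_U) b :=
    fun b => congr($(Scheme.Hom.appLE_map p₁ i.W_le_U (homOfLE hO).op) b)
  obtain ⟨δ, ⟨h1, h2, h3⟩, huniq⟩ := existsUnique_der_ext
    (isPushout_prodOpen H i.hUa i.hVa i.hV'a i.hU i.hV')
    (X'.presheaf.map (homOfLE i.W_le_P).op) i.r hloc (X'.presheaf.map (homOfLE hO).op)
    (dRes D i.U O (hO.trans i.W_le_U))
    (fun x y => by rw [e1, e1, e3, e3]; exact dRes_mul D i.U O _ x y)
    (fun a => dRes_appLE D i.V i.U i.hU O _ a)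
  refine ⟨δ, ⟨h1, fun a' => ?_, fun b => ?_⟩, fun δ₂ hδ₂ => huniq δ₂ ⟨hδ₂.1, fun a' => ?_,
    fun b => ?_⟩⟩
  · rw [← e2]; exact h2 a'
  · rw [← e1]; exact h3 b
  · rw [e2]; exact hδ₂.2.1 a'
  · rw [e1]; exact hδ₂.2.2 b

/-- The local extension of the derivation over a basis element, valued in sections over a smaller
open. -/
noncomputable def Δ (i : EIdx H) (O : X'.Opens) (hO : O ≤ i.W) : Γ(X', i.W) →+ Γ(F, O) :=
  (existsUnique_Δ D i O hO).exists.choose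

theorem Δ_mul (i : EIdx H) (O : X'.Opens) (hO : O ≤ i.W) (x y : Γ(X', i.W)) :
    Δ D i O hO (x * y) = X'.presheaf.map (homOfLE hO).op x • Δ D i O hO y +
      X'.presheaf.map (homOfLE hO).op y • Δ D i O hO x :=
  (existsUnique_Δ D i O hO).exists.choose_spec.1 x y

theorem Δ_appLE₂ (i : EIdx H) (O : X'.Opens) (hO : O ≤ i.W) (a' : Γ(S', i.V')) :
    Δ D i O hO (p₂.appLE i.V' i.W i.W_le_V' a') = 0 :=
  (existsUnique_Δ D i O hO).exists.choose_spec.2.1 a'

theorem Δ_appLE₁ (i : EIdx H) (O : X'.Opens) (hO : O ≤ i.W) (b : Γ(X, i.U)) :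
    Δ D i O hO (p₁.appLE i.U i.W i.W_le_U b) = dRes D i.U O (hO.trans i.W_le_U) b :=
  (existsUnique_Δ D i O hO).exists.choose_spec.2.2 b

theorem Δ_unique (i : EIdx H) (O : X'.Opens) (hO : O ≤ i.W) (δ : Γ(X', i.W) →+ Γ(F, O))
    (h1 : ∀ x y, δ (x * y) = X'.presheaf.map (homOfLE hO).op x • δ y +
        X'.presheaf.map (homOfLE hO).op y • δ x)
    (h2 : ∀ a', δ (p₂.appLE i.V' i.W i.W_le_V' a') = 0)
    (h3 : ∀ b, δ (p₁.appLE i.U i.W i.W_le_U b) = dRes D i.U O (hO.trans i.W_le_U) b) :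
    δ = Δ D i O hO :=
  (existsUnique_Δ D i O hO).unique ⟨h1, h2, h3⟩ (existsUnique_Δ D i O hO).exists.choose_spec

theorem presheaf_map_map {O₁ O₂ O₃ : X'.Opens} (h₁ : O₂ ≤ O₁) (h₂ : O₃ ≤ O₂) (x : Γ(X', O₁)) :
    X'.presheaf.map (homOfLE h₂).op (X'.presheaf.map (homOfLE h₁).op x) =
      X'.presheaf.map (homOfLE (h₂.trans h₁)).op x := by
  rw [← ConcreteCategory.comp_apply, ← Functor.map_comp]
  rfl

theorem modules_map_map {O₁ O₂ O₃ : X'.Opens} (h₁ : O₂ ≤ O₁) (h₂ : O₃ ≤ O₂) (x : Γ(F, O₁)) :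
    F.presheaf.map (homOfLE h₂).op (F.presheaf.map (homOfLE h₁).op x) =
      F.presheaf.map (homOfLE (h₂.trans h₁)).op x := by
  rw [← ConcreteCategory.comp_apply, ← Functor.map_comp]
  rfl

theorem presheaf_map_refl {O : X'.Opens} (x : Γ(X', O)) :
    X'.presheaf.map (homOfLE (le_refl O)).op x = x :=
  congr($(X'.presheaf.map_id (op O)) x)

theorem Δ_res (i : EIdx H) {O O₂ : X'.Opens} (hO : O ≤ i.W) (h : O₂ ≤ O) (s : Γ(X', i.W)) :
    F.presheaf.map (homOfLE h).op (Δ D i O hO s) = Δ D i O₂ (h.trans hO) s := by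
  have := Δ_unique D i O₂ (h.trans hO)
    ((F.presheaf.map (homOfLE h).op).hom.comp (Δ D i O hO))
    (fun x y => by
      change F.presheaf.map (homOfLE h).op (Δ D i O hO (x * y)) =
        X'.presheaf.map (homOfLE (h.trans hO)).op x • F.presheaf.map (homOfLE h).op (Δ D i O hO y) +
        X'.presheaf.map (homOfLE (h.trans hO)).op y • F.presheaf.map (homOfLE h).op (Δ D i O hO x)
      rw [Δ_mul, map_add, Scheme.Modules.map_smul, Scheme.Modules.map_smul, presheaf_map_map,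
        presheaf_map_map])
    (fun a' => by
      change F.presheaf.map (homOfLE h).op (Δ D i O hO _) = 0
      rw [Δ_appLE₂, map_zero])
    (fun b => by
      change F.presheaf.map (homOfLE h).op (Δ D i O hO _) = _
      rw [Δ_appLE₁, dRes_res])
  exact congr($this s)

theorem Δ_comp (i j : EIdx H) (hW : j.W ≤ i.W) (hU : j.U ≤ i.U) (hV' : j.V' ≤ i.V')
    (s : Γ(X', i.W)) :
    Δ D i j.W hW s = Δ D j j.W le_rfl (X'.presheaf.map (homOfLE hW).op s) := by
  have := Δ_unique D i j.W hW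
    ((Δ D j j.W le_rfl).comp (X'.presheaf.map (homOfLE hW).op).hom.toAddMonoidHom)
    (fun x y => by
      change Δ D j j.W le_rfl (X'.presheaf.map (homOfLE hW).op (x * y)) =
        X'.presheaf.map (homOfLE hW).op x •
          Δ D j j.W le_rfl (X'.presheaf.map (homOfLE hW).op y) +
        X'.presheaf.map (homOfLE hW).op y •
          Δ D j j.W le_rfl (X'.presheaf.map (homOfLE hW).op x)
      rw [map_mul, Δ_mul, presheaf_map_refl, presheaf_map_refl])
    (fun a' => by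
      change Δ D j j.W le_rfl (X'.presheaf.map (homOfLE hW).op (p₂.appLE i.V' i.W i.W_le_V' a')) = 0
      have e : X'.presheaf.map (homOfLE hW).op (p₂.appLE i.V' i.W i.W_le_V' a') =
          p₂.appLE j.V' j.W j.W_le_V' (S'.presheaf.map (homOfLE hV').op a') := by
        rw [← ConcreteCategory.comp_apply, ← ConcreteCategory.comp_apply,
          Scheme.Hom.appLE_map, Scheme.Hom.map_appLE]
      rw [e, Δ_appLE₂])
    (fun b => by
      change Δ D j j.W le_rfl (X'.presheaf.map (homOfLE hW).op (p₁.appLE i.U i.W i.W_le_U b)) = _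
      have e : X'.presheaf.map (homOfLE hW).op (p₁.appLE i.U i.W i.W_le_U b) =
          p₁.appLE j.U j.W j.W_le_U (X.presheaf.map (homOfLE hU).op b) := by
        rw [← ConcreteCategory.comp_apply, ← ConcreteCategory.comp_apply,
          Scheme.Hom.appLE_map, Scheme.Hom.map_appLE]
      rw [e, Δ_appLE₁, dRes_map])
  exact (congr($this s)).symm

theorem eq_of_locally (M : X'.Modules) {W : X'.Opens} (s t : Γ(M, W))
    (h : ∀ z ∈ W, ∃ (W' : X'.Opens) (hW' : W' ≤ W), z ∈ W' ∧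
      M.presheaf.map (homOfLE hW').op s = M.presheaf.map (homOfLE hW').op t) : s = t := by
  rw [← sub_eq_zero]
  refine eq_zero_of_locally M _ (fun z hz => ?_)
  obtain ⟨W', hW', hz', e⟩ := h z hz
  exact ⟨W', hW', hz', by rw [map_sub, e, sub_self]⟩

theorem Δ_nat (i j : EIdx H) (hW : j.W ≤ i.W) (s : Γ(X', i.W)) :
    F.presheaf.map (homOfLE hW).op (Δ D i i.W le_rfl s) =
      Δ D j j.W le_rfl (X'.presheaf.map (homOfLE hW).op s) := by
  refine eq_of_locally F _ _ (fun z hz => ?_)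
  obtain ⟨k, hzk, hkj, hkU, hkV'⟩ := exists_idx H z j.W hz (i.U ⊓ j.U)
    ⟨i.W_le_U (hW hz), j.W_le_U hz⟩ (i.V' ⊓ j.V') ⟨i.W_le_V' (hW hz), j.W_le_V' hz⟩
  refine ⟨k.W, hkj, hzk, ?_⟩
  rw [modules_map_map, Δ_res D i le_rfl (hkj.trans hW),
    Δ_comp D i k (hkj.trans hW) (hkU.trans inf_le_left) (hkV'.trans inf_le_left),
    Δ_res D j le_rfl hkj, Δ_comp D j k hkj (hkU.trans inf_le_right) (hkV'.trans inf_le_right),
    presheaf_map_map]

variable (H)

/-- The family of local extensions, as a natural transformation on the basis. -/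
noncomputable def basisNatE :
    (inducedFunctor (EIdx.W : EIdx H → X'.Opens)).op ⋙ (Coh.structureModule X').presheaf ⟶
      (inducedFunctor (EIdx.W : EIdx H → X'.Opens)).op ⋙ F.presheaf where
  app i := AddCommGrpCat.ofHom
    ((Δ D (show EIdx H from i.unop) (show EIdx H from i.unop).W le_rfl).comp
      (OmegaSh.fnSect X' (show EIdx H from i.unop).W))
  naturality i j g := by
    ext s
    exact (Δ_nat D (show EIdx H from i.unop) (show EIdx H from j.unop) g.unop.hom.le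
      (OmegaSh.fnSect X' _ s)).symm

/-- The glued map of abelian presheaves `O_{X'} → F`. -/
noncomputable def glueE : (Coh.structureModule X').presheaf ⟶ F.presheaf :=
  TopCat.Sheaf.restrictHomEquivHom (Coh.structureModule X').presheaf ⟨F.presheaf, F.isSheaf⟩
    (isBasis_idx H) (basisNatE D H)

theorem glueE_app_idx (k : EIdx H) (s : Γ(X', k.W)) :
    (glueE D H).app (op k.W) (OmegaSh.strSect X' k.W s) = Δ D k k.W le_rfl s := by
  have h := TopCat.Sheaf.extend_hom_app (Coh.structureModule X').presheaf ⟨F.presheaf, F.isSheaf⟩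
    (isBasis_idx H) (basisNatE D H) k
  exact congr($h (OmegaSh.strSect X' k.W s))

theorem glueE_res {W U : X'.Opens} (i : U ≤ W) (s : Γ(X', W)) :
    F.presheaf.map (homOfLE i).op ((glueE D H).app (op W) (OmegaSh.strSect X' W s)) =
      (glueE D H).app (op U) (OmegaSh.strSect X' U (X'.presheaf.map (homOfLE i).op s)) :=
  (congr($((glueE D H).naturality (homOfLE i).op) (OmegaSh.strSect X' W s))).symm

/-- The value of the extended derivation on sections over an open. -/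
noncomputable def extApp (W : X'.Opens) : Γ(X', W) →+ Γ(F, W) :=
  ((glueE D H).app (op W)).hom.comp (OmegaSh.strSect X' W)

theorem extApp_res {W U : X'.Opens} (i : U ≤ W) (s : Γ(X', W)) :
    F.presheaf.map (homOfLE i).op (extApp D H W s) =
      extApp D H U (X'.presheaf.map (homOfLE i).op s) :=
  glueE_res D H i s

theorem extApp_idx (k : EIdx H) (s : Γ(X', k.W)) : extApp D H k.W s = Δ D k k.W le_rfl s :=
  glueE_app_idx D H k s

theorem extApp_mul (W : X'.Opens) (s t : Γ(X', W)) :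
    extApp D H W (s * t) = s • extApp D H W t + t • extApp D H W s := by
  refine eq_of_locally F _ _ (fun z hz => ?_)
  obtain ⟨k, hzk, hkW, -, -⟩ := exists_idx H z W hz ⊤ trivial ⊤ trivial
  refine ⟨k.W, hkW, hzk, ?_⟩
  rw [extApp_res, map_add, Scheme.Modules.map_smul, Scheme.Modules.map_smul, extApp_res,
    extApp_res, map_mul, extApp_idx, extApp_idx, extApp_idx, Δ_mul, presheaf_map_refl,
    presheaf_map_refl]

theorem extApp_app (V' : S'.Opens) (a : Γ(S', V')) :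
    extApp D H (p₂ ⁻¹ᵁ V') (p₂.app V' a) = 0 := by
  refine eq_of_locally F _ _ (fun z hz => ?_)
  obtain ⟨k, hzk, hkW, -, hkV'⟩ := exists_idx H z (p₂ ⁻¹ᵁ V') hz ⊤ trivial V' hz
  refine ⟨k.W, hkW, hzk, ?_⟩
  rw [extApp_res, map_zero, extApp_idx]
  have e : X'.presheaf.map (homOfLE hkW).op (p₂.app V' a) =
      p₂.appLE k.V' k.W k.W_le_V' (S'.presheaf.map (homOfLE hkV').op a) := by
    rw [← ConcreteCategory.comp_apply, ← ConcreteCategory.comp_apply, Scheme.Hom.map_appLE]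
    rfl
  rw [e, Δ_appLE₂]

theorem extApp_pull (U : X.Opens) (b : Γ(X, U)) :
    extApp D H (p₁ ⁻¹ᵁ U) (p₁.app U b) = pfSect p₁ F U (D.app U b) := by
  refine eq_of_locally F _ _ (fun z hz => ?_)
  obtain ⟨k, hzk, hkW, hkU, -⟩ := exists_idx H z (p₁ ⁻¹ᵁ U) hz U hz ⊤ trivial
  refine ⟨k.W, hkW, hzk, ?_⟩
  rw [extApp_res, extApp_idx]
  have e : X'.presheaf.map (homOfLE hkW).op (p₁.app U b) =
      p₁.appLE k.U k.W k.W_le_U (X.presheaf.map (homOfLE hkU).op b) := by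
    rw [← ConcreteCategory.comp_apply, ← ConcreteCategory.comp_apply, Scheme.Hom.map_appLE]
    rfl
  rw [e, Δ_appLE₁, dRes_map]
  rfl

/-- **Extension of derivations to a fibre product**: a derivation `O_X → p₁_* F` relative to `S`
extends to a derivation `O_{X'} → F` relative to `S'`, for `X' = X ×_S S'`. -/
noncomputable def extDer : OmegaSh.Der p₂ F where
  d {W} := extApp D H W.unop
  d_mul {W} s t := extApp_mul D H W.unop s t
  d_map {W W'} i s := by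
    have hi : i = (homOfLE i.unop.le).op := rfl
    rw [hi]
    exact (extApp_res D H i.unop.le s).symm
  d_app {V'} a := extApp_app D H V'.unop a

theorem extDer_app (W : X'.Opens) (s : Γ(X', W)) : (extDer D H).app W s = extApp D H W s := rfl

theorem extDer_pull (U : X.Opens) (b : Γ(X, U)) :
    (extDer D H).app (p₁ ⁻¹ᵁ U) (p₁.app U b) = pfSect p₁ F U (D.app U b) :=
  extApp_pull D H U b

end ExtDer

end Groth.Agent.Lib.Helper48.OmegaAff
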