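import Groth.Agent.Lib.Helper48.OmegaAff20
import Groth.Agent.Lib.Helper48.OmegaAff14

/-!
# Differentials of a fibre product

For `Z = X ×_S Y` with projections `p`, `q`, the map `p^* Ω_{X/S} ⨿ q^* Ω_{Y/S} → Ω_{Z/S}` is an
isomorphism (`isIso_coprod_desc_of_isPullback`), for arbitrary universal receptacles.
-/

set_option autoImplicit false
universe u

open AlgebraicGeometry CategoryTheory Opposite TopologicalSpace CategoryTheory.Limits

namespace Groth.Agent.Lib.Helper48.OmegaAff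

section Product

variable {X Y S Z : Scheme.{u}} {a : X ⟶ S} {b : Y ⟶ S} {p : Z ⟶ X} {q : Z ⟶ Y} {h : Z ⟶ S}
  (wp : p ≫ a = h) (wq : q ≫ b = h) (hZ : IsPullback p q a b)
  {ΩX : X.Modules} (dX : OmegaSh.Der a ΩX) (hX : OmegaSh.IsUniversal dX)
  {ΩY : Y.Modules} (dY : OmegaSh.Der b ΩY) (hY : OmegaSh.IsUniversal dY)
  {ΩZ : Z.Modules} (dZ : OmegaSh.Der h ΩZ) (hZu : OmegaSh.IsUniversal dZ)
  (c₁ : (Scheme.Modules.pullback p).obj ΩX ⟶ ΩZ) (hc₁ : OmegaSh.IsDiffCompat p dX dZ c₁)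
  (c₂ : (Scheme.Modules.pullback q).obj ΩY ⟶ ΩZ) (hc₂ : OmegaSh.IsDiffCompat q dY dZ c₂)

include wq hZ hX hY hZu hc₁ hc₂ in
/-- The projection `Ω_{Z/S} → p^* Ω_{X/S}`. -/
theorem exists_retraction_fst :
    ∃ r₁ : ΩZ ⟶ (Scheme.Modules.pullback p).obj ΩX, c₁ ≫ r₁ = 𝟙 _ ∧ c₂ ≫ r₁ = 0 := by
  obtain ⟨r₁, hr₁, -⟩ := hZu _ (castDer wq (weakenDer q b (pullDer hZ dX)))
  have key : ∀ (W : Z.Opens) (s : Γ(Z, W)),
      r₁.app W (dZ.app W s) = (pullDer hZ dX).app W s := by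
    intro W s
    have h1 := PresheafOfModules.Derivation.congr_d hr₁ (X := op W) s
    refine h1.trans ?_
    exact (castDer_app wq (weakenDer q b (pullDer hZ dX)) W s)
  refine ⟨r₁, ?_, ?_⟩
  · refine hom_ext_pullback_of_universal a p dX hX _ _ (fun U x => ?_)
    change r₁.app (p ⁻¹ᵁ U) (c₁.app (p ⁻¹ᵁ U) _) = OmegaSh.pullSect p ΩX U (dX.app U x)
    rw [hc₁ U x, key, pullDer_pull]
  · refine hom_ext_pullback_of_universal b q dY hY _ _ (fun U y => ?_)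
    change r₁.app (q ⁻¹ᵁ U) (c₂.app (q ⁻¹ᵁ U) _) = (0 : Γ((Scheme.Modules.pullback p).obj ΩX, q ⁻¹ᵁ U))
    rw [hc₂ U y, key]
    exact der_app_app q (pullDer hZ dX) U y

include wq hZ hZu hc₁ hc₂ in
theorem epi_coprod_desc : Epi (coprod.desc c₁ c₂) := by
  constructor
  intro F α β hαβ
  rw [← sub_eq_zero]
  have hγ : coprod.desc c₁ c₂ ≫ (α - β) = 0 := by rw [Preadditive.comp_sub, hαβ, sub_self]
  have hγ₁ : c₁ ≫ (α - β) = 0 := by
    rw [← coprod.inl_desc c₁ c₂, Category.assoc, hγ, comp_zero]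
  have hγ₂ : c₂ ≫ (α - β) = 0 := by
    rw [← coprod.inr_desc c₁ c₂, Category.assoc, hγ, comp_zero]
  have hkp : ∀ (U : X.Opens) (x : Γ(X, U)),
      (α - β).app (p ⁻¹ᵁ U) (dZ.app (p ⁻¹ᵁ U) (p.app U x)) = 0 := by
    intro U x
    rw [← hc₁ U x]
    exact congr($(hγ₁).app (p ⁻¹ᵁ U) (OmegaSh.pullSect p ΩX U (dX.app U x)))
  have hkq : ∀ (U : Y.Opens) (y : Γ(Y, U)),
      (α - β).app (q ⁻¹ᵁ U) (dZ.app (q ⁻¹ᵁ U) (q.app U y)) = 0 := by
    intro U y
    rw [← hc₂ U y]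
    exact congr($(hγ₂).app (q ⁻¹ᵁ U) (OmegaSh.pullSect q ΩY U (dY.app U y)))
  let G : OmegaSh.Der q F := strengthenDer q b (castDer wq.symm (dZ.postcomp (α - β).val))
    (fun U y => (castDer_app wq.symm (dZ.postcomp (α - β).val) _ _).trans (hkq U y))
  have hG : ∀ (W : Z.Opens) (s : Γ(Z, W)), G.app W s = (α - β).app W (dZ.app W s) :=
    fun W s => castDer_app wq.symm (dZ.postcomp (α - β).val) W s
  refine hom_ext_of_universal h dZ hZu _ _ (fun W s => ?_)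
  rw [← hG]
  exact der_eq_zero_of_isPullback hZ G (fun U x => (hG _ _).trans (hkp U x)) W s

include wp wq hZ hX hY hZu hc₁ hc₂ in
/-- **Differentials of a fibre product**: `p^* Ω_{X/S} ⨿ q^* Ω_{Y/S} ≅ Ω_{X ×_S Y / S}`. -/
theorem isIso_coprod_desc_of_isPullback : IsIso (coprod.desc c₁ c₂) := by
  have : Epi (coprod.desc c₁ c₂) := epi_coprod_desc wq hZ dX dY dZ hZu c₁ hc₁ c₂ hc₂
  obtain ⟨r₁, h11, h21⟩ := exists_retraction_fst wq hZ dX hX dY hY dZ hZu c₁ hc₁ c₂ hc₂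
  obtain ⟨r₂, h22, h12⟩ := exists_retraction_fst wp hZ.flip dY hY dX hX dZ hZu c₂ hc₂ c₁ hc₁
  have hid : coprod.desc c₁ c₂ ≫ (r₁ ≫ coprod.inl + r₂ ≫ coprod.inr) = 𝟙 _ := by
    apply coprod.hom_ext
    · rw [coprod.inl_desc_assoc, Preadditive.comp_add, ← Category.assoc, ← Category.assoc, h11,
        h12, zero_comp, add_zero, Category.id_comp, Category.comp_id]
    · rw [coprod.inr_desc_assoc, Preadditive.comp_add, ← Category.assoc, ← Category.assoc, h21,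
        h22, zero_comp, zero_add, Category.id_comp, Category.comp_id]
  have : IsSplitMono (coprod.desc c₁ c₂) := IsSplitMono.mk' { retraction := _, id := hid }
  exact isIso_of_epi_of_isSplitMono _

end Product

end Groth.Agent.Lib.Helper48.OmegaAff
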