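import Groth.Agent.Lib.Helper48.OmegaAff19

/-!
# Gluing derivations from local unique extensions (abstract form)

`ExtBasis p₁ p₂ f g`: a basis `W i` of `X'` with opens `U i ⊆ X`, `V i ⊆ S`, `V' i ⊆ S'` such that
derivations `Γ(X, U i) → N` over `Γ(S, V i)` extend uniquely to derivations `Γ(X', W i) → N` over
`Γ(S', V' i)`.  `DerFamily 𝓑 F`: a compatible family of derivations `Γ(X, U i) → Γ(F, O)`,
`O ≤ W i`.  `glueDer 𝓑 𝒟 : Der p₂ F` is the glued derivation, with `glueDer_app_idx`.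
-/

set_option autoImplicit false
universe u

open AlgebraicGeometry CategoryTheory Opposite TopologicalSpace CategoryTheory.Limits

namespace Groth.Agent.Lib.Helper48.OmegaAff

section Abstract

variable {X S X' S' : Scheme.{u}}

/-- A basis of `X'` over which derivations of `O_X` extend uniquely. -/
structure ExtBasis (p₁ : X' ⟶ X) (p₂ : X' ⟶ S') (f : X ⟶ S) where
  ι : Type u
  U : ι → X.Opens
  V : ι → S.Opens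
  V' : ι → S'.Opens
  W : ι → X'.Opens
  U_le_V : ∀ i, U i ≤ f ⁻¹ᵁ V i
  W_le_U : ∀ i, W i ≤ p₁ ⁻¹ᵁ U i
  W_le_V' : ∀ i, W i ≤ p₂ ⁻¹ᵁ V' i
  /-- the opens of `X` into which the basis can be refined -/
  Ugood : X.Opens → Prop
  Ugood_top : Ugood ⊤
  Ugood_inf : ∀ i j, Ugood (U i ⊓ U j)
  exists_idx : ∀ (z : X') (O₀ : X'.Opens), z ∈ O₀ → ∀ (U₀ : X.Opens), Ugood U₀ → p₁ z ∈ U₀ →
    ∀ (V'₀ : S'.Opens), p₂ z ∈ V'₀ → ∃ k, z ∈ W k ∧ W k ≤ O₀ ∧ U k ≤ U₀ ∧ V' k ≤ V'₀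
  ext : ∀ (i : ι) (F : X'.Modules) (O : X'.Opens) (hO : O ≤ W i) (D₀ : Γ(X, U i) →+ Γ(F, O)),
    (∀ x y, D₀ (x * y) = p₁.appLE (U i) O (hO.trans (W_le_U i)) x • D₀ y +
      p₁.appLE (U i) O (hO.trans (W_le_U i)) y • D₀ x) →
    (∀ a, D₀ (f.appLE (V i) (U i) (U_le_V i) a) = 0) →
    ∃! δ : Γ(X', W i) →+ Γ(F, O),
      (∀ x y, δ (x * y) = X'.presheaf.map (homOfLE hO).op x • δ y +
        X'.presheaf.map (homOfLE hO).op y • δ x) ∧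
      (∀ a', δ (p₂.appLE (V' i) (W i) (W_le_V' i) a') = 0) ∧
      ∀ b, δ (p₁.appLE (U i) (W i) (W_le_U i) b) = D₀ b

variable {p₁ : X' ⟶ X} {p₂ : X' ⟶ S'} {f : X ⟶ S}

/-- A compatible family of local derivations adapted to an `ExtBasis`. -/
structure DerFamily (𝓑 : ExtBasis p₁ p₂ f) (F : X'.Modules) where
  D : ∀ (i : 𝓑.ι) (O : X'.Opens), O ≤ 𝓑.W i → (Γ(X, 𝓑.U i) →+ Γ(F, O))
  mul : ∀ (i : 𝓑.ι) (O : X'.Opens) (hO : O ≤ 𝓑.W i) (x y : Γ(X, 𝓑.U i)),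
    D i O hO (x * y) = p₁.appLE (𝓑.U i) O (hO.trans (𝓑.W_le_U i)) x • D i O hO y +
      p₁.appLE (𝓑.U i) O (hO.trans (𝓑.W_le_U i)) y • D i O hO x
  kill : ∀ (i : 𝓑.ι) (O : X'.Opens) (hO : O ≤ 𝓑.W i) (a : Γ(S, 𝓑.V i)),
    D i O hO (f.appLE (𝓑.V i) (𝓑.U i) (𝓑.U_le_V i) a) = 0
  res : ∀ (i : 𝓑.ι) (O O₂ : X'.Opens) (hO : O ≤ 𝓑.W i) (h : O₂ ≤ O) (b : Γ(X, 𝓑.U i)),
    F.presheaf.map (homOfLE h).op (D i O hO b) = D i O₂ (h.trans hO) b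
  map : ∀ (i j : 𝓑.ι) (hU : 𝓑.U j ≤ 𝓑.U i) (O : X'.Opens) (hOi : O ≤ 𝓑.W i) (hOj : O ≤ 𝓑.W j)
    (b : Γ(X, 𝓑.U i)), D j O hOj (X.presheaf.map (homOfLE hU).op b) = D i O hOi b

variable (𝓑 : ExtBasis p₁ p₂ f) {F : X'.Modules} (𝒟 : DerFamily 𝓑 F)

theorem ExtBasis.isBasis : Opens.IsBasis (Set.range 𝓑.W) := by
  rw [Opens.isBasis_iff_nbhd]
  intro O z hz
  obtain ⟨k, hzk, hkO, -, -⟩ := 𝓑.exists_idx z O hz ⊤ 𝓑.Ugood_top trivial ⊤ trivial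
  exact ⟨𝓑.W k, ⟨k, rfl⟩, hzk, hkO⟩

theorem existsUnique_Λ (i : 𝓑.ι) (O : X'.Opens) (hO : O ≤ 𝓑.W i) :
    ∃! δ : Γ(X', 𝓑.W i) →+ Γ(F, O),
      (∀ x y, δ (x * y) = X'.presheaf.map (homOfLE hO).op x • δ y +
        X'.presheaf.map (homOfLE hO).op y • δ x) ∧
      (∀ a', δ (p₂.appLE (𝓑.V' i) (𝓑.W i) (𝓑.W_le_V' i) a') = 0) ∧
      ∀ b, δ (p₁.appLE (𝓑.U i) (𝓑.W i) (𝓑.W_le_U i) b) = 𝒟.D i O hO b :=
  𝓑.ext i F O hO (𝒟.D i O hO) (𝒟.mul i O hO) (𝒟.kill i O hO)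

/-- The local extension over a basis element. -/
noncomputable def Λ (i : 𝓑.ι) (O : X'.Opens) (hO : O ≤ 𝓑.W i) : Γ(X', 𝓑.W i) →+ Γ(F, O) :=
  (existsUnique_Λ 𝓑 𝒟 i O hO).exists.choose

theorem Λ_mul (i : 𝓑.ι) (O : X'.Opens) (hO : O ≤ 𝓑.W i) (x y : Γ(X', 𝓑.W i)) :
    Λ 𝓑 𝒟 i O hO (x * y) = X'.presheaf.map (homOfLE hO).op x • Λ 𝓑 𝒟 i O hO y +
      X'.presheaf.map (homOfLE hO).op y • Λ 𝓑 𝒟 i O hO x :=
  (existsUnique_Λ 𝓑 𝒟 i O hO).exists.choose_spec.1 x y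

theorem Λ_appLE₂ (i : 𝓑.ι) (O : X'.Opens) (hO : O ≤ 𝓑.W i) (a' : Γ(S', 𝓑.V' i)) :
    Λ 𝓑 𝒟 i O hO (p₂.appLE (𝓑.V' i) (𝓑.W i) (𝓑.W_le_V' i) a') = 0 :=
  (existsUnique_Λ 𝓑 𝒟 i O hO).exists.choose_spec.2.1 a'

theorem Λ_appLE₁ (i : 𝓑.ι) (O : X'.Opens) (hO : O ≤ 𝓑.W i) (b : Γ(X, 𝓑.U i)) :
    Λ 𝓑 𝒟 i O hO (p₁.appLE (𝓑.U i) (𝓑.W i) (𝓑.W_le_U i) b) = 𝒟.D i O hO b :=
  (existsUnique_Λ 𝓑 𝒟 i O hO).exists.choose_spec.2.2 b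

theorem Λ_unique (i : 𝓑.ι) (O : X'.Opens) (hO : O ≤ 𝓑.W i) (δ : Γ(X', 𝓑.W i) →+ Γ(F, O))
    (h1 : ∀ x y, δ (x * y) = X'.presheaf.map (homOfLE hO).op x • δ y +
        X'.presheaf.map (homOfLE hO).op y • δ x)
    (h2 : ∀ a', δ (p₂.appLE (𝓑.V' i) (𝓑.W i) (𝓑.W_le_V' i) a') = 0)
    (h3 : ∀ b, δ (p₁.appLE (𝓑.U i) (𝓑.W i) (𝓑.W_le_U i) b) = 𝒟.D i O hO b) :
    δ = Λ 𝓑 𝒟 i O hO :=
  (existsUnique_Λ 𝓑 𝒟 i O hO).unique ⟨h1, h2, h3⟩ (existsUnique_Λ 𝓑 𝒟 i O hO).exists.choose_spec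

theorem Λ_res (i : 𝓑.ι) {O O₂ : X'.Opens} (hO : O ≤ 𝓑.W i) (h : O₂ ≤ O) (s : Γ(X', 𝓑.W i)) :
    F.presheaf.map (homOfLE h).op (Λ 𝓑 𝒟 i O hO s) = Λ 𝓑 𝒟 i O₂ (h.trans hO) s := by
  have := Λ_unique 𝓑 𝒟 i O₂ (h.trans hO)
    ((F.presheaf.map (homOfLE h).op).hom.comp (Λ 𝓑 𝒟 i O hO))
    (fun x y => by
      change F.presheaf.map (homOfLE h).op (Λ 𝓑 𝒟 i O hO (x * y)) =
        X'.presheaf.map (homOfLE (h.trans hO)).op x •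
          F.presheaf.map (homOfLE h).op (Λ 𝓑 𝒟 i O hO y) +
        X'.presheaf.map (homOfLE (h.trans hO)).op y •
          F.presheaf.map (homOfLE h).op (Λ 𝓑 𝒟 i O hO x)
      rw [Λ_mul, map_add, Scheme.Modules.map_smul, Scheme.Modules.map_smul, presheaf_map_map,
        presheaf_map_map])
    (fun a' => by
      change F.presheaf.map (homOfLE h).op (Λ 𝓑 𝒟 i O hO _) = 0
      rw [Λ_appLE₂, map_zero])
    (fun b => by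
      change F.presheaf.map (homOfLE h).op (Λ 𝓑 𝒟 i O hO _) = _
      rw [Λ_appLE₁, 𝒟.res])
  exact congr($this s)

theorem Λ_comp (i j : 𝓑.ι) (hW : 𝓑.W j ≤ 𝓑.W i) (hU : 𝓑.U j ≤ 𝓑.U i) (hV' : 𝓑.V' j ≤ 𝓑.V' i)
    (s : Γ(X', 𝓑.W i)) :
    Λ 𝓑 𝒟 i (𝓑.W j) hW s = Λ 𝓑 𝒟 j (𝓑.W j) le_rfl (X'.presheaf.map (homOfLE hW).op s) := by
  have := Λ_unique 𝓑 𝒟 i (𝓑.W j) hW
    ((Λ 𝓑 𝒟 j (𝓑.W j) le_rfl).comp (X'.presheaf.map (homOfLE hW).op).hom.toAddMonoidHom)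
    (fun x y => by
      change Λ 𝓑 𝒟 j (𝓑.W j) le_rfl (X'.presheaf.map (homOfLE hW).op (x * y)) =
        X'.presheaf.map (homOfLE hW).op x •
          Λ 𝓑 𝒟 j (𝓑.W j) le_rfl (X'.presheaf.map (homOfLE hW).op y) +
        X'.presheaf.map (homOfLE hW).op y •
          Λ 𝓑 𝒟 j (𝓑.W j) le_rfl (X'.presheaf.map (homOfLE hW).op x)
      rw [map_mul, Λ_mul, presheaf_map_refl, presheaf_map_refl])
    (fun a' => by
      change Λ 𝓑 𝒟 j (𝓑.W j) le_rfl (X'.presheaf.map (homOfLE hW).op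
        (p₂.appLE (𝓑.V' i) (𝓑.W i) (𝓑.W_le_V' i) a')) = 0
      have e : X'.presheaf.map (homOfLE hW).op (p₂.appLE (𝓑.V' i) (𝓑.W i) (𝓑.W_le_V' i) a') =
          p₂.appLE (𝓑.V' j) (𝓑.W j) (𝓑.W_le_V' j) (S'.presheaf.map (homOfLE hV').op a') := by
        rw [← ConcreteCategory.comp_apply, ← ConcreteCategory.comp_apply,
          Scheme.Hom.appLE_map, Scheme.Hom.map_appLE]
      rw [e, Λ_appLE₂])
    (fun b => by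
      change Λ 𝓑 𝒟 j (𝓑.W j) le_rfl (X'.presheaf.map (homOfLE hW).op
        (p₁.appLE (𝓑.U i) (𝓑.W i) (𝓑.W_le_U i) b)) = _
      have e : X'.presheaf.map (homOfLE hW).op (p₁.appLE (𝓑.U i) (𝓑.W i) (𝓑.W_le_U i) b) =
          p₁.appLE (𝓑.U j) (𝓑.W j) (𝓑.W_le_U j) (X.presheaf.map (homOfLE hU).op b) := by
        rw [← ConcreteCategory.comp_apply, ← ConcreteCategory.comp_apply,
          Scheme.Hom.appLE_map, Scheme.Hom.map_appLE]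
      rw [e, Λ_appLE₁, 𝒟.map i j hU (𝓑.W j) hW le_rfl])
  exact (congr($this s)).symm

theorem Λ_nat (i j : 𝓑.ι) (hW : 𝓑.W j ≤ 𝓑.W i) (s : Γ(X', 𝓑.W i)) :
    F.presheaf.map (homOfLE hW).op (Λ 𝓑 𝒟 i (𝓑.W i) le_rfl s) =
      Λ 𝓑 𝒟 j (𝓑.W j) le_rfl (X'.presheaf.map (homOfLE hW).op s) := by
  refine eq_of_locally F _ _ (fun z hz => ?_)
  obtain ⟨k, hzk, hkj, hkU, hkV'⟩ := 𝓑.exists_idx z (𝓑.W j) hz (𝓑.U i ⊓ 𝓑.U j)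
    (𝓑.Ugood_inf i j) ⟨𝓑.W_le_U i (hW hz), 𝓑.W_le_U j hz⟩ (𝓑.V' i ⊓ 𝓑.V' j)
    ⟨𝓑.W_le_V' i (hW hz), 𝓑.W_le_V' j hz⟩
  refine ⟨𝓑.W k, hkj, hzk, ?_⟩
  rw [modules_map_map, Λ_res 𝓑 𝒟 i le_rfl (hkj.trans hW),
    Λ_comp 𝓑 𝒟 i k (hkj.trans hW) (hkU.trans inf_le_left) (hkV'.trans inf_le_left),
    Λ_res 𝓑 𝒟 j le_rfl hkj, Λ_comp 𝓑 𝒟 j k hkj (hkU.trans inf_le_right) (hkV'.trans inf_le_right),
    presheaf_map_map]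

/-- The family of local extensions, as a natural transformation on the basis. -/
noncomputable def basisNatΛ :
    (inducedFunctor 𝓑.W).op ⋙ (Coh.structureModule X').presheaf ⟶
      (inducedFunctor 𝓑.W).op ⋙ F.presheaf where
  app i := AddCommGrpCat.ofHom
    ((Λ 𝓑 𝒟 (show 𝓑.ι from i.unop) (𝓑.W (show 𝓑.ι from i.unop)) le_rfl).comp
      (OmegaSh.fnSect X' (𝓑.W (show 𝓑.ι from i.unop))))
  naturality i j g := by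
    ext s
    exact (Λ_nat 𝓑 𝒟 (show 𝓑.ι from i.unop) (show 𝓑.ι from j.unop) g.unop.hom.le
      (OmegaSh.fnSect X' _ s)).symm

/-- The glued map of abelian presheaves `O_{X'} → F`. -/
noncomputable def glueΛ : (Coh.structureModule X').presheaf ⟶ F.presheaf :=
  TopCat.Sheaf.restrictHomEquivHom (Coh.structureModule X').presheaf ⟨F.presheaf, F.isSheaf⟩
    𝓑.isBasis (basisNatΛ 𝓑 𝒟)

theorem glueΛ_app_idx (k : 𝓑.ι) (s : Γ(X', 𝓑.W k)) :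
    (glueΛ 𝓑 𝒟).app (op (𝓑.W k)) (OmegaSh.strSect X' (𝓑.W k) s) =
      Λ 𝓑 𝒟 k (𝓑.W k) le_rfl s := by
  have h := TopCat.Sheaf.extend_hom_app (Coh.structureModule X').presheaf ⟨F.presheaf, F.isSheaf⟩
    𝓑.isBasis (basisNatΛ 𝓑 𝒟) k
  exact congr($h (OmegaSh.strSect X' (𝓑.W k) s))

theorem glueΛ_res {W U : X'.Opens} (i : U ≤ W) (s : Γ(X', W)) :
    F.presheaf.map (homOfLE i).op ((glueΛ 𝓑 𝒟).app (op W) (OmegaSh.strSect X' W s)) =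
      (glueΛ 𝓑 𝒟).app (op U) (OmegaSh.strSect X' U (X'.presheaf.map (homOfLE i).op s)) :=
  (congr($((glueΛ 𝓑 𝒟).naturality (homOfLE i).op) (OmegaSh.strSect X' W s))).symm

/-- The value of the glued derivation on sections over an open. -/
noncomputable def glueApp (W : X'.Opens) : Γ(X', W) →+ Γ(F, W) :=
  ((glueΛ 𝓑 𝒟).app (op W)).hom.comp (OmegaSh.strSect X' W)

theorem glueApp_res {W U : X'.Opens} (i : U ≤ W) (s : Γ(X', W)) :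
    F.presheaf.map (homOfLE i).op (glueApp 𝓑 𝒟 W s) =
      glueApp 𝓑 𝒟 U (X'.presheaf.map (homOfLE i).op s) :=
  glueΛ_res 𝓑 𝒟 i s

theorem glueApp_idx (k : 𝓑.ι) (s : Γ(X', 𝓑.W k)) :
    glueApp 𝓑 𝒟 (𝓑.W k) s = Λ 𝓑 𝒟 k (𝓑.W k) le_rfl s :=
  glueΛ_app_idx 𝓑 𝒟 k s

theorem glueApp_mul (W : X'.Opens) (s t : Γ(X', W)) :
    glueApp 𝓑 𝒟 W (s * t) = s • glueApp 𝓑 𝒟 W t + t • glueApp 𝓑 𝒟 W s := by
  refine eq_of_locally F _ _ (fun z hz => ?_)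
  obtain ⟨k, hzk, hkW, -, -⟩ := 𝓑.exists_idx z W hz ⊤ 𝓑.Ugood_top trivial ⊤ trivial
  refine ⟨𝓑.W k, hkW, hzk, ?_⟩
  rw [glueApp_res, map_add, Scheme.Modules.map_smul, Scheme.Modules.map_smul, glueApp_res,
    glueApp_res, map_mul, glueApp_idx, glueApp_idx, glueApp_idx, Λ_mul, presheaf_map_refl,
    presheaf_map_refl]

theorem glueApp_app (V' : S'.Opens) (a : Γ(S', V')) :
    glueApp 𝓑 𝒟 (p₂ ⁻¹ᵁ V') (p₂.app V' a) = 0 := by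
  refine eq_of_locally F _ _ (fun z hz => ?_)
  obtain ⟨k, hzk, hkW, -, hkV'⟩ := 𝓑.exists_idx z (p₂ ⁻¹ᵁ V') hz ⊤ 𝓑.Ugood_top trivial V' hz
  refine ⟨𝓑.W k, hkW, hzk, ?_⟩
  rw [glueApp_res, map_zero, glueApp_idx]
  have e : X'.presheaf.map (homOfLE hkW).op (p₂.app V' a) =
      p₂.appLE (𝓑.V' k) (𝓑.W k) (𝓑.W_le_V' k) (S'.presheaf.map (homOfLE hkV').op a) := by
    rw [← ConcreteCategory.comp_apply, ← ConcreteCategory.comp_apply, Scheme.Hom.map_appLE]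
    rfl
  rw [e, Λ_appLE₂]

/-- **Gluing**: the derivation `O_{X'} → F` relative to `S'` glued from a compatible family of
local derivations of `O_X`. -/
noncomputable def glueDer : OmegaSh.Der p₂ F where
  d {W} := glueApp 𝓑 𝒟 W.unop
  d_mul {W} s t := glueApp_mul 𝓑 𝒟 W.unop s t
  d_map {W W'} i s := by
    have hi : i = (homOfLE i.unop.le).op := rfl
    rw [hi]
    exact (glueApp_res 𝓑 𝒟 i.unop.le s).symm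
  d_app {V'} a := glueApp_app 𝓑 𝒟 V'.unop a

theorem glueDer_app (W : X'.Opens) (s : Γ(X', W)) :
    (glueDer 𝓑 𝒟).app W s = glueApp 𝓑 𝒟 W s := rfl

/-- The glued derivation restricted to a basis element, on a function pulled back from `X`. -/
theorem glueDer_app_idx (k : 𝓑.ι) (b : Γ(X, 𝓑.U k)) :
    (glueDer 𝓑 𝒟).app (𝓑.W k) (p₁.appLE (𝓑.U k) (𝓑.W k) (𝓑.W_le_U k) b) =
      𝒟.D k (𝓑.W k) le_rfl b := by
  rw [glueDer_app, glueApp_idx, Λ_appLE₁]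

/-- Restriction form of `glueDer_app_idx`. -/
theorem glueDer_res_idx {W₀ : X'.Opens} (k : 𝓑.ι) (hk : 𝓑.W k ≤ W₀) (s : Γ(X', W₀))
    (b : Γ(X, 𝓑.U k))
    (hs : X'.presheaf.map (homOfLE hk).op s = p₁.appLE (𝓑.U k) (𝓑.W k) (𝓑.W_le_U k) b) :
    F.presheaf.map (homOfLE hk).op ((glueDer 𝓑 𝒟).app W₀ s) = 𝒟.D k (𝓑.W k) le_rfl b := by
  rw [glueDer_app, glueApp_res, hs, ← glueDer_app, glueDer_app_idx]

end Abstract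

end Groth.Agent.Lib.Helper48.OmegaAff
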