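import Groth.Agent.Lib.Helper48.OmegaAff22
import Groth.Agent.Lib.Helper48.OmegaAff20

/-!
# The canonical map `h^* Ω_{X/S} → Ω_{X'/S'}` is an isomorphism when derivations extend uniquely

`DerFamily.ofDer`: the family of local derivations attached to a derivation `O_X → h_* F`.
`glueDer_pull`: the glued derivation extends the given one.  `isIso_of_extBasis`: if `X'` has an
`ExtBasis` and derivations of `O_{X'}` relative to `S'` killing `h♯ O_X` vanish, the canonical map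
of universal receptacles `h^* Ω → Ω'` is an isomorphism.
-/

set_option autoImplicit false
universe u

open AlgebraicGeometry CategoryTheory Opposite TopologicalSpace CategoryTheory.Limits

namespace Groth.Agent.Lib.Helper48.OmegaAff

section OfDer

variable {X S X' S' : Scheme.{u}} {p₁ : X' ⟶ X} {p₂ : X' ⟶ S'} {f : X ⟶ S}
  (𝓑 : ExtBasis p₁ p₂ f) {F : X'.Modules}
  (D : OmegaSh.Der f ((Scheme.Modules.pushforward p₁).obj F))

/-- The family of local derivations attached to a derivation `O_X → p₁_* F`. -/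
noncomputable def DerFamily.ofDer : DerFamily 𝓑 F where
  D i O hO := dRes D (𝓑.U i) O (hO.trans (𝓑.W_le_U i))
  mul i O hO x y := dRes_mul D (𝓑.U i) O _ x y
  kill i O hO a := dRes_appLE D (𝓑.V i) (𝓑.U i) (𝓑.U_le_V i) O _ a
  res i O O₂ hO h b := dRes_res D (𝓑.U i) _ h b
  map i j hU O hOi hOj b := dRes_map D hU O _ b

theorem glueDer_pull (U : X.Opens) (hU : 𝓑.Ugood U) (b : Γ(X, U)) :
    (glueDer 𝓑 (DerFamily.ofDer 𝓑 D)).app (p₁ ⁻¹ᵁ U) (p₁.app U b) =
      pfSect p₁ F U (D.app U b) := by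
  refine eq_of_locally F _ _ (fun z hz => ?_)
  obtain ⟨k, hzk, hkW, hkU, -⟩ := 𝓑.exists_idx z (p₁ ⁻¹ᵁ U) hz U hU hz ⊤ trivial
  refine ⟨𝓑.W k, hkW, hzk, ?_⟩
  have e : X'.presheaf.map (homOfLE hkW).op (p₁.app U b) =
      p₁.appLE (𝓑.U k) (𝓑.W k) (𝓑.W_le_U k) (X.presheaf.map (homOfLE hkU).op b) := by
    rw [← ConcreteCategory.comp_apply, ← ConcreteCategory.comp_apply, Scheme.Hom.map_appLE]
    rfl
  rw [glueDer_res_idx 𝓑 _ k hkW _ _ e]
  change dRes D (𝓑.U k) (𝓑.W k) _ _ = _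
  rw [dRes_map]
  rfl

end OfDer

section Iso

variable {X S X' S' : Scheme.{u}} {h : X' ⟶ X} {f' : X' ⟶ S'} {f : X ⟶ S}
  (𝓑 : ExtBasis h f' f) (hgood : ∀ U : X.Opens, 𝓑.Ugood U)
  (huniq : ∀ (F : X'.Modules) (E : OmegaSh.Der f' F),
    (∀ (U : X.Opens) (b : Γ(X, U)), E.app (h ⁻¹ᵁ U) (h.app U b) = 0) →
      ∀ (W : X'.Opens) (t : Γ(X', W)), E.app W t = 0)
  {Ω : X.Modules} (d : OmegaSh.Der f Ω) (hd : OmegaSh.IsUniversal d)
  {Ω' : X'.Modules} (d' : OmegaSh.Der f' Ω') (hd' : OmegaSh.IsUniversal d')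
  (c : (Scheme.Modules.pullback h).obj Ω ⟶ Ω') (hc : OmegaSh.IsDiffCompat h d d' c)

include huniq hd' hc in
theorem epi_of_huniq : Epi c := by
  constructor
  intro F α β hαβ
  rw [← sub_eq_zero]
  have hγ : c ≫ (α - β) = 0 := by rw [Preadditive.comp_sub, hαβ, sub_self]
  have hvan : ∀ (U : X.Opens) (b : Γ(X, U)),
      OmegaSh.Der.app (F := F) (d'.postcomp (α - β).val) (h ⁻¹ᵁ U) (h.app U b) = 0 := by
    intro U b
    change (α - β).app (h ⁻¹ᵁ U) (d'.app (h ⁻¹ᵁ U) (h.app U b)) = 0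
    rw [← hc U b]
    exact congr($(hγ).app (h ⁻¹ᵁ U) (OmegaSh.pullSect h Ω U (d.app U b)))
  refine hom_ext_of_universal f' d' hd' _ _ (fun W s => ?_)
  exact huniq F (d'.postcomp (α - β).val) hvan W s

include 𝓑 hgood huniq hd hd' hc in
/-- If derivations extend uniquely from `X` to `X'`, the canonical map `h^* Ω → Ω'` of universal
receptacles is an isomorphism. -/
theorem isIso_of_extBasis : IsIso c := by
  have : Epi c := epi_of_huniq huniq d d' hd' c hc
  obtain ⟨r, hr, -⟩ := hd' _ (glueDer 𝓑 (DerFamily.ofDer 𝓑 (unitDer (g' := h) d)))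
  have hcr : c ≫ r = 𝟙 _ := by
    refine hom_ext_pullback_of_universal f h d hd _ _ (fun U b => ?_)
    change r.app (h ⁻¹ᵁ U) (c.app (h ⁻¹ᵁ U) _) = OmegaSh.pullSect h Ω U (d.app U b)
    rw [hc U b]
    have e := glueDer_pull 𝓑 (unitDer (g' := h) d) U (hgood U) b
    refine Eq.trans ?_ e
    exact PresheafOfModules.Derivation.congr_d hr (X := op (h ⁻¹ᵁ U)) (h.app U b)
  have : IsSplitMono c := IsSplitMono.mk' { retraction := r, id := hcr }
  exact isIso_of_epi_of_isSplitMono c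

end Iso

end Groth.Agent.Lib.Helper48.OmegaAff
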