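import Groth.Agent.Lib.Helper48.OmegaAff23
import Mathlib.AlgebraicGeometry.Morphisms.Etale

/-!
# Étale squares: `f^* Ω_{X₁/S₁} ≅ Ω_{X₂/S₂}`

Ring level: `leibniz_eq_zero_of_formallyUnramified`, `exists_derivation_ext_etale`,
`existsUnique_der_ext_etale` (extension of derivations along a formally étale map, killing a
formally unramified base extension).  Scheme level: `etaleBasis` (an `ExtBasis` for a commutative
square with étale horizontal maps) and `isIso_of_etale_square`.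
-/

set_option autoImplicit false
set_option linter.style.haveILetI false
universe u

open AlgebraicGeometry CategoryTheory Opposite TopologicalSpace CategoryTheory.Limits
open KaehlerDifferential

namespace Groth.Agent.Lib.Helper48.OmegaAff

section RingLevel

/-- A Leibniz map out of a formally unramified algebra which kills the base is zero. -/
theorem leibniz_eq_zero_of_formallyUnramified {A A' T₃ : CommRingCat.{u}} (ψ : A ⟶ A')
    (hψ : ψ.hom.FormallyUnramified) (ρ : A' ⟶ T₃) {N : Type u} [AddCommGroup N] [Module T₃ N]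
    (ε : A' →+ N) (hmul : ∀ x y, ε (x * y) = ρ x • ε y + ρ y • ε x)
    (hA : ∀ a, ε (ψ a) = 0) (x : A') : ε x = 0 := by
  letI : Algebra A A' := ψ.hom.toAlgebra
  haveI : Algebra.FormallyUnramified A A' := hψ
  letI : Module A' N := Module.compHom N ρ.hom
  letI : Module A N := Module.compHom N (algebraMap A A')
  haveI : IsScalarTower A A' N := IsScalarTower.of_algebraMap_smul (fun _ _ => rfl)
  let D : Derivation A A' N :=
    Derivation.mk'
      { toFun := ε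
        map_add' := map_add ε
        map_smul' := fun a b => by
          change ε (ψ a * b) = ρ (ψ a) • ε b
          rw [hmul, hA, smul_zero, add_zero] }
      (fun x y => hmul x y)
  have h1 : D x = D.liftKaehlerDifferential (KaehlerDifferential.D A A' x) :=
    (Derivation.liftKaehlerDifferential_comp_D D x).symm
  change D x = 0
  rw [h1, Subsingleton.elim (KaehlerDifferential.D A A' x) 0, map_zero]

theorem exists_derivation_ext_etale (A B T : Type u) [CommRing A] [CommRing B] [CommRing T]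
    [Algebra A B] [Algebra B T] [Algebra A T] [IsScalarTower A B T] [Algebra.FormallyEtale B T]
    (N : Type u) [AddCommGroup N] [Module T N] [Module B N] [IsScalarTower B T N] [Module A N]
    [IsScalarTower A B N] [IsScalarTower A T N] (D₀ : Derivation A B N) :
    ∃ δ : Derivation A T N, ∀ b, δ (algebraMap B T b) = D₀ b := by
  have hE : IsBaseChange T (KaehlerDifferential.map A A B T) :=
    isBaseChange_of_formallyEtale A B T
  let L : Ω[B⁄A] →ₗ[B] N := D₀.liftKaehlerDifferential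
  let L_T : Ω[T⁄A] →ₗ[T] N := hE.lift L
  refine ⟨L_T.compDer (D A T), fun b => ?_⟩
  change L_T (D A T (algebraMap B T b)) = _
  rw [← KaehlerDifferential.map_D A A B T, hE.lift_eq]
  exact Derivation.liftKaehlerDifferential_comp_D D₀ b

/-- Extension of derivations along a formally étale map `B → T`, over a formally unramified base
extension `A → A'`. -/
theorem existsUnique_der_ext_etale {A A' B T T₃ : CommRingCat.{u}} {φ : A ⟶ B} {ψ : A ⟶ A'}
    {q₁ : B ⟶ T} {q₂ : A' ⟶ T} (hcomm : φ ≫ q₁ = ψ ≫ q₂) (hq₁ : q₁.hom.FormallyEtale)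
    (hψ : ψ.hom.FormallyUnramified) (ρ : T ⟶ T₃)
    {N : Type u} [AddCommGroup N] [Module T₃ N] (D₀ : B →+ N)
    (hmul : ∀ x y, D₀ (x * y) = ρ (q₁ x) • D₀ y + ρ (q₁ y) • D₀ x)
    (hA : ∀ a, D₀ (φ a) = 0) :
    ∃! δ : T →+ N, (∀ x y, δ (x * y) = ρ x • δ y + ρ y • δ x) ∧
      (∀ a', δ (q₂ a') = 0) ∧ ∀ b, δ (q₁ b) = D₀ b := by
  letI : Algebra A B := φ.hom.toAlgebra
  letI : Algebra B T := q₁.hom.toAlgebra
  letI : Algebra A T := (φ ≫ q₁).hom.toAlgebra
  haveI : IsScalarTower A B T := IsScalarTower.of_algebraMap_eq' rfl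
  haveI : Algebra.FormallyEtale B T := hq₁
  have hq₁u : q₁.hom.FormallyUnramified := by
    change Algebra.FormallyUnramified B T
    infer_instance
  letI : Module T N := Module.compHom N ρ.hom
  letI : Module B N := Module.compHom N (algebraMap B T)
  letI : Module A N := Module.compHom N (algebraMap A B)
  haveI : IsScalarTower B T N := IsScalarTower.of_algebraMap_smul (fun _ _ => rfl)
  haveI : IsScalarTower A B N := IsScalarTower.of_algebraMap_smul (fun _ _ => rfl)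
  haveI : IsScalarTower A T N := IsScalarTower.of_algebraMap_smul (fun _ _ => rfl)
  let D₀' : Derivation A B N :=
    Derivation.mk'
      { toFun := D₀
        map_add' := map_add D₀
        map_smul' := fun a b => by
          change D₀ (φ a * b) = ρ (q₁ (φ a)) • D₀ b
          rw [hmul, hA, smul_zero, add_zero] }
      (fun x y => hmul x y)
  obtain ⟨δ, hδ⟩ := exists_derivation_ext_etale A B T N D₀'
  have hδmul : ∀ x y : T, δ (x * y) = ρ x • δ y + ρ y • δ x := fun x y => δ.leibniz x y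
  have hδA' : ∀ a' : A', δ (q₂ a') = 0 := by
    intro a'
    refine leibniz_eq_zero_of_formallyUnramified ψ hψ (q₂ ≫ ρ)
      ((δ : T →ₗ[A] N).toAddMonoidHom.comp q₂.hom.toAddMonoidHom) (fun x y => ?_) (fun a => ?_) a'
    · change δ (q₂ (x * y)) = ρ (q₂ x) • δ (q₂ y) + ρ (q₂ y) • δ (q₂ x)
      rw [map_mul, hδmul]
    · change δ (q₂ (ψ a)) = 0
      have e : q₂ (ψ a) = q₁ (φ a) := (congr($hcomm a)).symm
      rw [e]
      exact (hδ (φ a)).trans (hA a)
  refine ⟨(δ : T →ₗ[A] N).toAddMonoidHom, ⟨hδmul, hδA', fun b => hδ b⟩, ?_⟩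
  rintro δ₂ ⟨h2m, -, h2b⟩
  ext t
  rw [← sub_eq_zero]
  refine leibniz_eq_zero_of_formallyUnramified q₁ hq₁u ρ (δ₂ - (δ : T →ₗ[A] N).toAddMonoidHom)
    (fun x y => ?_) (fun b => ?_) t
  · change δ₂ (x * y) - δ (x * y) = ρ x • (δ₂ y - δ y) + ρ y • (δ₂ x - δ x)
    rw [h2m, hδmul, smul_sub, smul_sub]
    abel
  · change δ₂ (q₁ b) - δ (q₁ b) = 0
    rw [h2b]
    exact sub_eq_zero.mpr (hδ b).symm

end RingLevel

section EtaleSquare

variable {X₁ S₁ X₂ S₂ : Scheme.{u}} (p₁ : X₁ ⟶ S₁) (p₂ : X₂ ⟶ S₂) (f : X₂ ⟶ X₁) (g : S₂ ⟶ S₁)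

/-- Index set: compatible quadruples of affine opens. -/
structure EtIdx : Type u where
  U : X₁.Opens
  V : S₁.Opens
  V' : S₂.Opens
  W : X₂.Opens
  hUa : IsAffineOpen U
  hVa : IsAffineOpen V
  hV'a : IsAffineOpen V'
  hWa : IsAffineOpen W
  hU : U ≤ p₁ ⁻¹ᵁ V
  hV' : V' ≤ g ⁻¹ᵁ V
  hWU : W ≤ f ⁻¹ᵁ U
  hWV' : W ≤ p₂ ⁻¹ᵁ V'

theorem appLE_congr_hom {X Y : Scheme.{u}} {h₁ h₂ : X ⟶ Y} (e : h₁ = h₂) (V : Y.Opens)
    (W : X.Opens) (hle : W ≤ h₁ ⁻¹ᵁ V) : h₁.appLE V W hle = h₂.appLE V W (e ▸ hle) := by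
  subst e; rfl

variable (hsq : f ≫ p₁ = p₂ ≫ g) [Etale f] [Etale g]

include hsq in
theorem exists_etIdx (z : X₂) (O₀ : X₂.Opens) (hz : z ∈ O₀) (U₀ : X₁.Opens) (hU₀ : f z ∈ U₀)
    (V'₀ : S₂.Opens) (hV'₀ : p₂ z ∈ V'₀) :
    ∃ k : EtIdx p₁ p₂ f g, z ∈ k.W ∧ k.W ≤ O₀ ∧ k.U ≤ U₀ ∧ k.V' ≤ V'₀ := by
  obtain ⟨_, ⟨V, hV : IsAffineOpen V, rfl⟩, hsV, -⟩ :=
    (S₁.isBasis_affineOpens).exists_subset_of_mem_open (Set.mem_univ (p₁ (f z))) isOpen_univ
  obtain ⟨_, ⟨U, hU : IsAffineOpen U, rfl⟩, hxU, hUV⟩ :=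
    (X₁.isBasis_affineOpens).exists_subset_of_mem_open
      (show f z ∈ ((p₁ ⁻¹ᵁ V ⊓ U₀ : X₁.Opens) : Set X₁) from ⟨hsV, hU₀⟩) (p₁ ⁻¹ᵁ V ⊓ U₀).isOpen
  have hgz : g (p₂ z) ∈ V := by
    have : g (p₂ z) = p₁ (f z) := by
      rw [← Scheme.Hom.comp_apply, ← Scheme.Hom.comp_apply, hsq]
    rw [this]; exact hsV
  obtain ⟨_, ⟨V', hV' : IsAffineOpen V', rfl⟩, hsV', hV'V⟩ :=
    (S₂.isBasis_affineOpens).exists_subset_of_mem_open
      (show p₂ z ∈ ((g ⁻¹ᵁ V ⊓ V'₀ : S₂.Opens) : Set S₂) from ⟨hgz, hV'₀⟩) (g ⁻¹ᵁ V ⊓ V'₀).isOpen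
  obtain ⟨_, ⟨W, hW : IsAffineOpen W, rfl⟩, hzW, hWle⟩ :=
    (X₂.isBasis_affineOpens).exists_subset_of_mem_open
      (show z ∈ ((f ⁻¹ᵁ U ⊓ p₂ ⁻¹ᵁ V' ⊓ O₀ : X₂.Opens) : Set X₂) from ⟨⟨hxU, hsV'⟩, hz⟩)
      (f ⁻¹ᵁ U ⊓ p₂ ⁻¹ᵁ V' ⊓ O₀).isOpen
  exact ⟨⟨U, V, V', W, hU, hV, hV', hW, fun x hx => (hUV hx).1, fun x hx => (hV'V hx).1,
    fun x hx => (hWle hx).1.1, fun x hx => (hWle hx).1.2⟩, hzW, fun x hx => (hWle hx).2,
    fun x hx => (hUV hx).2, fun x hx => (hV'V hx).2⟩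

/-- The basis of unique extension of derivations attached to a commutative square with étale
horizontal maps. -/
noncomputable def etaleBasis : ExtBasis f p₂ p₁ where
  ι := EtIdx p₁ p₂ f g
  U k := k.U
  V k := k.V
  V' k := k.V'
  W k := k.W
  U_le_V k := k.hU
  W_le_U k := k.hWU
  W_le_V' k := k.hWV'
  Ugood _ := True
  Ugood_top := trivial
  Ugood_inf _ _ := trivial
  exists_idx z O₀ hz U₀ _ hU₀ V'₀ hV'₀ := exists_etIdx p₁ p₂ f g hsq z O₀ hz U₀ hU₀ V'₀ hV'₀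
  ext k F O hO D₀ hmul hA := by
    have e3 : ∀ b, X₂.presheaf.map (homOfLE hO).op (f.appLE k.U k.W k.hWU b) =
        f.appLE k.U O (hO.trans k.hWU) b :=
      fun b => congr($(Scheme.Hom.appLE_map f k.hWU (homOfLE hO).op) b)
    have hcomm : p₁.appLE k.V k.U k.hU ≫ f.appLE k.U k.W k.hWU =
        g.appLE k.V k.V' k.hV' ≫ p₂.appLE k.V' k.W k.hWV' := by
      rw [Scheme.Hom.appLE_comp_appLE, Scheme.Hom.appLE_comp_appLE]
      exact appLE_congr_hom hsq k.V k.W _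
    exact existsUnique_der_ext_etale hcomm
      (f.etale_appLE k.hUa k.hWa k.hWU).toAlgebra.formallyEtale
      (g.etale_appLE k.hVa k.hV'a k.hV').formallyUnramified
      (X₂.presheaf.map (homOfLE hO).op) D₀
      (fun x y => by rw [e3, e3]; exact hmul x y) hA

variable {p₁ p₂ f g}

include hsq in
/-- **Étale squares**: for a commutative square with étale horizontal maps `f : X₂ ⟶ X₁` and
`g : S₂ ⟶ S₁`, the canonical map `f^* Ω_{X₁/S₁} → Ω_{X₂/S₂}` is an isomorphism. -/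
theorem isIso_of_etale_square {Ω₁ : X₁.Modules} (d₁ : OmegaSh.Der p₁ Ω₁)
    (hd₁ : OmegaSh.IsUniversal d₁) {Ω₂ : X₂.Modules} (d₂ : OmegaSh.Der p₂ Ω₂)
    (hd₂ : OmegaSh.IsUniversal d₂) (c : (Scheme.Modules.pullback f).obj Ω₁ ⟶ Ω₂)
    (hc : OmegaSh.IsDiffCompat f d₁ d₂ c) : IsIso c := by
  refine isIso_of_extBasis (etaleBasis p₁ p₂ f g hsq) (fun _ => trivial) (fun F E hE W t => ?_)
    d₁ hd₁ d₂ hd₂ c hc
  let E' : OmegaSh.Der f F :=
    { d := E.d
      d_mul := fun a b => E.d_mul a b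
      d_map := fun i s => E.d_map i s
      d_app := fun {V} b => hE V.unop b }
  exact der_eq_zero_of_formallyUnramified f E' W t

end EtaleSquare

end Groth.Agent.Lib.Helper48.OmegaAff
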