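import Groth.Agent.Lib.Helper48.OmegaAff24

/-!
# Derivations on affine schemes

For `f : X ⟶ S` with `X`, `S` affine and any `O_X`-module `F`: `affineBasis f` (basic opens as an
`ExtBasis`), `derOfGlobal f δ hmul hkill : Der f F` (the derivation with prescribed effect `δ` on
global sections, `derOfGlobal_app_top`) and `der_ext_of_app_top` (uniqueness).
-/

set_option autoImplicit false
set_option linter.style.haveILetI false
universe u

open AlgebraicGeometry CategoryTheory Opposite TopologicalSpace CategoryTheory.Limits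

namespace Groth.Agent.Lib.Helper48.OmegaAff

section AffineBasis

variable {X S : Scheme.{u}}

theorem id_appLE_apply (U W : X.Opens) (h : W ≤ (𝟙 X) ⁻¹ᵁ U) (b : Γ(X, U)) :
    (𝟙 X : X ⟶ X).appLE U W h b = X.presheaf.map (homOfLE h).op b := by
  rw [Scheme.Hom.appLE]
  change (𝟙 _ ≫ X.presheaf.map (homOfLE h).op) b = _
  rw [Category.id_comp]

theorem formallyEtale_res_basicOpen {U : X.Opens} (hU : IsAffineOpen U) (r : Γ(X, U)) :
    (X.presheaf.map (homOfLE (X.basicOpen_le r)).op).hom.FormallyEtale := by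
  have hloc := hU.isLocalization_basicOpen r
  exact Algebra.FormallyEtale.of_isLocalization (Rₘ := Γ(X, X.basicOpen r)) (Submonoid.powers r)

theorem formallyUnramified_res_basicOpen {U : X.Opens} (hU : IsAffineOpen U) (r : Γ(X, U)) :
    (X.presheaf.map (homOfLE (X.basicOpen_le r)).op).hom.FormallyUnramified := by
  have hloc := hU.isLocalization_basicOpen r
  exact Algebra.FormallyUnramified.of_isLocalization (Rₘ := Γ(X, X.basicOpen r))
    (Submonoid.powers r)

theorem le_preimage_top {Y : Scheme.{u}} (h : X ⟶ Y) (W : X.Opens) : W ≤ h ⁻¹ᵁ ⊤ :=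
  le_top.trans (Scheme.Hom.preimage_top h).ge

variable [IsAffine X] [IsAffine S] (f : X ⟶ S)

/-- Index set for the basis of basic opens of an affine scheme over an affine base. -/
structure AffIdx : Type u where
  r : Γ(X, ⊤)
  a : Γ(S, ⊤)
  h : X.basicOpen r ≤ f ⁻¹ᵁ S.basicOpen a

theorem exists_affIdx (z : X) (O₀ : X.Opens) (hz : z ∈ O₀) (V'₀ : S.Opens) (hV'₀ : f z ∈ V'₀) :
    ∃ k : AffIdx f, z ∈ X.basicOpen k.r ∧ X.basicOpen k.r ≤ O₀ ∧ S.basicOpen k.a ≤ V'₀ := by
  obtain ⟨a, haV, hza⟩ := (isAffineOpen_top S).exists_basicOpen_le ⟨f z, hV'₀⟩ trivial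
  have hz' : z ∈ O₀ ⊓ f ⁻¹ᵁ S.basicOpen a := ⟨hz, hza⟩
  obtain ⟨r, hrO, hzr⟩ := (isAffineOpen_top X).exists_basicOpen_le ⟨z, hz'⟩ trivial
  exact ⟨⟨r, a, hrO.trans inf_le_right⟩, hzr, hrO.trans inf_le_left, haV⟩

/-- The basis of basic opens of an affine scheme over an affine base, as an `ExtBasis`. -/
noncomputable def affineBasis : ExtBasis (𝟙 X) f f where
  ι := AffIdx f
  U _ := ⊤
  V _ := ⊤
  V' k := S.basicOpen k.a
  W k := X.basicOpen k.r
  U_le_V _ := le_preimage_top f ⊤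
  W_le_U k := le_preimage_top (𝟙 X) _
  W_le_V' k := k.h
  Ugood U₀ := U₀ = ⊤
  Ugood_top := rfl
  Ugood_inf _ _ := inf_idem _
  exists_idx z O₀ hz U₀ hU₀ _ V'₀ hV'₀ := by
    obtain ⟨k, h1, h2, h3⟩ := exists_affIdx f z O₀ hz V'₀ hV'₀
    exact ⟨k, h1, h2, hU₀.ge, h3⟩
  ext k F O hO D₀ hmul hA := by
    have e3 : ∀ b, X.presheaf.map (homOfLE hO).op
        ((𝟙 X : X ⟶ X).appLE ⊤ (X.basicOpen k.r) (le_preimage_top (𝟙 X) _) b) =
        (𝟙 X : X ⟶ X).appLE ⊤ O (le_preimage_top (𝟙 X) _) b :=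
      fun b => congr($(Scheme.Hom.appLE_map (𝟙 X) (U := ⊤) (V := X.basicOpen k.r)
        (le_preimage_top (𝟙 X) _) (homOfLE hO).op) b)
    have hq₁ : ((𝟙 X : X ⟶ X).appLE ⊤ (X.basicOpen k.r)
        (le_preimage_top (𝟙 X) _)).hom.FormallyEtale := by
      have := formallyEtale_res_basicOpen (isAffineOpen_top X) k.r
      have e : (𝟙 X : X ⟶ X).appLE ⊤ (X.basicOpen k.r) (le_preimage_top (𝟙 X) _) =
          X.presheaf.map (homOfLE (X.basicOpen_le k.r)).op := by
        ext b; exact id_appLE_apply _ _ _ b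
      rw [e]; exact this
    have hcomm : f.appLE ⊤ ⊤ (le_preimage_top f ⊤) ≫
        (𝟙 X : X ⟶ X).appLE ⊤ (X.basicOpen k.r) (le_preimage_top (𝟙 X) _) =
        S.presheaf.map (homOfLE (S.basicOpen_le k.a)).op ≫
          f.appLE (S.basicOpen k.a) (X.basicOpen k.r) k.h := by
      rw [Scheme.Hom.appLE_comp_appLE, Scheme.Hom.map_appLE]
      rfl
    exact existsUnique_der_ext_etale hcomm hq₁
      (formallyUnramified_res_basicOpen (isAffineOpen_top S) k.a)
      (X.presheaf.map (homOfLE hO).op) D₀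
      (fun x y => by rw [e3, e3]; exact hmul x y) hA

omit [IsAffine X] [IsAffine S] in
theorem appLE_top_top_apply (h : (⊤ : X.Opens) ≤ f ⁻¹ᵁ ⊤) (a : Γ(S, ⊤)) :
    f.appLE ⊤ ⊤ h a = f.appTop a := by
  rw [Scheme.Hom.appLE]
  change X.presheaf.map (𝟙 (op ⊤)) (f.app ⊤ a) = _
  rw [X.presheaf.map_id]
  rfl

variable {F : X.Modules} (δ : Γ(X, ⊤) →+ Γ(F, ⊤))
  (hmul : ∀ a b : Γ(X, ⊤), δ (a * b) = a • δ b + b • δ a)
  (hkill : ∀ c : Γ(S, ⊤), δ (f.appTop c) = 0)

include hmul in
omit [IsAffine X] in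
theorem ofGlobal_mul (O : X.Opens) (x y : Γ(X, ⊤)) :
    F.presheaf.map (homOfLE (le_top : O ≤ ⊤)).op (δ (x * y)) =
      (𝟙 X : X ⟶ X).appLE ⊤ O (le_preimage_top (𝟙 X) O) x •
        F.presheaf.map (homOfLE (le_top : O ≤ ⊤)).op (δ y) +
      (𝟙 X : X ⟶ X).appLE ⊤ O (le_preimage_top (𝟙 X) O) y •
        F.presheaf.map (homOfLE (le_top : O ≤ ⊤)).op (δ x) := by
  rw [hmul, map_add, Scheme.Modules.map_smul, Scheme.Modules.map_smul, id_appLE_apply,
    id_appLE_apply]
  rfl

include hkill in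
omit [IsAffine X] [IsAffine S] in
theorem ofGlobal_kill (O : X.Opens) (a : Γ(S, ⊤)) :
    F.presheaf.map (homOfLE (le_top : O ≤ ⊤)).op (δ (f.appLE ⊤ ⊤ (le_preimage_top f ⊤) a)) = 0 := by
  rw [appLE_top_top_apply, hkill, map_zero]

omit [IsAffine X] in
theorem ofGlobal_map (O : X.Opens) (hU : (⊤ : X.Opens) ≤ ⊤) (b : Γ(X, ⊤)) :
    F.presheaf.map (homOfLE (le_top : O ≤ ⊤)).op (δ (X.presheaf.map (homOfLE hU).op b)) =
      F.presheaf.map (homOfLE (le_top : O ≤ ⊤)).op (δ b) := by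
  rw [presheaf_map_refl]

/-- The family of local derivations attached to a derivation on global sections. -/
noncomputable def DerFamily.ofGlobal : DerFamily (affineBasis f) F where
  D _ O _ := (F.presheaf.map (homOfLE (le_top : O ≤ ⊤)).op).hom.comp δ
  mul _ O _ x y := ofGlobal_mul δ hmul O x y
  kill _ O _ a := ofGlobal_kill f δ hkill O a
  res _ _ _ _ _ _ := modules_map_map _ _ _
  map _ _ hU O _ _ b := ofGlobal_map δ O hU b

/-- The derivation of `O_X` into `F` with prescribed effect on global sections, for affine `X`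
over affine `S`. -/
noncomputable def derOfGlobal : OmegaSh.Der f F :=
  glueDer (affineBasis f) (DerFamily.ofGlobal f δ hmul hkill)

theorem derOfGlobal_app_top : (derOfGlobal f δ hmul hkill).app ⊤ = δ := by
  ext b
  refine eq_of_locally F _ _ (fun z hz => ?_)
  obtain ⟨k, hzk, -, -⟩ := exists_affIdx f z ⊤ trivial ⊤ trivial
  refine ⟨X.basicOpen k.r, le_top, hzk, ?_⟩
  exact glueDer_res_idx (affineBasis f) (DerFamily.ofGlobal f δ hmul hkill) k le_top b b
    (id_appLE_apply _ _ _ b).symm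

omit [IsAffine S] in
/-- On an affine scheme a derivation is determined by its effect on global sections. -/
theorem der_ext_of_app_top (D D' : OmegaSh.Der f F) (h : D.app ⊤ = D'.app ⊤) : D = D' := by
  ext W s
  change D.app W.unop s = D'.app W.unop s
  refine eq_of_locally F _ _ (fun z hz => ?_)
  obtain ⟨r, hrW, hzr⟩ := (isAffineOpen_top X).exists_basicOpen_le ⟨z, hz⟩ trivial
  refine ⟨X.basicOpen r, hrW, hzr, ?_⟩
  rw [← der_app_map, ← der_app_map]
  generalize X.presheaf.map (homOfLE hrW).op s = t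
  rw [← sub_eq_zero]
  refine leibniz_eq_zero_of_formallyUnramified
    (X.presheaf.map (homOfLE (X.basicOpen_le r)).op)
    (formallyUnramified_res_basicOpen (isAffineOpen_top X) r) (𝟙 _)
    (D.app (X.basicOpen r) - D'.app (X.basicOpen r)) (fun x y => ?_) (fun b => ?_) t
  · change D.app (X.basicOpen r) (x * y) - D'.app (X.basicOpen r) (x * y) =
      x • (D.app (X.basicOpen r) y - D'.app (X.basicOpen r) y) +
        y • (D.app (X.basicOpen r) x - D'.app (X.basicOpen r) x)
    rw [der_app_mul, der_app_mul, smul_sub, smul_sub]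
    abel
  · change D.app (X.basicOpen r) (X.presheaf.map (homOfLE (X.basicOpen_le r)).op b) -
      D'.app (X.basicOpen r) (X.presheaf.map (homOfLE (X.basicOpen_le r)).op b) = 0
    rw [der_app_map, der_app_map, h, sub_self]

end AffineBasis

end Groth.Agent.Lib.Helper48.OmegaAff
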