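import Groth.Agent.Lib.Helper48.OmegaAff25

/-!
# Global sections of `M^~`, with the section types of the scheme library

`tildeTopEquiv M : M ≃+ Γ(tilde M, ⊤)` and its compatibility with the module structures.
-/

set_option autoImplicit false
universe u

open AlgebraicGeometry CategoryTheory Opposite TopologicalSpace CategoryTheory.Limits

namespace Groth.Agent.Lib.Helper48.OmegaAff

section TildeTop

variable {R : CommRingCat.{u}} (M : ModuleCat.{u} R)

/-- `M ≃ Γ(M^~, ⊤)` as additive groups, with the section types of the scheme library. -/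
noncomputable def tildeTopEquiv : M ≃+ Γ(tilde M, ⊤) where
  toFun l := (tilde.isoTop M).hom l
  invFun s := (tilde.isoTop M).inv s
  left_inv l := congr($((tilde.isoTop M).hom_inv_id) l)
  right_inv s := congr($((tilde.isoTop M).inv_hom_id) s)
  map_add' x y := map_add _ x y

theorem tildeTopEquiv_apply (l : M) : tildeTopEquiv M l = (tilde.isoTop M).hom l := rfl

theorem tildeTopEquiv_smul (b : R) (l : M) :
    tildeTopEquiv M (b • l) = (Scheme.ΓSpecIso R).inv b • tildeTopEquiv M l :=
  (tilde.isoTop M).hom.hom.map_smul b l

theorem tildeTopEquiv_symm_smul (b : R) (s : Γ(tilde M, ⊤)) :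
    (tildeTopEquiv M).symm ((Scheme.ΓSpecIso R).inv b • s) = b • (tildeTopEquiv M).symm s :=
  (tilde.isoTop M).inv.hom.map_smul b s

end TildeTop

end Groth.Agent.Lib.Helper48.OmegaAff
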