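import Mathlib.Algebra.Category.ModuleCat.Differentials.Basic
import Mathlib.Algebra.Category.Ring.Constructions
import Mathlib.CategoryTheory.Limits.Shapes.Pullback.IsPullback.Defs

/-!
# Ring-level input for the affine computation of the sheaf of differentials

For a pushout square `C = B ⊗[A] B` in `CommRingCat` with codiagonal `δ : C ⟶ B`:
an explicit ring isomorphism with the tensor product (`exists_tensor_iso`), the additive map
`C → M` attached to a derivation `D : B → M` (`exists_semiderivation`), and generation of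
`ker δ` by the elements `p₂ b - p₁ b` (`mem_span_of_codiagonal_eq_zero`).
-/

set_option autoImplicit false
universe u

open CategoryTheory TensorProduct CategoryTheory.Limits

namespace Groth.Agent.Lib.Helper48.OmegaAff

attribute [local instance] IsScalarTower.of_compHom SMulCommClass.of_commMonoid

section RingLevel

variable {A B C : CommRingCat.{u}} {φ : A ⟶ B} {p₁ p₂ : B ⟶ C} (H : IsPushout φ φ p₁ p₂)
  (δ : C ⟶ B) (h₁ : p₁ ≫ δ = 𝟙 B) (h₂ : p₂ ≫ δ = 𝟙 B)

include H h₁ h₂ in
theorem exists_tensor_iso :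
    letI := φ.hom.toAlgebra
    ∃ e : (B ⊗[A] B) ≃+* C, (∀ b b' : B, e (b ⊗ₜ b') = p₁ b * p₂ b') ∧
      ∀ t, δ (e t) = Algebra.TensorProduct.lmul' A t := by
  let _ := φ.hom.toAlgebra
  let e := (CommRingCat.isPushout_tensorProduct A B B).isoIsPushout _ _ H
  have he₁ : ∀ b : B, e.hom (b ⊗ₜ 1) = p₁ b := fun b =>
    congr($((CommRingCat.isPushout_tensorProduct A B B).inl_isoIsPushout_hom _ _ H) b)
  have he₂ : ∀ b : B, e.hom (1 ⊗ₜ b) = p₂ b := fun b =>
    congr($((CommRingCat.isPushout_tensorProduct A B B).inr_isoIsPushout_hom _ _ H) b)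
  have he : ∀ b b' : B, e.hom (b ⊗ₜ b') = p₁ b * p₂ b' := by
    intro b b'
    rw [← he₁, ← he₂, ← map_mul, Algebra.TensorProduct.tmul_mul_tmul, mul_one, one_mul]
  refine ⟨e.commRingCatIsoToRingEquiv, he, ?_⟩
  intro t
  change δ (e.hom t) = _
  induction t using TensorProduct.induction_on with
  | zero => simp
  | tmul b b' =>
    rw [he, map_mul, Algebra.TensorProduct.lmul'_apply_tmul]
    have e1 : δ (p₁ b) = b := congr($h₁ b)
    have e2 : δ (p₂ b') = b' := congr($h₂ b')
    rw [e1, e2]
  | add x y hx hy => rw [map_add, map_add, map_add, hx, hy]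


set_option backward.isDefEq.respectTransparency false in
include H h₁ h₂ in
/-- A derivation of `B` over `A` gives an additive map on the pushout `C = B ⊗[A] B` satisfying
the Leibniz rule relative to the codiagonal `δ`, with value `D b` on `p₂ b - p₁ b`. -/
theorem exists_semiderivation (M : ModuleCat.{u} B) (D : M.Derivation φ) :
    ∃ L : C →+ M, (∀ x y : C, L (x * y) = δ x • L y + δ y • L x) ∧
      ∀ b : B, L (p₂ b - p₁ b) = D.d b := by
  let _ := φ.hom.toAlgebra
  let _ := Module.compHom M φ.hom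
  obtain ⟨e, he, hδ⟩ := exists_tensor_iso H δ h₁ h₂
  let D' : _root_.Derivation A B M := D
  let L : C →+ M := (D'.tensorProductTo.toAddMonoidHom).comp e.symm.toAddMonoidHom
  have hL : ∀ x, L x = D'.tensorProductTo (e.symm x) := fun _ => rfl
  have hδ' : ∀ x : C, Algebra.TensorProduct.lmul' A (e.symm x) = δ x := by
    intro x
    rw [← hδ, RingEquiv.apply_symm_apply]
  refine ⟨L, ?_, ?_⟩
  · intro x y
    rw [hL, hL, hL, map_mul, Derivation.tensorProductTo_mul, hδ', hδ']
  · intro b
    have h1 : e.symm (p₂ b - p₁ b) = (1 : B) ⊗ₜ[A] b - b ⊗ₜ[A] (1 : B) := by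
      rw [RingEquiv.symm_apply_eq, map_sub, he, he, map_one, map_one, one_mul, mul_one]
    rw [hL, h1, map_sub, Derivation.tensorProductTo_tmul, Derivation.tensorProductTo_tmul,
      one_smul, Derivation.map_one_eq_zero, smul_zero, sub_zero]
    rfl

include H h₁ h₂ in
/-- The kernel of the codiagonal is generated by the elements `p₂ b - p₁ b`. -/
theorem mem_span_of_codiagonal_eq_zero (x : C) (hx : δ x = 0) :
    x ∈ Ideal.span (Set.range fun b : B => p₂ b - p₁ b) := by
  let _ := φ.hom.toAlgebra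
  obtain ⟨e, he, hδ⟩ := exists_tensor_iso H δ h₁ h₂
  have h1 : e.symm x ∈ KaehlerDifferential.ideal A B := by
    change Algebra.TensorProduct.lmul' A (e.symm x) = 0
    rw [← hδ, RingEquiv.apply_symm_apply, hx]
  rw [← KaehlerDifferential.span_range_eq_ideal] at h1
  have h2 : e (e.symm x) ∈ Ideal.map (e : (B ⊗[A] B) →+* C)
      (Ideal.span (Set.range fun s : B => (1 : B) ⊗ₜ[A] s - s ⊗ₜ[A] (1 : B))) :=
    Ideal.mem_map_of_mem _ h1
  rw [RingEquiv.apply_symm_apply, Ideal.map_span] at h2
  refine Ideal.span_mono ?_ h2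
  rintro _ ⟨_, ⟨b, rfl⟩, rfl⟩
  refine ⟨b, ?_⟩
  change _ = e _
  rw [map_sub, he, he, map_one, map_one, one_mul, mul_one]

end RingLevel

end Groth.Agent.Lib.Helper48.OmegaAff
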