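import Groth.Agent.Lib.Helper48.OmegaAff1
import Groth.Agent.Lib.Helper48.OmegaAff2
import Groth.Agent.Lib.Helper48.OmegaAff3
import Groth.Prelude.Def_OmAff
import Mathlib.AlgebraicGeometry.Morphisms.Flat

/-!
# Affine computation of the frozen sheaf of differentials

For `f : X ⟶ Y` quasi-separated and affine opens `U ≤ f⁻¹ V`:
* `isAffineOpen_diagNbhd`, `isPushout_diagNbhd`: `pr₁⁻¹U ∩ pr₂⁻¹U ⊆ X ×_Y X` is affine with ring of
  functions the pushout `Γ(X,U) ⊗[Γ(Y,V)] Γ(X,U)`;
* `mem_span_idealLift`: sections of the diagonal ideal over it are spanned by `pr₂♯ b - pr₁♯ b`;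
* `existsUnique_of_derivation`: `dSect f U : Γ(X,U) → Γ(Omega.sheaf f, U)` is a universal derivation
  over `Γ(Y,V)`;
* `isIso_toSect`: `OmAff.toSect f V U h` is an isomorphism.
-/

set_option autoImplicit false
universe u

open AlgebraicGeometry CategoryTheory Opposite TopologicalSpace CategoryTheory.Limits

namespace Groth.Agent.Lib.Helper48.OmegaAff

open Scheme.Modules

variable {X Y : Scheme.{u}} (f : X ⟶ Y) {U : X.Opens} {V : Y.Opens}
  (hU : IsAffineOpen U) (hV : IsAffineOpen V) (h : U ≤ f ⁻¹ᵁ V)

include hU hV h in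
theorem isAffineOpen_diagNbhd : IsAffineOpen (OmegaSh.diagNbhd f U) := by
  have H : IsPullback (pullback.fst f f) (pullback.snd f f) f f := IsPullback.of_hasPullback f f
  have : IsAffine _ := hU
  have : IsAffine _ := hV
  exact .of_isIso (Scheme.Hom.isPullback_resLE H h h (UY := OmegaSh.diagNbhd f U) rfl).isoPullback.hom

include hU hV in
theorem isPushout_diagNbhd :
    IsPushout (f.appLE V U h) (f.appLE V U h)
      ((pullback.fst f f).appLE U (OmegaSh.diagNbhd f U) inf_le_left)
      ((pullback.snd f f).appLE U (OmegaSh.diagNbhd f U) inf_le_right) := by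
  have H : IsPullback (pullback.fst f f) (pullback.snd f f) f f := IsPullback.of_hasPullback f f
  have := isIso_pushoutSection_of_isAffineOpen H h h (UY := OmegaSh.diagNbhd f U) rfl hV hU hU
  exact (isIso_pushoutSection_iff H h h rfl).mp this


section Ideal

variable {P Z : Scheme.{u}} (g : Z ⟶ P) [QuasiCompact g]

/-- Sections of the ideal module of `ker g` over an affine open are killed by `g`. -/
theorem app_idealModι_eq_zero {W : P.Opens} (hW : IsAffineOpen W)
    (x : Γ(ClSub.idealMod g.ker, W)) :
    g.app W (OmegaSh.fnSect P W ((ClSub.idealModι g.ker).app W x)) = 0 := by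
  have h1 : (ClSub.toSubscheme g.ker).app W ((ClSub.idealModι g.ker).app W x) = 0 :=
    kernel_ι_comp_app (ClSub.toSubscheme g.ker) W x
  have h2 : g.ker.subschemeι.app W (OmegaSh.fnSect P W ((ClSub.idealModι g.ker).app W x)) = 0 := h1
  have h3 : OmegaSh.fnSect P W ((ClSub.idealModι g.ker).app W x) ∈ g.ker.ideal ⟨W, hW⟩ := by
    rw [← Scheme.IdealSheafData.ker_subschemeι_app, RingHom.mem_ker]
    exact h2
  rw [Scheme.Hom.ker_apply, RingHom.mem_ker] at h3
  exact h3

/-- The inclusion of the sections of an ideal module into the ring of functions, as a linear map. -/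
noncomputable def idealModιL (K : P.IdealSheafData) (W : P.Opens) :
    Γ(ClSub.idealMod K, W) →ₗ[Γ(P, W)] Γ(P, W) where
  toFun x := OmegaSh.fnSect P W ((ClSub.idealModι K).app W x)
  map_add' x y := by rw [map_add, map_add]
  map_smul' c x := by
    rw [Scheme.Modules.Hom.app_smul]
    rfl

theorem idealModιL_apply (K : P.IdealSheafData) (W : P.Opens) (x : Γ(ClSub.idealMod K, W)) :
    idealModιL K W x = OmegaSh.fnSect P W ((ClSub.idealModι K).app W x) := rfl

theorem idealModιL_injective (K : P.IdealSheafData) (W : P.Opens) :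
    Function.Injective (idealModιL K W) := fun _ _ hxy =>
  OmegaSh.idealModι_app_injective W K hxy

end Ideal


section Main

/-- The codiagonal `Γ(X ×_Y X, pr₁⁻¹U ∩ pr₂⁻¹U) ⟶ Γ(X, U)`. -/
noncomputable abbrev codiag (U : X.Opens) : Γ(pullback f f, OmegaSh.diagNbhd f U) ⟶ Γ(X, U) :=
  (pullback.diagonal f).appLE (OmegaSh.diagNbhd f U) U (OmegaSh.le_preimage_diagNbhd f U)

theorem fst_codiag (U : X.Opens) :
    (pullback.fst f f).appLE U (OmegaSh.diagNbhd f U) inf_le_left ≫ codiag f U = 𝟙 _ := by
  rw [Scheme.Hom.appLE_comp_appLE]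
  exact OmegaSh.id_appLE_eq_id (pullback.diagonal_fst f) _

theorem snd_codiag (U : X.Opens) :
    (pullback.snd f f).appLE U (OmegaSh.diagNbhd f U) inf_le_right ≫ codiag f U = 𝟙 _ := by
  rw [Scheme.Hom.appLE_comp_appLE]
  exact OmegaSh.id_appLE_eq_id (pullback.diagonal_snd f) _

variable [QuasiSeparated f]

include hU hV h in
theorem codiag_idealModιL (x : Γ(ClSub.idealMod (pullback.diagonal f).ker, OmegaSh.diagNbhd f U)) :
    codiag f U (idealModιL (pullback.diagonal f).ker (OmegaSh.diagNbhd f U) x) = 0 := by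
  have h0 := app_idealModι_eq_zero (pullback.diagonal f) (isAffineOpen_diagNbhd f hU hV h) x
  rw [idealModιL_apply]
  change X.presheaf.map _ ((pullback.diagonal f).app _ _) = 0
  rw [h0, map_zero]

theorem idealModιL_idealLift (b : Γ(X, U)) :
    idealModιL (pullback.diagonal f).ker (OmegaSh.diagNbhd f U) (OmegaSh.idealLift f U b) =
      OmegaSh.diagDiff f U b := by
  rw [idealModιL_apply, OmegaSh.ι_idealLift]
  rfl

include hU hV h in
/-- Over the affine neighbourhood of the diagonal, the sections of the diagonal ideal are spanned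
by the `pr₂♯ b - pr₁♯ b`. -/
theorem mem_span_idealLift
    (x : Γ(ClSub.idealMod (pullback.diagonal f).ker, OmegaSh.diagNbhd f U)) :
    x ∈ Submodule.span Γ(pullback f f, OmegaSh.diagNbhd f U)
      (Set.range (OmegaSh.idealLift f U)) := by
  set ιL := idealModιL (pullback.diagonal f).ker (OmegaSh.diagNbhd f U) with hιL
  have h1 : ιL x ∈ Ideal.span (Set.range fun b : Γ(X, U) =>
      (pullback.snd f f).appLE U (OmegaSh.diagNbhd f U) inf_le_right b -
        (pullback.fst f f).appLE U (OmegaSh.diagNbhd f U) inf_le_left b) :=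
    mem_span_of_codiagonal_eq_zero (isPushout_diagNbhd f hU hV h) (codiag f U)
      (fst_codiag f U) (snd_codiag f U) _ (codiag_idealModιL f hU hV h x)
  have h2 : Ideal.span (Set.range fun b : Γ(X, U) =>
      (pullback.snd f f).appLE U (OmegaSh.diagNbhd f U) inf_le_right b -
        (pullback.fst f f).appLE U (OmegaSh.diagNbhd f U) inf_le_left b) ≤
      Submodule.map ιL (Submodule.span Γ(pullback f f, OmegaSh.diagNbhd f U)
        (Set.range (OmegaSh.idealLift f U))) := by
    rw [Ideal.span, Submodule.span_le]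
    rintro _ ⟨b, rfl⟩
    refine ⟨OmegaSh.idealLift f U b, Submodule.subset_span ⟨b, rfl⟩, ?_⟩
    exact idealModιL_idealLift f b
  obtain ⟨x', hx', hxx'⟩ := h2 h1
  have : x' = x := idealModιL_injective _ _ hxx'
  rwa [this] at hx'


theorem dSect_eq_pullRes (b : Γ(X, U)) :
    OmegaSh.dSect f U b = pullRes (pullback.diagonal f) (ClSub.idealMod (pullback.diagonal f).ker)
      (OmegaSh.le_preimage_diagNbhd f U) (OmegaSh.idealLift f U b) := rfl

include hU hV in
/-- **Universal property of the frozen derivation over affine opens**: for `f` quasi-separated and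
affine opens `U ≤ f⁻¹ V`, every derivation of `Γ(X, U)` over `Γ(Y, V)` into a `Γ(X, U)`-module
factors uniquely through `d_{X/Y} : Γ(X, U) → Γ(Ω_{X/Y}, U)`. -/
theorem existsUnique_of_derivation (M : ModuleCat.{u} Γ(X, U))
    (D : M.Derivation (f.appLE V U h)) :
    ∃! α : Γ(Omega.sheaf f, U) →ₗ[Γ(X, U)] M, ∀ b, α (OmegaSh.dSect f U b) = D.d b := by
  have hW := isAffineOpen_diagNbhd f hU hV h
  obtain ⟨L, hLmul, hLd⟩ := exists_semiderivation (isPushout_diagNbhd f hU hV h) (codiag f U)
    (fst_codiag f U) (snd_codiag f U) M D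
  set ιL := idealModιL (pullback.diagonal f).ker (OmegaSh.diagNbhd f U) with hιL
  let l : Γ(ClSub.idealMod (pullback.diagonal f).ker, OmegaSh.diagNbhd f U) →+ M :=
    L.comp ιL.toAddMonoidHom
  have hl_apply : ∀ x, l x = L (ιL x) := fun _ => rfl
  have hl : ∀ (c : Γ(pullback f f, OmegaSh.diagNbhd f U))
      (x : Γ(ClSub.idealMod (pullback.diagonal f).ker, OmegaSh.diagNbhd f U)),
      l (c • x) = (pullback.diagonal f).appLE (OmegaSh.diagNbhd f U) U
        (OmegaSh.le_preimage_diagNbhd f U) c • l x := by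
    intro c x
    rw [hl_apply, hl_apply, _root_.map_smul, smul_eq_mul, hLmul, codiag_idealModιL f hU hV h x, zero_smul,
      add_zero]
  have hld : ∀ b, l (OmegaSh.idealLift f U b) = D.d b := by
    intro b
    rw [hl_apply, idealModιL_idealLift, ← hLd]
    rfl
  obtain ⟨α, hα, huniq⟩ := existsUnique_of_semilinear (pullback.diagonal f)
    (ClSub.idealMod (pullback.diagonal f).ker) hU hW (OmegaSh.le_preimage_diagNbhd f U) M l hl
  refine ⟨α, ?_, ?_⟩
  · intro b
    rw [dSect_eq_pullRes]
    exact (hα _).trans (hld b)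
  · intro α' hα'
    apply huniq
    intro x
    have hx := mem_span_idealLift f hU hV h x
    induction hx using Submodule.span_induction with
    | mem y hy =>
      obtain ⟨b, rfl⟩ := hy
      rw [hld, ← dSect_eq_pullRes]
      exact hα' b
    | zero => rw [map_zero, map_zero, map_zero]
    | add y z _ _ hy hz => rw [map_add, map_add, map_add, hy, hz]
    | smul c y _ hy => rw [pullRes_smul, _root_.map_smul, hy, hl]


include hU hV in
/-- **Affine computation of the sheaf of differentials** (category form). -/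
theorem isIso_toSect : IsIso (OmAff.toSect f V U h) := by
  obtain ⟨β, hβ, -⟩ := existsUnique_of_derivation f hU hV h
    (CommRingCat.KaehlerDifferential (f.appLE V U h)) (CommRingCat.KaehlerDifferential.D _)
  obtain ⟨γ, -, hγuniq⟩ := existsUnique_of_derivation f hU hV h
    (OmAff.sectMod (Omega.sheaf f) U) (OmAff.derSect f V U h)
  refine ⟨ModuleCat.ofHom β, ?_, ?_⟩
  · apply CommRingCat.KaehlerDifferential.ext
    intro b
    change β (OmAff.toSect f V U h (CommRingCat.KaehlerDifferential.d b)) = _
    rw [OmAff.toSect_d, hβ]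
    rfl
  · have e1 : (OmAff.toSect f V U h).hom ∘ₗ β = γ := hγuniq _ (fun b => by
      rw [LinearMap.comp_apply, hβ]
      exact OmAff.toSect_d f V U h b)
    have e2 : LinearMap.id = γ := hγuniq _ (fun b => rfl)
    apply ModuleCat.hom_ext
    exact e1.trans e2.symm

end Main

end Groth.Agent.Lib.Helper48.OmegaAff
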