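import Groth.Agent.Lib.Helper48.OmegaAff4

set_option autoImplicit false
universe u

open AlgebraicGeometry CategoryTheory Opposite TopologicalSpace CategoryTheory.Limits

namespace Groth.Agent.Lib.Helper48.OmegaAff

section SpecCase

variable (A B : Type u) [CommRing A] [CommRing B] [Algebra A B]

/-- The morphism `Spec B ⟶ Spec A`. -/
noncomputable abbrev specMap : Spec (CommRingCat.of B) ⟶ Spec (CommRingCat.of A) :=
  Spec.map (CommRingCat.ofHom (algebraMap A B))

/-- The ring map `Γ(Spec B, ⊤) → B`. -/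
noncomputable abbrev fromΓ (B : Type u) [CommRing B] : Γ(Spec (CommRingCat.of B), ⊤) →+* B :=
  (Scheme.ΓSpecIso (CommRingCat.of B)).hom.hom

theorem fromΓ_toΓ (b : B) : fromΓ B (OmAff.toΓ B b) = b :=
  congr($((Scheme.ΓSpecIso (CommRingCat.of B)).inv_hom_id) b)

theorem toΓ_fromΓ (s : Γ(Spec (CommRingCat.of B), ⊤)) : OmAff.toΓ B (fromΓ B s) = s :=
  congr($((Scheme.ΓSpecIso (CommRingCat.of B)).hom_inv_id) s)

theorem fromΓ_appLE (a : Γ(Spec (CommRingCat.of A), ⊤)) (h : (⊤ : (Spec (CommRingCat.of B)).Opens) ≤ specMap A B ⁻¹ᵁ ⊤) :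
    fromΓ B ((specMap A B).appLE ⊤ ⊤ h a) = algebraMap A B (fromΓ A a) := by
  have h1 : (specMap A B).appLE ⊤ ⊤ h = (specMap A B).appTop := by
    change (specMap A B).appLE ⊤ (specMap A B ⁻¹ᵁ ⊤) le_rfl = _
    rw [Scheme.Hom.appLE_eq_app]
  rw [h1]
  exact congr($(Scheme.ΓSpecIso_naturality (CommRingCat.ofHom (algebraMap A B))) a)

theorem bijective_toSpec : Function.Bijective (OmAff.toSpec A B) := by
  have hU : IsAffineOpen (⊤ : (Spec (CommRingCat.of B)).Opens) := isAffineOpen_top _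
  have hV : IsAffineOpen (⊤ : (Spec (CommRingCat.of A)).Opens) := isAffineOpen_top _
  have h : (⊤ : (Spec (CommRingCat.of B)).Opens) ≤ specMap A B ⁻¹ᵁ ⊤ := le_rfl
  let _ : Module Γ(Spec (CommRingCat.of B), ⊤) Ω[B⁄A] := Module.compHom _ (fromΓ B)
  have hsmul : ∀ (s : Γ(Spec (CommRingCat.of B), ⊤)) (ω : Ω[B⁄A]), s • ω = fromΓ B s • ω :=
    fun _ _ => rfl
  let M : ModuleCat.{u} Γ(Spec (CommRingCat.of B), ⊤) := ModuleCat.of _ Ω[B⁄A]
  let D : M.Derivation ((specMap A B).appLE ⊤ ⊤ h) :=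
    ModuleCat.Derivation.mk (fun s => KaehlerDifferential.D A B (fromΓ B s))
      (fun s t => by rw [map_add, map_add])
      (fun s t => by rw [map_mul, Derivation.leibniz]; rfl)
      (fun a => by rw [fromΓ_appLE, Derivation.map_algebraMap])
  obtain ⟨β, hβ, -⟩ := existsUnique_of_derivation (specMap A B) hU hV h M D
  have hβ' : ∀ s, β (OmegaSh.dSect (specMap A B) ⊤ s) = KaehlerDifferential.D A B (fromΓ B s) := hβ
  obtain ⟨γ, -, hγuniq⟩ := existsUnique_of_derivation (specMap A B) hU hV h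
    (OmAff.sectMod (Omega.sheaf (specMap A B)) ⊤) (OmAff.derSect (specMap A B) ⊤ ⊤ h)
  constructor
  · -- injective: β ∘ toSpec = id
    have key : ∀ ω : Ω[B⁄A], β (OmAff.toSpec A B ω) = ω := by
      intro ω
      have hω : ω ∈ Submodule.span B (Set.range (KaehlerDifferential.D A B)) := by
        rw [KaehlerDifferential.span_range_derivation]; trivial
      induction hω using Submodule.span_induction with
      | mem y hy =>
        obtain ⟨b, rfl⟩ := hy
        rw [OmAff.toSpec_D, hβ', fromΓ_toΓ]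
      | zero => rw [map_zero, map_zero]
      | add y z _ _ hy hz => rw [map_add, map_add, hy, hz]
      | smul b y _ hy =>
        rw [LinearMap.map_smulₛₗ, _root_.map_smul, hy, hsmul, fromΓ_toΓ]
    intro ω₁ ω₂ h12
    rw [← key ω₁, ← key ω₂, h12]
  · -- surjective: toSpec ∘ β = id
    let c : Γ(Omega.sheaf (specMap A B), ⊤) →ₗ[Γ(Spec (CommRingCat.of B), ⊤)]
        Γ(Omega.sheaf (specMap A B), ⊤) :=
      { toFun := fun y => OmAff.toSpec A B (β y)
        map_add' := fun y z => by rw [map_add, map_add]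
        map_smul' := fun s y => by
          rw [_root_.map_smul, hsmul, LinearMap.map_smulₛₗ, toΓ_fromΓ]
          rfl }
    have e1 : c = γ := hγuniq _ (fun s => by
      change OmAff.toSpec A B (β (OmegaSh.dSect (specMap A B) ⊤ s)) = _
      rw [hβ', OmAff.toSpec_D, toΓ_fromΓ]
      rfl)
    have e2 : LinearMap.id = γ := hγuniq _ (fun b => rfl)
    intro y
    refine ⟨β y, ?_⟩
    exact congr($(e1.trans e2.symm) y)

end SpecCase

end Groth.Agent.Lib.Helper48.OmegaAff
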