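import Groth.Agent.Lib.Helper48.SectFinite
import Groth.Agent.Lib.Helper48.Nbhd2
import Groth.Agent.Lib.Helper48.Conormal2

/-!
# The augmentation ideal of an infinitesimal neighbourhood of order `n` has vanishing `(n+1)`-st power

(The main lemma is proved for abstract morphisms `t : Y ⟶ Z`, `ι : Z ⟶ P` to keep the kernel away
from unfolding the concrete infinitesimal neighbourhoods.)
-/

set_option autoImplicit false
universe u

open CategoryTheory CategoryTheory.Limits AlgebraicGeometry TopologicalSpace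

namespace Groth.Agent.Lib.Helper48.PnNil

open Scheme Groth.Agent.Lib.Helper48.OmegaAff Groth.Agent.Lib.Helper48.Conormal
  Groth.Agent.Lib.Helper48.Nbhd

theorem eq_zero_of_locally_fn {Z : Scheme.{u}} {W : Z.Opens} (s : Γ(Z, W))
    (h : ∀ z ∈ W, ∃ (W' : Z.Opens) (hW' : W' ≤ W), z ∈ W' ∧
      Z.presheaf.map (homOfLE hW').op s = 0) : s = 0 := by
  have := eq_zero_of_locally (Coh.structureModule Z) (OmegaSh.strSect Z W s) (by
    intro z hz
    obtain ⟨W', hW', hzW', hs⟩ := h z hz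
    refine ⟨W', hW', hzW', ?_⟩
    rw [← OmegaSh.strSect_map, hs, map_zero])
  exact this

theorem app_map_eq_zero {Y Z : Scheme.{u}} (t : Y ⟶ Z) {W W' : Z.Opens} (hW' : W' ≤ W)
    (c : Γ(Z, W)) (hc : t.app W c = 0) :
    t.app W' (Z.presheaf.map (homOfLE hW').op c) = 0 := by
  have h1 := congr($(t.naturality (homOfLE hW').op) c)
  rw [CommRingCat.comp_apply, CommRingCat.comp_apply, hc, map_zero] at h1
  exact h1

theorem app_eq_zero_of_comp {Y Z P : Scheme.{u}} (i : Y ⟶ P) (ι : Z ⟶ P) (t : Y ⟶ Z)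
    (ht : t ≫ ι = i) (V : P.Opens) (r : Γ(P, V)) (h : t.app (ι ⁻¹ᵁ V) (ι.app V r) = 0) :
    i.app V r = 0 := by
  subst ht
  exact (congr($(Scheme.Hom.comp_app t ι V) r)).trans h

/-- A product of `n + 1` functions on an `n`-th order thickening `Z` of `Y` in `P` that vanish on
`Y` is zero. -/
theorem prod_eq_zero_aux {Y Z P : Scheme.{u}} (i : Y ⟶ P) [IsClosedImmersion i] (ι : Z ⟶ P)
    [IsClosedImmersion ι] (t : Y ⟶ Z) (ht : t ≫ ι = i) (n : ℕ) (hker : ι.ker = i.ker ^ (n + 1))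
    {W : Z.Opens} (c : Fin (n + 1) → Γ(Z, W)) (h : ∀ k, t.app W (c k) = 0) : ∏ k, c k = 0 := by
  apply eq_zero_of_locally_fn
  intro z hz
  obtain ⟨V, ⟨hV, hιV, hsurj⟩, hzV, -, hVW⟩ := exists_goodFor ι z W hz ⊤ trivial
  refine ⟨ι ⁻¹ᵁ V, hVW, hzV, ?_⟩
  rw [map_prod]
  choose r hr using fun k => hsurj (Z.presheaf.map (homOfLE hVW).op (c k))
  have hkermem : ∀ k, r k ∈ i.ker.ideal ⟨V, hV⟩ := by
    intro k
    rw [Scheme.Hom.ker_apply, RingHom.mem_ker]
    apply app_eq_zero_of_comp i ι t ht V (r k)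
    rw [hr k]
    exact app_map_eq_zero t hVW (c k) (h k)
  have hprod : ∏ k, r k ∈ (i.ker ^ (n + 1)).ideal ⟨V, hV⟩ := by
    rw [IdealSheafData.ideal_pow, Pi.pow_apply]
    have := Ideal.prod_mem_prod (s := Finset.univ)
      (I := fun _ : Fin (n + 1) => i.ker.ideal ⟨V, hV⟩) (x := r) (fun k _ => hkermem k)
    rwa [Finset.prod_const, Finset.card_univ, Fintype.card_fin] at this
  have hzero : ι.app V (∏ k, r k) = 0 := by
    have h4 := Scheme.Hom.ker_apply ι ⟨V, hV⟩
    rw [hker] at h4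
    rw [h4] at hprod
    exact hprod
  rw [map_prod] at hzero
  rw [← hzero]
  exact Finset.prod_congr rfl (fun k _ => (hr k).symm)

variable {Y P : Scheme.{u}} (i : Y ⟶ P) [IsClosedImmersion i] (n : ℕ)

instance : IsClosedImmersion (PrinPart.infNbhdι i n) := by
  unfold PrinPart.infNbhdι; infer_instance

theorem ker_infNbhdι : (PrinPart.infNbhdι i n).ker = i.ker ^ (n + 1) := by
  unfold PrinPart.infNbhdι
  exact IdealSheafData.ker_subschemeι _

/-- A product of `n + 1` functions on the `n`-th infinitesimal neighbourhood that vanish on `Y`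
is zero. -/
theorem prod_eq_zero {W : (PrinPart.infNbhd i n).Opens}
    (c : Fin (n + 1) → Γ(PrinPart.infNbhd i n, W))
    (h : ∀ k, (PrinPart.toInfNbhd i n).app W (c k) = 0) : ∏ k, c k = 0 :=
  prod_eq_zero_aux i (PrinPart.infNbhdι i n) (PrinPart.toInfNbhd i n) (PrinPart.toInfNbhd_ι i n) n
    (ker_infNbhdι i n) c h

end Groth.Agent.Lib.Helper48.PnNil
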