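import Groth.Agent.Lib.Helper48.PnLocal2
import Groth.Agent.Lib.Helper48.PnNil

/-!
# Kernel of the restriction to the `n`-th infinitesimal neighbourhood, affine-locally
-/

set_option autoImplicit false
universe u
open CategoryTheory CategoryTheory.Limits AlgebraicGeometry TopologicalSpace

namespace Groth.Agent.Lib.Helper48.PnAff

open Scheme Groth.Agent.Lib.Helper48.PnLocal Groth.Agent.Lib.Helper48.PnNil

theorem ker_app_of_ker_pow_closed {Y Z P : Scheme.{u}} (i : Y ⟶ P) [IsClosedImmersion i]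
    (ι : Z ⟶ P) [IsClosedImmersion ι] (n : ℕ) (hker : ι.ker = i.ker ^ (n + 1))
    (V : P.Opens) (hV : IsAffineOpen V) :
    RingHom.ker (ι.app V).hom = RingHom.ker (i.app V).hom ^ (n + 1) := by
  rw [← Scheme.Hom.ker_apply ι ⟨V, hV⟩, ← Scheme.Hom.ker_apply i ⟨V, hV⟩, hker]
  rfl

theorem ker_comp_iso {R R' T T' : Type*} [CommRing R] [CommRing R'] [CommRing T] [CommRing T']
    (e : R →+* R') (he : Function.Bijective e) (g : R' →+* T) (h : R' →+* T') (n : ℕ)
    (hk : RingHom.ker g = RingHom.ker h ^ (n + 1)) :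
    RingHom.ker (g.comp e) = RingHom.ker (h.comp e) ^ (n + 1) := by
  rw [← RingHom.comap_ker, ← RingHom.comap_ker, hk]
  have h1 : RingHom.ker h = Ideal.map e (Ideal.comap e (RingHom.ker h)) :=
    (Ideal.map_comap_of_surjective e he.2 _).symm
  conv_lhs => rw [h1, ← Ideal.map_pow]
  exact Ideal.comap_map_of_bijective e he

theorem ker_comp_app {Z P Q : Scheme.{u}} (ι : Z ⟶ P) (j : P ⟶ Q) (O : Q.Opens) :
    RingHom.ker ((ι ≫ j).app O).hom =
      RingHom.ker ((ι.app (j ⁻¹ᵁ O)).hom.comp (j.app O).hom) := by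
  ext r
  rw [RingHom.mem_ker, RingHom.mem_ker]
  have := congr($(Scheme.Hom.comp_app ι j O) r)
  constructor
  · intro h
    exact this.symm.trans h
  · intro h
    exact this.trans h

theorem ker_app_of_ker_pow {Y Z P Q : Scheme.{u}} (i : Y ⟶ P) [IsClosedImmersion i]
    (ι : Z ⟶ P) [IsClosedImmersion ι] (n : ℕ) (hker : ι.ker = i.ker ^ (n + 1))
    (j : P ⟶ Q) [IsOpenImmersion j] (i' : Y ⟶ Q) (ι' : Z ⟶ Q) (hi : i ≫ j = i')
    (hι : ι ≫ j = ι') (O : Q.Opens) (hO : IsAffineOpen O) (hle : O ≤ j.opensRange) :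
    RingHom.ker (ι'.app O).hom = RingHom.ker (i'.app O).hom ^ (n + 1) := by
  subst hi hι
  have hV : IsAffineOpen (j ⁻¹ᵁ O) := hO.preimage_of_isOpenImmersion j hle
  have : IsIso (j.app O) := Scheme.Hom.isIso_app j _ hle
  have hb : Function.Bijective (j.app O).hom :=
    (ConcreteCategory.isIso_iff_bijective _).mp inferInstance
  rw [ker_comp_app, ker_comp_app]
  exact ker_comp_iso _ hb _ _ n (ker_app_of_ker_pow_closed i ι n hker _ hV)

variable {X S : Scheme.{u}} (f : X ⟶ S) (n : ℕ)
variable {U : X.Opens} {V : S.Opens} (hU : IsAffineOpen U) (hV : IsAffineOpen V)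
  (hUV : U ≤ f ⁻¹ᵁ V)

include hU hV hUV in
/-- On the product open `U ×_S U`, the kernel of the restriction to the `n`-th infinitesimal
neighbourhood of the diagonal is the `(n+1)`-st power of the kernel of restriction to the diagonal. -/
theorem ker_nbhdι_app :
    RingHom.ker ((PrinPart.nbhdι f n).app (prodO f U)).hom =
      RingHom.ker ((pullback.diagonal f).app (prodO f U)).hom ^ (n + 1) := by
  have hle : prodO f U ≤ (pullback.diagonal f).coborderRange.ι.opensRange := by
    rw [Scheme.Opens.opensRange_ι]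
    exact prodO_le_coborderRange f hU hV hUV
  exact ker_app_of_ker_pow (PrinPart.diagCl f) (PrinPart.infNbhdι (PrinPart.diagCl f) n) n
    (ker_infNbhdι _ n) (pullback.diagonal f).coborderRange.ι (pullback.diagonal f)
    (PrinPart.nbhdι f n) (Scheme.Hom.liftCoborder_ι _) rfl (prodO f U)
    (isAffineOpen_prodO f hU hV hUV) hle

end Groth.Agent.Lib.Helper48.PnAff
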