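import Mathlib.Algebra.Category.Ring.Constructions
import Mathlib.RingTheory.Kaehler.Basic
import Groth.Agent.Lib.Helper48.PnAff1

/-!
# Pure algebra: a quotient of a pushout `B ⊗_A B` by the `(n+1)`-st power of the diagonal ideal
-/

set_option autoImplicit false
universe u
open CategoryTheory CategoryTheory.Limits TensorProduct

namespace Groth.Agent.Lib.Helper48.PnAff

theorem tensor_pushout_ker {A B : Type u} [CommRing A] [CommRing B] [Algebra A B]
    {C : CommRingCat.{u}} (p1 p2 : CommRingCat.of B ⟶ C)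
    (H : IsPushout (CommRingCat.ofHom (algebraMap A B)) (CommRingCat.ofHom (algebraMap A B)) p1 p2)
    {D E : Type u} [CommRing D] [CommRing E] (π : C →+* D) (hπ : Function.Surjective π)
    (δ : C →+* E) (ρ : B →+* E) (hρ : Function.Injective ρ)
    (hδ1 : ∀ b, δ (p1 b) = ρ b) (hδ2 : ∀ b, δ (p2 b) = ρ b)
    (n : ℕ) (hk : RingHom.ker π = RingHom.ker δ ^ (n + 1))
    {G : Type*} [AddCommGroup G] (θ : G →+ D) (hθ : Function.Injective θ)
    (ψ : TensorProduct A B B →+ G) (hψ : ∀ b b', θ (ψ (b ⊗ₜ[A] b')) = π (p1 b * p2 b')) :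
    Function.Surjective ψ ∧ ψ.ker = (KaehlerDifferential.ideal A B ^ (n + 1)).toAddSubgroup := by
  let ν := (CommRingCat.isPushout_tensorProduct A B B).isoIsPushout _ _ H
  have hνb : Function.Bijective ν.hom.hom :=
    (ConcreteCategory.isIso_iff_bijective ν.hom).mp inferInstance
  have hν1 : ∀ b : B, ν.hom.hom (b ⊗ₜ[A] 1) = p1 b := fun b =>
    congr($((CommRingCat.isPushout_tensorProduct A B B).inl_isoIsPushout_hom _ _ H) b)
  have hν2 : ∀ b : B, ν.hom.hom (1 ⊗ₜ[A] b) = p2 b := fun b =>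
    congr($((CommRingCat.isPushout_tensorProduct A B B).inr_isoIsPushout_hom _ _ H) b)
  have hν : ∀ b b' : B, ν.hom.hom (b ⊗ₜ[A] b') = p1 b * p2 b' := by
    intro b b'
    have : b ⊗ₜ[A] b' = (b ⊗ₜ[A] (1 : B)) * ((1 : B) ⊗ₜ[A] b') := by
      rw [Algebra.TensorProduct.tmul_mul_tmul, mul_one, one_mul]
    rw [this, map_mul, hν1, hν2]
  let Φ : TensorProduct A B B →+* D := π.comp ν.hom.hom
  have hΦ : ∀ x, θ (ψ x) = Φ x := by
    intro x
    induction x using TensorProduct.induction_on with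
    | zero => rw [map_zero, map_zero, map_zero]
    | tmul b b' => rw [hψ]; change _ = π (ν.hom.hom _); rw [hν]
    | add x y hx hy => rw [map_add, map_add, map_add, hx, hy]
  have hΦs : Function.Surjective Φ := hπ.comp hνb.2
  have hδν : δ.comp ν.hom.hom = ρ.comp (Algebra.TensorProduct.lmul' A (S := B)).toRingHom := by
    refine RingHom.ext fun x => ?_
    induction x using TensorProduct.induction_on with
    | zero => rw [map_zero, map_zero]
    | tmul b b' =>
      change δ (ν.hom.hom _) = ρ (Algebra.TensorProduct.lmul' A (b ⊗ₜ[A] b'))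
      rw [hν, map_mul, hδ1, hδ2, Algebra.TensorProduct.lmul'_apply_tmul, map_mul]
    | add x y hx hy => rw [map_add, map_add, hx, hy]
  have hkΦ : RingHom.ker Φ = KaehlerDifferential.ideal A B ^ (n + 1) := by
    have h1 := ker_comp_iso ν.hom.hom hνb π δ n hk
    rw [hδν, RingHom.ker_comp_of_injective _ hρ] at h1
    exact h1
  refine ⟨?_, ?_⟩
  · intro g
    obtain ⟨x, hx⟩ := hΦs (θ g)
    exact ⟨x, hθ ((hΦ x).trans hx)⟩
  · ext x
    rw [AddMonoidHom.mem_ker, ← hkΦ]
    change _ ↔ x ∈ RingHom.ker Φ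
    rw [RingHom.mem_ker, ← hΦ]
    constructor
    · intro h; rw [h, map_zero]
    · intro h; exact hθ (h.trans (map_zero θ).symm)

end Groth.Agent.Lib.Helper48.PnAff
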