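import Groth.Agent.Lib.Helper48.PnAff2
import Groth.Agent.Lib.Helper48.PullUnit
import Groth.Agent.Lib.Helper48.OmegaAff2
import Groth.Agent.Lib.Helper48.OmegaAff19

/-!
# `P^n_{X/S}` as functions on the infinitesimal neighbourhood
-/

set_option autoImplicit false
universe u
open CategoryTheory CategoryTheory.Limits AlgebraicGeometry TopologicalSpace

namespace Groth.Agent.Lib.Helper48.PnAff

open Scheme Groth.Agent.Lib.Helper48.PnLocal Groth.Agent.Lib.Helper48.PnNil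
  Groth.Agent.Lib.Helper48.PullUnit

theorem ker_appLE_of_eq {A B : Scheme.{u}} (g : A ⟶ B) (O : B.Opens) (W : A.Opens)
    (e : W = g ⁻¹ᵁ O) : RingHom.ker (g.appLE O W e.le).hom = RingHom.ker (g.app O).hom := by
  subst e
  rw [Scheme.Hom.app_eq_appLE]

theorem appLE_surjective_of_eq {A B : Scheme.{u}} (g : A ⟶ B) (O : B.Opens) (W : A.Opens)
    (e : W = g ⁻¹ᵁ O) (h : Function.Surjective (g.app O)) :
    Function.Surjective (g.appLE O W e.le) := by
  subst e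
  rw [← Scheme.Hom.app_eq_appLE]
  exact h

variable {X S : Scheme.{u}} (f : X ⟶ S) (n : ℕ)

/-- `P^n_{X/S}` over `U`, as functions on `p₁⁻¹ U ⊆ X^{(n)}_Δ`. -/
noncomputable def toFn (U : X.Opens) :
    Γ(PrinPart.P f n, U) →+ Γ(PrinPart.nbhd f n, PrinPart.pr1 f n ⁻¹ᵁ U) :=
  ((unitHom (PrinPart.pr2 f n)).app (PrinPart.pr1 f n ⁻¹ᵁ U)).hom

theorem toFn_apply (U : X.Opens) (m : Γ(PrinPart.P f n, U)) :
    toFn f n U m = (unitHom (PrinPart.pr2 f n)).app (PrinPart.pr1 f n ⁻¹ᵁ U) m := rfl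

theorem toFn_injective (U : X.Opens) : Function.Injective (toFn f n U) := by
  have : IsIso ((unitHom (PrinPart.pr2 f n)).app (PrinPart.pr1 f n ⁻¹ᵁ U)) := inferInstance
  exact ((ConcreteCategory.isIso_iff_bijective _).mp this).1

theorem app_pf_smul {Z X : Scheme.{u}} (p : Z ⟶ X) {F G : Z.Modules} (φ : F ⟶ G) (U : X.Opens)
    (r : Γ(X, U)) (m : Γ((Scheme.Modules.pushforward p).obj F, U)) :
    φ.app (p ⁻¹ᵁ U) (Groth.Agent.Lib.Helper48.OmegaAff.pfSect p F U (r • m)) =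
      p.app U r • φ.app (p ⁻¹ᵁ U) (Groth.Agent.Lib.Helper48.OmegaAff.pfSect p F U m) := by
  rw [Groth.Agent.Lib.Helper48.OmegaAff.pfSect_smul, Scheme.Modules.Hom.app_smul]

theorem toFn_smul (U : X.Opens) (r : Γ(X, U)) (m : Γ(PrinPart.P f n, U)) :
    toFn f n U (r • m) = (PrinPart.pr1 f n).app U r * toFn f n U m :=
  app_pf_smul (PrinPart.pr1 f n) (unitHom (PrinPart.pr2 f n)) U r m

theorem toFn_dn (U : X.Opens) (c : Γ(X, U)) :
    toFn f n U (PrinPart.dn f n U c) =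
      (PrinPart.pr2 f n).appLE U (PrinPart.pr1 f n ⁻¹ᵁ U) (PrinPart.preimage_pr1 f n U).le c := by
  rw [toFn_apply]
  change (unitHom (PrinPart.pr2 f n)).app (PrinPart.pr1 f n ⁻¹ᵁ U)
    (PrinPart.dP f n (Coh.structureModule X) U (OmegaSh.strSect X U c)) = _
  rw [PrinPart.dP_apply, Groth.Agent.Lib.Helper48.OmegaAff.hom_app_map, unitHom_pullSect]
  rfl

end Groth.Agent.Lib.Helper48.PnAff
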