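import Groth.Agent.Lib.Helper48.PnAff3

/-!
# Sections of `P^n_{X/S}` over an affine open lying over an affine open of the base
-/

set_option autoImplicit false
universe u
open CategoryTheory CategoryTheory.Limits AlgebraicGeometry TopologicalSpace TensorProduct

namespace Groth.Agent.Lib.Helper48.PnAff

open Scheme Groth.Agent.Lib.Helper48.PnLocal Groth.Agent.Lib.Helper48.PnNil
  Groth.Agent.Lib.Helper48.PullUnit Groth.Agent.Lib.Helper48.Nbhd

variable {X S : Scheme.{u}} (f : X ⟶ S) (n : ℕ)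

theorem diagonal_fst_appLE (U : X.Opens) (b : Γ(X, U)) :
    (pullback.diagonal f).appLE (prodO f U) U (diagonal_preimage_prodO f U).ge
      ((pullback.fst f f).appLE U (prodO f U) inf_le_left b) = b := by
  rw [← CommRingCat.comp_apply, Scheme.Hom.appLE_comp_appLE]
  have : ∀ (q : X ⟶ X) (hq : q = 𝟙 X) (e : U ≤ q ⁻¹ᵁ U), q.appLE U U e = 𝟙 _ := by
    intro q hq e
    subst hq
    exact id_appLE' U e
  rw [this _ (pullback.diagonal_fst f)]
  rfl

theorem diagonal_snd_appLE (U : X.Opens) (b : Γ(X, U)) :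
    (pullback.diagonal f).appLE (prodO f U) U (diagonal_preimage_prodO f U).ge
      ((pullback.snd f f).appLE U (prodO f U) inf_le_right b) = b := by
  rw [← CommRingCat.comp_apply, Scheme.Hom.appLE_comp_appLE]
  have : ∀ (q : X ⟶ X) (hq : q = 𝟙 X) (e : U ≤ q ⁻¹ᵁ U), q.appLE U U e = 𝟙 _ := by
    intro q hq e
    subst hq
    exact id_appLE' U e
  rw [this _ (pullback.diagonal_snd f)]
  rfl

theorem nbhdι_fst_appLE (U : X.Opens) (b : Γ(X, U)) :
    (PrinPart.nbhdι f n).appLE (prodO f U) (PrinPart.pr1 f n ⁻¹ᵁ U)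
        (nbhdι_preimage_prodO f n U).ge
      ((pullback.fst f f).appLE U (prodO f U) inf_le_left b) = (PrinPart.pr1 f n).app U b := by
  rw [← CommRingCat.comp_apply, Scheme.Hom.appLE_comp_appLE, Scheme.Hom.app_eq_appLE]
  rfl

theorem nbhdι_snd_appLE (U : X.Opens) (b : Γ(X, U)) :
    (PrinPart.nbhdι f n).appLE (prodO f U) (PrinPart.pr1 f n ⁻¹ᵁ U)
        (nbhdι_preimage_prodO f n U).ge
      ((pullback.snd f f).appLE U (prodO f U) inf_le_right b) =
      (PrinPart.pr2 f n).appLE U (PrinPart.pr1 f n ⁻¹ᵁ U) (PrinPart.preimage_pr1 f n U).le b := by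
  rw [← CommRingCat.comp_apply, Scheme.Hom.appLE_comp_appLE]
  rfl

variable {U : X.Opens} {V : S.Opens} (hU : IsAffineOpen U) (hV : IsAffineOpen V)
  (hUV : U ≤ f ⁻¹ᵁ V)

include hU hV hUV in
/-- Sections of `P^n_{X/S}` over an affine open `U = Spec B` lying over an affine open `V = Spec A`:
`B ⊗_A B → Γ(U, P^n)`, `b ⊗ b' ↦ b · d^n b'` is surjective with kernel `I^{n+1}`. -/
theorem sections_affine {A B : Type u} [CommRing A] [CommRing B] [Algebra A B]
    (γA : CommRingCat.of A ≅ Γ(S, V)) (γB : CommRingCat.of B ≅ Γ(X, U))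
    (hγ : CommRingCat.ofHom (algebraMap A B) ≫ γB.hom = γA.hom ≫ f.appLE V U hUV)
    (ψ : TensorProduct A B B →+ Γ(PrinPart.P f n, U))
    (hψ : ∀ b b' : B, ψ (b ⊗ₜ[A] b') = γB.hom b • PrinPart.dn f n U (γB.hom b')) :
    Function.Surjective ψ ∧ ψ.ker = (KaehlerDifferential.ideal A B ^ (n + 1)).toAddSubgroup := by
  have H : IsPushout (CommRingCat.ofHom (algebraMap A B)) (CommRingCat.ofHom (algebraMap A B))
      (γB.hom ≫ (pullback.fst f f).appLE U (prodO f U) inf_le_left)
      (γB.hom ≫ (pullback.snd f f).appLE U (prodO f U) inf_le_right) := by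
    have hc : f.appLE V U hUV ≫ γB.symm.hom = γA.symm.hom ≫ CommRingCat.ofHom (algebraMap A B) := by
      change _ ≫ γB.inv = γA.inv ≫ _
      rw [Iso.comp_inv_eq, Category.assoc, hγ, Iso.inv_hom_id_assoc]
    refine (isPushout_prodO f hU hV hUV).of_iso γA.symm γB.symm γB.symm (Iso.refl _) hc hc ?_ ?_
    · change _ ≫ 𝟙 _ = γB.inv ≫ γB.hom ≫ _
      rw [Category.comp_id, Iso.inv_hom_id_assoc]
    · change _ ≫ 𝟙 _ = γB.inv ≫ γB.hom ≫ _
      rw [Category.comp_id, Iso.inv_hom_id_assoc]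
  have hρ : Function.Injective γB.hom.hom :=
    ((ConcreteCategory.isIso_iff_bijective γB.hom).mp inferInstance).1
  refine tensor_pushout_ker _ _ H
    ((PrinPart.nbhdι f n).appLE (prodO f U) (PrinPart.pr1 f n ⁻¹ᵁ U)
      (nbhdι_preimage_prodO f n U).ge).hom
    (appLE_surjective_of_eq _ _ _ (nbhdι_preimage_prodO f n U).symm
      (nbhdι_app_surjective f n hU hV hUV))
    ((pullback.diagonal f).appLE (prodO f U) U (diagonal_preimage_prodO f U).ge).hom
    γB.hom.hom hρ ?_ ?_ n ?_ (toFn f n U) (toFn_injective f n U) ψ ?_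
  · intro b
    exact diagonal_fst_appLE f U (γB.hom b)
  · intro b
    exact diagonal_snd_appLE f U (γB.hom b)
  · rw [ker_appLE_of_eq _ _ _ (nbhdι_preimage_prodO f n U).symm,
      ker_appLE_of_eq _ _ _ (diagonal_preimage_prodO f U).symm]
    exact ker_nbhdι_app f n hU hV hUV
  · intro b b'
    rw [hψ, toFn_smul, toFn_dn, map_mul]
    congr 1
    · exact (nbhdι_fst_appLE f n U (γB.hom b)).symm
    · exact (nbhdι_snd_appLE f n U (γB.hom b')).symm

end Groth.Agent.Lib.Helper48.PnAff
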