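import Mathlib.RingTheory.Kaehler.Basic

/-!
# Pure algebra: a derivation `D : B → M` over `A` induces `B ⊗_A B → M`, `b ⊗ c ↦ b • D c`, which
kills the square of the diagonal ideal.
-/

set_option autoImplicit false
universe u
open TensorProduct

namespace Groth.Agent.Lib.Helper48.PnAff

theorem exists_tensorTo_of_der {A B : Type u} [CommRing A] [CommRing B] [Algebra A B]
    {M : Type*} [AddCommGroup M] [Module B M] (D : B →+ M)
    (hmul : ∀ x y, D (x * y) = x • D y + y • D x) (hA : ∀ a, D (algebraMap A B a) = 0) :
    ∃ φ : TensorProduct A B B →+ M, (∀ b c : B, φ (b ⊗ₜ[A] c) = b • D c) ∧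
      ∀ x ∈ KaehlerDifferential.ideal A B ^ 2, φ x = 0 := by
  letI : Module A M := Module.compHom M (algebraMap A B)
  haveI : IsScalarTower A B M := IsScalarTower.of_algebraMap_smul (fun r x => rfl)
  let Dl : B →ₗ[A] M :=
    { toFun := D
      map_add' := D.map_add
      map_smul' := fun a b => by
        rw [Algebra.smul_def, hmul, hA, smul_zero, add_zero]
        rfl }
  let D' : Derivation A B M := Derivation.mk' Dl (fun a b => hmul a b)
  refine ⟨D'.tensorProductTo.toAddMonoidHom, fun b c => rfl, ?_⟩
  intro x hx
  rw [pow_two] at hx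
  change D'.tensorProductTo x = 0
  induction hx using Submodule.mul_induction_on' with
  | mem_mul_mem m hm n hn =>
    rw [Derivation.tensorProductTo_mul]
    have h1 : Algebra.TensorProduct.lmul' (S := B) A m = 0 := hm
    have h2 : Algebra.TensorProduct.lmul' (S := B) A n = 0 := hn
    rw [h1, h2, zero_smul, zero_smul, add_zero]
  | add x _ y _ hx hy => rw [map_add, hx, hy, add_zero]

end Groth.Agent.Lib.Helper48.PnAff
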