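import Groth.Agent.Lib.Helper48.PnAff4
import Groth.Agent.Lib.Helper48.PnAff5
import Groth.Agent.Lib.Helper48.PnGen2
import Groth.Agent.Lib.Helper48.DiffOp1
import Groth.Agent.Lib.Helper48.OmegaAff8

/-!
# `P^1_{X/S} = O_X ⊕ Ω_{X/S}`
-/

set_option autoImplicit false
universe u
open CategoryTheory CategoryTheory.Limits AlgebraicGeometry TopologicalSpace TensorProduct

namespace Groth.Agent.Lib.Helper48.PnAff

open Scheme Groth.Agent.Lib.Helper48.PnLocal Groth.Agent.Lib.Helper48.PnNil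
  Groth.Agent.Lib.Helper48.PullUnit Groth.Agent.Lib.Helper48.Nbhd
  Groth.Agent.Lib.Helper48.PnGen Groth.Agent.Lib.Helper48.OmegaAff
  Groth.Agent.Lib.Helper48.Conormal

variable {X S : Scheme.{u}} (f : X ⟶ S) (n : ℕ)

theorem le_toNbhd_preimage (U : X.Opens) :
    U ≤ PrinPart.toNbhd f n ⁻¹ᵁ (PrinPart.pr1 f n ⁻¹ᵁ U) := by
  intro x hx
  change PrinPart.pr1 f n (PrinPart.toNbhd f n x) ∈ U
  rw [pr1_toNbhd_apply]
  exact hx

/-- The augmentation `P^n_{X/S} → O_X` on sections. -/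
noncomputable def aug (U : X.Opens) : Γ(PrinPart.P f n, U) →+ Γ(X, U) :=
  (((PrinPart.toNbhd f n).appLE (PrinPart.pr1 f n ⁻¹ᵁ U) U
    (le_toNbhd_preimage f n U)).hom : _ →+ _).comp (toFn f n U)

theorem aug_apply (U : X.Opens) (m : Γ(PrinPart.P f n, U)) :
    aug f n U m = (PrinPart.toNbhd f n).appLE (PrinPart.pr1 f n ⁻¹ᵁ U) U
      (le_toNbhd_preimage f n U) (toFn f n U m) := rfl

theorem section_appLE_app {Z X : Scheme.{u}} (t : X ⟶ Z) (p : Z ⟶ X) (h : t ≫ p = 𝟙 X)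
    (U : X.Opens) (e₁ : U ≤ t ⁻¹ᵁ (p ⁻¹ᵁ U)) (s : Γ(X, U)) :
    t.appLE (p ⁻¹ᵁ U) U e₁ (p.app U s) = s := by
  rw [← CommRingCat.comp_apply, Scheme.Hom.app_eq_appLE, Scheme.Hom.appLE_comp_appLE]
  have : ∀ (q : X ⟶ X) (hq : q = 𝟙 X) (e : U ≤ q ⁻¹ᵁ U), q.appLE U U e = 𝟙 _ := by
    intro q hq e
    subst hq
    exact id_appLE' U e
  rw [this _ h]
  rfl

theorem section_appLE_appLE {Z X : Scheme.{u}} (t : X ⟶ Z) (q : Z ⟶ X) (h : t ≫ q = 𝟙 X)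
    (U : X.Opens) (W : Z.Opens) (e₁ : U ≤ t ⁻¹ᵁ W) (e₂ : W ≤ q ⁻¹ᵁ U) (s : Γ(X, U)) :
    t.appLE W U e₁ (q.appLE U W e₂ s) = s := by
  rw [← CommRingCat.comp_apply, Scheme.Hom.appLE_comp_appLE]
  have : ∀ (q : X ⟶ X) (hq : q = 𝟙 X) (e : U ≤ q ⁻¹ᵁ U), q.appLE U U e = 𝟙 _ := by
    intro q hq e
    subst hq
    exact id_appLE' U e
  rw [this _ h]
  rfl

theorem toNbhd_appLE_pr1 (U : X.Opens) (s : Γ(X, U)) :
    (PrinPart.toNbhd f n).appLE (PrinPart.pr1 f n ⁻¹ᵁ U) U (le_toNbhd_preimage f n U)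
      ((PrinPart.pr1 f n).app U s) = s :=
  section_appLE_app _ _ (PrinPart.toNbhd_pr1 f n) U _ s

theorem toNbhd_appLE_pr2 (U : X.Opens) (s : Γ(X, U)) :
    (PrinPart.toNbhd f n).appLE (PrinPart.pr1 f n ⁻¹ᵁ U) U (le_toNbhd_preimage f n U)
      ((PrinPart.pr2 f n).appLE U (PrinPart.pr1 f n ⁻¹ᵁ U) (PrinPart.preimage_pr1 f n U).le s) =
      s :=
  section_appLE_appLE _ _ (PrinPart.toNbhd_pr2 f n) U _ _ _ s

theorem aug_smul (U : X.Opens) (s : Γ(X, U)) (m : Γ(PrinPart.P f n, U)) :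
    aug f n U (s • m) = s * aug f n U m := by
  rw [aug_apply, toFn_smul, map_mul, toNbhd_appLE_pr1, aug_apply]

theorem aug_dn (U : X.Opens) (s : Γ(X, U)) : aug f n U (PrinPart.dn f n U s) = s := by
  rw [aug_apply, toFn_dn, toNbhd_appLE_pr2]

end Groth.Agent.Lib.Helper48.PnAff
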