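import Groth.Agent.Lib.Helper48.PnAff6

/-!
# `P^1_{X/S} = O_X ⊕ Ω_{X/S}`: the proof
-/

set_option autoImplicit false
universe u
open CategoryTheory CategoryTheory.Limits AlgebraicGeometry TopologicalSpace TensorProduct

namespace Groth.Agent.Lib.Helper48.PnAff

open Scheme Groth.Agent.Lib.Helper48.PnLocal Groth.Agent.Lib.Helper48.PnNil
  Groth.Agent.Lib.Helper48.PullUnit Groth.Agent.Lib.Helper48.Nbhd
  Groth.Agent.Lib.Helper48.PnGen Groth.Agent.Lib.Helper48.OmegaAff
  Groth.Agent.Lib.Helper48.Conormal Groth.Agent.Lib.Helper48.DiffOp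

variable {X S : Scheme.{u}} (f : X ⟶ S) [QuasiSeparated f]
    (e : Coh.structureModule X ⟶ PrinPart.P f 1)
    (he : ∀ (U : X.Opens) (s : Γ(X, U)), e.app U (OmegaSh.strSect X U s) = s • PrinPart.dn f 1 U 1)
    (ι : Omega.sheaf f ⟶ PrinPart.P f 1)
    (hι : ∀ (U : X.Opens) (s : Γ(X, U)),
      ι.app U ((OmegaSh.dOmega f).app U s) = PrinPart.dn f 1 U s - s • PrinPart.dn f 1 U 1)

include he hι in
theorem epi_desc : Epi (coprod.desc e ι) := by
  refine epi_of_dP_mem f 1 (Coh.structureModule X) (coprod.desc e ι) ?_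
  intro U t x hx
  refine ⟨U, le_rfl, hx, ?_⟩
  have key : ∀ s : Γ(X, U), ∃ a : Γ(Coh.structureModule X ⨿ Omega.sheaf f, U),
      (coprod.desc e ι).app U a = PrinPart.dP f 1 (Coh.structureModule X) U
        ((Coh.structureModule X).presheaf.map (homOfLE (le_refl U)).op
          (OmegaSh.strSect X U s)) := by
    intro s
    refine ⟨(coprod.inl : Coh.structureModule X ⟶ _).app U (OmegaSh.strSect X U s) +
      (coprod.inr : Omega.sheaf f ⟶ Coh.structureModule X ⨿ Omega.sheaf f).app U
        ((OmegaSh.dOmega f).app U s), ?_⟩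
    have h1 : ∀ y, (coprod.desc e ι).app U
        ((coprod.inl : Coh.structureModule X ⟶ _).app U y) = e.app U y :=
      fun y => congr($(coprod.inl_desc e ι).app U y)
    have h2 : ∀ y, (coprod.desc e ι).app U
        ((coprod.inr : Omega.sheaf f ⟶ Coh.structureModule X ⨿ Omega.sheaf f).app U y) =
        ι.app U y :=
      fun y => congr($(coprod.inr_desc e ι).app U y)
    have h3 : (Coh.structureModule X).presheaf.map (homOfLE (le_refl U)).op
        (OmegaSh.strSect X U s) = OmegaSh.strSect X U s :=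
      congr($((Coh.structureModule X).presheaf.map_id (Opposite.op U)) (OmegaSh.strSect X U s))
    rw [map_add, h1, h2, hι, h3, he, add_sub_cancel]
    rfl
  exact key (OmegaSh.fnSect X U t)

end Groth.Agent.Lib.Helper48.PnAff
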