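import Groth.Agent.Lib.Helper48.PnAff7

/-!
# `P^1_{X/S} = O_X ⊕ Ω_{X/S}`: injectivity
-/

set_option autoImplicit false
universe u
open CategoryTheory CategoryTheory.Limits AlgebraicGeometry TopologicalSpace TensorProduct

namespace Groth.Agent.Lib.Helper48.PnAff

open Scheme Groth.Agent.Lib.Helper48.PnLocal Groth.Agent.Lib.Helper48.PnNil
  Groth.Agent.Lib.Helper48.PullUnit Groth.Agent.Lib.Helper48.Nbhd
  Groth.Agent.Lib.Helper48.PnGen Groth.Agent.Lib.Helper48.OmegaAff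
  Groth.Agent.Lib.Helper48.Conormal Groth.Agent.Lib.Helper48.DiffOp

variable {X S : Scheme.{u}} (f : X ⟶ S) [QuasiSeparated f]
    (ι : Omega.sheaf f ⟶ PrinPart.P f 1)
    (hι : ∀ (U : X.Opens) (s : Γ(X, U)),
      ι.app U ((OmegaSh.dOmega f).app U s) = PrinPart.dn f 1 U s - s • PrinPart.dn f 1 U 1)

include hι in
theorem eq_zero_of_desc_eq_zero {U : X.Opens} (hU : IsGood f U) (s : Γ(X, U))
    (ω : Γ(Omega.sheaf f, U)) (h : s • PrinPart.dn f 1 U 1 + ι.app U ω = 0) :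
    s = 0 ∧ ω = 0 := by
  obtain ⟨hUa, V, hV, hUV⟩ := hU
  letI : Algebra Γ(S, V) Γ(X, U) := (f.appLE V U hUV).hom.toAlgebra
  let ψ0 : Γ(X, U) →+ Γ(X, U) →+ Γ(PrinPart.P f 1, U) :=
    AddMonoidHom.mk' (fun b => AddMonoidHom.mk' (fun c => b • PrinPart.dn f 1 U c)
      (fun c c' => by rw [map_add, smul_add]))
      (fun b b' => by
        ext c
        change (b + b') • PrinPart.dn f 1 U c = b • PrinPart.dn f 1 U c + b' • PrinPart.dn f 1 U c
        rw [add_smul])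
  have hbal : ∀ (r : Γ(S, V)) (m n : Γ(X, U)), ψ0 (r • m) n = ψ0 m (r • n) := by
    intro r m n
    change (f.appLE V U hUV r * m) • PrinPart.dn f 1 U n =
      m • PrinPart.dn f 1 U (f.appLE V U hUV r * n)
    rw [dn_appLE_mul, smul_smul, mul_comm]
  let ψ : TensorProduct Γ(S, V) Γ(X, U) Γ(X, U) →+ Γ(PrinPart.P f 1, U) :=
    TensorProduct.liftAddHom ψ0 hbal
  have hψ : ∀ b c : Γ(X, U), ψ (b ⊗ₜ[Γ(S, V)] c) = b • PrinPart.dn f 1 U c := fun b c => rfl
  obtain ⟨-, hker⟩ := sections_affine f 1 hUa hV hUV (A := Γ(S, V)) (B := Γ(X, U))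
    (Iso.refl _) (Iso.refl _) (by
      rw [Iso.refl_hom, Iso.refl_hom, Category.comp_id, Category.id_comp]; rfl) ψ hψ
  obtain ⟨φ, hφ, hφ2⟩ := exists_tensorTo_of_der (A := Γ(S, V)) (B := Γ(X, U))
    ((OmegaSh.dOmega f).app U) (der_app_mul f _ U) (der_app_appLE f _ V U hUV)
  have hspan := span_range_dSect f ⟨hUa, V, hV, hUV⟩
  have hω : ω ∈ Submodule.span Γ(X, U) (Set.range (OmegaSh.dSect f U)) := by
    rw [hspan]; trivial
  have hd1 : (OmegaSh.dOmega f).app U 1 = 0 := by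
    have := der_app_appLE f (OmegaSh.dOmega f) V U hUV 1
    rwa [map_one] at this
  have key : ∀ ω' : Γ(Omega.sheaf f, U),
      ω' ∈ Submodule.span Γ(X, U) (Set.range (OmegaSh.dSect f U)) →
      ∃ y, ψ y = ι.app U ω' ∧ φ y = ω' ∧ aug f 1 U (ι.app U ω') = 0 := by
    intro ω' hω'
    induction hω' using Submodule.closure_induction with
    | zero => exact ⟨0, by rw [map_zero, map_zero], map_zero _, by rw [map_zero, map_zero]⟩
    | add x y _ _ hx hy =>
      obtain ⟨y1, h1, h1', h1''⟩ := hx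
      obtain ⟨y2, h2, h2', h2''⟩ := hy
      exact ⟨y1 + y2, by rw [map_add, map_add, h1, h2], by rw [map_add, h1', h2'],
        by rw [map_add, map_add, h1'', h2'', add_zero]⟩
    | smul_mem r x hx =>
      obtain ⟨c, rfl⟩ := hx
      have h1 : ι.app U (r • OmegaSh.dSect f U c) =
          r • PrinPart.dn f 1 U c - (r * c) • PrinPart.dn f 1 U 1 := by
        rw [Scheme.Modules.Hom.app_smul]
        change r • ι.app U ((OmegaSh.dOmega f).app U c) = _
        rw [hι U c, smul_sub, mul_smul]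
      refine ⟨r ⊗ₜ[Γ(S, V)] c - (r * c) ⊗ₜ[Γ(S, V)] 1, ?_, ?_, ?_⟩
      · rw [map_sub, hψ, hψ, h1]
      · rw [map_sub, hφ, hφ, hd1, smul_zero, sub_zero]
        rfl
      · rw [h1, map_sub, aug_smul, aug_smul, aug_dn, aug_dn, mul_one, sub_self]
  obtain ⟨y, hy1, hy2, hy3⟩ := key ω hω
  have hs : s = 0 := by
    have := congrArg (aug f 1 U) h
    rwa [map_add, aug_smul, aug_dn, mul_one, hy3, add_zero, map_zero] at this
  refine ⟨hs, ?_⟩
  rw [hs, zero_smul, zero_add] at h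
  have hy : y ∈ ψ.ker := by rw [AddMonoidHom.mem_ker, hy1, h]
  rw [hker] at hy
  rw [← hy2]
  exact hφ2 y hy

end Groth.Agent.Lib.Helper48.PnAff
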