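import Groth.Agent.Lib.Helper48.PnAff8

/-!
# `P^1_{X/S} = O_X ⊕ Ω_{X/S}`: assembly
-/

set_option autoImplicit false
universe u
open CategoryTheory CategoryTheory.Limits AlgebraicGeometry TopologicalSpace TensorProduct

namespace Groth.Agent.Lib.Helper48.PnAff

open Scheme Groth.Agent.Lib.Helper48.PnLocal Groth.Agent.Lib.Helper48.PnNil
  Groth.Agent.Lib.Helper48.PullUnit Groth.Agent.Lib.Helper48.Nbhd
  Groth.Agent.Lib.Helper48.PnGen Groth.Agent.Lib.Helper48.OmegaAff
  Groth.Agent.Lib.Helper48.Conormal Groth.Agent.Lib.Helper48.DiffOp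

variable {X S : Scheme.{u}} (f : X ⟶ S) [QuasiSeparated f]
    (e : Coh.structureModule X ⟶ PrinPart.P f 1)
    (he : ∀ (U : X.Opens) (s : Γ(X, U)), e.app U (OmegaSh.strSect X U s) = s • PrinPart.dn f 1 U 1)
    (ι : Omega.sheaf f ⟶ PrinPart.P f 1)
    (hι : ∀ (U : X.Opens) (s : Γ(X, U)),
      ι.app U ((OmegaSh.dOmega f).app U s) = PrinPart.dn f 1 U s - s • PrinPart.dn f 1 U 1)

include he hι in
theorem mono_desc : Mono (coprod.desc e ι) := by
  refine mono_of_basis _ _ (isBasis_good f) ?_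
  rintro _ ⟨⟨U, hU⟩, rfl⟩
  rw [injective_iff_map_eq_zero]
  intro x hx
  let r1 : Coh.structureModule X ⨿ Omega.sheaf f ⟶ Coh.structureModule X := coprod.desc (𝟙 _) 0
  let r2 : Coh.structureModule X ⨿ Omega.sheaf f ⟶ Omega.sheaf f := coprod.desc 0 (𝟙 _)
  have hid : r1 ≫ coprod.inl + r2 ≫ coprod.inr =
      𝟙 (Coh.structureModule X ⨿ Omega.sheaf f) := by
    apply coprod.hom_ext
    · rw [Preadditive.comp_add, coprod.inl_desc_assoc, coprod.inl_desc_assoc, Category.id_comp,
        zero_comp, add_zero, Category.comp_id]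
    · rw [Preadditive.comp_add, coprod.inr_desc_assoc, coprod.inr_desc_assoc, Category.id_comp,
        zero_comp, zero_add, Category.comp_id]
  have hx' : (coprod.inl : Coh.structureModule X ⟶ _).app U (r1.app U x) +
      (coprod.inr : Omega.sheaf f ⟶ Coh.structureModule X ⨿ Omega.sheaf f).app U (r2.app U x) =
      x := congr($(hid).app U x)
  have h1 : ∀ y, (coprod.desc e ι).app U
      ((coprod.inl : Coh.structureModule X ⟶ _).app U y) = e.app U y :=
    fun y => congr($(coprod.inl_desc e ι).app U y)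
  have h2 : ∀ y, (coprod.desc e ι).app U
      ((coprod.inr : Omega.sheaf f ⟶ Coh.structureModule X ⨿ Omega.sheaf f).app U y) =
      ι.app U y :=
    fun y => congr($(coprod.inr_desc e ι).app U y)
  rw [← hx', map_add, h1, h2] at hx
  have h3 : e.app U (r1.app U x) =
      OmegaSh.fnSect X U (r1.app U x) • PrinPart.dn f 1 U 1 := he U _
  rw [h3] at hx
  obtain ⟨hs, hω⟩ := eq_zero_of_desc_eq_zero f ι hι hU _ _ hx
  have hs' : r1.app U x = 0 := hs
  rw [← hx', hs', hω, map_zero, map_zero, add_zero]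

include he hι in
theorem isIso_desc : IsIso (coprod.desc e ι) := by
  have := mono_desc f e he ι hι
  have := epi_desc f e he ι hι
  exact isIso_of_mono_of_epi _

end Groth.Agent.Lib.Helper48.PnAff
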