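import Groth.Agent.Lib.Helper40.SubSh1
import Groth.Prelude.Def_Omega4

/-!
# The pullback of a module is generated by pulled back sections

For `h : Z ⟶ X` and an arbitrary `O_X`-module `M`, every section of `h^* M` is locally a finite
`O_Z`-linear combination of sections `pullSect h M U m`.
-/

set_option autoImplicit false
universe u

open CategoryTheory CategoryTheory.Limits AlgebraicGeometry TopologicalSpace

namespace Groth.Agent.Lib.Helper48.PullGen

open Scheme Groth.Agent.Lib.Helper40.SSh

variable {Z X : Scheme.{u}} (h : Z ⟶ X) (M : X.Modules)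

/-- Restrictions to `W` of pulled back sections. -/
noncomputable def pullSet (W : Z.Opens) : Set Γ((Scheme.Modules.pullback h).obj M, W) :=
  {s | ∃ (U : X.Opens) (hU : W ≤ h ⁻¹ᵁ U) (m : Γ(M, U)),
    s = ((Scheme.Modules.pullback h).obj M).presheaf.map (homOfLE hU).op (OmegaSh.pullSect h M U m)}

/-- The span of the pulled back sections. -/
noncomputable def pullSpan (W : Z.Opens) : Submodule Γ(Z, W) Γ((Scheme.Modules.pullback h).obj M, W) :=
  Submodule.span Γ(Z, W) (pullSet h M W)

theorem res_mem_pullSpan {W W' : Z.Opens} (hW : W' ≤ W)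
    {s : Γ((Scheme.Modules.pullback h).obj M, W)} (hs : s ∈ pullSpan h M W) :
    ((Scheme.Modules.pullback h).obj M).presheaf.map (homOfLE hW).op s ∈ pullSpan h M W' := by
  induction hs using Submodule.span_induction with
  | mem x hx =>
    obtain ⟨U, hU, m, rfl⟩ := hx
    apply Submodule.subset_span
    refine ⟨U, hW.trans hU, m, ?_⟩
    rw [OmegaSh.resM_resM]
    rfl
  | zero => rw [map_zero]; exact Submodule.zero_mem _
  | add x y _ _ hx hy => rw [map_add]; exact Submodule.add_mem _ hx hy
  | smul a x _ hx =>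
    rw [Scheme.Modules.map_smul]
    exact Submodule.smul_mem _ _ hx

/-- Sections which are locally in the span of pulled back sections. -/
noncomputable def locSpan : SubSh ((Scheme.Modules.pullback h).obj M) where
  obj W :=
    { carrier := {e | ∀ z ∈ W, ∃ (W' : Z.Opens) (hW' : W' ≤ W), z ∈ W' ∧
        ((Scheme.Modules.pullback h).obj M).presheaf.map (homOfLE hW').op e ∈ pullSpan h M W'}
      zero_mem' := fun z hz => ⟨W, le_rfl, hz, by rw [map_zero]; exact Submodule.zero_mem _⟩
      add_mem' := by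
        intro a b ha hb z hz
        obtain ⟨W₁, hW₁, hz₁, h₁⟩ := ha z hz
        obtain ⟨W₂, hW₂, hz₂, h₂⟩ := hb z hz
        refine ⟨W₁ ⊓ W₂, inf_le_left.trans hW₁, ⟨hz₁, hz₂⟩, ?_⟩
        rw [map_add]
        refine Submodule.add_mem _ ?_ ?_
        · have := res_mem_pullSpan h M (inf_le_left : W₁ ⊓ W₂ ≤ W₁) h₁
          rwa [OmegaSh.resM_resM] at this
        · have := res_mem_pullSpan h M (inf_le_right : W₁ ⊓ W₂ ≤ W₂) h₂
          rwa [OmegaSh.resM_resM] at this
      smul_mem' := by
        intro r a ha z hz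
        obtain ⟨W₁, hW₁, hz₁, h₁⟩ := ha z hz
        refine ⟨W₁, hW₁, hz₁, ?_⟩
        rw [Scheme.Modules.map_smul]
        exact Submodule.smul_mem _ _ h₁ }
  res_mem := by
    intro T T' hT s hs z hz
    obtain ⟨W₁, hW₁, hz₁, h₁⟩ := hs z (hT hz)
    refine ⟨W₁ ⊓ T', inf_le_right, ⟨hz₁, hz⟩, ?_⟩
    rw [OmegaSh.resM_resM]
    have := res_mem_pullSpan h M (inf_le_left : W₁ ⊓ T' ≤ W₁) h₁
    rwa [OmegaSh.resM_resM] at this

theorem isLocal_locSpan : (locSpan h M).IsLocal := by
  intro T s hs z hz
  obtain ⟨T', hT', hzT', h'⟩ := hs z hz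
  obtain ⟨W₁, hW₁, hz₁, h₁⟩ := h' z hzT'
  refine ⟨W₁, hW₁.trans hT', hz₁, ?_⟩
  rwa [OmegaSh.resM_resM] at h₁

theorem pullSect_mem_locSpan (U : X.Opens) (m : Γ(M, U)) :
    OmegaSh.pullSect h M U m ∈ (locSpan h M).obj (h ⁻¹ᵁ U) := by
  intro z hz
  refine ⟨h ⁻¹ᵁ U, le_rfl, hz, Submodule.subset_span ⟨U, le_rfl, m, rfl⟩⟩

/-- **Every section of `h^* M` is locally a combination of pulled back sections.** -/
theorem mem_locSpan {W : Z.Opens} (e : Γ((Scheme.Modules.pullback h).obj M, W)) :
    e ∈ (locSpan h M).obj W := by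
  set N := locSpan h M with hN
  have hloc := isLocal_locSpan h M
  set T := N.toMod hloc with hT
  set ι := N.ι hloc with hι
  set adj := Scheme.Modules.pullbackPushforwardAdjunction h with hadj
  obtain ⟨k, hk⟩ := exists_factor_of_range_le (adj.unit.app M)
    ((Scheme.Modules.pushforward h).map ι) (by
      intro U m
      exact ⟨N.sec hloc ⟨OmegaSh.pullSect h M U m, pullSect_mem_locSpan h M U m⟩, rfl⟩)
  set k' := (adj.homEquiv M T).symm k with hk'
  have hkι : k' ≫ ι = 𝟙 _ := by
    apply (adj.homEquiv _ _).injective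
    rw [Adjunction.homEquiv_naturality_right, hk', Equiv.apply_symm_apply, hk,
      Adjunction.homEquiv_unit, CategoryTheory.Functor.map_id]
    exact (Category.comp_id _).symm
  have h1 : ι.app W (k'.app W e) = e := by
    have := congr(($hkι).app W e)
    exact this
  rw [← h1]
  exact N.val_mem hloc _

/-- Concrete form. -/
theorem exists_mem_pullSpan {W : Z.Opens} (e : Γ((Scheme.Modules.pullback h).obj M, W))
    (z : Z) (hz : z ∈ W) :
    ∃ (W' : Z.Opens) (hW' : W' ≤ W), z ∈ W' ∧
      ((Scheme.Modules.pullback h).obj M).presheaf.map (homOfLE hW').op e ∈ pullSpan h M W' :=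
  mem_locSpan h M e z hz

end Groth.Agent.Lib.Helper48.PullGen
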