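import Groth.Agent.Lib.Helper48.PnLocal2
import Groth.Agent.Lib.Helper48.PullGen
import Groth.Agent.Lib.Helper48.Conormal1

/-!
# `P^n_{X/S}(F)` is generated by the image of `d^n` (EGA IV 16.7.5 / 16.3.9, any `O_X`-module `F`)
-/

set_option autoImplicit false
universe u

open CategoryTheory CategoryTheory.Limits AlgebraicGeometry TopologicalSpace

namespace Groth.Agent.Lib.Helper48.PnGen

open Scheme Groth.Agent.Lib.Helper48.OmegaAff Groth.Agent.Lib.Helper48.PnLocal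
  Groth.Agent.Lib.Helper48.PullGen

variable {X S : Scheme.{u}} (f : X ⟶ S) (n : ℕ) (F : X.Modules)

theorem pr1_toNbhd_apply (x : X) : PrinPart.pr1 f n (PrinPart.toNbhd f n x) = x := by
  rw [← Scheme.Hom.comp_apply, PrinPart.toNbhd_pr1]
  rfl

theorem toNbhd_pr1_apply (z : ↥(PrinPart.nbhd f n)) :
    PrinPart.toNbhd f n (PrinPart.pr1 f n z) = z := by
  obtain ⟨y, rfl⟩ := PrinPart.toInfNbhd_surjective (PrinPart.diagCl f) n z
  change PrinPart.toNbhd f n (PrinPart.pr1 f n (PrinPart.toNbhd f n y)) = PrinPart.toNbhd f n y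
  rw [pr1_toNbhd_apply]

theorem pr2_toNbhd_apply (x : X) : PrinPart.pr2 f n (PrinPart.toNbhd f n x) = x := by
  rw [← Scheme.Hom.comp_apply, PrinPart.toNbhd_pr2]
  rfl

theorem pr1_preimage_le {U : X.Opens} {W : (PrinPart.nbhd f n).Opens}
    (h : U ≤ PrinPart.toNbhd f n ⁻¹ᵁ W) : PrinPart.pr1 f n ⁻¹ᵁ U ≤ W := by
  intro z hz
  have : PrinPart.toNbhd f n (PrinPart.pr1 f n z) ∈ W := h hz
  rwa [toNbhd_pr1_apply] at this

/-- The module `p₂^* F` on the infinitesimal neighbourhood. -/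
noncomputable abbrev NMod : (PrinPart.nbhd f n).Modules :=
  (Scheme.Modules.pullback (PrinPart.pr2 f n)).obj F

/-- The action of functions on the neighbourhood on sections of `P^n(F)`. -/
noncomputable def zAct (U : X.Opens) (c : Γ(PrinPart.nbhd f n, PrinPart.pr1 f n ⁻¹ᵁ U))
    (s : Γ(PrinPart.PMod f n F, U)) : Γ(PrinPart.PMod f n F, U) :=
  (show Γ(NMod f n F, PrinPart.pr1 f n ⁻¹ᵁ U) from
    c • (show Γ(NMod f n F, PrinPart.pr1 f n ⁻¹ᵁ U) from s))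

theorem zAct_app (U : X.Opens) (b : Γ(X, U)) (s : Γ(PrinPart.PMod f n F, U)) :
    zAct f n F U ((PrinPart.pr1 f n).app U b) s = b • s := rfl

theorem zAct_add (U : X.Opens) (c c' : Γ(PrinPart.nbhd f n, PrinPart.pr1 f n ⁻¹ᵁ U))
    (s : Γ(PrinPart.PMod f n F, U)) :
    zAct f n F U (c + c') s = zAct f n F U c s + zAct f n F U c' s :=
  add_smul c c' (show Γ(NMod f n F, PrinPart.pr1 f n ⁻¹ᵁ U) from s)

theorem zAct_zero (U : X.Opens) (s : Γ(PrinPart.PMod f n F, U)) :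
    zAct f n F U 0 s = 0 :=
  zero_smul _ (show Γ(NMod f n F, PrinPart.pr1 f n ⁻¹ᵁ U) from s)

theorem zAct_neg (U : X.Opens) (c : Γ(PrinPart.nbhd f n, PrinPart.pr1 f n ⁻¹ᵁ U))
    (s : Γ(PrinPart.PMod f n F, U)) :
    zAct f n F U (-c) s = - zAct f n F U c s :=
  neg_smul c (show Γ(NMod f n F, PrinPart.pr1 f n ⁻¹ᵁ U) from s)

theorem zAct_mul (U : X.Opens) (c c' : Γ(PrinPart.nbhd f n, PrinPart.pr1 f n ⁻¹ᵁ U))
    (s : Γ(PrinPart.PMod f n F, U)) :
    zAct f n F U (c * c') s = zAct f n F U c (zAct f n F U c' s) :=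
  mul_smul c c' (show Γ(NMod f n F, PrinPart.pr1 f n ⁻¹ᵁ U) from s)

theorem zAct_add_right (U : X.Opens) (c : Γ(PrinPart.nbhd f n, PrinPart.pr1 f n ⁻¹ᵁ U))
    (s s' : Γ(PrinPart.PMod f n F, U)) :
    zAct f n F U c (s + s') = zAct f n F U c s + zAct f n F U c s' :=
  smul_add c (show Γ(NMod f n F, PrinPart.pr1 f n ⁻¹ᵁ U) from s)
    (show Γ(NMod f n F, PrinPart.pr1 f n ⁻¹ᵁ U) from s')

theorem zAct_zero_right (U : X.Opens) (c : Γ(PrinPart.nbhd f n, PrinPart.pr1 f n ⁻¹ᵁ U)) :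
    zAct f n F U c 0 = 0 :=
  (smul_zero c : c • (0 : Γ(NMod f n F, PrinPart.pr1 f n ⁻¹ᵁ U)) = 0)

theorem zAct_smul_right (U : X.Opens) (c : Γ(PrinPart.nbhd f n, PrinPart.pr1 f n ⁻¹ᵁ U))
    (a : Γ(X, U)) (s : Γ(PrinPart.PMod f n F, U)) :
    zAct f n F U c (a • s) = a • zAct f n F U c s :=
  smul_comm c ((PrinPart.pr1 f n).app U a) (show Γ(NMod f n F, PrinPart.pr1 f n ⁻¹ᵁ U) from s)

theorem zAct_pr2_dP (U : X.Opens) (b' : Γ(X, U)) (t : Γ(F, U)) :
    zAct f n F U ((PrinPart.pr2 f n).appLE U (PrinPart.pr1 f n ⁻¹ᵁ U)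
      (PrinPart.preimage_pr1 f n U).le b') (PrinPart.dP f n F U t) =
      PrinPart.dP f n F U (b' • t) := by
  rw [PrinPart.dP_apply, PrinPart.dP_apply, OmegaSh.pullSect_smul, Scheme.Modules.map_smul]
  rfl

theorem map_zAct {U U' : X.Opens} (h : U' ≤ U)
    (c : Γ(PrinPart.nbhd f n, PrinPart.pr1 f n ⁻¹ᵁ U)) (s : Γ(PrinPart.PMod f n F, U)) :
    (PrinPart.PMod f n F).presheaf.map (homOfLE h).op (zAct f n F U c s) =
      zAct f n F U' ((PrinPart.nbhd f n).presheaf.map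
        (homOfLE ((PrinPart.pr1 f n).preimage_mono h)).op c)
        ((PrinPart.PMod f n F).presheaf.map (homOfLE h).op s) :=
  Scheme.Modules.map_smul (M := NMod f n F)
    (homOfLE ((PrinPart.pr1 f n).preimage_mono h)) c
    (show Γ(NMod f n F, PrinPart.pr1 f n ⁻¹ᵁ U) from s)

/-- The `O_X(U)`-span of the image of `d^n`. -/
noncomputable def spanD (U : X.Opens) : Submodule Γ(X, U) Γ(PrinPart.PMod f n F, U) :=
  Submodule.span Γ(X, U) (Set.range (PrinPart.dP f n F U))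

theorem res_mem_spanD {U U' : X.Opens} (h : U' ≤ U) {s : Γ(PrinPart.PMod f n F, U)}
    (hs : s ∈ spanD f n F U) :
    (PrinPart.PMod f n F).presheaf.map (homOfLE h).op s ∈ spanD f n F U' := by
  induction hs using Submodule.span_induction with
  | mem x hx =>
    obtain ⟨t, rfl⟩ := hx
    rw [← PrinPart.dP_map]
    exact Submodule.subset_span ⟨_, rfl⟩
  | zero => rw [map_zero]; exact Submodule.zero_mem _
  | add x y _ _ hx hy => rw [map_add]; exact Submodule.add_mem _ hx hy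
  | smul a x _ hx =>
    rw [Scheme.Modules.map_smul]
    exact Submodule.smul_mem _ _ hx

theorem zAct_pr2_mem (U : X.Opens) (b' : Γ(X, U)) {s : Γ(PrinPart.PMod f n F, U)}
    (hs : s ∈ spanD f n F U) :
    zAct f n F U ((PrinPart.pr2 f n).appLE U (PrinPart.pr1 f n ⁻¹ᵁ U)
      (PrinPart.preimage_pr1 f n U).le b') s ∈ spanD f n F U := by
  induction hs using Submodule.span_induction with
  | mem x hx =>
    obtain ⟨t, rfl⟩ := hx
    rw [zAct_pr2_dP]
    exact Submodule.subset_span ⟨_, rfl⟩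
  | zero => rw [zAct_zero_right]; exact Submodule.zero_mem _
  | add x y _ _ hx hy => rw [zAct_add_right]; exact Submodule.add_mem _ hx hy
  | smul a x _ hx =>
    rw [zAct_smul_right]
    exact Submodule.smul_mem _ _ hx

theorem zAct_mem_of_closure (U : X.Opens)
    {c : Γ(PrinPart.nbhd f n, PrinPart.pr1 f n ⁻¹ᵁ U)}
    (hc : c ∈ AddSubgroup.closure (prods f n U (PrinPart.pr1 f n ⁻¹ᵁ U) le_rfl))
    {s : Γ(PrinPart.PMod f n F, U)} (hs : s ∈ spanD f n F U) :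
    zAct f n F U c s ∈ spanD f n F U := by
  induction hc using AddSubgroup.closure_induction with
  | mem x hx =>
    obtain ⟨b, b', rfl⟩ := hx
    rw [zAct_mul, Scheme.Hom.appLE_eq_app, zAct_app]
    exact Submodule.smul_mem _ _ (zAct_pr2_mem f n F U b' hs)
  | zero => rw [zAct_zero]; exact Submodule.zero_mem _
  | add x y _ _ hx hy => rw [zAct_add]; exact Submodule.add_mem _ hx hy
  | neg x _ hx => rw [zAct_neg]; exact Submodule.neg_mem _ hx

/-- A section of `p₂^* F` over `p₁⁻¹ U`, as a section of `P^n(F)` over `U`. -/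
noncomputable def toP (U : X.Opens) (s : Γ(NMod f n F, PrinPart.pr1 f n ⁻¹ᵁ U)) :
    Γ(PrinPart.PMod f n F, U) := s

theorem map_toP {U U' : X.Opens} (h : U' ≤ U) (s : Γ(NMod f n F, PrinPart.pr1 f n ⁻¹ᵁ U)) :
    (PrinPart.PMod f n F).presheaf.map (homOfLE h).op (toP f n F U s) =
      toP f n F U' ((NMod f n F).presheaf.map
        (homOfLE ((PrinPart.pr1 f n).preimage_mono h)).op s) := rfl

theorem toP_add (U : X.Opens) (s s' : Γ(NMod f n F, PrinPart.pr1 f n ⁻¹ᵁ U)) :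
    toP f n F U (s + s') = toP f n F U s + toP f n F U s' := rfl

theorem toP_zero (U : X.Opens) : toP f n F U 0 = 0 := rfl

theorem toP_smul (U : X.Opens) (c : Γ(PrinPart.nbhd f n, PrinPart.pr1 f n ⁻¹ᵁ U))
    (s : Γ(NMod f n F, PrinPart.pr1 f n ⁻¹ᵁ U)) :
    toP f n F U (c • s) = zAct f n F U c (toP f n F U s) := rfl

theorem dP_eq_toP (U : X.Opens) (t : Γ(F, U)) :
    PrinPart.dP f n F U t = toP f n F U ((NMod f n F).presheaf.map
      (homOfLE (PrinPart.preimage_pr1 f n U).le).op (OmegaSh.pullSect (PrinPart.pr2 f n) F U t)) :=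
  rfl

/-- **Local generation of `P^n(F)` by the image of `d^n`.** -/
theorem exists_mem_spanD {U : X.Opens} (e : Γ(PrinPart.PMod f n F, U)) (x : X) (hx : x ∈ U) :
    ∃ (U' : X.Opens) (hU' : U' ≤ U), x ∈ U' ∧
      (PrinPart.PMod f n F).presheaf.map (homOfLE hU').op e ∈ spanD f n F U' := by
  set p1 := PrinPart.pr1 f n with hp1
  set p2 := PrinPart.pr2 f n with hp2
  set t := PrinPart.toNbhd f n with ht
  have hz : t x ∈ p1 ⁻¹ᵁ U := by
    change p1 (t x) ∈ U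
    rw [pr1_toNbhd_apply]; exact hx
  let e' : Γ(NMod f n F, p1 ⁻¹ᵁ U) := e
  have hee' : e = toP f n F U e' := rfl
  obtain ⟨W', hW', hzW', he⟩ := exists_mem_pullSpan p2 F e' (t x) hz
  -- the induction
  have key : ∀ s ∈ pullSpan p2 F W', ∃ (U' : X.Opens), x ∈ U' ∧ U' ≤ U ∧
      ∃ (hW : p1 ⁻¹ᵁ U' ≤ W'),
        toP f n F U' ((NMod f n F).presheaf.map (homOfLE hW).op s) ∈ spanD f n F U' := by
    intro s hs
    induction hs using Submodule.span_induction with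
    | mem y hy =>
      obtain ⟨U₀, hU₀, m, rfl⟩ := hy
      have hxU₀ : x ∈ U₀ := by
        have : p2 (t x) ∈ U₀ := hU₀ hzW'
        rwa [pr2_toNbhd_apply] at this
      refine ⟨U ⊓ U₀ ⊓ t ⁻¹ᵁ W', ⟨⟨hx, hxU₀⟩, hzW'⟩, inf_le_left.trans inf_le_left,
        pr1_preimage_le f n inf_le_right, ?_⟩
      have h1 : PrinPart.dP f n F (U ⊓ U₀ ⊓ t ⁻¹ᵁ W')
          (F.presheaf.map (homOfLE (inf_le_left.trans inf_le_right :
            U ⊓ U₀ ⊓ t ⁻¹ᵁ W' ≤ U₀)).op m) =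
          toP f n F _ ((NMod f n F).presheaf.map
            (homOfLE (pr1_preimage_le f n inf_le_right)).op
            ((NMod f n F).presheaf.map (homOfLE hU₀).op (OmegaSh.pullSect p2 F U₀ m))) := by
        rw [dP_eq_toP, OmegaSh.pullSect_map, OmegaSh.resM_resM, OmegaSh.resM_resM]
        rfl
      rw [← h1]
      exact Submodule.subset_span ⟨_, rfl⟩
    | zero =>
      refine ⟨U ⊓ t ⁻¹ᵁ W', ⟨hx, hzW'⟩, inf_le_left, pr1_preimage_le f n inf_le_right, ?_⟩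
      rw [map_zero, toP_zero]
      exact Submodule.zero_mem _
    | add y y' _ _ hy hy' =>
      obtain ⟨U₁, hx₁, hU₁, hW₁, h₁⟩ := hy
      obtain ⟨U₂, hx₂, hU₂, hW₂, h₂⟩ := hy'
      refine ⟨U₁ ⊓ U₂, ⟨hx₁, hx₂⟩, inf_le_left.trans hU₁,
        (p1.preimage_mono inf_le_left).trans hW₁, ?_⟩
      rw [map_add, toP_add]
      refine Submodule.add_mem _ ?_ ?_
      · have := res_mem_spanD f n F (inf_le_left : U₁ ⊓ U₂ ≤ U₁) h₁
        rwa [map_toP, OmegaSh.resM_resM] at this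
      · have := res_mem_spanD f n F (inf_le_right : U₁ ⊓ U₂ ≤ U₂) h₂
        rwa [map_toP, OmegaSh.resM_resM] at this
    | smul c y _ hy =>
      obtain ⟨U₁, hx₁, hU₁, hW₁, h₁⟩ := hy
      obtain ⟨V, hV, hxV⟩ : ∃ V : S.Opens, IsAffineOpen V ∧ f x ∈ V := by
        obtain ⟨_, ⟨V, hV : IsAffineOpen V, rfl⟩, hxV, -⟩ :=
          (isBasis_affineOpens S).exists_subset_of_mem_open (Set.mem_univ (f x)) isOpen_univ
        exact ⟨V, hV, hxV⟩
      obtain ⟨U₂, hU₂, hx₂, hU₂le⟩ : ∃ U₂ : X.Opens, IsAffineOpen U₂ ∧ x ∈ U₂ ∧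
          U₂ ≤ U₁ ⊓ f ⁻¹ᵁ V := by
        obtain ⟨_, ⟨U₂, hU₂ : IsAffineOpen U₂, rfl⟩, hx₂, hle⟩ :=
          (isBasis_affineOpens X).exists_subset_of_mem_open
            (show x ∈ ((U₁ ⊓ f ⁻¹ᵁ V : X.Opens) : Set X) from ⟨hx₁, hxV⟩) (U₁ ⊓ f ⁻¹ᵁ V).isOpen
        exact ⟨U₂, hU₂, hx₂, hle⟩
      have hU₂₁ : U₂ ≤ U₁ := hU₂le.trans inf_le_left
      refine ⟨U₂, hx₂, hU₂₁.trans hU₁, (p1.preimage_mono hU₂₁).trans hW₁, ?_⟩
      rw [Scheme.Modules.map_smul, toP_smul]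
      have hc := mem_closure_prods f n hU₂ hV (hU₂le.trans inf_le_right)
        ((PrinPart.nbhd f n).presheaf.map (homOfLE ((p1.preimage_mono hU₂₁).trans hW₁)).op c)
      have hy₂ := res_mem_spanD f n F hU₂₁ h₁
      rw [map_toP, OmegaSh.resM_resM] at hy₂
      exact zAct_mem_of_closure f n F U₂ hc hy₂
  obtain ⟨U', hxU', hU'U, hW, hmem⟩ := key _ he
  refine ⟨U', hU'U, hxU', ?_⟩
  rw [OmegaSh.resM_resM] at hmem
  rw [hee', map_toP]
  exact hmem

end Groth.Agent.Lib.Helper48.PnGen
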