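import Groth.Agent.Lib.Helper48.SectFinite
import Groth.Agent.Lib.Helper48.Nbhd6

/-!
# Local structure of the infinitesimal neighbourhoods of the diagonal, I

For `U ⊆ X` affine lying over an affine open of `S`, the product open `U ×_S U` of `X ×_S X` lies in
the open where the diagonal is closed, and `Γ(U) ⊗ Γ(U) → Γ(X^{(n)}_Δ, p₁⁻¹ U)` is surjective.
-/

set_option autoImplicit false
universe u

open CategoryTheory CategoryTheory.Limits AlgebraicGeometry TopologicalSpace

namespace Groth.Agent.Lib.Helper48.PnLocal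

open Scheme Groth.Agent.Lib.Helper48.OmegaAff Groth.Agent.Lib.Helper48.Nbhd

/-- A pushout of commutative rings is additively generated by the products of the images of the
two legs. -/
theorem pushout_mem_closure {A B A' C : CommRingCat.{u}} {φ : A ⟶ B} {ψ : A ⟶ A'} {p₁ : B ⟶ C}
    {p₂ : A' ⟶ C} (H : IsPushout φ ψ p₁ p₂) (c : C) :
    c ∈ AddSubgroup.closure {x : C | ∃ (b : B) (a : A'), x = p₁ b * p₂ a} := by
  let _ := φ.hom.toAlgebra
  let _ := ψ.hom.toAlgebra
  let e := (CommRingCat.isPushout_tensorProduct A B A').isoIsPushout _ _ H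
  have he₁ : ∀ b : B, e.hom (b ⊗ₜ 1) = p₁ b := fun b =>
    congr($((CommRingCat.isPushout_tensorProduct A B A').inl_isoIsPushout_hom _ _ H) b)
  have he₂ : ∀ a : A', e.hom (1 ⊗ₜ a) = p₂ a := fun a =>
    congr($((CommRingCat.isPushout_tensorProduct A B A').inr_isoIsPushout_hom _ _ H) a)
  have he : ∀ (b : B) (a : A'), e.hom (b ⊗ₜ a) = p₁ b * p₂ a := by
    intro b a
    rw [← he₁, ← he₂, ← map_mul, Algebra.TensorProduct.tmul_mul_tmul, mul_one, one_mul]
  have hc : c = e.hom (e.inv c) := (congr($(e.inv_hom_id) c)).symm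
  rw [hc]
  generalize e.inv c = t
  induction t using TensorProduct.induction_on with
  | zero => rw [map_zero]; exact AddSubgroup.zero_mem _
  | tmul b a => rw [he]; exact AddSubgroup.subset_closure ⟨b, a, rfl⟩
  | add x y hx hy => rw [map_add]; exact AddSubgroup.add_mem _ hx hy

variable {X S : Scheme.{u}} (f : X ⟶ S)

/-- The product open `U ×_S U` of `X ×_S X`. -/
noncomputable abbrev prodO (U : X.Opens) : (pullback f f).Opens :=
  pullback.fst f f ⁻¹ᵁ U ⊓ pullback.snd f f ⁻¹ᵁ U

theorem diagonal_preimage_prodO (U : X.Opens) : pullback.diagonal f ⁻¹ᵁ prodO f U = U := by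
  ext x
  change (pullback.diagonal f ≫ pullback.fst f f) x ∈ U ∧
    (pullback.diagonal f ≫ pullback.snd f f) x ∈ U ↔ x ∈ U
  rw [pullback.diagonal_fst, pullback.diagonal_snd]
  exact and_self_iff

section Affine

variable {U : X.Opens} {V : S.Opens} (hU : IsAffineOpen U) (hV : IsAffineOpen V)
  (hUV : U ≤ f ⁻¹ᵁ V)

include hU hV hUV in
theorem isAffineOpen_prodO : IsAffineOpen (prodO f U) :=
  isAffineOpen_prodOpen (IsPullback.of_hasPullback f f) hU hV hU hUV hUV

include hU hV in
theorem isPushout_prodO :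
    IsPushout (f.appLE V U hUV) (f.appLE V U hUV)
      ((pullback.fst f f).appLE U (prodO f U) inf_le_left)
      ((pullback.snd f f).appLE U (prodO f U) inf_le_right) :=
  isPushout_prodOpen (IsPullback.of_hasPullback f f) hU hV hU hUV hUV

theorem diagonal_appLE_surjective (U : X.Opens) :
    Function.Surjective ((pullback.diagonal f).appLE (prodO f U) U
      (diagonal_preimage_prodO f U).ge) := by
  intro b
  refine ⟨(pullback.fst f f).appLE U (prodO f U) inf_le_left b, ?_⟩
  rw [← CommRingCat.comp_apply, Scheme.Hom.appLE_comp_appLE]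
  have : ∀ (q : X ⟶ X) (hq : q = 𝟙 X) (e : U ≤ q ⁻¹ᵁ U), q.appLE U U e = 𝟙 _ := by
    intro q hq e
    subst hq
    exact id_appLE' U e
  rw [this _ (pullback.diagonal_fst f)]
  rfl

include hU hV hUV in
/-- In the product open of affines, the diagonal is closed. -/
theorem mem_range_of_mem_closure (y : ↥(pullback f f)) (hy : y ∈ prodO f U)
    (hcl : y ∈ closure (Set.range (pullback.diagonal f))) :
    y ∈ Set.range (pullback.diagonal f) := by
  set O := prodO f U with hO
  have hOa : IsAffineOpen O := isAffineOpen_prodO f hU hV hUV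
  haveI : IsAffine O.toScheme := hOa
  haveI : IsAffine U.toScheme := hU
  set δ := (pullback.diagonal f).resLE O U (diagonal_preimage_prodO f U).ge with hδ
  haveI : IsClosedImmersion δ := by
    apply IsClosedImmersion.of_surjective_of_isAffine
    have key : δ.appTop = O.topIso.hom ≫ (pullback.diagonal f).appLE O U
        (diagonal_preimage_prodO f U).ge ≫ U.topIso.inv := Scheme.Hom.resLE_app_top ..
    rw [key]
    intro c
    obtain ⟨t, ht⟩ := diagonal_appLE_surjective f U (U.topIso.hom c)
    refine ⟨O.topIso.inv t, ?_⟩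
    rw [CommRingCat.comp_apply, CommRingCat.comp_apply]
    have h1 : O.topIso.hom (O.topIso.inv t) = t := congr($(O.topIso.inv_hom_id) t)
    rw [h1, ht]
    exact congr($(U.topIso.hom_inv_id) c)
  have hclosed : IsClosed (Set.range δ) := δ.isClosedEmbedding.isClosed_range
  have hrange : Set.range δ = {z : O | z.1 ∈ Set.range (pullback.diagonal f)} := by
    ext z
    constructor
    · rintro ⟨x, rfl⟩
      exact ⟨x.1, (Scheme.Hom.coe_resLE_apply _ _ x).symm⟩
    · rintro ⟨x, hx⟩
      have hxU : x ∈ U := by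
        rw [← diagonal_preimage_prodO f U]
        change pullback.diagonal f x ∈ O
        rw [hx]; exact z.2
      refine ⟨⟨x, hxU⟩, Subtype.ext ?_⟩
      rw [Scheme.Hom.coe_resLE_apply]
      exact hx
  rw [hrange] at hclosed
  obtain ⟨C, hC, hCO⟩ := isClosed_induced_iff.mp hclosed
  have h1 : y ∈ closure ((O : Set ↥(pullback f f)) ∩ Set.range (pullback.diagonal f)) :=
    O.isOpen.inter_closure ⟨hy, hcl⟩
  have h2 : (O : Set ↥(pullback f f)) ∩ Set.range (pullback.diagonal f) ⊆ C := by
    rintro z ⟨hzO, hzR⟩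
    exact (Set.ext_iff.mp hCO ⟨z, hzO⟩).mpr hzR
  have h3 : y ∈ C := (closure_minimal h2 hC) h1
  exact (Set.ext_iff.mp hCO ⟨y, hy⟩).mp h3

include hU hV hUV in
theorem prodO_le_coborderRange : prodO f U ≤ (pullback.diagonal f).coborderRange := by
  intro y hy
  change y ∈ coborder (Set.range (pullback.diagonal f))
  rw [coborder, Set.mem_compl_iff, Set.mem_diff, not_and, not_not]
  exact mem_range_of_mem_closure f hU hV hUV y hy

end Affine

end Groth.Agent.Lib.Helper48.PnLocal
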