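import Groth.Agent.Lib.Helper48.PnLocal1

/-!
# Local structure of the infinitesimal neighbourhoods of the diagonal, II

`Γ(U) ⊗ Γ(U) → Γ(X^{(n)}_Δ, p₁⁻¹ U)` is surjective for `U` affine over an affine of `S`.
-/

set_option autoImplicit false
universe u

open CategoryTheory CategoryTheory.Limits AlgebraicGeometry TopologicalSpace

namespace Groth.Agent.Lib.Helper48.PnLocal

open Scheme Groth.Agent.Lib.Helper48.OmegaAff Groth.Agent.Lib.Helper48.Nbhd

variable {X S : Scheme.{u}} (f : X ⟶ S) (n : ℕ)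

theorem nbhdι_preimage_prodO (U : X.Opens) :
    PrinPart.nbhdι f n ⁻¹ᵁ prodO f U = PrinPart.pr1 f n ⁻¹ᵁ U := by
  change PrinPart.nbhdι f n ⁻¹ᵁ (pullback.fst f f ⁻¹ᵁ U) ⊓
    PrinPart.nbhdι f n ⁻¹ᵁ (pullback.snd f f ⁻¹ᵁ U) = _
  rw [← Scheme.Hom.comp_preimage, ← Scheme.Hom.comp_preimage]
  change PrinPart.pr1 f n ⁻¹ᵁ U ⊓ PrinPart.pr2 f n ⁻¹ᵁ U = _
  rw [← PrinPart.preimage_pr1, inf_idem]

section Affine

variable {U : X.Opens} {V : S.Opens} (hU : IsAffineOpen U) (hV : IsAffineOpen V)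
  (hUV : U ≤ f ⁻¹ᵁ V)

include hU hV hUV in
theorem nbhdι_app_surjective :
    Function.Surjective ((PrinPart.nbhdι f n).app (prodO f U)) := by
  set Uc := (pullback.diagonal f).coborderRange with hUc
  have hle : prodO f U ≤ Uc.ι.opensRange := by
    rw [Scheme.Opens.opensRange_ι]
    exact prodO_le_coborderRange f hU hV hUV
  have hOa : IsAffineOpen (prodO f U) := isAffineOpen_prodO f hU hV hUV
  have hO' : IsAffineOpen (Uc.ι ⁻¹ᵁ prodO f U) := hOa.preimage_of_isOpenImmersion Uc.ι hle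
  haveI : IsIso (Uc.ι.app (prodO f U)) := Scheme.Hom.isIso_app Uc.ι _ hle
  have h1 : Function.Surjective (Uc.ι.app (prodO f U)) :=
    ((ConcreteCategory.isIso_iff_bijective _).mp inferInstance).2
  haveI : IsClosedImmersion (PrinPart.infNbhdι (PrinPart.diagCl f) n) := by
    unfold PrinPart.infNbhdι; infer_instance
  have h2 : Function.Surjective
      ((PrinPart.infNbhdι (PrinPart.diagCl f) n).app (Uc.ι ⁻¹ᵁ prodO f U)) :=
    Scheme.Hom.app_surjective _ _ hO'
  have h3 : (PrinPart.nbhdι f n).app (prodO f U) = Uc.ι.app (prodO f U) ≫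
      (PrinPart.infNbhdι (PrinPart.diagCl f) n).app (Uc.ι ⁻¹ᵁ prodO f U) := by
    unfold PrinPart.nbhdι
    exact Scheme.Hom.comp_app _ _ _
  intro c
  obtain ⟨b, hb⟩ := h2 c
  obtain ⟨a, ha⟩ := h1 b
  refine ⟨a, (congr($h3 a)).trans ?_⟩
  change (PrinPart.infNbhdι (PrinPart.diagCl f) n).app (Uc.ι ⁻¹ᵁ prodO f U)
    (Uc.ι.app (prodO f U) a) = c
  rw [ha, hb]

/-- The set of products `p₁♯(b) · p₂♯(b')` in `Γ(X^{(n)}_Δ, W)`, `b, b' ∈ Γ(X, U)`. -/
def prods (U : X.Opens) (W : (PrinPart.nbhd f n).Opens) (hW : W ≤ PrinPart.pr1 f n ⁻¹ᵁ U) :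
    Set Γ(PrinPart.nbhd f n, W) :=
  {x | ∃ b b' : Γ(X, U), x = (PrinPart.pr1 f n).appLE U W hW b *
    (PrinPart.pr2 f n).appLE U W (hW.trans (PrinPart.preimage_pr1 f n U).le) b'}

include hU hV hUV in
theorem mem_closure_prods_aux (c : Γ(PrinPart.nbhd f n, PrinPart.nbhdι f n ⁻¹ᵁ prodO f U)) :
    c ∈ AddSubgroup.closure (prods f n U (PrinPart.nbhdι f n ⁻¹ᵁ prodO f U)
      (nbhdι_preimage_prodO f n U).le) := by
  obtain ⟨t, rfl⟩ := nbhdι_app_surjective f n hU hV hUV c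
  have ht := pushout_mem_closure (isPushout_prodO f hU hV hUV) t
  induction ht using AddSubgroup.closure_induction with
  | mem x hx =>
    obtain ⟨b, b', rfl⟩ := hx
    apply AddSubgroup.subset_closure
    refine ⟨b, b', ?_⟩
    rw [map_mul]
    congr 1
    · rw [← CommRingCat.comp_apply, ← Scheme.Hom.appLE_eq_app, Scheme.Hom.appLE_comp_appLE]
      rfl
    · rw [← CommRingCat.comp_apply, ← Scheme.Hom.appLE_eq_app, Scheme.Hom.appLE_comp_appLE]
      rfl
  | zero => rw [map_zero]; exact AddSubgroup.zero_mem _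
  | add x y _ _ hx hy => rw [map_add]; exact AddSubgroup.add_mem _ hx hy
  | neg x _ hx => rw [map_neg]; exact AddSubgroup.neg_mem _ hx

theorem prods_map (U : X.Opens) {W W' : (PrinPart.nbhd f n).Opens}
    (hW : W ≤ PrinPart.pr1 f n ⁻¹ᵁ U) (hW' : W' ≤ W) {x : Γ(PrinPart.nbhd f n, W)}
    (hx : x ∈ AddSubgroup.closure (prods f n U W hW)) :
    (PrinPart.nbhd f n).presheaf.map (homOfLE hW').op x ∈
      AddSubgroup.closure (prods f n U W' (hW'.trans hW)) := by
  induction hx using AddSubgroup.closure_induction with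
  | mem x hx =>
    obtain ⟨b, b', rfl⟩ := hx
    apply AddSubgroup.subset_closure
    refine ⟨b, b', ?_⟩
    rw [map_mul]
    congr 1
    · rw [← CommRingCat.comp_apply, Scheme.Hom.appLE_map]
    · rw [← CommRingCat.comp_apply, Scheme.Hom.appLE_map]
  | zero => rw [map_zero]; exact AddSubgroup.zero_mem _
  | add x y _ _ hx hy => rw [map_add]; exact AddSubgroup.add_mem _ hx hy
  | neg x _ hx => rw [map_neg]; exact AddSubgroup.neg_mem _ hx

include hU hV hUV in
/-- Every function on `p₁⁻¹ U` is a sum of products `p₁♯(b) · p₂♯(b')`. -/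
theorem mem_closure_prods (c : Γ(PrinPart.nbhd f n, PrinPart.pr1 f n ⁻¹ᵁ U)) :
    c ∈ AddSubgroup.closure (prods f n U (PrinPart.pr1 f n ⁻¹ᵁ U) le_rfl) := by
  have e := nbhdι_preimage_prodO f n U
  have h1 := mem_closure_prods_aux f n hU hV hUV
    ((PrinPart.nbhd f n).presheaf.map (homOfLE e.le).op c)
  have h2 := prods_map f n U e.le e.ge h1
  have h3 : (PrinPart.nbhd f n).presheaf.map (homOfLE e.ge).op
      ((PrinPart.nbhd f n).presheaf.map (homOfLE e.le).op c) = c := by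
    rw [← CommRingCat.comp_apply, ← Functor.map_comp]
    exact congr($((PrinPart.nbhd f n).presheaf.map_id _) c)
  rw [h3] at h2
  exact h2

end Affine

end Groth.Agent.Lib.Helper48.PnLocal
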