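import Groth.Agent.Lib.Helper48.PnNil

/-!
# Nilpotency of the augmentation ideal of `P^n_{X/S}`
-/

set_option autoImplicit false
universe u

open CategoryTheory CategoryTheory.Limits AlgebraicGeometry TopologicalSpace

namespace Groth.Agent.Lib.Helper48.PnNil

open Scheme

theorem id_appLE_eq {X : Scheme.{u}} (g : X ⟶ X) (hg : g = 𝟙 X) {U O : X.Opens} (e : O ≤ g ⁻¹ᵁ U)
    (e' : O ≤ U) : g.appLE U O e = X.presheaf.map (homOfLE e').op := by
  subst hg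
  simp only [Scheme.Hom.appLE, Scheme.Hom.id_app]
  exact Category.id_comp _

theorem retract_appLE_app {X Z : Scheme.{u}} (t : X ⟶ Z) (r : Z ⟶ X) (hr : t ≫ r = 𝟙 X)
    {U : X.Opens} {W : Z.Opens} (e : W ≤ r ⁻¹ᵁ U) (e' : t ⁻¹ᵁ W ≤ U) :
    r.appLE U W e ≫ t.app W = X.presheaf.map (homOfLE e').op := by
  rw [← Scheme.Hom.appLE_eq_app, Scheme.Hom.appLE_comp_appLE]
  exact id_appLE_eq _ hr _ e'

theorem preimage_le_of_retract {X Z : Scheme.{u}} (t : X ⟶ Z) (r : Z ⟶ X) (hr : t ≫ r = 𝟙 X)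
    {U : X.Opens} {W : Z.Opens} (e : W ≤ r ⁻¹ᵁ U) : t ⁻¹ᵁ W ≤ U := by
  intro x hx
  have h1 : r (t x) ∈ U := e hx
  rw [← Scheme.Hom.comp_apply, hr] at h1
  exact h1

/-- Two retractions of `t` have the same comorphism after composing with `t♯`. -/
theorem section_app_eq {X Z : Scheme.{u}} (t : X ⟶ Z) (p q : Z ⟶ X) (hp : t ≫ p = 𝟙 X)
    (hq : t ≫ q = 𝟙 X) {U : X.Opens} {W : Z.Opens} (e₁ : W ≤ p ⁻¹ᵁ U) (e₂ : W ≤ q ⁻¹ᵁ U)
    (a : Γ(X, U)) : t.app W (p.appLE U W e₁ a) = t.app W (q.appLE U W e₂ a) := by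
  have h1 := congr($(retract_appLE_app t p hp e₁ (preimage_le_of_retract t p hp e₁)) a)
  have h2 := congr($(retract_appLE_app t q hq e₂ (preimage_le_of_retract t p hp e₁)) a)
  rw [CommRingCat.comp_apply] at h1 h2
  rw [h1, h2]

variable {X S : Scheme.{u}} (f : X ⟶ S) (n : ℕ)

/-- `p₂♯ a - p₁♯ a`, a section of the augmentation ideal. -/
noncomputable def augDiff {U : X.Opens} {W : (PrinPart.nbhd f n).Opens}
    (hW : W ≤ PrinPart.pr1 f n ⁻¹ᵁ U) (a : Γ(X, U)) : Γ(PrinPart.nbhd f n, W) :=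
  (PrinPart.pr2 f n).appLE U W (hW.trans (PrinPart.preimage_pr1 f n U).le) a -
    (PrinPart.pr1 f n).appLE U W hW a

theorem toNbhd_app_augDiff {U : X.Opens} {W : (PrinPart.nbhd f n).Opens}
    (hW : W ≤ PrinPart.pr1 f n ⁻¹ᵁ U) (a : Γ(X, U)) :
    (PrinPart.toNbhd f n).app W (augDiff f n hW a) = 0 := by
  unfold augDiff
  rw [map_sub, sub_eq_zero]
  exact section_app_eq (PrinPart.toNbhd f n) (PrinPart.pr2 f n) (PrinPart.pr1 f n)
    (PrinPart.toNbhd_pr2 f n) (PrinPart.toNbhd_pr1 f n) _ _ a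

/-- **The product of `n + 1` sections `p₂♯ a - p₁♯ a` vanishes in `P^n`.** -/
theorem prod_augDiff_eq_zero {U : X.Opens} {W : (PrinPart.nbhd f n).Opens}
    (hW : W ≤ PrinPart.pr1 f n ⁻¹ᵁ U) (a : Fin (n + 1) → Γ(X, U)) :
    ∏ k, augDiff f n hW (a k) = 0 :=
  prod_eq_zero (PrinPart.diagCl f) n (fun k => augDiff f n hW (a k))
    (fun k => toNbhd_app_augDiff f n hW (a k))

theorem augDiff_mul_augDiff {U : X.Opens} {W : (PrinPart.nbhd f 1).Opens}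
    (hW : W ≤ PrinPart.pr1 f 1 ⁻¹ᵁ U) (a b : Γ(X, U)) :
    augDiff f 1 hW a * augDiff f 1 hW b = 0 := by
  have := prod_augDiff_eq_zero f 1 hW ![a, b]
  rw [Fin.prod_univ_two] at this
  exact this

end Groth.Agent.Lib.Helper48.PnNil
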