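import Groth.Agent.Lib.Helper48.PushFinite
import Groth.Agent.Lib.Helper2.FinLocFreeAff
import Mathlib.RingTheory.Finiteness.ModuleFinitePresentation
import Mathlib.AlgebraicGeometry.Morphisms.FinitePresentation

/-!
# Finite presentation: pullbacks, pushforwards along finite l.f.p. morphisms, and `p_1^{(n)}`
-/

set_option autoImplicit false
universe u

open CategoryTheory CategoryTheory.Limits AlgebraicGeometry

namespace Groth.Agent.Lib.Helper48.PrFP

open Scheme Groth.Agent.Lib.Helper48.SL Groth.Agent.Lib.Helper48.Nbhd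

/-- The target of a universal semilinear map out of a finitely presented module is finitely
presented. -/
theorem _root_.Groth.Agent.Lib.Helper48.SL.IsUniv.finitePresentation {R S : Type u} [CommRing R]
    [CommRing S] {σ : R →+* S} {M N : Type u} [AddCommGroup M] [Module R M] [AddCommGroup N]
    [Module S N] {β : M →+ N} (h : IsUniv σ β) [Module.FinitePresentation R M] :
    Module.FinitePresentation S N := by
  letI : Algebra R S := σ.toAlgebra
  have h₀ : IsUniv σ (TensorProduct.mk R S M 1).toAddMonoidHom :=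
    IsUniv.of_isBaseChange (TensorProduct.mk R S M 1) (TensorProduct.isBaseChange R M S)
  obtain ⟨φ, hφ, -⟩ := h₀.lift N β h.smul
  have hbij : Function.Bijective φ := h₀.bijective_of_comm h φ hφ
  exact Module.FinitePresentation.of_equiv (LinearEquiv.ofBijective φ hbij)

variable {Z X : Scheme.{u}}

/-- The pullback of a quasi-coherent module of finite presentation is of finite presentation. -/
theorem isFinitePresentation_pullback (g : Z ⟶ X) (F : X.Modules) [F.IsQuasicoherent]
    (hF : SheafOfModules.IsFinitePresentation (R := X.ringCatSheaf) F) :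
    SheafOfModules.IsFinitePresentation (R := Z.ringCatSheaf)
      ((Scheme.Modules.pullback g).obj F) := by
  haveI : ((Scheme.Modules.pullback g).obj F).IsQuasicoherent := inferInstance
  apply Groth.Agent.Lib.Helper2.FinLocFreeAff.isFinitePresentation_of_sections
  intro z
  obtain ⟨U, hU, hzU⟩ : ∃ U : X.Opens, IsAffineOpen U ∧ g z ∈ U := by
    obtain ⟨_, ⟨U, hU : IsAffineOpen U, rfl⟩, hxU, -⟩ :=
      (isBasis_affineOpens X).exists_subset_of_mem_open (Set.mem_univ (g z)) isOpen_univ
    exact ⟨U, hU, hxU⟩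
  obtain ⟨W, hW, hzW, hWU⟩ : ∃ W : Z.Opens, IsAffineOpen W ∧ z ∈ W ∧ W ≤ g ⁻¹ᵁ U := by
    obtain ⟨_, ⟨W, hW : IsAffineOpen W, rfl⟩, hxW, hWU⟩ :=
      (isBasis_affineOpens Z).exists_subset_of_mem_open
        (show z ∈ ((g ⁻¹ᵁ U : Z.Opens) : Set Z) from hzU) (g ⁻¹ᵁ U).isOpen
    exact ⟨W, hW, hxW, hWU⟩
  refine ⟨W, hW, hzW, ?_⟩
  haveI : Module.FinitePresentation Γ(X, U) Γ(F, U) :=
    (Groth.Agent.Lib.Helper2.FinLocFreeAff.isFinitePresentation_iff_sections F).mp hF U hU
  exact (isUniv_pullRes g F hW hU hWU).finitePresentation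

/-- The pushforward of a quasi-coherent module of finite presentation along a finite morphism
locally of finite presentation is of finite presentation. -/
theorem isFinitePresentation_pushforward (p : Z ⟶ X) [IsFinite p] [LocallyOfFinitePresentation p]
    (G : Z.Modules) [G.IsQuasicoherent]
    (hG : SheafOfModules.IsFinitePresentation (R := Z.ringCatSheaf) G) :
    SheafOfModules.IsFinitePresentation (R := X.ringCatSheaf)
      ((Scheme.Modules.pushforward p).obj G) := by
  haveI : ((Scheme.Modules.pushforward p).obj G).IsQuasicoherent :=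
    Groth.Agent.Lib.Lead.QCohPush.isQuasicoherent_pushforward_of_isAffineHom p G
  rw [Groth.Agent.Lib.Helper2.FinLocFreeAff.isFinitePresentation_iff_sections]
  intro U hU
  have hW : IsAffineOpen (p ⁻¹ᵁ U) := hU.preimage p
  haveI h1 : Module.FinitePresentation Γ(Z, p ⁻¹ᵁ U) Γ(G, p ⁻¹ᵁ U) :=
    (Groth.Agent.Lib.Helper2.FinLocFreeAff.isFinitePresentation_iff_sections G).mp hG _ hW
  have h2 : (p.app U).hom.Finite := IsFinite.finite_app p U hU
  have h2' : (p.app U).hom.FinitePresentation := by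
    have := HasRingHomProperty.appLE (P := @LocallyOfFinitePresentation) p inferInstance
      ⟨U, hU⟩ ⟨p ⁻¹ᵁ U, hW⟩ le_rfl
    rwa [Scheme.Hom.appLE_eq_app] at this
  letI : Algebra Γ(X, U) Γ(Z, p ⁻¹ᵁ U) := (p.app U).hom.toAlgebra
  haveI : Module.Finite Γ(X, U) Γ(Z, p ⁻¹ᵁ U) := h2
  haveI : Algebra.FinitePresentation Γ(X, U) Γ(Z, p ⁻¹ᵁ U) := h2'
  haveI : Module.FinitePresentation Γ(X, U) Γ(Z, p ⁻¹ᵁ U) :=
    Module.FinitePresentation.of_finite_of_finitePresentation _ _
  letI : Module Γ(X, U) Γ(G, p ⁻¹ᵁ U) := Module.compHom _ (p.app U).hom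
  haveI : IsScalarTower Γ(X, U) Γ(Z, p ⁻¹ᵁ U) Γ(G, p ⁻¹ᵁ U) :=
    ⟨fun a b m => by
      change (p.app U a * b) • m = p.app U a • b • m
      rw [mul_smul]⟩
  have h3 : Module.FinitePresentation Γ(X, U) Γ(G, p ⁻¹ᵁ U) :=
    Module.FinitePresentation.trans Γ(X, U) Γ(G, p ⁻¹ᵁ U) Γ(Z, p ⁻¹ᵁ U)
  exact h3

theorem stableLoc : RingHom.StableUnderCompositionWithLocalizationAwaySource
    @RingHom.FinitePresentation :=
  (RingHom.finitePresentation_stableUnderComposition.stableUnderCompositionWithLocalizationAway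
      RingHom.finitePresentation_holdsForLocalizationAway).left

/-- If `f ≫ g` is locally of finite presentation and `g` is locally of finite type, then `f` is
locally of finite presentation. -/
theorem lfp_of_comp {X Y Z : Scheme.{u}} (f : X ⟶ Y) (g : Y ⟶ Z)
    [LocallyOfFinitePresentation (f ≫ g)] [LocallyOfFiniteType g] :
    LocallyOfFinitePresentation f := by
  rw [HasRingHomProperty.iff_exists_appLE (P := @LocallyOfFinitePresentation) stableLoc]
  intro x
  obtain ⟨_, ⟨W, hW : IsAffineOpen W, rfl⟩, hxW, -⟩ :=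
    Z.isBasis_affineOpens.exists_subset_of_mem_open (Set.mem_univ (g (f x))) isOpen_univ
  obtain ⟨_, ⟨V, hV : IsAffineOpen V, rfl⟩, hxV, hVW⟩ :=
    Y.isBasis_affineOpens.exists_subset_of_mem_open (show f x ∈ g ⁻¹ᵁ W from hxW) (g ⁻¹ᵁ W).2
  obtain ⟨_, ⟨U, hU : IsAffineOpen U, rfl⟩, hxU, hUV⟩ :=
    X.isBasis_affineOpens.exists_subset_of_mem_open (show x ∈ f ⁻¹ᵁ V from hxV) (f ⁻¹ᵁ V).2
  refine ⟨⟨V, hV⟩, ⟨U, hU⟩, hxU, hUV, ?_⟩
  have hUW : U ≤ (f ≫ g) ⁻¹ᵁ W := fun y hy ↦ hVW (hUV hy)
  have h1 : ((f ≫ g).appLE W U hUW).hom.FinitePresentation :=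
    HasRingHomProperty.appLE @LocallyOfFinitePresentation _ inferInstance ⟨W, hW⟩ ⟨U, hU⟩ hUW
  have h2 : (g.appLE W V hVW).hom.FiniteType :=
    HasRingHomProperty.appLE @LocallyOfFiniteType _ inferInstance ⟨W, hW⟩ ⟨V, hV⟩ hVW
  have e : (f ≫ g).appLE W U hUW = g.appLE W V hVW ≫ f.appLE V U hUV :=
    (Scheme.Hom.appLE_comp_appLE ..).symm
  rw [e, CommRingCat.hom_comp] at h1
  exact RingHom.FinitePresentation.of_comp_finiteType _ h1 h2

/-- A closed subscheme cut out by a locally finitely generated ideal sheaf is locally of finite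
presentation. -/
theorem lfp_subschemeι {P : Scheme.{u}} (K : P.IdealSheafData)
    (hK : ∀ U : P.affineOpens, (K.ideal U).FG) : LocallyOfFinitePresentation K.subschemeι := by
  rw [HasRingHomProperty.iff_exists_appLE (P := @LocallyOfFinitePresentation) stableLoc]
  intro x
  obtain ⟨U, hU, hxU⟩ : ∃ U : P.Opens, IsAffineOpen U ∧ K.subschemeι x ∈ U := by
    obtain ⟨_, ⟨U, hU : IsAffineOpen U, rfl⟩, hxU, -⟩ :=
      P.isBasis_affineOpens.exists_subset_of_mem_open (Set.mem_univ (K.subschemeι x)) isOpen_univ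
    exact ⟨U, hU, hxU⟩
  refine ⟨⟨U, hU⟩, ⟨K.subschemeι ⁻¹ᵁ U, hU.preimage _⟩, hxU, le_rfl, ?_⟩
  rw [Scheme.Hom.appLE_eq_app]
  apply RingHom.FinitePresentation.of_surjective _ (K.subschemeι.app_surjective U hU)
  have : RingHom.ker (K.subschemeι.app U).hom = K.ideal ⟨U, hU⟩ := by
    have h := Scheme.Hom.ker_apply K.subschemeι ⟨U, hU⟩
    rw [IdealSheafData.ker_subschemeι] at h
    exact h.symm
  rw [this]
  exact hK ⟨U, hU⟩

section Diagonal

variable {S : Scheme.{u}} (f : X ⟶ S)

instance lfp_diagCl [LocallyOfFiniteType f] : LocallyOfFinitePresentation (PrinPart.diagCl f) := by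
  haveI : LocallyOfFinitePresentation (pullback.diagonal f) := by
    haveI : LocallyOfFinitePresentation (pullback.diagonal f ≫ pullback.fst f f) := by
      rw [pullback.diagonal_fst]; infer_instance
    exact lfp_of_comp (pullback.diagonal f) (pullback.fst f f)
  haveI : LocallyOfFinitePresentation
      (PrinPart.diagCl f ≫ (pullback.diagonal f).coborderRange.ι) := by
    rw [Scheme.Hom.liftCoborder_ι]; infer_instance
  exact lfp_of_comp (PrinPart.diagCl f) (pullback.diagonal f).coborderRange.ι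

instance lfp_infNbhdι {Y P : Scheme.{u}} (i : Y ⟶ P) [IsClosedImmersion i]
    [LocallyOfFinitePresentation i] (n : ℕ) :
    LocallyOfFinitePresentation (PrinPart.infNbhdι i n) := by
  unfold PrinPart.infNbhdι
  apply lfp_subschemeι
  rintro ⟨U, hU⟩
  rw [IdealSheafData.ideal_pow, Pi.pow_apply, Scheme.Hom.ker_apply]
  exact (ker_app_fg i hU).pow

instance lfp_pr1 [LocallyOfFinitePresentation f] (n : ℕ) :
    LocallyOfFinitePresentation (PrinPart.pr1 f n) := by
  haveI : LocallyOfFiniteType f := inferInstance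
  unfold PrinPart.pr1 PrinPart.nbhdι
  infer_instance

instance lfp_pr2 [LocallyOfFinitePresentation f] (n : ℕ) :
    LocallyOfFinitePresentation (PrinPart.pr2 f n) := by
  haveI : LocallyOfFiniteType f := inferInstance
  unfold PrinPart.pr2 PrinPart.nbhdι
  infer_instance

end Diagonal

end Groth.Agent.Lib.Helper48.PrFP
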