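import Groth.Agent.Lib.Helper48.H1Conormal4
import Groth.Agent.Lib.Helper39.KoszulH1Reg
import Groth.Agent.Lib.Helper35.QcohSec

/-!
# Regular sections: auxiliary lemmas
-/

set_option autoImplicit false
universe u

open AlgebraicGeometry CategoryTheory Opposite TopologicalSpace CategoryTheory.Limits

namespace Groth.Agent.Lib.Helper48.RegSection

open Groth.Agent.Lib.Helper48.OmegaAff Scheme.Modules Groth.Agent.Lib.Helper48.Conormal

/-- weakly regular sequences are `H_1`-regular -/
theorem isH1Regular_of_isWeaklyRegular {A : Type u} [CommRing A] {n : ℕ} (f : Fin n → A)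
    (h : RingTheory.Sequence.IsWeaklyRegular A (List.ofFn f)) : CAlgX.IsH1Regular f := by
  have h0 := Groth.Agent.Lib.Helper39.KH1.koszulH1Zero_of_isWeaklyRegular (M := A) n f h
  intro a ha
  have h1 := h0 a (by simpa [smul_eq_mul, mul_comm] using ha)
  refine (Submodule.span_le.mpr ?_) h1
  rintro v ⟨i, j, x, rfl⟩
  have : f j • (Pi.single i x : Fin n → A) - f i • (Pi.single j x : Fin n → A) =
      x • (Pi.single i (f j) - Pi.single j (f i)) := by
    ext k
    simp only [Pi.sub_apply, Pi.smul_apply, Pi.single_apply, smul_eq_mul]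
    split_ifs <;> ring
  rw [this]
  exact Submodule.smul_mem _ _ (Submodule.subset_span ⟨i, j, rfl⟩)

section Natural

variable {X X' : Scheme.{u}} (h : X' ⟶ X) {M N : X.Modules} (t : M ⟶ N)

/-- naturality of pulling back sections -/
theorem map_pullSect (U : X.Opens) (m : Γ(M, U)) :
    ((Scheme.Modules.pullback h).map t).app (h ⁻¹ᵁ U) (OmegaSh.pullSect h M U m) =
      OmegaSh.pullSect h N U (t.app U m) := by
  have h1 := (Scheme.Modules.pullbackPushforwardAdjunction h).unit.naturality t
  have h2 := congrArg (fun φ : M ⟶ (Scheme.Modules.pushforward h).obj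
    ((Scheme.Modules.pullback h).obj N) => φ.app U m) h1
  exact h2.symm

end Natural

section Basic

open Groth.Agent.Lib.Helper35.QcohSec Groth.Agent.Lib.Helper35.Gen

variable {Y : Scheme.{u}} {A B : Y.Modules} [A.IsQuasicoherent] [B.IsQuasicoherent] (ψ : A ⟶ B)

/-- a map of quasi-coherent modules injective on sections over an affine open is injective
on sections over its basic opens -/
theorem injective_basicOpen {W : Y.Opens} (hW : IsAffineOpen W)
    (hinj : Function.Injective (ψ.app W)) (c : Γ(Y, W)) :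
    Function.Injective (ψ.app (Y.basicOpen c)) := by
  rw [injective_iff_map_eq_zero]
  intro y hy
  obtain ⟨n, x, hx⟩ := exists_extension_of_affine A hW c y
  have h1 : rs B (Y.basicOpen_le c) (ψ.app W x) = 0 := by
    have h0 : rs B (Y.basicOpen_le c) (ψ.app W x) =
        ψ.app (Y.basicOpen c) (rs A (Y.basicOpen_le c) x) :=
      (hom_app_map ψ (Y.basicOpen_le c) x).symm
    rw [h0, hx, Scheme.Modules.Hom.app_smul, hy, smul_zero]
  obtain ⟨m, hm⟩ := exists_pow_smul_eq_zero_of_affine B hW c (ψ.app W x) h1
  have h2 : c ^ m • x = 0 := by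
    apply hinj
    rw [Scheme.Modules.Hom.app_smul, hm, map_zero]
  have h3 : (rr Y (Y.basicOpen_le c) c) ^ m • ((rr Y (Y.basicOpen_le c) c) ^ n • y) = 0 := by
    rw [← hx, ← rr_pow, ← rs_smul, h2, rs_zero]
  have hu : IsUnit (rr Y (Y.basicOpen_le c) c) := RingedSpace.isUnit_res_basicOpen _ c
  exact (hu.pow n).smul_eq_zero.mp ((hu.pow m).smul_eq_zero.mp h3)

end Basic

end Groth.Agent.Lib.Helper48.RegSection
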