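import Groth.Agent.Lib.Helper48.OmegaAff11
import Groth.Agent.Lib.Helper48.RegSection1

/-!
# `pullbackComp.inv` on pulled back sections
-/

set_option autoImplicit false
universe u
open CategoryTheory CategoryTheory.Limits AlgebraicGeometry TopologicalSpace Opposite

namespace Groth.Agent.Lib.Helper48.PullComp

variable {X Y Z : Scheme.{u}} (f : X ⟶ Y) (g : Y ⟶ Z) (M : Z.Modules)

/-- `pullbackComp.inv` on pulled back sections. -/
theorem pullbackComp_inv_pullSect (U : Z.Opens) (s : Γ(M, U)) :
    ((Scheme.Modules.pullbackComp f g).inv.app M).app ((f ≫ g) ⁻¹ᵁ U)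
        (OmegaSh.pullSect (f ≫ g) M U s) =
      OmegaSh.pullSect f ((Scheme.Modules.pullback g).obj M) (g ⁻¹ᵁ U)
        (OmegaSh.pullSect g M U s) := by
  have h := Scheme.Modules.conjugateEquiv_pullbackComp_inv f g
  have h1 := unit_conjugateEquiv
    ((Scheme.Modules.pullbackPushforwardAdjunction g).comp
      (Scheme.Modules.pullbackPushforwardAdjunction f))
    (Scheme.Modules.pullbackPushforwardAdjunction (f ≫ g)) (Scheme.Modules.pullbackComp f g).inv M
  rw [h] at h1
  have h2 := congr($(h1).app U s)
  simp only [Adjunction.comp_unit_app, Scheme.Modules.Hom.comp_app,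
    Scheme.Modules.pushforward_map_app, Scheme.Modules.pushforwardComp_hom_app_app] at h2
  exact h2.symm

end Groth.Agent.Lib.Helper48.PullComp
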