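import Mathlib
import Groth.Agent.Lib.Helper42.ModSheaf

/-!
# Pushforward of sheaves of modules along a morphism which is a homeomorphism preserves colimits
-/

set_option autoImplicit false
universe u

open CategoryTheory Limits TopologicalSpace AlgebraicGeometry Opposite

namespace Groth.Agent.Lib.Helper48.PushColim

section Top

variable {X N : TopCat.{u}} (p : N ⟶ X) (t : X ⟶ N) (htp : ∀ z : N, t (p z) = z)
  (hpt : ∀ x : X, p (t x) = x)

include htp hpt in
theorem isCocontinuous_map : Functor.IsCocontinuous (Opens.map p)
    (Opens.grothendieckTopology X) (Opens.grothendieckTopology N) where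
  cover_lift := by
    intro U S hS x hx
    have hx' : t x ∈ (Opens.map p).obj U := by
      change p (t x) ∈ U
      rw [hpt]; exact hx
    obtain ⟨W, g, hg, hxW⟩ := hS (t x) hx'
    have hle : (Opens.map t).obj W ≤ U := by
      intro y hy
      have h1 : t y ∈ (Opens.map p).obj U := g.le hy
      have h2 : p (t y) ∈ U := h1
      rwa [hpt] at h2
    refine ⟨(Opens.map t).obj W, homOfLE hle, ?_, hxW⟩
    have hle2 : (Opens.map p).obj ((Opens.map t).obj W) ≤ W := by
      intro z hz
      have h1 : t (p z) ∈ W := hz
      rwa [htp] at h1
    have h3 := S.downward_closed hg (homOfLE hle2)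
    have h4 : homOfLE hle2 ≫ g = (Opens.map p).map (homOfLE hle) := Subsingleton.elim _ _
    rw [h4] at h3
    exact h3

end Top

end Groth.Agent.Lib.Helper48.PushColim

namespace Groth.Agent.Lib.Helper48.PushColim

section Sheaf

variable {X N : TopCat.{u}} (p : N ⟶ X) (t : X ⟶ N) (htp : ∀ z : N, t (p z) = z)
  (hpt : ∀ x : X, p (t x) = x)

include htp hpt in
theorem preservesColimits_sheafPushforward :
    PreservesColimitsOfSize.{u, u} ((Opens.map p).sheafPushforwardContinuous AddCommGrpCat.{u}
      (Opens.grothendieckTopology X) (Opens.grothendieckTopology N)) := by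
  haveI := isCocontinuous_map p t htp hpt
  exact ((Opens.map p).sheafAdjunctionCocontinuous AddCommGrpCat.{u}
    (Opens.grothendieckTopology X) (Opens.grothendieckTopology N)).leftAdjoint_preservesColimits

end Sheaf

end Groth.Agent.Lib.Helper48.PushColim
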