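import Groth.Agent.Lib.Helper48.PushColim1

/-!
# Pushforward of sheaves of modules along a morphism of schemes which is a homeomorphism
preserves colimits
-/

set_option autoImplicit false
universe u

open CategoryTheory Limits TopologicalSpace AlgebraicGeometry Opposite

namespace Groth.Agent.Lib.Helper48.PushColim

section Modules

variable {X N : Scheme.{u}} (p : N ⟶ X)

/-- the underlying abelian sheaf of a pushforward -/
noncomputable def pushforwardCompToSheaf :
    Scheme.Modules.pushforward p ⋙ SheafOfModules.toSheaf X.ringCatSheaf ≅
      SheafOfModules.toSheaf N.ringCatSheaf ⋙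
        (Opens.map p.base).sheafPushforwardContinuous AddCommGrpCat.{u}
          (Opens.grothendieckTopology X) (Opens.grothendieckTopology N) :=
  Iso.refl _

/-- the forgetful functor to abelian sheaves, with source `X.Modules` -/
noncomputable abbrev toAbSheaf (X : Scheme.{u}) :
    X.Modules ⥤ Sheaf (Opens.grothendieckTopology X) AddCommGrpCat.{u} :=
  SheafOfModules.toSheaf X.ringCatSheaf

instance (X : Scheme.{u}) : ReflectsColimitsOfSize.{u, u} (toAbSheaf X) :=
  Groth.Agent.Lib.Helper42.ModSheaf.toSheaf_reflectsColimitsOfSize X.ringCatSheaf

instance (X : Scheme.{u}) : PreservesColimitsOfSize.{u, u} (toAbSheaf X) :=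
  Groth.Agent.Lib.Helper42.ModSheaf.toSheaf_preservesColimitsOfSize X.ringCatSheaf

/-- the underlying abelian sheaf of a pushforward -/
noncomputable def pushforwardCompToAbSheaf :
    Scheme.Modules.pushforward p ⋙ toAbSheaf X ≅
      toAbSheaf N ⋙
        (Opens.map p.base).sheafPushforwardContinuous AddCommGrpCat.{u}
          (Opens.grothendieckTopology X) (Opens.grothendieckTopology N) :=
  Iso.refl _

/-- pushforward of modules along a morphism which is a homeomorphism (with inverse the map
underlying a section `t`) preserves colimits -/
theorem preservesColimits_pushforward (t : X ⟶ N) (htp : ∀ z : N, t (p z) = z)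
    (hpt : ∀ x : X, p (t x) = x) :
    PreservesColimitsOfSize.{u, u} (Scheme.Modules.pushforward p) := by
  haveI := preservesColimits_sheafPushforward p.base t.base htp hpt
  haveI : PreservesColimitsOfSize.{u, u}
      (toAbSheaf N ⋙
        (Opens.map p.base).sheafPushforwardContinuous AddCommGrpCat.{u}
          (Opens.grothendieckTopology X) (Opens.grothendieckTopology N)) :=
    comp_preservesColimits _ _
  haveI : PreservesColimitsOfSize.{u, u}
      (Scheme.Modules.pushforward p ⋙ toAbSheaf X) :=
    preservesColimits_of_natIso (pushforwardCompToAbSheaf p).symm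
  exact preservesColimits_of_reflects_of_preserves (Scheme.Modules.pushforward p)
    (toAbSheaf X)

end Modules

end Groth.Agent.Lib.Helper48.PushColim
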