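import Groth.Agent.Lib.Helper48.SectFinite
import Groth.Agent.Lib.Helper48.Nbhd4
import Groth.Agent.Lib.Lead.QCohPush
import Groth.Agent.Lib.Lead.PullbackAff4

/-!
# Finite type modules: pullbacks, and pushforwards along finite morphisms
-/

set_option autoImplicit false
universe u

open CategoryTheory CategoryTheory.Limits AlgebraicGeometry

namespace Groth.Agent.Lib.Helper48.PushFinite

open Scheme Groth.Agent.Lib.Helper48.SL Groth.Agent.Lib.Helper48.Nbhd

variable {Z X : Scheme.{u}}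

/-- The pullback of a quasi-coherent module of finite type is of finite type. -/
theorem isFiniteType_pullback (g : Z ⟶ X) (F : X.Modules) [F.IsQuasicoherent]
    (hF : SheafOfModules.IsFiniteType (R := X.ringCatSheaf) F) :
    SheafOfModules.IsFiniteType (R := Z.ringCatSheaf) ((Scheme.Modules.pullback g).obj F) := by
  apply Groth.Agent.Lib.Lead.CohAff.isFiniteType_of_finite_sections
  intro z
  obtain ⟨U, hU, hzU⟩ : ∃ U : X.Opens, IsAffineOpen U ∧ g z ∈ U := by
    obtain ⟨_, ⟨U, hU : IsAffineOpen U, rfl⟩, hxU, -⟩ :=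
      (isBasis_affineOpens X).exists_subset_of_mem_open (Set.mem_univ (g z)) isOpen_univ
    exact ⟨U, hU, hxU⟩
  obtain ⟨W, hW, hzW, hWU⟩ : ∃ W : Z.Opens, IsAffineOpen W ∧ z ∈ W ∧ W ≤ g ⁻¹ᵁ U := by
    obtain ⟨_, ⟨W, hW : IsAffineOpen W, rfl⟩, hxW, hWU⟩ :=
      (isBasis_affineOpens Z).exists_subset_of_mem_open (show z ∈ ((g ⁻¹ᵁ U : Z.Opens) : Set Z) from hzU)
        (g ⁻¹ᵁ U).isOpen
    exact ⟨W, hW, hxW, hWU⟩
  refine ⟨W, hW, hzW, ?_⟩
  haveI : Module.Finite Γ(X, U) Γ(F, U) :=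
    Groth.Agent.Lib.Lead.CohAff.finite_sections_of_isFiniteType F hF hU
  exact (isUniv_pullRes g F hW hU hWU).finite

/-- The pushforward of a quasi-coherent module of finite type along a finite morphism is of
finite type. -/
theorem isFiniteType_pushforward (p : Z ⟶ X) [IsFinite p] (G : Z.Modules) [G.IsQuasicoherent]
    (hG : SheafOfModules.IsFiniteType (R := Z.ringCatSheaf) G) :
    SheafOfModules.IsFiniteType (R := X.ringCatSheaf) ((Scheme.Modules.pushforward p).obj G) := by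
  haveI : ((Scheme.Modules.pushforward p).obj G).IsQuasicoherent :=
    Groth.Agent.Lib.Lead.QCohPush.isQuasicoherent_pushforward_of_isAffineHom p G
  rw [Groth.Agent.Lib.Lead.CohAff.isFiniteType_iff_finite_sections]
  intro U hU
  have hW : IsAffineOpen (p ⁻¹ᵁ U) := hU.preimage p
  haveI h1 : Module.Finite Γ(Z, p ⁻¹ᵁ U) Γ(G, p ⁻¹ᵁ U) :=
    Groth.Agent.Lib.Lead.CohAff.finite_sections_of_isFiniteType G hG hW
  have h2 : (p.app U).hom.Finite := IsFinite.finite_app p U hU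
  letI : Algebra Γ(X, U) Γ(Z, p ⁻¹ᵁ U) := (p.app U).hom.toAlgebra
  haveI : Module.Finite Γ(X, U) Γ(Z, p ⁻¹ᵁ U) := h2
  letI : Module Γ(X, U) Γ(G, p ⁻¹ᵁ U) := Module.compHom _ (p.app U).hom
  haveI : IsScalarTower Γ(X, U) Γ(Z, p ⁻¹ᵁ U) Γ(G, p ⁻¹ᵁ U) :=
    ⟨fun a b m => by
      change (p.app U a * b) • m = p.app U a • b • m
      rw [mul_smul]⟩
  have h3 : Module.Finite Γ(X, U) Γ(G, p ⁻¹ᵁ U) := Module.Finite.trans Γ(Z, p ⁻¹ᵁ U) _
  exact h3

end Groth.Agent.Lib.Helper48.PushFinite
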