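import Groth.Agent.Lib.Helper48.RegSection2

/-!
# Regular sections: `i^*E ≅ C_{Y/X}`
-/

set_option autoImplicit false
universe u

open AlgebraicGeometry CategoryTheory Opposite TopologicalSpace CategoryTheory.Limits

namespace Groth.Agent.Lib.Helper48.RegSection

open Groth.Agent.Lib.Helper48.OmegaAff Scheme.Modules Groth.Agent.Lib.Helper48.Conormal

theorem isIso_pullback_map {X Y : Scheme.{u}} (i : Y ⟶ X) [IsClosedImmersion i] {E : X.Modules}
    [E.IsQuasicoherent] (t : E ⟶ ClSub.idealMod i.ker) [Epi t]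
    (h : ∀ y : Y, ∃ (U : X.Opens) (_ : IsAffineOpen U) (n : ℕ)
      (b : Module.Basis (Fin n) Γ(X, U) Γ(E, U)), i y ∈ U ∧ CAlgX.IsH1Regular (gen i t b)) :
    IsIso ((Scheme.Modules.pullback i).map t) := by
  classical
  haveI : (Scheme.Modules.pullback i).PreservesEpimorphisms :=
    Functor.preservesEpimorphisms_of_adjunction (Scheme.Modules.pullbackPushforwardAdjunction i)
  haveI : Epi ((Scheme.Modules.pullback i).map t) := inferInstance
  haveI : Mono ((Scheme.Modules.pullback i).map t) := by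
    let 𝓑 : Set Y.Opens := {O | ∃ (U : X.Opens) (_ : IsAffineOpen U) (n : ℕ)
      (b : Module.Basis (Fin n) Γ(X, U) Γ(E, U)) (c : Γ(Y, i ⁻¹ᵁ U)),
      CAlgX.IsH1Regular (gen i t b) ∧ O = Y.basicOpen c}
    have hB : TopologicalSpace.Opens.IsBasis 𝓑 := by
      rw [TopologicalSpace.Opens.isBasis_iff_nbhd]
      intro O y hy
      obtain ⟨U, hU, n, b, hyU, hg⟩ := h y
      have hW : IsAffineOpen (i ⁻¹ᵁ U) := hU.preimage i
      obtain ⟨c, hcO, hyc⟩ := hW.exists_basicOpen_le ⟨y, hy⟩ hyU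
      exact ⟨_, ⟨U, hU, n, b, c, hg, rfl⟩, hyc, hcO⟩
    refine mono_of_basis _ _ hB ?_
    rintro O ⟨U, hU, n, b, c, hg, rfl⟩
    exact injective_basicOpen _ (hU.preimage i) (map_app_injective i t hU b hg) c
  exact isIso_of_mono_of_epi _

end Groth.Agent.Lib.Helper48.RegSection
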