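import Groth.Agent.Lib.Helper48.SumConormal2
import Groth.Agent.Lib.Helper2.FreeModAff
import Groth.Prelude.Def_MultCurve
import Groth.Prelude.Def_Pic

/-!
# Square-zero closed immersions: conormal free of rank one iff ideal principal with annihilator condition
-/

set_option autoImplicit false
universe u
open CategoryTheory CategoryTheory.Limits AlgebraicGeometry TopologicalSpace Opposite

namespace Groth.Agent.Lib.Helper48.Ribbon

open Groth.Agent.Lib.Helper48.OmegaAff Groth.Agent.Lib.Helper48.Conormal Scheme.Modules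
  Groth.Agent.Lib.Helper48.SumConormal

section Chart

variable {D C : Scheme.{u}} (i : D ⟶ C) [IsClosedImmersion i] {U : C.Opens} (hU : IsAffineOpen U)
  (hsq : (RingHom.ker (i.app U).hom) ^ 2 = ⊥)

include hU hsq in
/-- free of rank one ⇒ principal with the annihilator condition -/
theorem exists_gen_of_free
    (e : Γ(Omega.conormal i, i ⁻¹ᵁ U) ≃ₗ[Γ(D, i ⁻¹ᵁ U)] (Fin 1 → Γ(D, i ⁻¹ᵁ U))) :
    ∃ z : Γ(C, U), RingHom.ker (i.app U).hom = Ideal.span {z} ∧
      ∀ a : Γ(C, U), a * z = 0 → a ∈ RingHom.ker (i.app U).hom := by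
  have hV : IsGoodFor i U :=
    Groth.Agent.Lib.Helper48.RegSection.isGoodFor_of_isClosedImmersion i hU
  set e₀ : Γ(Omega.conormal i, i ⁻¹ᵁ U) := e.symm (fun _ => 1) with he₀
  have hgen : ∀ x : Γ(Omega.conormal i, i ⁻¹ᵁ U), x = (e x 0) • e₀ := by
    intro x
    apply e.injective
    rw [_root_.map_smul, he₀, LinearEquiv.apply_symm_apply]
    funext k
    have hk : k = 0 := Subsingleton.elim _ _
    rw [Pi.smul_apply, smul_eq_mul, mul_one, hk]
  have hfree : ∀ β : Γ(D, i ⁻¹ᵁ U), β • e₀ = 0 → β = 0 := by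
    intro β hβ
    have h1 := congrArg e hβ
    rw [_root_.map_smul, he₀, LinearEquiv.apply_symm_apply, map_zero] at h1
    have h2 := congrFun h1 0
    rw [Pi.smul_apply, smul_eq_mul, mul_one] at h2
    exact h2
  obtain ⟨s₀, hs₀⟩ := conormalSect_surjective i hV e₀
  refine ⟨OmegaSh.idealSect i.ker U s₀, ?_, ?_⟩
  · apply le_antisymm
    · intro a ha
      obtain ⟨s, hs⟩ := exists_idealSect_eq i U a (RingHom.mem_ker.mp ha)
      obtain ⟨b, hb⟩ := hV.2.2 (e (OmegaSh.conormalSect i U s) 0)
      have h1 : OmegaSh.conormalSect i U (s - b • s₀) = 0 := by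
        rw [map_sub, conormalSect_smul, hs₀, hb, ← hgen, sub_self]
      have h2 := idealSect_mem_sq_of_conormalSect_eq_zero i hV _ h1
      rw [hsq, Ideal.mem_bot, map_sub, idealSect_smul, hs, sub_eq_zero] at h2
      rw [h2]
      exact Ideal.mul_mem_left _ _ (Ideal.subset_span rfl)
    · rw [Ideal.span_le]
      rintro _ rfl
      exact idealSect_mem_ker i U s₀
  · intro a ha
    have h1 : a • s₀ = 0 := by
      apply idealSect_injective i.ker U
      rw [idealSect_smul, ha, map_zero]
    have h2 : i.app U a • e₀ = 0 := by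
      rw [← hs₀, ← conormalSect_smul, h1, map_zero]
    exact RingHom.mem_ker.mpr (hfree _ h2)

include hU hsq in
/-- principal with the annihilator condition ⇒ free of rank one -/
theorem nonempty_free_of_gen (z : Γ(C, U)) (hz : RingHom.ker (i.app U).hom = Ideal.span {z})
    (hann : ∀ a : Γ(C, U), a * z = 0 → a ∈ RingHom.ker (i.app U).hom) :
    Nonempty (Γ(Omega.conormal i, i ⁻¹ᵁ U) ≃ₗ[Γ(D, i ⁻¹ᵁ U)] (Fin 1 → Γ(D, i ⁻¹ᵁ U))) := by
  have hV : IsGoodFor i U :=
    Groth.Agent.Lib.Helper48.RegSection.isGoodFor_of_isClosedImmersion i hU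
  have hker : RingHom.ker (i.app U).hom = Ideal.span (Set.range (fun _ : Fin 1 => z)) := by
    rw [hz]; congr 1
    ext x
    simp
  have hsurj := linearCombination_genClass'_surjective i hV (fun _ : Fin 1 => z) hker
  have hinj : Function.Injective
      (Fintype.linearCombination Γ(D, i ⁻¹ᵁ U) (genClass' i (fun _ : Fin 1 => z) hker)) := by
    rw [injective_iff_map_eq_zero]
    intro β hβ
    obtain ⟨b, hb⟩ := hV.2.2 (β 0)
    rw [Fintype.linearCombination_apply, Fin.sum_univ_one, ← hb, genClass',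
      ← conormalSect_smul] at hβ
    have h2 := idealSect_mem_sq_of_conormalSect_eq_zero i hV _ hβ
    rw [hsq, Ideal.mem_bot, idealSect_smul, idealSect_sectOf] at h2
    have h3 := RingHom.mem_ker.mp (hann b h2)
    funext k
    have hk : k = 0 := Subsingleton.elim _ _
    rw [hk, ← hb]
    exact h3
  exact ⟨(LinearEquiv.ofBijective _ ⟨hinj, hsurj⟩).symm⟩

end Chart

end Groth.Agent.Lib.Helper48.Ribbon
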