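import Groth.Agent.Lib.Helper48.SumConormal1
import Groth.Agent.Lib.Helper48.RegSection2
import Mathlib.RingTheory.FiniteType

/-!
# Chart-level bijectivity of the sum of conormal maps for a transversal intersection
-/

set_option autoImplicit false
universe u
open CategoryTheory CategoryTheory.Limits AlgebraicGeometry TopologicalSpace Opposite

namespace Groth.Agent.Lib.Helper48.SumConormal

open Groth.Agent.Lib.Helper48.OmegaAff Groth.Agent.Lib.Helper48.Conormal Scheme.Modules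

section Alg

theorem injective_of_free {R M : Type u} [CommRing R] [AddCommGroup M] [Module R M]
    {ι : Type} [Fintype ι] {N : ℕ} (hcard : Fintype.card ι = N)
    (e : M ≃ₗ[R] (Fin N → R)) (L : (ι → R) →ₗ[R] M) (hL : Function.Surjective L) :
    Function.Injective L := by
  let σ : ι ≃ Fin N := Fintype.equivFinOfCardEq hcard
  let τ : (Fin N → R) ≃ₗ[R] (ι → R) := LinearEquiv.funCongrLeft R R σ
  let T : (Fin N → R) →ₗ[R] (Fin N → R) := e.toLinearMap ∘ₗ L ∘ₗ τ.toLinearMap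
  have hT : Function.Surjective T := e.surjective.comp (hL.comp τ.surjective)
  have hinj : Function.Injective T := OrzechProperty.injective_of_surjective_endomorphism T hT
  intro a b hab
  have h1 : T (τ.symm a) = T (τ.symm b) := by
    change e (L (τ (τ.symm a))) = e (L (τ (τ.symm b)))
    rw [LinearEquiv.apply_symm_apply, LinearEquiv.apply_symm_apply, hab]
  exact τ.symm.injective (hinj h1)

end Alg

section Gen

variable {Z X : Scheme.{u}} (i : Z ⟶ X) [QuasiCompact i] {V : X.Opens} (hV : IsGoodFor i V)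
  {ι : Type} [Fintype ι] (g : ι → Γ(X, V))
  (hker : RingHom.ker (i.app V).hom = Ideal.span (Set.range g))

omit [QuasiCompact i] [Fintype ι] in
include hker in
theorem g_mem_ker' (k : ι) : g k ∈ RingHom.ker (i.app V).hom := by
  rw [hker]; exact Ideal.subset_span ⟨k, rfl⟩

/-- the classes of the generators (general finite index) -/
noncomputable def genClass' (k : ι) : Γ(Omega.conormal i, i ⁻¹ᵁ V) :=
  OmegaSh.conormalSect i V (sectOf i V ⟨g k, g_mem_ker' i g hker k⟩)

include hV in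
theorem linearCombination_genClass'_surjective :
    Function.Surjective (Fintype.linearCombination Γ(Z, i ⁻¹ᵁ V) (genClass' i g hker)) := by
  rw [← LinearMap.range_eq_top, eq_top_iff, ← span_range_conormalSect i hV, Submodule.span_le]
  rintro _ ⟨s, rfl⟩
  have h1 : OmegaSh.idealSect i.ker V s ∈ Ideal.span (Set.range g) := by
    rw [← hker]; exact idealSect_mem_ker i V s
  obtain ⟨a, ha⟩ := (Ideal.mem_span_range_iff_exists_fun).mp h1
  have h2 : s = ∑ k, a k • sectOf i V ⟨g k, g_mem_ker' i g hker k⟩ := by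
    apply idealSect_injective i.ker V
    rw [map_sum, ← ha]
    refine Finset.sum_congr rfl fun k _ => ?_
    rw [idealSect_smul, idealSect_sectOf]
  refine ⟨fun k => i.app V (a k), ?_⟩
  rw [Fintype.linearCombination_apply, h2, map_sum]
  refine Finset.sum_congr rfl fun k _ => ?_
  rw [conormalSect_smul]
  rfl

end Gen

section KI

variable {Y X X₁ : Scheme.{u}} (i : Y ⟶ X) [IsClosedImmersion i] (j : X₁ ⟶ X) [IsClosedImmersion j]
  (g : Y ⟶ X₁) (hg : g ≫ j = i)
  (φ : (Scheme.Modules.pullback g).obj (Omega.conormal j) ⟶ Omega.conormal i)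
  (hφ : OmegaSh.IsConormalMap i j (𝟙 X) g φ)
  {U : X.Opens} (hU : IsAffineOpen U)

include hg in
theorem le_pre' : i ⁻¹ᵁ U ≤ g ⁻¹ᵁ (j ⁻¹ᵁ U) := by
  rw [← Scheme.Hom.comp_preimage, hg]

include hφ in
/-- the conormal map sends the pulled back class of `a ∈ ker j♯` to the class of `a`. -/
theorem φ_pullRes (a : Γ(X, U)) (ha : a ∈ RingHom.ker (j.app U).hom)
    (ha' : a ∈ RingHom.ker (i.app U).hom) :
    φ.app (i ⁻¹ᵁ U) (pullRes g (Omega.conormal j) (le_pre' i j g hg)
      (OmegaSh.conormalSect j U (sectOf j U ⟨a, ha⟩))) =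
      OmegaSh.conormalSect i U (sectOf i U ⟨a, ha'⟩) := by
  have h := hφ.2 U (sectOf j U ⟨a, ha⟩) (sectOf i U ⟨a, ha'⟩)
    (by
      change OmegaSh.idealSect i.ker U (sectOf i U ⟨a, ha'⟩) =
        (𝟙 X : X ⟶ X).app U (OmegaSh.idealSect j.ker U (sectOf j U ⟨a, ha⟩))
      rw [idealSect_sectOf, idealSect_sectOf]
      simp only [Scheme.Hom.id_app]
      rfl)
    (i ⁻¹ᵁ U) (le_pre' i j g hg) (le_refl _)
  rw [pullRes_eq_map, hom_app_map]
  refine h.trans ?_
  change (Omega.conormal i).presheaf.map (homOfLE (le_refl (i ⁻¹ᵁ U))).op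
    (OmegaSh.conormalSect i U (sectOf i U ⟨a, ha'⟩)) = _
  rw [show (homOfLE (le_refl (i ⁻¹ᵁ U))).op = 𝟙 _ from rfl, CategoryTheory.Functor.map_id]
  rfl

end KI

section Span

variable {Y X X₁ : Scheme.{u}} (i : Y ⟶ X) [IsClosedImmersion i] (j : X₁ ⟶ X) [IsClosedImmersion j]
  (g : Y ⟶ X₁) (hg : g ≫ j = i)
  {U : X.Opens} (hU : IsAffineOpen U)
  {ι : Type} [Fintype ι] (rs : ι → Γ(X, U))
  (hrs : RingHom.ker (j.app U).hom = Ideal.span (Set.range rs))

/-- pulled back generator classes -/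
noncomputable def pGen (k : ι) : Γ((Scheme.Modules.pullback g).obj (Omega.conormal j), i ⁻¹ᵁ U) :=
  pullRes g (Omega.conormal j) (le_pre' i j g hg) (genClass' j rs hrs k)

include hU in
theorem span_range_pGen :
    Submodule.span Γ(Y, i ⁻¹ᵁ U) (Set.range (pGen i j g hg rs hrs)) = ⊤ := by
  have hVj : IsGoodFor j U := Groth.Agent.Lib.Helper48.RegSection.isGoodFor_of_isClosedImmersion j hU
  have hVi : IsGoodFor i U := Groth.Agent.Lib.Helper48.RegSection.isGoodFor_of_isClosedImmersion i hU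
  rw [eq_top_iff, ← span_range_pullRes g (Omega.conormal j) hVi.2.1 hVj.2.1 (le_pre' i j g hg),
    Submodule.span_le]
  rintro _ ⟨c, rfl⟩
  obtain ⟨b, hb⟩ := linearCombination_genClass'_surjective j hVj rs hrs c
  rw [← hb, Fintype.linearCombination_apply, map_sum]
  refine Submodule.sum_mem _ fun k _ => ?_
  rw [pullRes_smul]
  exact Submodule.smul_mem _ _ (Submodule.subset_span ⟨k, rfl⟩)

end Span

section Main

variable {X Y : Scheme.{u}} {r : ℕ} (Xs : Fin r → Scheme.{u}) (j : ∀ l, Xs l ⟶ X)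
  [∀ l, IsClosedImmersion (j l)]
  (i : Y ⟶ X) [IsClosedImmersion i] (g : ∀ l, Y ⟶ Xs l) (hg : ∀ l, g l ≫ j l = i)
  (φ : ∀ l, (Scheme.Modules.pullback (g l)).obj (Omega.conormal (j l)) ⟶ Omega.conormal i)
  (hφ : ∀ l, OmegaSh.IsConormalMap i (j l) (𝟙 X) (g l) (φ l))
  {U : X.Opens} (hU : IsAffineOpen U) {N : ℕ}
  (efree : Γ(Omega.conormal i, i ⁻¹ᵁ U) ≃ₗ[Γ(Y, i ⁻¹ᵁ U)] (Fin N → Γ(Y, i ⁻¹ᵁ U)))
  (d : Fin r → ℕ) (hN : ∑ l, d l = N)
  (rs : ∀ l, Fin (d l) → Γ(X, U))
  (hrs : ∀ l, RingHom.ker ((j l).app U).hom = Ideal.span (Set.range (rs l)))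
  (hYU : RingHom.ker (i.app U).hom = ⨆ l, RingHom.ker ((j l).app U).hom)

/-- the summands -/
noncomputable abbrev M (l : Fin r) : Y.Modules :=
  (Scheme.Modules.pullback (g l)).obj (Omega.conormal (j l))

/-- all generators together -/
def G (p : Σ l : Fin r, Fin (d l)) : Γ(X, U) := rs p.1 p.2

include hrs hYU in
theorem hkerG : RingHom.ker (i.app U).hom = Ideal.span (Set.range (G d rs)) := by
  rw [hYU]
  have : Set.range (G d rs) = ⋃ l, Set.range (rs l) := by
    ext x
    simp only [Set.mem_range, Set.mem_iUnion, G]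
    constructor
    · rintro ⟨⟨l, k⟩, rfl⟩; exact ⟨l, k, rfl⟩
    · rintro ⟨l, k, rfl⟩; exact ⟨⟨l, k⟩, rfl⟩
  rw [this, Ideal.span_iUnion]
  exact iSup_congr hrs

/-- the pulled back generators inside the coproduct -/
noncomputable def P (p : Σ l : Fin r, Fin (d l)) : Γ(∐ (M Xs j g), i ⁻¹ᵁ U) :=
  (Sigma.ι (M Xs j g) p.1).app (i ⁻¹ᵁ U) (pGen i (j p.1) (g p.1) (hg p.1) (rs p.1) (hrs p.1) p.2)

include hφ in
theorem desc_P (p : Σ l : Fin r, Fin (d l)) :
    (Sigma.desc φ).app (i ⁻¹ᵁ U) (P Xs j i g hg d rs hrs p) =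
      genClass' i (G d rs) (hkerG Xs j i d rs hrs hYU) p := by
  rw [P, desc_ι_app]
  exact φ_pullRes i (j p.1) (g p.1) (hg p.1) (φ p.1) (hφ p.1) (rs p.1 p.2) _ _

include hU in
theorem exists_coeff (x : Γ(∐ (M Xs j g), i ⁻¹ᵁ U)) :
    ∃ c : (Σ l : Fin r, Fin (d l)) → Γ(Y, i ⁻¹ᵁ U), x = ∑ p, c p • P Xs j i g hg d rs hrs p := by
  obtain ⟨y, hy⟩ := sigma_decomp (M Xs j g) (i ⁻¹ᵁ U) x
  have h1 : ∀ l, ∃ c : Fin (d l) → Γ(Y, i ⁻¹ᵁ U),
      ∑ k, c k • pGen i (j l) (g l) (hg l) (rs l) (hrs l) k = y l := by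
    intro l
    have hmem : y l ∈ Submodule.span Γ(Y, i ⁻¹ᵁ U)
        (Set.range (pGen i (j l) (g l) (hg l) (rs l) (hrs l))) := by
      rw [span_range_pGen i (j l) (g l) (hg l) hU (rs l) (hrs l)]; trivial
    exact (Submodule.mem_span_range_iff_exists_fun _).mp hmem
  choose c hc using h1
  refine ⟨fun p => c p.1 p.2, ?_⟩
  rw [hy, Fintype.sum_sigma]
  refine Finset.sum_congr rfl fun l _ => ?_
  rw [← hc l, map_sum]
  refine Finset.sum_congr rfl fun k _ => ?_
  rw [Scheme.Modules.Hom.app_smul]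
  rfl

include hU hφ hN hg efree hrs hYU in
/-- On a chart the sum of the conormal maps is bijective. -/
theorem bijective_desc_app : Function.Bijective ((Sigma.desc φ).app (i ⁻¹ᵁ U)) := by
  have hVi : IsGoodFor i U :=
    Groth.Agent.Lib.Helper48.RegSection.isGoodFor_of_isClosedImmersion i hU
  have hsurj := linearCombination_genClass'_surjective i hVi (G d rs)
    (hkerG Xs j i d rs hrs hYU)
  have hcard : Fintype.card (Σ l : Fin r, Fin (d l)) = N := by
    rw [Fintype.card_sigma]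
    simp only [Fintype.card_fin]
    exact hN
  have hinj := injective_of_free hcard efree _ hsurj
  have hΦ : ∀ c : (Σ l : Fin r, Fin (d l)) → Γ(Y, i ⁻¹ᵁ U),
      (Sigma.desc φ).app (i ⁻¹ᵁ U) (∑ p, c p • P Xs j i g hg d rs hrs p) =
        Fintype.linearCombination Γ(Y, i ⁻¹ᵁ U)
          (genClass' i (G d rs) (hkerG Xs j i d rs hrs hYU)) c := by
    intro c
    rw [map_sum, Fintype.linearCombination_apply]
    refine Finset.sum_congr rfl fun p _ => ?_
    rw [Scheme.Modules.Hom.app_smul, desc_P Xs j i g hg φ hφ d rs hrs hYU p]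
  constructor
  · rw [injective_iff_map_eq_zero]
    intro x hx
    obtain ⟨c, rfl⟩ := exists_coeff Xs j i g hg hU d rs hrs x
    rw [hΦ] at hx
    have hc : c = 0 := hinj (hx.trans (map_zero _).symm)
    rw [hc]
    simp
  · intro z
    obtain ⟨c, hc⟩ := hsurj z
    exact ⟨∑ p, c p • P Xs j i g hg d rs hrs p, (hΦ c).trans hc⟩

end Main

end Groth.Agent.Lib.Helper48.SumConormal
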