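import Groth.Agent.Lib.Helper48.PullComp
import Groth.Agent.Lib.Helper48.SumConormal2
import Groth.Agent.S9370

/-!
# Morphism of restricted cotangent sequences induced by a morphism of thickenings
-/

set_option autoImplicit false
universe u
open CategoryTheory CategoryTheory.Limits AlgebraicGeometry TopologicalSpace Opposite

namespace Groth.Agent.Lib.Helper48.RibbonExt

open Groth.Agent.Lib.Helper48.OmegaAff Groth.Agent.Lib.Helper48.Conormal Scheme.Modules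

variable {D C C' S : Scheme.{u}} (i : D ⟶ C) (g : C ⟶ C') [IsClosedImmersion i]
  [IsClosedImmersion (i ≫ g)]
  (pC : C ⟶ S) (pC' : C' ⟶ S) (pD : D ⟶ S) (hgk : g ≫ pC' = pC) (hp : i ≫ pC = pD)
  (Ω₁ : C.Modules) (d₁ : OmegaSh.Der pC Ω₁)
  (Ω₁' : C'.Modules) (d₁' : OmegaSh.Der pC' Ω₁')
  (Ω₂ : D.Modules) (d₂ : OmegaSh.Der pD Ω₂)
  (dg : (Scheme.Modules.pullback g).obj Ω₁' ⟶ Ω₁) (hdg : OmegaSh.IsDiffCompat g d₁' d₁ dg)
  (φ : Omega.conormal i ⟶ (Scheme.Modules.pullback i).obj Ω₁) (hφ : OmegaSh.IsConormalDiff i d₁ φ)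
  (c : (Scheme.Modules.pullback i).obj Ω₁ ⟶ Ω₂) (hc : OmegaSh.IsDiffCompat i d₁ d₂ c)
  (φ' : Omega.conormal (i ≫ g) ⟶ (Scheme.Modules.pullback (i ≫ g)).obj Ω₁')
  (hφ' : OmegaSh.IsConormalDiff (i ≫ g) d₁' φ')
  (α : (Scheme.Modules.pullback (𝟙 D)).obj (Omega.conormal (i ≫ g)) ⟶ Omega.conormal i)
  (hα : OmegaSh.IsConormalMap i (i ≫ g) g (𝟙 D) α)

/-- the map on restricted differentials -/
noncomputable def β : (Scheme.Modules.pullback (i ≫ g)).obj Ω₁' ⟶ (Scheme.Modules.pullback i).obj Ω₁ :=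
  (Scheme.Modules.pullbackComp i g).inv.app Ω₁' ≫ (Scheme.Modules.pullback i).map dg

include hdg in
theorem β_pullSect (U : C'.Opens) (s : Γ(C', U)) :
    (β i g Ω₁ Ω₁' dg).app ((i ≫ g) ⁻¹ᵁ U) (OmegaSh.pullSect (i ≫ g) Ω₁' U (d₁'.app U s)) =
      OmegaSh.pullSect i Ω₁ (g ⁻¹ᵁ U) (d₁.app (g ⁻¹ᵁ U) (g.app U s)) := by
  rw [β, Scheme.Modules.Hom.comp_app]
  change ((Scheme.Modules.pullback i).map dg).app (i ⁻¹ᵁ (g ⁻¹ᵁ U))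
    (((Scheme.Modules.pullbackComp i g).inv.app Ω₁').app ((i ≫ g) ⁻¹ᵁ U)
      (OmegaSh.pullSect (i ≫ g) Ω₁' U (d₁'.app U s))) = _
  rw [Groth.Agent.Lib.Helper48.PullComp.pullbackComp_inv_pullSect,
    Groth.Agent.Lib.Helper48.RegSection.map_pullSect, hdg U s]

include hdg hc in
theorem isDiffCompat_β_comp : OmegaSh.IsDiffCompat (i ≫ g) d₁' d₂ (β i g Ω₁ Ω₁' dg ≫ c) := by
  intro U s
  rw [Scheme.Modules.Hom.comp_app]
  change c.app (i ⁻¹ᵁ (g ⁻¹ᵁ U)) ((β i g Ω₁ Ω₁' dg).app ((i ≫ g) ⁻¹ᵁ U)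
    (OmegaSh.pullSect (i ≫ g) Ω₁' U (d₁'.app U s))) = _
  rw [β_pullSect i g pC pC' Ω₁ d₁ Ω₁' d₁' dg hdg U s, hc (g ⁻¹ᵁ U) (g.app U s)]
  rfl

include hα in
/-- the map of conormal sheaves on classes -/
theorem τ₁_conormalSect {U : C'.Opens}
    (s' : Γ(ClSub.idealMod (i ≫ g).ker, U)) (s : Γ(ClSub.idealMod i.ker, g ⁻¹ᵁ U))
    (hs : OmegaSh.idealSect i.ker (g ⁻¹ᵁ U) s = g.app U (OmegaSh.idealSect (i ≫ g).ker U s')) :
    ((Scheme.Modules.pullbackId D).inv.app (Omega.conormal (i ≫ g)) ≫ α).app ((i ≫ g) ⁻¹ᵁ U)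
        (OmegaSh.conormalSect (i ≫ g) U s') = OmegaSh.conormalSect i (g ⁻¹ᵁ U) s := by
  rw [Scheme.Modules.Hom.comp_app]
  change α.app ((i ≫ g) ⁻¹ᵁ U) (((Scheme.Modules.pullbackId D).inv.app
    (Omega.conormal (i ≫ g))).app ((i ≫ g) ⁻¹ᵁ U) (OmegaSh.conormalSect (i ≫ g) U s')) = _
  rw [pullbackId_inv_app]
  have h := hα.2 U s' s hs ((i ≫ g) ⁻¹ᵁ U) (le_refl _) (le_refl _)
  change (Omega.conormal i).presheaf.map (homOfLE (le_refl ((i ≫ g) ⁻¹ᵁ U))).op _ =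
    (Omega.conormal i).presheaf.map (homOfLE (le_refl ((i ≫ g) ⁻¹ᵁ U))).op _ at h
  rw [show (homOfLE (le_refl ((i ≫ g) ⁻¹ᵁ U))).op = 𝟙 _ from rfl,
    CategoryTheory.Functor.map_id] at h
  exact h

include hdg hφ hφ' hα in
theorem φ_square : φ' ≫ β i g Ω₁ Ω₁' dg =
    ((Scheme.Modules.pullbackId D).inv.app (Omega.conormal (i ≫ g)) ≫ α) ≫ φ := by
  refine hom_ext_of_basis _ _ _
    (isBasis_goodFor (i ≫ g) (fun _ => True) (fun z => ⟨⊤, trivial, fun _ _ => trivial⟩)) ?_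
  rintro _ ⟨U, hU, -, rfl⟩ x
  obtain ⟨s', rfl⟩ := conormalSect_surjective (i ≫ g) hU x
  have hmem : i.app (g ⁻¹ᵁ U) (g.app U (OmegaSh.idealSect (i ≫ g).ker U s')) = 0 := by
    have := idealSect_mem_ker (i ≫ g) U s'
    rw [RingHom.mem_ker] at this
    exact this
  obtain ⟨s, hs⟩ := exists_idealSect_eq i (g ⁻¹ᵁ U) _ hmem
  rw [Scheme.Modules.Hom.comp_app, Scheme.Modules.Hom.comp_app]
  change (β i g Ω₁ Ω₁' dg).app ((i ≫ g) ⁻¹ᵁ U) (φ'.app ((i ≫ g) ⁻¹ᵁ U)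
      (OmegaSh.conormalSect (i ≫ g) U s')) =
    φ.app (i ⁻¹ᵁ (g ⁻¹ᵁ U)) (((Scheme.Modules.pullbackId D).inv.app (Omega.conormal (i ≫ g)) ≫ α).app
      ((i ≫ g) ⁻¹ᵁ U) (OmegaSh.conormalSect (i ≫ g) U s'))
  rw [τ₁_conormalSect i g α hα s' s hs, hφ' U s', hφ (g ⁻¹ᵁ U) s, hs,
    β_pullSect i g pC pC' Ω₁ d₁ Ω₁' d₁' dg hdg]

end Groth.Agent.Lib.Helper48.RibbonExt
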