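import Groth.Agent.Lib.Helper6.ThickIsAffine
import Groth.Prelude.Def_OmegaPn
import Mathlib.AlgebraicGeometry.Morphisms.Finite
import Mathlib.AlgebraicGeometry.Morphisms.QuasiCompact

/-!
# Retractions of surjective closed immersions are affine / integral / finite

If `t : X ⟶ Z` is a surjective closed immersion (a thickening) and `p : Z ⟶ X` satisfies
`t ≫ p = 𝟙 X`, then `p` is affine and integral, and finite as soon as it is locally of finite type.
Applied to the projections of the infinitesimal neighbourhoods of the diagonal.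
-/

set_option autoImplicit false
universe u

open CategoryTheory CategoryTheory.Limits AlgebraicGeometry

namespace Groth.Agent.Lib.Helper48.SectFinite

variable {X Z : Scheme.{u}}

theorem preimage_preimage_of_section (p : Z ⟶ X) (t : X ⟶ Z) (h : t ≫ p = 𝟙 X) (U : X.Opens) :
    t ⁻¹ᵁ (p ⁻¹ᵁ U) = U := by
  rw [← Scheme.Hom.comp_preimage, h]
  rfl

theorem isAffineHom_of_section (p : Z ⟶ X) (t : X ⟶ Z) [IsClosedImmersion t]
    (ht : Function.Surjective t) (h : t ≫ p = 𝟙 X) : IsAffineHom p := by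
  refine ⟨fun U hU => ?_⟩
  apply Groth.Agent.Lib.Helper6.ThickIsAffine.isAffineOpen_of_thickening t ht
  rw [preimage_preimage_of_section p t h]
  exact hU

theorem isNilpotent_of_app_eq_zero (t : X ⟶ Z) (ht : Function.Surjective t) {W : Z.Opens}
    (hW : IsAffineOpen W) (b : Γ(Z, W)) (hb : t.app W b = 0) : IsNilpotent b := by
  rw [Scheme.isNilpotent_iff_basicOpen_eq_bot_of_isCompact hW.isCompact]
  have h1 : t ⁻¹ᵁ (Z.basicOpen b) = ⊥ := by
    rw [Scheme.preimage_basicOpen, hb, Scheme.basicOpen_zero]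
  ext z
  simp only [TopologicalSpace.Opens.coe_bot, Set.mem_empty_iff_false, iff_false]
  intro hz
  obtain ⟨x, rfl⟩ := ht z
  have : x ∈ t ⁻¹ᵁ (Z.basicOpen b) := hz
  rw [h1] at this
  exact this

theorem isIntegralHom_of_section (p : Z ⟶ X) (t : X ⟶ Z) [IsClosedImmersion t]
    (ht : Function.Surjective t) (h : t ≫ p = 𝟙 X) : IsIntegralHom p := by
  haveI := isAffineHom_of_section p t ht h
  refine ⟨fun U hU b => ?_⟩
  have hW : IsAffineOpen (p ⁻¹ᵁ U) := hU.preimage p
  -- `a := t♯ b` transported to `Γ(X, U)`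
  have hUU : U ≤ t ⁻¹ᵁ (p ⁻¹ᵁ U) := (preimage_preimage_of_section p t h U).ge
  set a : Γ(X, U) := t.appLE (p ⁻¹ᵁ U) U hUU b with ha
  have hcomp : ∀ a' : Γ(X, U), t.appLE (p ⁻¹ᵁ U) U hUU (p.app U a') = a' := by
    intro a'
    have h1 : p.app U ≫ t.appLE (p ⁻¹ᵁ U) U hUU = (t ≫ p).appLE U U (by rw [h]; exact le_rfl) := by
      rw [← Scheme.Hom.appLE_eq_app, Scheme.Hom.appLE_comp_appLE]
    have h2 : (t ≫ p).appLE U U (by rw [h]; exact le_rfl) = 𝟙 _ := by
      have : ∀ (q : X ⟶ X) (hq : q = 𝟙 X) (e : U ≤ q ⁻¹ᵁ U), q.appLE U U e = 𝟙 _ := by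
        intro q hq e
        subst hq
        change 𝟙 _ ≫ X.presheaf.map (𝟙 _) = 𝟙 _
        simp
      exact this _ h _
    have := congrArg (fun φ => φ.hom a') (h1.trans h2)
    simpa using this
  have hnil : IsNilpotent (b - p.app U a) := by
    apply isNilpotent_of_app_eq_zero t ht hW
    have h3 : t.appLE (p ⁻¹ᵁ U) U hUU (b - p.app U a) = 0 := by
      rw [map_sub, hcomp, ha, sub_self]
    have h4 : t.appLE (p ⁻¹ᵁ U) U hUU = t.app (p ⁻¹ᵁ U) ≫ X.presheaf.map (homOfLE hUU).op := rfl
    rw [h4] at h3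
    have hiso : IsIso (X.presheaf.map (homOfLE hUU).op) := by
      have : t ⁻¹ᵁ (p ⁻¹ᵁ U) = U := preimage_preimage_of_section p t h U
      have hge : t ⁻¹ᵁ (p ⁻¹ᵁ U) ≤ U := this.le
      refine ⟨X.presheaf.map (homOfLE hge).op, ?_, ?_⟩ <;>
      · rw [← Functor.map_comp]
        exact X.presheaf.map_id _
    have hinj : Function.Injective (X.presheaf.map (homOfLE hUU).op) :=
      ((ConcreteCategory.isIso_iff_bijective _).mp hiso).1
    apply hinj
    rw [map_zero]
    exact h3
  have : b = p.app U a + (b - p.app U a) := by ring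
  rw [this]
  letI := (p.app U).hom.toAlgebra
  have hint : IsIntegral Γ(X, U) (b - p.app U a) := by
    obtain ⟨k, hk⟩ := hnil
    rcases Nat.eq_zero_or_pos k with rfl | hk0
    · rw [pow_zero] at hk
      have : (b - p.app U a) = 0 := by
        rw [← mul_one (b - p.app U a), hk, mul_zero]
      rw [this]
      exact isIntegral_zero
    · exact IsIntegral.of_pow hk0 (by rw [hk]; exact isIntegral_zero)
  exact IsIntegral.add ((p.app U).hom.isIntegralElem_map) hint

theorem isFinite_of_section (p : Z ⟶ X) [LocallyOfFiniteType p] (t : X ⟶ Z) [IsClosedImmersion t]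
    (ht : Function.Surjective t) (h : t ≫ p = 𝟙 X) : IsFinite p :=
  (AlgebraicGeometry.IsFinite.iff_isIntegralHom_and_locallyOfFiniteType (f := p)).mpr
    ⟨isIntegralHom_of_section p t ht h, inferInstance⟩

/-- `Y ⟶ Y^{(n)}` is a closed immersion when `i` is. -/
instance isClosedImmersion_toInfNbhd {X Y : Scheme.{u}} (i : Y ⟶ X) [IsClosedImmersion i] (n : ℕ) :
    IsClosedImmersion (PrinPart.toInfNbhd i n) := by
  unfold PrinPart.toInfNbhd
  haveI : IsClosedImmersion (Scheme.IdealSheafData.inclusion (PrinPart.ker_pow_succ_le i n)) := by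
    haveI : IsClosedImmersion (Scheme.IdealSheafData.inclusion (PrinPart.ker_pow_succ_le i n) ≫
        (i.ker ^ (n + 1)).subschemeι) := by
      rw [Scheme.IdealSheafData.inclusion_subschemeι]
      infer_instance
    exact IsClosedImmersion.of_comp _ (i.ker ^ (n + 1)).subschemeι
  infer_instance

section Diagonal

variable {S : Scheme.{u}} (f : X ⟶ S) (n : ℕ)

instance isAffineHom_pr1 : IsAffineHom (PrinPart.pr1 f n) :=
  isAffineHom_of_section _ (PrinPart.toNbhd f n)
    (PrinPart.toInfNbhd_surjective (PrinPart.diagCl f) n) (PrinPart.toNbhd_pr1 f n)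

instance isAffineHom_pr2 : IsAffineHom (PrinPart.pr2 f n) :=
  isAffineHom_of_section _ (PrinPart.toNbhd f n)
    (PrinPart.toInfNbhd_surjective (PrinPart.diagCl f) n) (PrinPart.toNbhd_pr2 f n)

instance isIntegralHom_pr1 : IsIntegralHom (PrinPart.pr1 f n) :=
  isIntegralHom_of_section _ (PrinPart.toNbhd f n)
    (PrinPart.toInfNbhd_surjective (PrinPart.diagCl f) n) (PrinPart.toNbhd_pr1 f n)

instance isIntegralHom_pr2 : IsIntegralHom (PrinPart.pr2 f n) :=
  isIntegralHom_of_section _ (PrinPart.toNbhd f n)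
    (PrinPart.toInfNbhd_surjective (PrinPart.diagCl f) n) (PrinPart.toNbhd_pr2 f n)

instance locallyOfFiniteType_pr1 [LocallyOfFiniteType f] : LocallyOfFiniteType (PrinPart.pr1 f n) := by
  unfold PrinPart.pr1 PrinPart.nbhdι PrinPart.infNbhdι
  infer_instance

instance locallyOfFiniteType_pr2 [LocallyOfFiniteType f] : LocallyOfFiniteType (PrinPart.pr2 f n) := by
  unfold PrinPart.pr2 PrinPart.nbhdι PrinPart.infNbhdι
  infer_instance

instance isFinite_pr1 [LocallyOfFiniteType f] : IsFinite (PrinPart.pr1 f n) :=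
  isFinite_of_section _ (PrinPart.toNbhd f n)
    (PrinPart.toInfNbhd_surjective (PrinPart.diagCl f) n) (PrinPart.toNbhd_pr1 f n)

instance isFinite_pr2 [LocallyOfFiniteType f] : IsFinite (PrinPart.pr2 f n) :=
  isFinite_of_section _ (PrinPart.toNbhd f n)
    (PrinPart.toInfNbhd_surjective (PrinPart.diagCl f) n) (PrinPart.toNbhd_pr2 f n)

end Diagonal

end Groth.Agent.Lib.Helper48.SectFinite
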