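import Mathlib.RingTheory.AdjoinRoot
import Mathlib.Algebra.Polynomial.Div
import Mathlib.LinearAlgebra.FreeModule.Basic
import Mathlib.RingTheory.Finiteness.Basic
import Mathlib.Tactic

/-!
A splitting algebra for a monic polynomial over an arbitrary commutative ring: a finite free
extension in which the polynomial becomes a product of linear factors.
-/

set_option autoImplicit false
universe u

namespace Groth.Agent.Lib.Helper48

open Polynomial

theorem adjoinRoot_of_injective {R : Type u} [CommRing R] (f : R[X]) (hf : f.Monic)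
    (hdeg : f.natDegree ≠ 0) : Function.Injective (algebraMap R (AdjoinRoot f)) := by
  rw [injective_iff_map_eq_zero]
  intro r hr
  by_contra hr0
  have h1 : f ∣ C r := AdjoinRoot.mk_eq_zero.mp hr
  have hC : (C r : R[X]) ≠ 0 := by rwa [Ne, C_eq_zero]
  have hlt : (C r : R[X]).natDegree < f.natDegree := by
    rw [natDegree_C]; omega
  exact hf.not_dvd_of_natDegree_lt hC hlt h1

theorem exists_splitting (n : ℕ) : ∀ (R : Type u) [CommRing R] (f : R[X]), f.Monic →
    f.natDegree = n → ∃ (S' : Type u) (_ : CommRing S') (_ : Algebra R S'),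
      Module.Finite R S' ∧ Module.Free R S' ∧ Function.Injective (algebraMap R S') ∧
      ∃ α : Fin n → S', f.map (algebraMap R S') = ∏ i, (X - C (α i)) := by
  induction n with
  | zero =>
    intro R _ f hf hdeg
    refine ⟨R, inferInstance, inferInstance, inferInstance, inferInstance,
      fun _ _ h => h, Fin.elim0, ?_⟩
    have : f = 1 := (Polynomial.Monic.natDegree_eq_zero hf).mp hdeg
    simp [this]
  | succ n ih =>
    intro R _ f hf hdeg
    let R₁ := AdjoinRoot f
    have hfin : Module.Finite R R₁ := hf.finite_adjoinRoot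
    have hfree : Module.Free R R₁ := hf.free_adjoinRoot
    have hinj : Function.Injective (algebraMap R R₁) :=
      adjoinRoot_of_injective f hf (by omega)
    have hntR : Nontrivial R := by
      by_contra hnt
      rw [not_nontrivial_iff_subsingleton] at hnt
      have : f = 0 := Subsingleton.elim _ _
      rw [this, natDegree_zero] at hdeg
      omega
    have hntR₁ : Nontrivial R₁ := hinj.nontrivial
    let α₀ : R₁ := AdjoinRoot.root f
    let F : R₁[X] := f.map (algebraMap R R₁)
    have hF : F.Monic := hf.map _
    have hroot : F.IsRoot α₀ := by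
      change eval α₀ (f.map (AdjoinRoot.of f)) = 0
      rw [eval_map, AdjoinRoot.eval₂_root]
    let f₁ : R₁[X] := F /ₘ (X - C α₀)
    have hmul : (X - C α₀) * f₁ = F := mul_divByMonic_eq_iff_isRoot.mpr hroot
    have hf₁ : f₁.Monic := (monic_X_sub_C α₀).of_mul_monic_left (hmul ▸ hF)
    have hdeg₁ : f₁.natDegree = n := by
      have h1 : F.natDegree = n + 1 := by rw [hf.natDegree_map, hdeg]
      have h2 := natDegree_divByMonic F (monic_X_sub_C α₀)
      rw [natDegree_X_sub_C, h1] at h2
      exact h2
    obtain ⟨S', _, _, hfin', hfree', hinj', α', hα'⟩ := ih R₁ f₁ hf₁ hdeg₁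
    letI : Algebra R S' := ((algebraMap R₁ S').comp (algebraMap R R₁)).toAlgebra
    haveI : IsScalarTower R R₁ S' := IsScalarTower.of_algebraMap_eq (fun _ => rfl)
    refine ⟨S', inferInstance, inferInstance, Module.Finite.trans R₁ S',
      Module.Free.trans (R := R) (S := R₁) (M := S'), hinj'.comp hinj,
      Fin.cons (algebraMap R₁ S' α₀) α', ?_⟩
    have e1 : f.map (algebraMap R S') = F.map (algebraMap R₁ S') := by
      rw [Polynomial.map_map]; rfl
    rw [e1, ← hmul, Polynomial.map_mul, hα', Fin.prod_univ_succ]
    simp
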