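import Groth.Prelude.Def_OmegaPn
import Groth.Prelude.Def_FlatMod2
import Mathlib.AlgebraicGeometry.Morphisms.Flat

/-!
# Stalks of `p_* O_Y` for an inducing `p`, and flatness of `p` from stalkwise flatness of `p_* O_Y`
-/

set_option autoImplicit false
universe u
open CategoryTheory CategoryTheory.Limits AlgebraicGeometry TopologicalSpace Opposite

namespace Groth.Agent.Lib.Helper48.StalkPush

variable {X Y : Scheme.{u}} (p : Y ⟶ X)

/-- `p_* O_Y`. -/
noncomputable abbrev pushO : X.Modules :=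
  (Scheme.Modules.pushforward p).obj (Coh.structureModule Y)

/-- germ of a section of `p_* O_Y` over `U ∋ p y` as an element of `O_{Y,y}`. -/
noncomputable def germY (y : Y) (U : X.Opens) (hy : p y ∈ U) :
    Γ(pushO p, U) →+ Y.presheaf.stalk y :=
  (Y.presheaf.germ (p ⁻¹ᵁ U) y hy).hom.toAddMonoidHom

theorem germY_res (y : Y) {U V : X.Opens} (hy : p y ∈ V) (hVU : V ≤ U) (s : Γ(pushO p, U)) :
    germY p y V hy ((pushO p).presheaf.map (homOfLE hVU).op s) = germY p y U (hVU hy) s := by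
  exact TopCat.Presheaf.germ_res_apply Y.presheaf (homOfLE (p.preimage_mono hVU)) y hy s

/-- The cocone. -/
noncomputable def cocone (y : Y) :
    Cocone ((OpenNhds.inclusion (p y)).op ⋙ (pushO p).presheaf) where
  pt := AddCommGrpCat.of (Y.presheaf.stalk y)
  ι :=
    { app := fun U => AddCommGrpCat.ofHom (germY p y U.unop.1 U.unop.2)
      naturality := fun U V i => by
        ext s
        exact germY_res p y V.unop.2 i.unop.le s }

/-- The comparison map `(p_* O_Y)_{p y} → O_{Y,y}`. -/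
noncomputable def θ (y : Y) : ((pushO p).presheaf.stalk (p y)) →+ Y.presheaf.stalk y :=
  (colimit.desc _ (cocone p y)).hom

theorem θ_germ (y : Y) (U : X.Opens) (hy : p y ∈ U) (s : Γ(pushO p, U)) :
    θ p y ((pushO p).presheaf.germ U (p y) hy s) = germY p y U hy s := by
  have := colimit.ι_desc (cocone p y) (op ⟨U, hy⟩)
  exact ConcreteCategory.congr_hom this s

theorem germ_smul' (x : X) (M : X.Modules) (U : X.Opens) (hx : x ∈ U) (r : Γ(X, U)) (m : Γ(M, U)) :
    M.presheaf.germ U x hx (r • m) = X.presheaf.germ U x hx r • M.presheaf.germ U x hx m :=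
  PresheafOfModules.germ_smul (R := X.presheaf) M.val x U hx r m

theorem θ_smul (y : Y) (r : X.presheaf.stalk (p y)) (m : (pushO p).presheaf.stalk (p y)) :
    θ p y (r • m) = (p.stalkMap y).hom r * θ p y m := by
  obtain ⟨U, hU, r', rfl⟩ := TopCat.Presheaf.exists_germ_eq X.presheaf r
  obtain ⟨V, hV, m', rfl⟩ := TopCat.Presheaf.exists_germ_eq (pushO p).presheaf m
  have hW : p y ∈ U ⊓ V := ⟨hU, hV⟩
  have e1 : X.presheaf.germ U (p y) hU r' =
      X.presheaf.germ (U ⊓ V) (p y) hW (X.presheaf.map (homOfLE inf_le_left).op r') :=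
    (TopCat.Presheaf.germ_res_apply X.presheaf (homOfLE inf_le_left) (p y) hW r').symm
  have e2 : (pushO p).presheaf.germ V (p y) hV m' =
      (pushO p).presheaf.germ (U ⊓ V) (p y) hW ((pushO p).presheaf.map (homOfLE inf_le_right).op m') :=
    (TopCat.Presheaf.germ_res_apply (pushO p).presheaf (homOfLE inf_le_right) (p y) hW m').symm
  rw [e1, e2, ← germ_smul', θ_germ, θ_germ, Scheme.Hom.germ_stalkMap_apply]
  exact map_mul (Y.presheaf.germ (p ⁻¹ᵁ (U ⊓ V)) y hW).hom _ _

theorem exists_preimage_eq (hp : Topology.IsInducing p) (W : Y.Opens) :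
    ∃ U : X.Opens, p ⁻¹ᵁ U = W := by
  obtain ⟨t, ht, htW⟩ := hp.isOpen_iff.1 W.2
  exact ⟨⟨t, ht⟩, Opens.ext htW⟩

theorem ring_side (U U'' : X.Opens) (s : Γ(Y, p ⁻¹ᵁ U)) (iU : p ⁻¹ᵁ U'' ⟶ p ⁻¹ᵁ U)
    (hW : Y.presheaf.map iU.op s = 0) :
    Y.presheaf.map (homOfLE (p.preimage_mono (inf_le_right : U'' ⊓ U ≤ U))).op s = 0 := by
  have e : (homOfLE (p.preimage_mono (inf_le_right : U'' ⊓ U ≤ U))) =
      (homOfLE (p.preimage_mono (inf_le_left : U'' ⊓ U ≤ U''))) ≫ iU := Subsingleton.elim _ _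
  rw [e, op_comp, Functor.map_comp, CommRingCat.comp_apply, hW, map_zero]

theorem θ_injective (hp : Topology.IsInducing p) (y : Y) : Function.Injective (θ p y) := by
  rw [injective_iff_map_eq_zero]
  intro m hm
  obtain ⟨U, hU, s, rfl⟩ := TopCat.Presheaf.exists_germ_eq (pushO p).presheaf m
  rw [θ_germ] at hm
  let s' : Γ(Y, p ⁻¹ᵁ U) := s
  have h0 : (Y.presheaf.germ (p ⁻¹ᵁ U) y hU) s' = (Y.presheaf.germ (p ⁻¹ᵁ U) y hU) 0 := by
    rw [map_zero]; exact hm
  obtain ⟨W, hyW, iU, iV, hW⟩ := TopCat.Presheaf.germ_eq Y.presheaf y hU hU s' 0 h0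
  obtain ⟨U'', rfl⟩ := exists_preimage_eq p hp W
  have hy' : p y ∈ U'' ⊓ U := ⟨hyW, hU⟩
  have e2 : (pushO p).presheaf.germ U (p y) hU s =
      (pushO p).presheaf.germ (U'' ⊓ U) (p y) hy' ((pushO p).presheaf.map (homOfLE inf_le_right).op s) :=
    (TopCat.Presheaf.germ_res_apply (pushO p).presheaf (homOfLE inf_le_right) (p y) hy' s).symm
  rw [e2]
  have hs : (pushO p).presheaf.map (homOfLE (inf_le_right : U'' ⊓ U ≤ U)).op s = 0 := by
    rw [map_zero] at hW
    exact ring_side p U U'' s' iU hW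
  rw [hs, map_zero]

theorem θ_surjective (hp : Topology.IsInducing p) (y : Y) : Function.Surjective (θ p y) := by
  intro r
  obtain ⟨W, hyW, t, rfl⟩ := TopCat.Presheaf.exists_germ_eq Y.presheaf r
  obtain ⟨U, rfl⟩ := exists_preimage_eq p hp W
  exact ⟨(pushO p).presheaf.germ U (p y) hyW t, θ_germ p y U hyW t⟩

theorem flat_stalkMap (hp : Topology.IsInducing p) (y : Y)
    (h : FlatMod.IsFlatAt (pushO p) (p y)) : (p.stalkMap y).hom.Flat := by
  let _ := (p.stalkMap y).hom.toAlgebra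
  let L : (pushO p).presheaf.stalk (p y) →ₗ[X.presheaf.stalk (p y)] Y.presheaf.stalk y :=
    { toFun := θ p y
      map_add' := map_add _
      map_smul' := fun r m => by
        rw [θ_smul]; rfl }
  let e := LinearEquiv.ofBijective L ⟨θ_injective p hp y, θ_surjective p hp y⟩
  exact (Module.Flat.equiv_iff e).1 h

theorem flat_of_isFlat_pushO (hp : Topology.IsInducing p) (h : FlatMod.IsFlat (pushO p)) :
    Flat p := by
  rw [Flat.iff_flat_stalkMap]
  intro y
  exact flat_stalkMap p hp y (h (p y))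

end Groth.Agent.Lib.Helper48.StalkPush
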