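import Groth.Agent.Lib.Helper48.SumConormal2
import Groth.Agent.Lib.Helper43.KoszulH1

/-!
# The conormal sheaf of a transversal intersection of Koszul-regular closed subschemes is the sum
of the pulled back conormal sheaves
-/

set_option autoImplicit false
universe u
open CategoryTheory CategoryTheory.Limits AlgebraicGeometry TopologicalSpace Opposite

namespace Groth.Agent.Lib.Helper48.SumConormal

open Groth.Agent.Lib.Helper48.OmegaAff Groth.Agent.Lib.Helper48.Conormal Scheme.Modules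

section Gens

variable {X₁ X : Scheme.{u}} (j : X₁ ⟶ X) [QuasiCompact j]

theorem exists_gens_of_le {U₀ U : X.affineOpens} (h : U ≤ U₀) {d : ℕ}
    (rs₀ : List Γ(X, U₀.1)) (hlen : rs₀.length = d)
    (hker : RingHom.ker (j.app U₀.1).hom = Ideal.ofList rs₀) :
    ∃ rs : Fin d → Γ(X, U.1), RingHom.ker (j.app U.1).hom = Ideal.span (Set.range rs) := by
  subst hlen
  refine ⟨fun k => X.presheaf.map (homOfLE h).op (rs₀.get k), ?_⟩
  rw [← Scheme.Hom.ker_apply j U, ← j.ker.map_ideal h, Scheme.Hom.ker_apply j U₀, hker,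
    Ideal.ofList, ← Set.range_list_get, Ideal.map_span, ← Set.range_comp]
  rfl

end Gens

section Free

variable {Y X : Scheme.{u}} (i : Y ⟶ X) [IsClosedImmersion i]

theorem exists_efree {U₀ U : X.affineOpens} (h : U ≤ U₀)
    (rs₀ : List Γ(X, U₀.1)) (hreg : CAlgX.IsH1Regular rs₀.get)
    (hker : RingHom.ker (i.app U₀.1).hom = Ideal.ofList rs₀) :
    Nonempty (Γ(Omega.conormal i, i ⁻¹ᵁ U.1) ≃ₗ[Γ(Y, i ⁻¹ᵁ U.1)]
      (Fin rs₀.length → Γ(Y, i ⁻¹ᵁ U.1))) := by
  have hV₀ : IsGoodFor i U₀.1 :=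
    Groth.Agent.Lib.Helper48.RegSection.isGoodFor_of_isClosedImmersion i U₀.2
  have hV : IsGoodFor i U.1 :=
    Groth.Agent.Lib.Helper48.RegSection.isGoodFor_of_isClosedImmersion i U.2
  have hker' : RingHom.ker (i.app U₀.1).hom = Ideal.span (Set.range rs₀.get) := by
    rw [hker, Set.range_list_get]
  have h0 : Nonempty ((Omega.conormal i).restrict (i ⁻¹ᵁ U₀.1).ι ≅
      FlatMod.freeMod (↑(i ⁻¹ᵁ U₀.1)) rs₀.length) := by
    rw [Groth.Agent.Lib.Helper2.FreeModAff.nonempty_iso_freeMod_iff (Omega.conormal i) hV₀.2.1]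
    exact ⟨(LinearEquiv.ofBijective _
      (linearCombination_genClass_bijective i hV₀ rs₀.get hreg hker')).symm⟩
  have h1 := Groth.Agent.Lib.Helper2.FreeModAff.nonempty_iso_freeMod_of_le (Omega.conormal i)
    (i.preimage_mono h) rs₀.length h0
  rwa [Groth.Agent.Lib.Helper2.FreeModAff.nonempty_iso_freeMod_iff (Omega.conormal i) hV.2.1] at h1

end Free

theorem nonempty_iso_sum (X Y : Scheme.{u}) (r : ℕ)
    (Xs : Fin r → Scheme.{u}) (j : ∀ l, Xs l ⟶ X) [∀ l, IsClosedImmersion (j l)] (d : Fin r → ℕ)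
    (hj : ∀ l, RegImm.IsRegularImmersionOfCodim RegImm.Kind.koszul (d l) (j l))
    (i : Y ⟶ X) [IsClosedImmersion i]
    (hY : ∀ U : X.affineOpens, i.ker.ideal U = ⨆ l, (j l).ker.ideal U)
    (g : ∀ l, Y ⟶ Xs l) (hg : ∀ l, g l ≫ j l = i)
    (hi : RegImm.IsRegularImmersionOfCodim RegImm.Kind.koszul (∑ l, d l) i) :
    Nonempty (Omega.conormal i ≅
      ∐ fun l => (Scheme.Modules.pullback (g l)).obj (Omega.conormal (j l))) := by
  classical
  have hw : ∀ l, g l ≫ j l = i ≫ 𝟙 X := fun l => by rw [hg l, Category.comp_id]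
  have hex := fun l => (Groth.Agent.Lib.Helper48.ConormalMap.existsUnique_conormalMap
    (i := i) (i' := j l) (g := 𝟙 X) (gZ := g l) (hw l)).exists
  choose φ hφ using hex
  have hφ' : ∀ l, OmegaSh.IsConormalMap i (j l) (𝟙 X) (g l) (φ l) := hφ
  let 𝓑 : Set Y.Opens := {W | Function.Bijective ((Sigma.desc φ).app W)}
  have hB : TopologicalSpace.Opens.IsBasis 𝓑 := by
    rw [TopologicalSpace.Opens.isBasis_iff_nbhd]
    intro O y hy
    obtain ⟨U₀, hyU₀, -, rs₀, hlen₀, hreg₀, hker₀⟩ := hi.2 y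
    have hjl := fun l => (hj l).2 (g l y)
    choose Uc hyUc _ rsc hlenc _ hkerc using hjl
    have hiy : ∀ l, j l (g l y) = i y := fun l => by
      rw [← Scheme.Hom.comp_apply, hg l]
    let V₀ : X.Opens := U₀.1 ⊓ ⨅ l, (Uc l).1
    have hV₀ : i y ∈ V₀ := by
      refine ⟨hyU₀, ?_⟩
      change i y ∈ ((⨅ l, (Uc l).1 : X.Opens) : Set X)
      rw [TopologicalSpace.Opens.coe_iInf]
      exact Set.mem_iInter.2 fun l => (hiy l) ▸ hyUc l
    obtain ⟨U, hUgood, hyU, hUV₀, hUO⟩ := exists_goodFor i y O hy V₀ hV₀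
    let U' : X.affineOpens := ⟨U, hUgood.1⟩
    have hU₀ : U' ≤ U₀ := hUV₀.trans inf_le_left
    have hUc : ∀ l, U' ≤ Uc l := fun l => (hUV₀.trans inf_le_right).trans (iInf_le _ l)
    obtain ⟨efree⟩ := exists_efree i hU₀ rs₀
      (Groth.Agent.Lib.Helper43.KoszulH1.isH1Regular_of_isKoszulRegularSeq rs₀ hreg₀) hker₀
    have hgens := fun l => exists_gens_of_le (j l) (hUc l) (rsc l) (hlenc l) (hkerc l)
    choose rs hrs using hgens
    have hYU : RingHom.ker (i.app U).hom = ⨆ l, RingHom.ker ((j l).app U).hom := by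
      have h1 := hY U'
      rw [Scheme.Hom.ker_apply i U'] at h1
      rw [h1]
      exact iSup_congr fun l => Scheme.Hom.ker_apply (j l) U'
    refine ⟨i ⁻¹ᵁ U, ?_, hyU, hUO⟩
    exact bijective_desc_app Xs j i g hg φ hφ' hUgood.1 efree d hlen₀.symm rs hrs hYU
  have : Mono (Sigma.desc φ) := mono_of_basis _ 𝓑 hB (fun W hW => hW.1)
  have : Epi (Sigma.desc φ) := epi_of_basis _ 𝓑 hB (fun W hW => hW.2)
  have : IsIso (Sigma.desc φ) := isIso_of_mono_of_epi _
  exact ⟨(asIso (Sigma.desc φ)).symm⟩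

end Groth.Agent.Lib.Helper48.SumConormal
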