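import Mathlib.AlgebraicGeometry.StructureSheaf
import Mathlib.AlgebraicGeometry.Modules.Tilde
import Mathlib.RingTheory.Spectrum.Prime.Noetherian
import Mathlib.Topology.NoetherianSpace
import Mathlib.Algebra.Module.Torsion.Basic

/-!
Concrete lemmas on sections of the sheaf associated with a module over open subsets of the prime
spectrum of a Noetherian ring: sections vanishing away from `V(f)` are killed by a power of `f`,
and the canonical map from `M` to sections over the complement of `V(a)` has `a`-power-torsion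
kernel and cokernel.
-/

set_option autoImplicit false
universe u

namespace Groth.Agent.Lib.Helper48

open AlgebraicGeometry StructureSheaf TopologicalSpace Opposite CategoryTheory

variable {R M : Type u} [CommRing R] [AddCommGroup M] [Module R M]

/-- Sections of the sheaf associated with `M` over `U`, as dependent functions. -/
abbrev Sec (R M : Type u) [CommRing R] [AddCommGroup M] [Module R M]
    (U : Opens (PrimeSpectrum.Top R)) : Type u :=
  (structureSheafInType R M).obj.obj (op U)

theorem section_ext {U : Opens (PrimeSpectrum.Top R)} (σ τ : Sec R M U)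
    (h : ∀ x : U, σ.1 x = τ.1 x) : σ = τ := Subtype.ext (funext h)

theorem zero_apply {U : Opens (PrimeSpectrum.Top R)} (x : U) : (0 : Sec R M U).1 x = 0 := rfl

theorem sub_apply {U : Opens (PrimeSpectrum.Top R)} (σ τ : Sec R M U) (x : U) :
    (σ - τ).1 x = σ.1 x - τ.1 x := rfl

/-- Scalars outside a prime act injectively on the localization at that prime. -/
theorem smul_localization_injective (x : PrimeSpectrum.Top R) (f : R) (hf : f ∉ x.asIdeal)
    (z : Localizations M x) (h : f • z = 0) : z = 0 := by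
  have hu := IsLocalizedModule.map_units (S := x.asIdeal.primeCompl)
    (LocalizedModule.mkLinearMap x.asIdeal.primeCompl M) ⟨f, hf⟩
  rw [Module.End.isUnit_iff] at hu
  apply hu.injective
  simpa using h

/-- If an element of `M` becomes zero in the localization at every prime not containing `g`,
then it is killed by a power of `g`. -/
theorem exists_pow_smul_eq_zero_of_forall_mk_eq_zero (n : M) (g : R)
    (h : ∀ q : PrimeSpectrum R, g ∉ q.asIdeal →
      LocalizedModule.mk n (1 : q.asIdeal.primeCompl) = 0) : ∃ K : ℕ, g ^ K • n = 0 := by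
  let I : Ideal R := LinearMap.ker (LinearMap.toSpanSingleton R M n)
  have hI : ∀ r, r ∈ I ↔ r • n = 0 := fun r => by
    simp [I, LinearMap.mem_ker, LinearMap.toSpanSingleton_apply]
  suffices hg : g ∈ I.radical by
    obtain ⟨K, hK⟩ := hg
    exact ⟨K, (hI _).mp hK⟩
  rw [Ideal.radical_eq_sInf, Ideal.mem_sInf]
  rintro q ⟨hIq, hq⟩
  by_contra hgq
  have h0 := h ⟨q, hq⟩ hgq
  rw [← LocalizedModule.mkLinearMap_apply,
    IsLocalizedModule.eq_zero_iff q.primeCompl (LocalizedModule.mkLinearMap q.primeCompl M)] at h0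
  obtain ⟨c, hc⟩ := h0
  exact c.2 (hIq ((hI _).mpr hc))

variable [IsNoetherianRing R]

/-- A section vanishing at all points outside `V(f)` is killed by a power of `f`. -/
theorem exists_pow_smul_eq_zero_of_vanish (W : Opens (PrimeSpectrum.Top R)) (σ : Sec R M W) (f : R)
    (h : ∀ x : W, f ∉ x.1.asIdeal → σ.1 x = 0) : ∃ K : ℕ, f ^ K • σ = 0 := by
  classical
  -- local statement
  have hloc : ∀ y : W, ∃ (V : Set (PrimeSpectrum R)) (K : ℕ), IsOpen V ∧ y.1 ∈ V ∧
      ∀ z : W, z.1 ∈ V → f ^ K • σ.1 z = 0 := by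
    intro y
    obtain ⟨g, hyg, hgW, n, hn⟩ := exists_const W σ y.1 y.2
    have hval : ∀ z : W, ∀ hz : g ∉ z.1.asIdeal, σ.1 z = LocalizedModule.mk n ⟨g, hz⟩ := by
      intro z hz
      have := congrArg (fun s : (structureSheafInType R M).obj.obj (op (PrimeSpectrum.basicOpen g))
        => s.1 ⟨z.1, hz⟩) hn
      exact this.symm
    have hvan : ∀ q : PrimeSpectrum R, g * f ∉ q.asIdeal →
        LocalizedModule.mk n (1 : q.asIdeal.primeCompl) = 0 := by
      intro q hq
      have hgq : g ∉ q.asIdeal := fun hg => hq (q.asIdeal.mul_mem_right f hg)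
      have hfq : f ∉ q.asIdeal := fun hf => hq (q.asIdeal.mul_mem_left g hf)
      have hqW : q ∈ W := hgW hgq
      have h1 := h ⟨q, hqW⟩ hfq
      rw [hval ⟨q, hqW⟩ hgq] at h1
      have h2 : LocalizedModule.mk n (1 : q.asIdeal.primeCompl) =
          g • LocalizedModule.mk n ⟨g, hgq⟩ := by
        rw [LocalizedModule.smul'_mk, LocalizedModule.mk_eq]
        exact ⟨1, by simp [Submonoid.smul_def]⟩
      rw [h2, h1, smul_zero]
    obtain ⟨K, hK⟩ := exists_pow_smul_eq_zero_of_forall_mk_eq_zero n (g * f) hvan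
    refine ⟨PrimeSpectrum.basicOpen g, K, (PrimeSpectrum.basicOpen g).2, hyg, ?_⟩
    intro z hz
    have hz' : g ∉ z.1.asIdeal := hz
    rw [hval z hz', LocalizedModule.smul'_mk]
    have : LocalizedModule.mk (f ^ K • n) (⟨g, hz'⟩ : z.1.asIdeal.primeCompl) =
        LocalizedModule.mk 0 (1 : z.1.asIdeal.primeCompl) := by
      rw [LocalizedModule.mk_eq]
      refine ⟨⟨g, hz'⟩ ^ K, ?_⟩
      simp only [smul_zero, one_smul, Submonoid.smul_def, SubmonoidClass.coe_pow]
      rw [← mul_smul, ← mul_pow, hK]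
    rw [this, LocalizedModule.zero_mk]
  choose V K hVo hyV hVK using hloc
  have hcomp : IsCompact (W.1 : Set (PrimeSpectrum R)) :=
    NoetherianSpace.isCompact (α := PrimeSpectrum R) _
  obtain ⟨t, ht⟩ := hcomp.elim_finite_subcover V hVo (fun x hx =>
    Set.mem_iUnion.mpr ⟨⟨x, hx⟩, hyV ⟨x, hx⟩⟩)
  refine ⟨∑ y ∈ t, K y, ?_⟩
  apply section_ext
  intro z
  rw [structureSheafInType.smul_apply, zero_apply]
  obtain ⟨y, hy⟩ := Set.mem_iUnion.mp (ht z.2)
  obtain ⟨hyt, hzV⟩ := Set.mem_iUnion.mp hy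
  rw [← Finset.add_sum_erase t K hyt, add_comm, pow_add, mul_smul, hVK y z hzV, smul_zero]

omit [IsNoetherianRing R] in
/-- A section killed by a power of `a` vanishes at every point outside `V(a)`. -/
theorem apply_eq_zero_of_pow_smul_eq_zero (W : Opens (PrimeSpectrum.Top R)) (σ : Sec R M W)
    (a : Ideal R) (n : ℕ) (h : ∀ r ∈ a ^ n, r • σ = 0) (x : W) (hx : ¬ a ≤ x.1.asIdeal) :
    σ.1 x = 0 := by
  obtain ⟨f, hfa, hfx⟩ := SetLike.not_le_iff_exists.mp hx
  have h1 : f ^ n • σ = 0 := h _ (Ideal.pow_mem_pow hfa n)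
  have h2 : f ^ n • σ.1 x = 0 := by
    rw [← structureSheafInType.smul_apply, h1, zero_apply]
  exact smul_localization_injective x.1 (f ^ n)
    (fun hmem => hfx (x.1.asIdeal.primeCompl.pow_mem hfx n hmem).elim) _ h2

/-- Sections vanishing outside `V(a)` are exactly those killed by a power of `a`. -/
theorem vanish_iff_exists_pow (W : Opens (PrimeSpectrum.Top R)) (a : Ideal R) (σ : Sec R M W) :
    (∀ x : W, ¬ a ≤ x.1.asIdeal → σ.1 x = 0) ↔ ∃ n : ℕ, ∀ r ∈ a ^ n, r • σ = 0 := by
  constructor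
  · intro h
    let I : Ideal R := LinearMap.ker (LinearMap.toSpanSingleton R (Sec R M W) σ)
    have hI : ∀ r, r ∈ I ↔ r • σ = 0 := fun r => by
      simp [I, LinearMap.mem_ker, LinearMap.toSpanSingleton_apply]
    have hle : a ≤ I.radical := by
      intro f hf
      obtain ⟨K, hK⟩ := exists_pow_smul_eq_zero_of_vanish W σ f (fun x hfx =>
        h x (fun hax => hfx (hax hf)))
      exact ⟨K, (hI _).mpr hK⟩
    obtain ⟨n, hn⟩ := Ideal.exists_pow_le_of_le_radical_of_fg hle (IsNoetherian.noetherian a)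
    exact ⟨n, fun r hr => (hI r).mp (hn hr)⟩
  · rintro ⟨n, hn⟩ x hx
    exact apply_eq_zero_of_pow_smul_eq_zero W σ a n hn x hx

/-- The kernel of the canonical map from `M` to sections over the complement of `V(a)`. -/
theorem toOpenₗ_eq_zero_iff (U : Opens (PrimeSpectrum.Top R)) (a : Ideal R)
    (hU : ∀ x : PrimeSpectrum R, x ∈ U ↔ ¬ a ≤ x.asIdeal) (m : M) :
    toOpenₗ R M U m = 0 ↔ ∃ n : ℕ, ∀ r ∈ a ^ n, r • m = 0 := by
  constructor
  · intro h
    let I : Ideal R := LinearMap.ker (LinearMap.toSpanSingleton R M m)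
    have hI : ∀ r, r ∈ I ↔ r • m = 0 := fun r => by
      simp [I, LinearMap.mem_ker, LinearMap.toSpanSingleton_apply]
    have hle : a ≤ I.radical := by
      rw [Ideal.radical_eq_sInf]
      refine le_sInf ?_
      rintro q ⟨hIq, hq⟩
      by_contra haq
      have hqU : (⟨q, hq⟩ : PrimeSpectrum R) ∈ U := (hU _).mpr haq
      have h0 : (toOpenₗ R M U m).1 ⟨⟨q, hq⟩, hqU⟩ = 0 := by rw [h]; rfl
      rw [toOpenₗ_eq_const, const_apply] at h0
      have h0' : LocalizedModule.mkLinearMap q.primeCompl M m = 0 := h0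
      rw [IsLocalizedModule.eq_zero_iff q.primeCompl
        (LocalizedModule.mkLinearMap q.primeCompl M)] at h0'
      obtain ⟨c, hc⟩ := h0'
      exact c.2 (hIq ((hI _).mpr hc))
    obtain ⟨n, hn⟩ := Ideal.exists_pow_le_of_le_radical_of_fg hle (IsNoetherian.noetherian a)
    exact ⟨n, fun r hr => (hI r).mp (hn hr)⟩
  · rintro ⟨n, hn⟩
    have h1 : ∀ r ∈ a ^ n, r • toOpenₗ R M U m = 0 := by
      intro r hr
      rw [← map_smul, hn r hr, map_zero]
    apply section_ext
    intro x
    rw [zero_apply]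
    exact apply_eq_zero_of_pow_smul_eq_zero U _ a n h1 x ((hU _).mp x.2)

/-- The cokernel of the canonical map from `M` to sections over the complement of `V(a)` is
`a`-power torsion. -/
theorem exists_pow_smul_mem_range (U : Opens (PrimeSpectrum.Top R)) (a : Ideal R)
    (hU : ∀ x : PrimeSpectrum R, x ∈ U ↔ ¬ a ≤ x.asIdeal) (τ : Sec R M U) :
    ∃ n : ℕ, ∀ r ∈ a ^ n, r • τ ∈ LinearMap.range (toOpenₗ R M U) := by
  let J : Ideal R := (LinearMap.range (toOpenₗ R M U)).comap
    (LinearMap.toSpanSingleton R (Sec R M U) τ)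
  have hJ : ∀ r, r ∈ J ↔ r • τ ∈ LinearMap.range (toOpenₗ R M U) := fun r => by
    simp [J, LinearMap.toSpanSingleton_apply]
  have hle : a ≤ J.radical := by
    rw [Ideal.radical_eq_sInf]
    refine le_sInf ?_
    rintro q ⟨hJq, hq⟩
    by_contra haq
    have hqU : (⟨q, hq⟩ : PrimeSpectrum R) ∈ U := (hU _).mpr haq
    obtain ⟨g, hqg, hgU, m, hm⟩ := exists_const U τ ⟨q, hq⟩ hqU
    have hval : ∀ z : U, ∀ hz : g ∉ z.1.asIdeal, τ.1 z = LocalizedModule.mk m ⟨g, hz⟩ := by
      intro z hz
      have := congrArg (fun s : (structureSheafInType R M).obj.obj (op (PrimeSpectrum.basicOpen g))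
        => s.1 ⟨z.1, hz⟩) hm
      exact this.symm
    obtain ⟨K, hK⟩ := exists_pow_smul_eq_zero_of_vanish U (g • τ - toOpenₗ R M U m) g (by
      intro z hz
      rw [sub_apply, structureSheafInType.smul_apply, hval z hz, toOpenₗ_eq_const, const_apply,
        LocalizedModule.smul'_mk, sub_eq_zero, LocalizedModule.mk_eq]
      exact ⟨1, by simp [Submonoid.smul_def]⟩)
    have hmem : g ^ (K + 1) ∈ J := by
      rw [hJ]
      refine ⟨g ^ K • m, ?_⟩
      rw [smul_sub, sub_eq_zero] at hK
      rw [map_smul, ← hK, pow_succ, mul_smul]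
    exact hqg (hq.mem_of_pow_mem _ (hJq hmem))
  obtain ⟨n, hn⟩ := Ideal.exists_pow_le_of_le_radical_of_fg hle (IsNoetherian.noetherian a)
  exact ⟨n, fun r hr => (hJ r).mp (hn hr)⟩

section Transport

omit [IsNoetherianRing R] in
theorem mem_iSup_torsionBy_pow_iff (a : Ideal R) {N : Type*} [AddCommGroup N] [Module R N]
    (x : N) : x ∈ ⨆ n : ℕ, Submodule.torsionBySet R N ((a ^ n : Ideal R) : Set R) ↔
      ∃ n : ℕ, ∀ r ∈ a ^ n, r • x = 0 := by
  have hmono : Monotone fun n : ℕ => Submodule.torsionBySet R N ((a ^ n : Ideal R) : Set R) := by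
    intro n m hnm
    exact Submodule.torsionBySet_le_torsionBySet_of_subset (Ideal.pow_le_pow_right hnm)
  rw [Submodule.mem_iSup_of_directed _ hmono.directed_le]
  refine exists_congr fun n => ?_
  rw [Submodule.mem_torsionBySet_iff]
  exact ⟨fun h r hr => h ⟨r, hr⟩, fun h r => h r.1 r.2⟩

end Transport

end Groth.Agent.Lib.Helper48
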