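import Groth.Prelude.Def_NonAbH2
import Groth.Prelude.Def_Red
import Groth.Prelude.Def_Omega3
import Groth.Agent.Lib.Helper48.ConormalMap2
import Groth.Agent.Lib.Helper48.Nbhd8

set_option autoImplicit false
open CategoryTheory MonoidalCategory CartesianMonoidalCategory MonObj AlgebraicGeometry Limits
open Omega

namespace Groth.Agent.Lib.Helper48.TorsorOmega

/-- every scheme over a field is flat -/
theorem flat_over_field {k : Type} [Field k] {X : Scheme.{0}} (f : X ⟶ Spec (CommRingCat.of k)) :
    Flat f := by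
  rw [HasRingHomProperty.iff_of_source_openCover (P := @Flat) X.affineCover]
  intro a
  have hF : IsField Γ(Spec (CommRingCat.of k), ⊤) :=
    (Scheme.ΓSpecIso (CommRingCat.of k)).commRingCatIsoToRingEquiv.toMulEquiv.isField
      (Field.toIsField k)
  let _ := hF.toField
  algebraize [(Scheme.Hom.appTop (X.affineCover.f a ≫ f)).hom]
  show Module.Flat _ _
  infer_instance

/-- a section of `P = G ×_S X → X` induced by a section of `G → S` gives a cartesian square -/
theorem isPullback_section {S G X P : Scheme.{0}} {pG : G ⟶ S} {h : X ⟶ S} {pr : P ⟶ G} {q : P ⟶ X}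
    (hP : IsPullback pr q pG h) (e : S ⟶ G) (he : e ≫ pG = 𝟙 S) (s : X ⟶ P) (hs₁ : s ≫ pr = h ≫ e)
    (hs₂ : s ≫ q = 𝟙 X) : IsPullback s h pr e := by
  have houter : IsPullback (s ≫ q) h h (e ≫ pG) := by
    rw [hs₂, he]
    exact IsPullback.of_horiz_isIso ⟨by simp⟩
  exact IsPullback.of_right houter hs₁ hP.flip

/-- The unit section of the base change lies over the unit section (after helper19). -/
theorem bc_unit_fst {S S' : Scheme.{0}} (f : S' ⟶ S) (G : Over S) [GrpObj G] :
    η[Red.bc f G].left ≫ pullback.fst G.hom f = f ≫ η[G].left := by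
  rw [Functor.obj.η_def, Over.comp_left, Category.assoc]
  have h1 : ((Over.pullback f).map η[G]).left ≫ pullback.fst G.hom f =
      pullback.fst (𝟙_ (Over S)).hom f ≫ η[G].left := by
    simp only [Over.pullback_map_left]
    exact pullback.lift_fst _ _ _
  rw [h1]
  have hε : (Functor.LaxMonoidal.ε (Over.pullback f)).left ≫
      pullback.snd (𝟙_ (Over S)).hom f = 𝟙 S' :=
    Over.w (Functor.LaxMonoidal.ε (Over.pullback f))
  have hc : pullback.fst (𝟙_ (Over S)).hom f = pullback.snd (𝟙_ (Over S)).hom f ≫ f := by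
    have := pullback.condition (f := (𝟙_ (Over S)).hom) (g := f)
    simpa using this
  rw [hc, Category.assoc, ← Category.assoc, hε]
  exact Category.id_comp _

theorem key
    {G Y : Over (Spec (CommRingCat.of ℂ))} [GrpObj G]
    {X : Over Y.left} (a : AlgGrp.Action (Red.bc Y.hom G) X)
    (hX : IsIso (lift a.act (snd (Red.bc Y.hom G) X)))
    (g : pullback X.hom X.hom ⟶ G.left)
    (hg : (lift a.act (snd (Red.bc Y.hom G) X)).left ≫ g =
      (fst (Red.bc Y.hom G) X).left ≫ pullback.fst G.hom Y.hom) :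
    IsPullback (pullback.diagonal X.hom)
      (toUnit (Over.mk (X.hom ≫ Y.hom) : Over (Spec (CommRingCat.of ℂ)))).left g (η[G]).left ∧
      Flat g := by
  set GY := Red.bc Y.hom G with hGY
  set Sh := lift a.act (snd GY X) with hSh
  -- the product `G_Y ×_Y X` is `G ×_ℂ X`
  have hsq2 : IsPullback (fst GY X).left (snd GY X).left GY.hom X.hom := by
    rw [Over.fst_left, Over.snd_left]
    exact IsPullback.of_hasPullback _ _
  have hsq1 : IsPullback (pullback.fst G.hom Y.hom) GY.hom G.hom Y.hom :=
    IsPullback.of_hasPullback _ _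
  have hP := hsq2.paste_horiz hsq1
  -- the section
  let s : X ⟶ GY ⊗ X := lift (toUnit X ≫ η[GY]) (𝟙 X)
  have hsSh : s ≫ Sh = lift (𝟙 X) (𝟙 X) := by
    have h1 : s = (λ_ X).inv ≫ (η[GY] ▷ X) := by
      ext <;> simp [s]
    have h2 : s ≫ a.act = 𝟙 X := by
      rw [h1, Category.assoc, a.one_act, Iso.inv_hom_id]
    ext
    · simp [hSh, h2]
    · simp [hSh, s]
  have he : (η[G]).left ≫ G.hom = 𝟙 _ := by
    have := Over.w η[G]
    rw [this]
    rfl
  have htU : (toUnit (Over.mk (X.hom ≫ Y.hom) : Over (Spec (CommRingCat.of ℂ)))).left =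
      X.hom ≫ Y.hom := by
    simp
  have hs₁ : s.left ≫ (fst GY X).left ≫ pullback.fst G.hom Y.hom =
      (X.hom ≫ Y.hom) ≫ (η[G]).left := by
    rw [← Category.assoc, ← Over.comp_left]
    have h1 : s ≫ fst GY X = toUnit X ≫ η[GY] := by simp [s]
    rw [h1, Over.comp_left, Category.assoc, bc_unit_fst]
    simp
  have hs₂ : s.left ≫ (snd GY X).left = 𝟙 _ := by
    rw [← Over.comp_left]
    have h1 : s ≫ snd GY X = 𝟙 X := by simp [s]
    rw [h1]
    rfl
  have h₁ := isPullback_section hP (η[G]).left he s.left hs₁ hs₂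
  have : IsIso Sh.left := inferInstanceAs (IsIso ((Over.forget _).map Sh))
  have hdiag : pullback.diagonal X.hom = s.left ≫ Sh.left := by
    rw [← Over.comp_left, hsSh]
    ext
    · simp only [pullback.diagonal_fst, Over.lift_left, Over.id_left]
      exact (pullback.lift_fst _ _ _).symm
    · simp only [pullback.diagonal_snd, Over.lift_left, Over.id_left]
      exact (pullback.lift_snd _ _ _).symm
  have hflat : Flat ((fst GY X).left ≫ pullback.fst G.hom Y.hom) :=
    MorphismProperty.of_isPullback (P := @Flat) hP.flip (flat_over_field _)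
  have hg' : g = inv Sh.left ≫ (fst GY X).left ≫ pullback.fst G.hom Y.hom := by
    rw [IsIso.eq_inv_comp]
    exact hg
  refine ⟨?_, ?_⟩
  · rw [htU]
    refine IsPullback.of_iso h₁ (Iso.refl _) (asIso Sh.left) (Iso.refl _) (Iso.refl _) ?_ ?_ ?_ ?_
    · simp [hdiag]
    · simp
    · simp [hg']
    · simp
  · rw [hg']
    infer_instance

end Groth.Agent.Lib.Helper48.TorsorOmega
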