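import Groth.Agent.Lib.Helper48.Conormal13
import Groth.Agent.Lib.Helper48.Conormal6
import Groth.Agent.Lib.Helper48.RegSection2
import Groth.Prelude.Def_Omega3

/-!
# Universal first order thickenings: transitivity (scheme level)

For `i : Z ⟶ Y`, `b : Y ⟶ X` with universal thickenings `Z'` (of `Z` over `X`), `Y'` (of `Y` over
`X`) and `Z''` (of `Z` over `Y`), the canonical `n : Z'' ⟶ Z'` identifies `Z''` with `Y ×_{Y'} Z'`.
-/

set_option autoImplicit false
universe u

open AlgebraicGeometry CategoryTheory Opposite TopologicalSpace CategoryTheory.Limits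

namespace Groth.Agent.Lib.Helper48.UnivThick

open Groth.Agent.Lib.Helper48.Conormal

section SqZero

variable {A B C : Scheme.{u}} (k : A ⟶ B) (t : B ⟶ C) [IsClosedImmersion t]
  [IsClosedImmersion k]

/-- If `k ≫ t` has square-zero ideal and `t` is a closed immersion then `k` has square-zero
ideal. -/
theorem ker_mul_ker_eq_bot (h : (k ≫ t).ker * (k ≫ t).ker = ⊥) : k.ker * k.ker = ⊥ := by
  rw [eq_bot_iff]
  intro W x hx
  rw [Scheme.IdealSheafData.ideal_mul] at hx
  rw [Scheme.IdealSheafData.ideal_bot, Pi.bot_apply, Ideal.mem_bot]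
  refine Submodule.mul_induction_on hx (fun a ha b hb => ?_) (fun a b ha hb => by rw [ha, hb, add_zero])
  rw [Scheme.Hom.ker_apply, RingHom.mem_ker] at ha hb
  refine TopCat.Presheaf.section_ext B.sheaf W.1 _ 0 (fun x hx => ?_)
  obtain ⟨V, hV, hxV, -, hVW⟩ := exists_goodFor t x W.1 hx ⊤ trivial
  have hVW' : t ⁻¹ᵁ V ≤ W.1 := hVW
  obtain ⟨a', ha'⟩ := hV.2.2 (B.presheaf.map (homOfLE hVW').op a)
  obtain ⟨b', hb'⟩ := hV.2.2 (B.presheaf.map (homOfLE hVW').op b)
  have hka : (k ≫ t).app V a' = 0 := by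
    rw [comp_app_apply, ha']
    have := congr($(k.naturality (homOfLE hVW').op) a)
    simp only [CommRingCat.comp_apply] at this
    erw [this, ha, map_zero]
    rfl
  have hkb : (k ≫ t).app V b' = 0 := by
    rw [comp_app_apply, hb']
    have := congr($(k.naturality (homOfLE hVW').op) b)
    simp only [CommRingCat.comp_apply] at this
    erw [this, hb, map_zero]
    rfl
  have hmem : a' * b' ∈ ((k ≫ t).ker * (k ≫ t).ker).ideal ⟨V, hV.1⟩ := by
    rw [Scheme.IdealSheafData.ideal_mul]
    apply Ideal.mul_mem_mul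
    · rw [Scheme.Hom.ker_apply, RingHom.mem_ker]; exact hka
    · rw [Scheme.Hom.ker_apply, RingHom.mem_ker]; exact hkb
  rw [h, Scheme.IdealSheafData.ideal_bot, Pi.bot_apply, Ideal.mem_bot] at hmem
  have e1 := TopCat.Presheaf.germ_res_apply B.presheaf (homOfLE hVW') x hxV (a * b)
  change B.presheaf.germ W.1 x hx (a * b) = B.presheaf.germ W.1 x hx 0
  rw [← e1, map_mul, ← ha', ← hb', ← map_mul, hmem, map_zero, map_zero, map_zero]

end SqZero

end Groth.Agent.Lib.Helper48.UnivThick
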