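import Groth.Agent.Lib.Helper48.UnivThick1

/-!
# Universal first order thickenings: `Z'' ≅ Y ×_{Y'} Z'`
-/

set_option autoImplicit false
universe u

open AlgebraicGeometry CategoryTheory Opposite TopologicalSpace CategoryTheory.Limits

namespace Groth.Agent.Lib.Helper48.UnivThick

section Main

variable {Z Y X Z' Y' Z'' : Scheme.{u}} (i : Z ⟶ Y) (b : Y ⟶ X)
  (i' : Z ⟶ Z') (c : Z' ⟶ X) (hZ' : OmegaSh.IsUnivThickening (i ≫ b) i' c)
  (j : Y ⟶ Y') (d : Y' ⟶ X) (hY' : OmegaSh.IsUnivThickening b j d)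
  (m : Z' ⟶ Y') (hm₁ : i' ≫ m = i ≫ j) (hm₂ : m ≫ d = c)
  (i'' : Z ⟶ Z'') (e : Z'' ⟶ Y) (hZ'' : OmegaSh.IsUnivThickening i i'' e)
  (n : Z'' ⟶ Z') (hn₁ : i'' ≫ n = i') (hn₂ : n ≫ c = e ≫ b)

include hY' hZ'' hm₁ hm₂ hn₁ hn₂ in
theorem e_comp_j : e ≫ j = n ≫ m := by
  obtain ⟨a', -, huniq⟩ := hY'.2.2 Z Z'' i'' (e ≫ b) i hZ''.1 (by rw [← Category.assoc, hZ''.2.1])
  have h1 := huniq (e ≫ j) ⟨by rw [← Category.assoc, hZ''.2.1], by rw [Category.assoc, hY'.2.1]⟩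
  have h2 := huniq (n ≫ m) ⟨by rw [← Category.assoc, hn₁, hm₁], by rw [Category.assoc, hm₂, hn₂]⟩
  rw [h1, h2]

include hY' in
theorem isClosedImmersion_j : IsClosedImmersion j := hY'.1.1.1

include hZ' in
theorem isClosedImmersion_i' : IsClosedImmersion i' := hZ'.1.1.1

include hZ'' in
theorem isClosedImmersion_i'' : IsClosedImmersion i'' := hZ''.1.1.1

include hZ' hY' hm₁ in
/-- `Z ⟶ Y ×_{Y'} Z'` is a first order thickening. -/
theorem isFirstOrderThickening_lift :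
    MoreMor.IsFirstOrderThickening (pullback.lift i i' hm₁.symm : Z ⟶ pullback j m) := by
  haveI := isClosedImmersion_j b j d hY'
  haveI := isClosedImmersion_i' i b i' c hZ'
  have hfac : (pullback.lift i i' hm₁.symm : Z ⟶ pullback j m) ≫ pullback.snd j m = i' :=
    pullback.lift_snd _ _ _
  haveI : IsClosedImmersion ((pullback.lift i i' hm₁.symm : Z ⟶ pullback j m) ≫
      pullback.snd j m) := by rw [hfac]; infer_instance
  haveI : IsClosedImmersion (pullback.lift i i' hm₁.symm : Z ⟶ pullback j m) :=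
    IsClosedImmersion.of_comp _ (pullback.snd j m)
  refine ⟨⟨inferInstance, ⟨fun x => ?_⟩⟩, ?_⟩
  · obtain ⟨z, hz⟩ := hZ'.1.1.2.surj (pullback.snd j m x)
    refine ⟨z, ?_⟩
    apply (pullback.snd j m).isClosedEmbedding.injective
    rw [← Scheme.Hom.comp_apply, hfac, hz]
  · apply ker_mul_ker_eq_bot _ (pullback.snd j m)
    rw [hfac]
    exact hZ'.1.2

include hZ' hY' hZ'' hm₁ hm₂ hn₁ hn₂ in
/-- `Z''` is the fibre product `Y ×_{Y'} Z'`. -/
theorem exists_iso : ∃ ε : Z'' ≅ pullback j m,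
    ε.hom ≫ pullback.fst j m = e ∧ ε.hom ≫ pullback.snd j m = n := by
  have hk := isFirstOrderThickening_lift i b i' c hZ' j d hY' m hm₁
  set k : Z ⟶ pullback j m := pullback.lift i i' hm₁.symm with hkdef
  have hkfst : k ≫ pullback.fst j m = i := pullback.lift_fst _ _ _
  have hksnd : k ≫ pullback.snd j m = i' := pullback.lift_snd _ _ _
  have hej := e_comp_j i b i' c j d hY' m hm₁ hm₂ i'' e hZ'' n hn₁ hn₂
  obtain ⟨δ, ⟨hδ₁, hδ₂⟩, -⟩ := hZ''.2.2 Z (pullback j m) k (pullback.fst j m) (𝟙 Z) hk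
    (by rw [hkfst, Category.id_comp])
  rw [Category.id_comp] at hδ₁
  let ε : Z'' ⟶ pullback j m := pullback.lift e n hej
  have hεfst : ε ≫ pullback.fst j m = e := pullback.lift_fst _ _ _
  have hεsnd : ε ≫ pullback.snd j m = n := pullback.lift_snd _ _ _
  have hi''ε : i'' ≫ ε = k := by
    apply pullback.hom_ext
    · rw [Category.assoc, hεfst, hkfst, hZ''.2.1]
    · rw [Category.assoc, hεsnd, hksnd, hn₁]
  have hδn : δ ≫ n = pullback.snd j m := by
    obtain ⟨a', -, huniq⟩ := hZ'.2.2 Z (pullback j m) k (pullback.fst j m ≫ b) (𝟙 Z) hk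
      (by rw [← Category.assoc, hkfst, Category.id_comp])
    have h1 := huniq (δ ≫ n) ⟨by rw [← Category.assoc, hδ₁, hn₁, Category.id_comp],
      by rw [Category.assoc, hn₂, ← Category.assoc, hδ₂]⟩
    have h2 := huniq (pullback.snd j m) ⟨by rw [hksnd, Category.id_comp],
      by rw [← hm₂, ← Category.assoc, ← pullback.condition, Category.assoc, hY'.2.1]⟩
    rw [h1, h2]
  have h1 : δ ≫ ε = 𝟙 _ := by
    apply pullback.hom_ext
    · rw [Category.assoc, hεfst, hδ₂, Category.id_comp]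
    · rw [Category.assoc, hεsnd, hδn, Category.id_comp]
  have h2 : ε ≫ δ = 𝟙 _ := by
    obtain ⟨a', -, huniq⟩ := hZ''.2.2 Z Z'' i'' e (𝟙 Z) hZ''.1
      (by rw [hZ''.2.1, Category.id_comp])
    have h1 := huniq (ε ≫ δ) ⟨by rw [← Category.assoc, hi''ε, hδ₁, Category.id_comp],
      by rw [Category.assoc, hδ₂, hεfst]⟩
    have h2 := huniq (𝟙 _) ⟨by rw [Category.comp_id, Category.id_comp], Category.id_comp _⟩
    rw [h1, h2]
  exact ⟨⟨ε, δ, h2, h1⟩, hεfst, hεsnd⟩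

include hZ' hY' hZ'' hm₁ hm₂ hn₁ hn₂ in
theorem isPullback : IsPullback e n j m := by
  obtain ⟨ε, h1, h2⟩ := exists_iso i b i' c hZ' j d hY' m hm₁ hm₂ i'' e hZ'' n hn₁ hn₂
  exact IsPullback.of_iso_pullback
    ⟨e_comp_j i b i' c j d hY' m hm₁ hm₂ i'' e hZ'' n hn₁ hn₂⟩ ε h1 h2

include hZ' hY' hZ'' hm₁ hm₂ hn₁ hn₂ in
theorem isClosedImmersion_n : IsClosedImmersion n := by
  obtain ⟨ε, h1, h2⟩ := exists_iso i b i' c hZ' j d hY' m hm₁ hm₂ i'' e hZ'' n hn₁ hn₂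
  haveI := isClosedImmersion_j b j d hY'
  rw [← h2]
  infer_instance

end Main

end Groth.Agent.Lib.Helper48.UnivThick
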