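import Groth.Agent.Lib.Helper48.Conormal6
import Groth.Agent.Lib.Helper48.Nbhd8
import Groth.Agent.Lib.Helper48.ConormalMap2
import Groth.Agent.Lib.Helper48.Conormal12
import Groth.Agent.Lib.Helper48.RegSection2

/-!
# The conormal sequence `i^* C_{Y/Y'} → C_{Z/Z'} → C_{Z/Z''} → 0` when `Z'' = Y ×_{Y'} Z'`
-/

set_option autoImplicit false
universe u

open AlgebraicGeometry CategoryTheory Opposite TopologicalSpace CategoryTheory.Limits

namespace Groth.Agent.Lib.Helper48.UnivThick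

open Groth.Agent.Lib.Helper48.OmegaAff Groth.Agent.Lib.Helper48.Conormal
  Groth.Agent.Lib.Helper48.Nbhd Groth.Agent.Lib.Helper48.ConormalMap Scheme.Modules

section Sheaf

variable {Z Y Z' Y' Z'' : Scheme.{u}} (i : Z ⟶ Y) (j : Y ⟶ Y') [IsClosedImmersion j]
  (m : Z' ⟶ Y') (i'' : Z ⟶ Z'') [IsClosedImmersion i''] (n : Z'' ⟶ Z')
  [IsClosedImmersion n]
  (ψ₁ : (Scheme.Modules.pullback i).obj (Omega.conormal j) ⟶ Omega.conormal (i'' ≫ n))
  (hψ₁ : OmegaSh.IsConormalMap (i'' ≫ n) j m i ψ₁)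
  (ψ₂ : (Scheme.Modules.pullback (𝟙 Z)).obj (Omega.conormal (i'' ≫ n)) ⟶ Omega.conormal i'')
  (hψ₂ : OmegaSh.IsConormalMap i'' (i'' ≫ n) n (𝟙 Z) ψ₂)
  {U' : Y'.Opens} (hU' : IsAffineOpen U') {V : Z'.Opens} (hV : IsAffineOpen V)
  (eV : V ≤ m ⁻¹ᵁ U') {U : Z.Opens} (hU : IsAffineOpen U) (eU : U ≤ (i'' ≫ n) ⁻¹ᵁ V)

/-- The canonical map `i''^* C_{Z''/Z'} ⟶ C_{Z/Z'}`. -/
noncomputable def φ₁ : (Scheme.Modules.pullback i'').obj (Omega.conormal n) ⟶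
    Omega.conormal (i'' ≫ n) :=
  idMap (i'' ≫ n) n (𝟙 Z') i'' (i'' ≫ n).ker n.ker (Category.comp_id _).symm
    (comap_ker_le (Category.comp_id _).symm)

theorem hφ₁ : OmegaSh.IsConormalMap (i'' ≫ n) n (𝟙 Z') i'' (φ₁ i'' n) :=
  isIdMap_idMap (i'' ≫ n) n (𝟙 Z') i'' (i'' ≫ n).ker n.ker (Category.comp_id _).symm
    (comap_ker_le (Category.comp_id _).symm)

include eV eU in
theorem le_aux : U ≤ (i'' ≫ n) ⁻¹ᵁ (m ⁻¹ᵁ U') := eU.trans ((i'' ≫ n).preimage_mono eV)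

include hψ₁ eV eU in
theorem le_aux' : U ≤ i ⁻¹ᵁ (j ⁻¹ᵁ U') := by
  have h := le_aux m i'' n eV eU
  rwa [← Scheme.Hom.comp_preimage, ← hψ₁.1, Scheme.Hom.comp_preimage] at h

include hψ₁ in
/-- Generators: the class of `m♯ b` is in the range of `ψ₁`. -/
theorem gen_mem_range (b : Γ(ClSub.idealMod j.ker, U')) :
    ∃ s : Γ(ClSub.idealMod (i'' ≫ n).ker, V),
      OmegaSh.idealSect (i'' ≫ n).ker V s = m.appLE U' V eV (OmegaSh.idealSect j.ker U' b) ∧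
      conormalRes (i'' ≫ n) eU s = ψ₁.app U (pullRes i (Omega.conormal j)
        (le_aux' i j m i'' n ψ₁ hψ₁ eV eU) (OmegaSh.conormalSect j U' b)) := by
  set sf := pullIdeal m j.ker (i'' ≫ n).ker (comap_ker_le hψ₁.1) U' b with hsf
  refine ⟨(ClSub.idealMod (i'' ≫ n).ker).presheaf.map (homOfLE eV).op sf, ?_, ?_⟩
  · rw [idealSect_map, hsf, idealSect_pullIdeal]
    rfl
  · rw [conormalRes_map_left]
    exact (isConormalMap_pullRes (i'' ≫ n) j m i ψ₁ hψ₁ U' b sf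
      (idealSect_pullIdeal m j.ker (i'' ≫ n).ker (comap_ker_le hψ₁.1) U' b) U
      (le_aux' i j m i'' n ψ₁ hψ₁ eV eU) (le_aux m i'' n eV eU)).symm

include hψ₁ in
theorem conormalRes_mem_range (s : Γ(ClSub.idealMod (i'' ≫ n).ker, V))
    (hs : OmegaSh.idealSect (i'' ≫ n).ker V s ∈
      Ideal.map (m.appLE U' V eV).hom (RingHom.ker (j.app U').hom)) :
    conormalRes (i'' ≫ n) eU s ∈ LinearMap.range (appL ψ₁ U) := by
  let N : Ideal Γ(Z', V) :=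
    { carrier := {a | ∃ s : Γ(ClSub.idealMod (i'' ≫ n).ker, V),
        OmegaSh.idealSect (i'' ≫ n).ker V s = a ∧
        conormalRes (i'' ≫ n) eU s ∈ LinearMap.range (appL ψ₁ U)}
      add_mem' := by
        rintro _ _ ⟨s₁, rfl, h₁⟩ ⟨s₂, rfl, h₂⟩
        exact ⟨s₁ + s₂, map_add _ _ _, by rw [map_add]; exact add_mem h₁ h₂⟩
      zero_mem' := ⟨0, map_zero _, by rw [map_zero]; exact zero_mem _⟩
      smul_mem' := by
        rintro r _ ⟨s, rfl, h⟩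
        exact ⟨r • s, by rw [idealSect_smul, smul_eq_mul],
          by rw [conormalRes_smul]; exact Submodule.smul_mem _ _ h⟩ }
  have hle : Ideal.map (m.appLE U' V eV).hom (RingHom.ker (j.app U').hom) ≤ N := by
    rw [Ideal.map_le_iff_le_comap]
    intro b₀ hb₀
    obtain ⟨s, hs1, hs2⟩ := gen_mem_range i j m i'' n ψ₁ hψ₁ eV eU (sectOf j U' ⟨b₀, hb₀⟩)
    rw [idealSect_sectOf] at hs1
    exact ⟨s, hs1, by rw [hs2]; exact ⟨_, rfl⟩⟩
  obtain ⟨s', hs', h⟩ := hle hs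
  rwa [idealSect_injective _ _ hs'] at h

variable (hker : RingHom.ker (n.app V).hom =
  Ideal.map (m.appLE U' V eV).hom (RingHom.ker (j.app U').hom))

include hψ₁ hker hV hU eU in
theorem range_φ₁_le : LinearMap.range (appL (φ₁ i'' n) U) ≤ LinearMap.range (appL ψ₁ U) := by
  have hVg : IsGoodFor n V := Groth.Agent.Lib.Helper48.RegSection.isGoodFor_of_isClosedImmersion n hV
  have hspan := span_range_pullRes i'' (Omega.conormal n) hU hVg.2.1 eU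
  rw [LinearMap.range_eq_map, ← hspan, Submodule.map_span, Submodule.span_le]
  rintro _ ⟨_, ⟨x, rfl⟩, rfl⟩
  obtain ⟨s₁, rfl⟩ := conormalSect_surjective n hVg x
  obtain ⟨s, hs⟩ := exists_ideal_of_ideal n i'' s₁
  change (φ₁ i'' n).app U _ ∈ _
  rw [φ₁_app n i'' (φ₁ i'' n) (hφ₁ i'' n) eU s₁ s hs]
  apply conormalRes_mem_range i j m i'' n ψ₁ hψ₁ eV eU s
  rw [hs, ← hker]
  exact idealSect_mem_ker n V s₁

include hψ₁ hker hU' hU eU in
theorem range_ψ₁_le : LinearMap.range (appL ψ₁ U) ≤ LinearMap.range (appL (φ₁ i'' n) U) := by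
  have hU'g : IsGoodFor j U' :=
    Groth.Agent.Lib.Helper48.RegSection.isGoodFor_of_isClosedImmersion j hU'
  have hspan := span_range_pullRes i (Omega.conormal j) hU hU'g.2.1
    (le_aux' i j m i'' n ψ₁ hψ₁ eV eU)
  rw [LinearMap.range_eq_map, ← hspan, Submodule.map_span, Submodule.span_le]
  rintro _ ⟨_, ⟨x, rfl⟩, rfl⟩
  obtain ⟨b, rfl⟩ := conormalSect_surjective j hU'g x
  obtain ⟨s, hs1, hs2⟩ := gen_mem_range i j m i'' n ψ₁ hψ₁ eV eU b
  change ψ₁.app U _ ∈ _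
  rw [← hs2]
  have hmem : OmegaSh.idealSect (i'' ≫ n).ker V s ∈ RingHom.ker (n.app V).hom := by
    rw [hker, hs1]
    exact Ideal.mem_map_of_mem _ (idealSect_mem_ker j U' b)
  obtain ⟨s₁, hs₁⟩ := exists_idealSect_eq n V _ (RingHom.mem_ker.mp hmem)
  exact ⟨_, φ₁_app n i'' (φ₁ i'' n) (hφ₁ i'' n) eU s₁ s hs₁.symm⟩

end Sheaf

end Groth.Agent.Lib.Helper48.UnivThick
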