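import Groth.Agent.Lib.Helper48.UnivThick3

/-!
# The conormal sequence for `Z'' = Y ×_{Y'} Z'`: assembly
-/

set_option autoImplicit false
universe u

open AlgebraicGeometry CategoryTheory Opposite TopologicalSpace CategoryTheory.Limits

namespace Groth.Agent.Lib.Helper48.UnivThick

open Groth.Agent.Lib.Helper48.OmegaAff Groth.Agent.Lib.Helper48.Conormal
  Groth.Agent.Lib.Helper48.Nbhd Groth.Agent.Lib.Helper48.ConormalMap Scheme.Modules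

section Final

variable {Z Y Z' Y' Z'' : Scheme.{u}} (i : Z ⟶ Y) (j : Y ⟶ Y') [IsClosedImmersion j]
  (m : Z' ⟶ Y') (i'' : Z ⟶ Z'') [IsClosedImmersion i''] (e : Z'' ⟶ Y) (n : Z'' ⟶ Z')
  [IsClosedImmersion n] (hpb : IsPullback e n j m)
  (ψ₁ : (Scheme.Modules.pullback i).obj (Omega.conormal j) ⟶ Omega.conormal (i'' ≫ n))
  (hψ₁ : OmegaSh.IsConormalMap (i'' ≫ n) j m i ψ₁)
  (ψ₂ : (Scheme.Modules.pullback (𝟙 Z)).obj (Omega.conormal (i'' ≫ n)) ⟶ Omega.conormal i'')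
  (hψ₂ : OmegaSh.IsConormalMap i'' (i'' ≫ n) n (𝟙 Z) ψ₂)

include hpb hψ₁ hψ₂ in
theorem main : ∃ w : (Scheme.Modules.pullback (𝟙 Z)).map ψ₁ ≫ ψ₂ = 0,
    (ShortComplex.mk _ _ w).Exact ∧ Epi ψ₂ := by
  classical
  let 𝓑 : Set Z.Opens := {U | IsAffineOpen U ∧ ∃ (U' : Y'.Opens) (V : Z'.Opens),
    IsAffineOpen U' ∧ IsAffineOpen V ∧ ∃ (_ : V ≤ m ⁻¹ᵁ U'), U ≤ (i'' ≫ n) ⁻¹ᵁ V}
  have hB : Opens.IsBasis 𝓑 := by
    rw [Opens.isBasis_iff_nbhd]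
    intro O z hz
    obtain ⟨_, ⟨U', hU' : IsAffineOpen U', rfl⟩, hzU', -⟩ :=
      (Y'.isBasis_affineOpens).exists_subset_of_mem_open
        (show m ((i'' ≫ n) z) ∈ (⊤ : Y'.Opens) from trivial) (⊤ : Y'.Opens).isOpen
    obtain ⟨_, ⟨V, hV : IsAffineOpen V, rfl⟩, hzV, hVle⟩ :=
      (Z'.isBasis_affineOpens).exists_subset_of_mem_open
        (show (i'' ≫ n) z ∈ m ⁻¹ᵁ U' from hzU') (m ⁻¹ᵁ U').isOpen
    have hmem : z ∈ (i'' ≫ n) ⁻¹ᵁ V ⊓ O := ⟨hzV, hz⟩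
    obtain ⟨_, ⟨U, hU : IsAffineOpen U, rfl⟩, hzU, hUle⟩ :=
      (Z.isBasis_affineOpens).exists_subset_of_mem_open hmem ((i'' ≫ n) ⁻¹ᵁ V ⊓ O).isOpen
    have hUle' : U ≤ (i'' ≫ n) ⁻¹ᵁ V ⊓ O := hUle
    exact ⟨U, ⟨hU, U', V, hU', hV, hVle, hUle'.trans inf_le_left⟩, hzU,
      hUle'.trans inf_le_right⟩
  have hker : ∀ (U' : Y'.Opens) (_ : IsAffineOpen U') (V : Z'.Opens) (_ : IsAffineOpen V)
      (eV : V ≤ m ⁻¹ᵁ U'), RingHom.ker (n.app V).hom =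
        Ideal.map (m.appLE U' V eV).hom (RingHom.ker (j.app U').hom) :=
    fun U' hU' V hV eV => ker_app_of_isPullback j m n e hpb U' hU' (hU'.preimage j)
      (j.app_surjective U' hU') V hV eV
  have hgood : ∀ (V : Z'.Opens), IsAffineOpen V → IsGoodFor n V := fun V hV =>
    Groth.Agent.Lib.Helper48.RegSection.isGoodFor_of_isClosedImmersion n hV
  have hepi : Epi (Groth.Agent.Lib.Helper48.Conormal.ψ₂ n i'' ψ₂) := by
    refine epi_of_basis _ _ hB ?_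
    rintro U ⟨hU, U', V, hU', hV, eV, eU⟩
    exact ψ₂_app_surjective n i'' ψ₂ hψ₂ (hgood V hV) hU eU
  have w' : ψ₁ ≫ Groth.Agent.Lib.Helper48.Conormal.ψ₂ n i'' ψ₂ = 0 := by
    refine hom_ext_of_basis _ _ _ hB ?_
    rintro U ⟨hU, U', V, hU', hV, eV, eU⟩ s
    rw [Scheme.Modules.Hom.comp_app, Scheme.Modules.Hom.zero_app]
    obtain ⟨t, ht⟩ := range_ψ₁_le i j m i'' n ψ₁ hψ₁ hU' eV hU eU (hker U' hU' V hV eV)
      ⟨s, rfl⟩
    have ht' : ψ₁.app U s = (φ₁ i'' n).app U t := ht.symm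
    change (Groth.Agent.Lib.Helper48.Conormal.ψ₂ n i'' ψ₂).app U (ψ₁.app U s) = 0
    rw [ht']
    exact φ₁_ψ₂_app n i'' (φ₁ i'' n) (hφ₁ i'' n) ψ₂ hψ₂ (hgood V hV) hU eU t
  have hex : (ShortComplex.mk ψ₁ (Groth.Agent.Lib.Helper48.Conormal.ψ₂ n i'' ψ₂) w').Exact := by
    refine exact_of_basis _ _ hB ?_
    rintro U ⟨hU, U', V, hU', hV, eV, eU⟩ y hy
    obtain ⟨t₀, ht₀⟩ := three_exact_app n i'' (φ₁ i'' n) (hφ₁ i'' n) ψ₂ hψ₂ (hgood V hV) hU eU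
      y hy
    obtain ⟨t, ht⟩ := range_φ₁_le i j m i'' n ψ₁ hψ₁ hV eV hU eU (hker U' hU' V hV eV)
      ⟨t₀, rfl⟩
    exact ⟨t, ht.trans ht₀⟩
  have comm₁₂ : (Scheme.Modules.pullbackId Z).inv.app
        ((Scheme.Modules.pullback i).obj (Omega.conormal j)) ≫
        (Scheme.Modules.pullback (𝟙 Z)).map ψ₁ =
      ψ₁ ≫ (Scheme.Modules.pullbackId Z).inv.app (Omega.conormal (i'' ≫ n)) :=
    ((Scheme.Modules.pullbackId Z).inv.naturality ψ₁).symm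
  have w : (Scheme.Modules.pullback (𝟙 Z)).map ψ₁ ≫ ψ₂ = 0 := by
    have h1 := congr((Scheme.Modules.pullbackId Z).hom.app
      ((Scheme.Modules.pullback i).obj (Omega.conormal j)) ≫ $comm₁₂ ≫ ψ₂)
    simp only [Category.assoc, Iso.hom_inv_id_app_assoc] at h1
    rw [h1]
    have h2 : ψ₁ ≫ (Scheme.Modules.pullbackId Z).inv.app (Omega.conormal (i'' ≫ n)) ≫ ψ₂ = 0 := w'
    rw [h2, comp_zero]
  refine ⟨w, ?_, ?_⟩
  · refine ShortComplex.exact_of_iso ?_ hex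
    exact ShortComplex.isoMk ((Scheme.Modules.pullbackId Z).app _).symm
      ((Scheme.Modules.pullbackId Z).app _).symm (Iso.refl _) comm₁₂
      (Category.comp_id _).symm
  · have h1 : Epi ((Scheme.Modules.pullbackId Z).hom.app (Omega.conormal (i'' ≫ n)) ≫
        Groth.Agent.Lib.Helper48.Conormal.ψ₂ n i'' ψ₂) := epi_comp _ _
    have h2 : (Scheme.Modules.pullbackId Z).hom.app (Omega.conormal (i'' ≫ n)) ≫
        Groth.Agent.Lib.Helper48.Conormal.ψ₂ n i'' ψ₂ = ψ₂ := by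
      unfold Groth.Agent.Lib.Helper48.Conormal.ψ₂
      rw [← Category.assoc, Iso.hom_inv_id_app, Category.id_comp]
    rw [h2] at h1
    exact h1

end Final

end Groth.Agent.Lib.Helper48.UnivThick
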